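import Groth.Prelude.Def_Red2

/-!
Points of the additive group, the multiplicative group and diagonalisable groups over a base:
coordinates in global sections, group laws, naturality.
-/

universe u

open CategoryTheory MonoidalCategory CartesianMonoidalCategory MonObj GrpObj AlgebraicGeometry

namespace Groth.Agent.RedPts82

section General

variable {C D : Type*} [Category C] [Category D] [CartesianMonoidalCategory C]

/-- A morphism which is multiplicative on points is a monoid homomorphism. -/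
theorem isMonHom_of_points {G H : C} [GrpObj G] [GrpObj H] (f : G ⟶ H)
    (h : ∀ (X : C) (x y : X ⟶ G), (x * y) ≫ f = (x ≫ f) * (y ≫ f)) : IsMonHom f := by
  have h1 : (1 : 𝟙_ C ⟶ G) ≫ f = 1 := by
    have := h (𝟙_ C) 1 1
    rw [one_mul (1 : 𝟙_ C ⟶ G)] at this
    exact (mul_eq_left.mp this.symm)
  constructor
  · simpa [Hom.one_def] using h1
  · have := h (G ⊗ G) (fst _ _) (snd _ _)
    simpa [Hom.mul_def] using this

end General

section BaseChange

variable {S B : Scheme.{u}} (f : S ⟶ B) {X : Over S} {P : Over B}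

/-- Transpose of a point of a base change. -/
noncomputable def toBase (x : X ⟶ Red.bc f P) : (Over.map f).obj X ⟶ P :=
  ((Over.mapPullbackAdj f).homEquiv X P).symm x

theorem toBase_left (x : X ⟶ Red.bc f P) :
    (toBase f x).left = x.left ≫ Limits.pullback.fst _ _ := by
  simp [toBase, Adjunction.homEquiv_counit]

theorem toBase_injective : Function.Injective (toBase f : (X ⟶ Red.bc f P) → _) :=
  Equiv.injective _

theorem toBase_mul [GrpObj P] (x y : X ⟶ Red.bc f P) :
    toBase f (x * y) = toBase f x * toBase f y := by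
  have key : toBase f (lift x y ≫ Functor.LaxMonoidal.μ (Over.pullback f) P P) =
      lift (toBase f x) (toBase f y) := by
    apply CartesianMonoidalCategory.hom_ext <;>
      simp [toBase, ← Adjunction.homEquiv_naturality_right_symm]
  rw [Hom.mul_def, Hom.mul_def, Functor.obj.μ_def, ← Category.assoc, ← key]
  simp only [toBase]
  rw [Adjunction.homEquiv_naturality_right_symm]

theorem toBase_comp_map {P' : Over B} (x : X ⟶ Red.bc f P) (g : P ⟶ P') :
    toBase f (x ≫ (Over.pullback f).map g) = toBase f x ≫ g :=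
  Adjunction.homEquiv_naturality_right_symm _ _ _

theorem toBase_comp {X' : Over S} (g : X' ⟶ X) (x : X ⟶ Red.bc f P) :
    toBase f (g ≫ x) = (Over.map f).map g ≫ toBase f x :=
  Adjunction.homEquiv_naturality_left_symm _ _ _

/-- The point of a base change with given transpose. -/
noncomputable def ofBase (p : (Over.map f).obj X ⟶ P) : X ⟶ Red.bc f P :=
  ((Over.mapPullbackAdj f).homEquiv X P) p

theorem toBase_ofBase (p : (Over.map f).obj X ⟶ P) : toBase f (ofBase f p) = p :=
  Equiv.symm_apply_apply _ _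

end BaseChange

section IntPoints

/-- The integers, lifted to the universe. -/
abbrev ZU : Type u := ULift.{u} ℤ

variable (A : Type u) [CommRing A] [Algebra ZU.{u} A]

theorem algHom_ext_ring {T : Type u} [CommRing T] [Algebra ZU.{u} T] (φ : A →+* T) (r : ZU.{u}) :
    φ (algebraMap ZU.{u} A r) = algebraMap ZU.{u} T r := by
  obtain ⟨n⟩ := r
  have h : (ULift.up n : ZU.{u}) = (n : ZU.{u}) := rfl
  rw [h, map_intCast, map_intCast, map_intCast]

/-- The algebra homomorphism defined by a point of an affine scheme over the integers. -/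
noncomputable def ptHom {Y : Over (Spec (CommRingCat.of ZU.{u}))} [Algebra ZU.{u} Γ(Y.left, ⊤)]
    (p : Y ⟶ (Spec (CommRingCat.of A)).asOver (Spec (CommRingCat.of ZU.{u}))) :
    A →ₐ[ZU.{u}] Γ(Y.left, ⊤) where
  __ := (p.left.appTop.hom).comp (Scheme.ΓSpecIso (CommRingCat.of A)).inv.hom
  commutes' r := algHom_ext_ring A _ r

theorem ptHom_apply {Y : Over (Spec (CommRingCat.of ZU.{u}))} [Algebra ZU.{u} Γ(Y.left, ⊤)]
    (p : Y ⟶ (Spec (CommRingCat.of A)).asOver (Spec (CommRingCat.of ZU.{u}))) (a : A) :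
    ptHom A p a = p.left.appTop ((Scheme.ΓSpecIso (CommRingCat.of A)).inv a) := rfl

theorem ptHom_injective {Y : Over (Spec (CommRingCat.of ZU.{u}))} [Algebra ZU.{u} Γ(Y.left, ⊤)]
    (p q : Y ⟶ (Spec (CommRingCat.of A)).asOver (Spec (CommRingCat.of ZU.{u})))
    (h : ptHom A p = ptHom A q) : p = q := by
  apply Over.OverMorphism.ext
  have : IsAffine ((Spec (CommRingCat.of A)).asOver (Spec (CommRingCat.of ZU.{u}))).left :=
    inferInstanceAs (IsAffine (Spec (CommRingCat.of A)))
  apply ext_of_isAffine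
  have h' : (Scheme.ΓSpecIso (CommRingCat.of A)).inv ≫ p.left.appTop =
      (Scheme.ΓSpecIso (CommRingCat.of A)).inv ≫ q.left.appTop := by
    ext a
    exact DFunLike.congr_fun h a
  exact (Iso.cancel_iso_inv_left (Scheme.ΓSpecIso (CommRingCat.of A)) _ _).mp h'

/-- The canonical map to the affinisation, over the integers. -/
noncomputable def toAff (Y : Over (Spec (CommRingCat.of ZU.{u}))) [Algebra ZU.{u} Γ(Y.left, ⊤)] :
    Y ⟶ (Spec (CommRingCat.of Γ(Y.left, ⊤))).asOver (Spec (CommRingCat.of ZU.{u})) :=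
  Over.homMk Y.left.toSpecΓ (specULiftZIsTerminal.hom_ext _ _)

/-- The point defined by an algebra homomorphism. -/
noncomputable def homPt {Y : Over (Spec (CommRingCat.of ZU.{u}))} [Algebra ZU.{u} Γ(Y.left, ⊤)]
    (φ : A →ₐ[ZU.{u}] Γ(Y.left, ⊤)) : Y ⟶ (Spec (CommRingCat.of A)).asOver (Spec (CommRingCat.of ZU.{u})) :=
  toAff Y ≫ (Spec.map (CommRingCat.ofHom φ.toRingHom)).asOver (Spec (CommRingCat.of ZU.{u}))

theorem ptHom_homPt {Y : Over (Spec (CommRingCat.of ZU.{u}))} [Algebra ZU.{u} Γ(Y.left, ⊤)]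
    (φ : A →ₐ[ZU.{u}] Γ(Y.left, ⊤)) : ptHom A (homPt A φ) = φ := by
  ext a
  have h : (Scheme.ΓSpecIso (CommRingCat.of A)).inv ≫ (homPt A φ).left.appTop =
      CommRingCat.ofHom φ.toRingHom := by
    show (Scheme.ΓSpecIso (CommRingCat.of A)).inv ≫
      (Y.left.toSpecΓ ≫ Spec.map (CommRingCat.ofHom φ.toRingHom)).appTop = _
    rw [Scheme.Hom.comp_appTop, ← Scheme.ΓSpecIso_inv_naturality_assoc, Scheme.toSpecΓ_appTop,
      Iso.inv_hom_id]
    simp
  exact congr($h a)

theorem homPt_ptHom {Y : Over (Spec (CommRingCat.of ZU.{u}))} [Algebra ZU.{u} Γ(Y.left, ⊤)]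
    (p : Y ⟶ (Spec (CommRingCat.of A)).asOver (Spec (CommRingCat.of ZU.{u}))) :
    homPt A (ptHom A p) = p :=
  ptHom_injective A _ _ (ptHom_homPt A _)

theorem homPt_conv {A : Type u} [CommRing A] [HopfAlgebra ZU.{u} A]
    {Y : Over (Spec (CommRingCat.of ZU.{u}))} [Algebra ZU.{u} Γ(Y.left, ⊤)]
    (φ ψ : A →ₐ[ZU.{u}] Γ(Y.left, ⊤)) :
    homPt A (WithConv.toConv φ * WithConv.toConv ψ).ofConv = homPt A φ * homPt A ψ := by
  have := map_mul (Spec.mapMulEquiv (R := ZU.{u}) (S := A) (T := Γ(Y.left, ⊤)))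
    (WithConv.toConv φ) (WithConv.toConv ψ)
  unfold homPt
  rw [← MonObj.comp_mul]
  exact congrArg (toAff Y ≫ ·) this

theorem ptHom_mul {A : Type u} [CommRing A] [HopfAlgebra ZU.{u} A]
    {Y : Over (Spec (CommRingCat.of ZU.{u}))} [Algebra ZU.{u} Γ(Y.left, ⊤)]
    (p q : Y ⟶ (Spec (CommRingCat.of A)).asOver (Spec (CommRingCat.of ZU.{u}))) :
    ptHom A (p * q) = (WithConv.toConv (ptHom A p) * WithConv.toConv (ptHom A q)).ofConv := by
  conv_lhs => rw [← homPt_ptHom A p, ← homPt_ptHom A q, ← homPt_conv, ptHom_homPt]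

end IntPoints

end Groth.Agent.RedPts82
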