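import Mathlib.Algebra.MonoidAlgebra.Basic
import Mathlib.RingTheory.RingHom.FaithfullyFlat
import Mathlib.GroupTheory.QuotientGroup.Basic
import Mathlib.LinearAlgebra.Finsupp.LinearCombination

/-!
The group algebra of an abelian group is free over the group algebra of a subgroup.
-/

namespace Groth.Agent.RedPts82

theorem mapDomainRingHom_faithfullyFlat {R : Type*} [CommRing R] {H G : Type*} [CommGroup H]
    [CommGroup G] (i : H →* G) (hi : Function.Injective i) :
    (MonoidAlgebra.mapDomainRingHom R i).FaithfullyFlat := by
  classical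
  rcases subsingleton_or_nontrivial R with hR | hR
  · have : Subsingleton (MonoidAlgebra R H) := MonoidAlgebra.coeff_injective.subsingleton
    have : Subsingleton (MonoidAlgebra R G) := MonoidAlgebra.coeff_injective.subsingleton
    exact RingHom.FaithfullyFlat.of_bijective
      ⟨fun a b _ => Subsingleton.elim a b, fun b => ⟨0, Subsingleton.elim _ _⟩⟩
  algebraize [MonoidAlgebra.mapDomainRingHom R i]
  let σ : G ⧸ i.range → G := Quotient.out
  have hσ : ∀ q, (σ q : G ⧸ i.range) = q := fun q => Quotient.out_eq q
  have hex : ∀ g : G, ∃ h : H, i h * σ (g : G ⧸ i.range) = g := fun g => by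
    have hmem : g * (σ (g : G ⧸ i.range))⁻¹ ∈ i.range := by
      rw [← QuotientGroup.eq_one_iff, QuotientGroup.mk_mul, QuotientGroup.mk_inv, hσ,
        mul_inv_cancel]
    obtain ⟨h, hh⟩ := hmem
    exact ⟨h, by rw [hh, inv_mul_cancel_right]⟩
  choose r hr using hex
  let L : (G ⧸ i.range →₀ MonoidAlgebra R H) →ₗ[MonoidAlgebra R H] MonoidAlgebra R G :=
    Finsupp.linearCombination (MonoidAlgebra R H) fun q => MonoidAlgebra.single (σ q) (1 : R)
  let T : MonoidAlgebra R G →+ (G ⧸ i.range →₀ MonoidAlgebra R H) :=
    (Finsupp.liftAddHom fun g : G =>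
      (Finsupp.singleAddHom (g : G ⧸ i.range)).comp (MonoidAlgebra.singleAddHom (r g))).comp
      MonoidAlgebra.coeffAddEquiv.toAddMonoidHom
  have hT : ∀ g a, T (MonoidAlgebra.single g a) =
      Finsupp.single (g : G ⧸ i.range) (MonoidAlgebra.single (r g) a) := fun g a => by simp [T]
  have hsmul : ∀ (h : H) (a : R) (g : G),
      MonoidAlgebra.single h a • MonoidAlgebra.single g (1 : R) = MonoidAlgebra.single (i h * g) a := by
    intro h a g
    rw [Algebra.smul_def]
    show MonoidAlgebra.mapDomain i (MonoidAlgebra.single h a) * _ = _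
    rw [MonoidAlgebra.mapDomain_single, MonoidAlgebra.single_mul_single, mul_one]
  have hL : ∀ q h a, L (Finsupp.single q (MonoidAlgebra.single h a)) =
      MonoidAlgebra.single (i h * σ q) a := fun q h a => by simp [L, hsmul]
  have h1 : ∀ y, L (T y) = y := by
    intro y
    induction y using MonoidAlgebra.induction_linear with
    | zero => simp
    | add f g hf hg => rw [map_add, map_add, hf, hg]
    | single g a => rw [hT, hL, hr]
  have h2 : ∀ x, T (L x) = x := by
    intro x
    induction x using Finsupp.induction_linear with
    | zero => simp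
    | add f g hf hg => rw [map_add, map_add, hf, hg]
    | single q a =>
      induction a using MonoidAlgebra.induction_linear with
      | zero => simp
      | add f g hf hg => rw [Finsupp.single_add, map_add, map_add, hf, hg]
      | single h a =>
        rw [hL, hT]
        have hq : ((i h * σ q : G) : G ⧸ i.range) = q := by
          rw [QuotientGroup.mk_mul, (QuotientGroup.eq_one_iff (i h)).mpr (MonoidHom.mem_range.mpr ⟨h, rfl⟩), hσ, one_mul]
        have hh : r (i h * σ q) = h := by
          apply hi
          have := hr (i h * σ q)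
          rw [hq] at this
          exact mul_right_cancel this
        rw [hq, hh]
  let e : MonoidAlgebra R G ≃ₗ[MonoidAlgebra R H] (G ⧸ i.range →₀ MonoidAlgebra R H) :=
    (LinearEquiv.ofBijective L ⟨Function.LeftInverse.injective h2,
      Function.RightInverse.surjective h1⟩).symm
  have : Module.Free (MonoidAlgebra R H) (MonoidAlgebra R G) :=
    Module.Free.of_equiv e.symm
  show Module.FaithfullyFlat (MonoidAlgebra R H) (MonoidAlgebra R G)
  infer_instance

end Groth.Agent.RedPts82
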