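import Groth.Agent.RedPts82.DSCoord
import Groth.Agent.RedPts82.DSFree
import Mathlib.AlgebraicGeometry.Morphisms.Flat
import Mathlib.AlgebraicGeometry.Morphisms.UnderlyingMap
import Mathlib.AlgebraicGeometry.ResidueField

/-!
Characters of diagonalisable groups: flatness and surjectivity, and the test of triviality of a
homomorphism after base change.
-/

universe u

open CategoryTheory MonoidalCategory CartesianMonoidalCategory MonObj GrpObj AlgebraicGeometry
open CategoryTheory.Limits

namespace Groth.Agent.RedPts82

variable {S : Scheme.{u}}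

theorem DSmap_flat_surjective {M N : Type} [AddCommGroup M] [AddCommGroup N] (φ : M →+ N)
    (hφ : Function.Injective φ) :
    Flat (Red.DSmap S φ).left ∧ Surjective (Red.DSmap S φ).left := by
  have hff := mapDomainRingHom_faithfullyFlat (R := ZU.{u}) (AddMonoidHom.toMultiplicative φ)
    (fun a b h => hφ h)
  have h := (flat_and_surjective_SpecMap_iff (CommRingCat.ofHom
    (MonoidAlgebra.mapDomainAlgHom ZU.{u} ZU.{u} (AddMonoidHom.toMultiplicative φ)).toRingHom)).mpr hff
  exact ⟨MorphismProperty.overPullbackMap (P := @Flat) _ _ h.1,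
    MorphismProperty.overPullbackMap (P := @Surjective) _ _ h.2⟩

theorem chi_flat_surjective {M : Type} [AddCommGroup M] [IsAddTorsionFree M] {m : M} (hm : m ≠ 0) :
    Flat (Red.chi S m).left ∧ Surjective (Red.chi S m).left := by
  refine DSmap_flat_surjective _ fun a b h => ?_
  simp only [zmultiplesHom_apply] at h
  exact smul_left_injective ℤ hm h

theorem comp_chi_zero {M : Type} [AddCommGroup M] {X : Over S} (t : X ⟶ Red.DS S M) :
    t ≫ Red.chi S (0 : M) = 1 := by
  apply gmFn_injective
  rw [gmFn_chi, gmFn_one, dsFn_zero]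

theorem toBase_one {S' : Scheme.{u}} (g : S' ⟶ S) {X : Over S'} {P : Over S} [GrpObj P] :
    toBase g (1 : X ⟶ Red.bc g P) = 1 := by
  have h := toBase_mul g (1 : X ⟶ Red.bc g P) 1
  rw [_root_.one_mul (1 : X ⟶ Red.bc g P)] at h
  exact (left_eq_mul.mp h)

variable {T P : Over S} [GrpObj P]

/-- A morphism to a group is trivial on all points lying over a given scheme over the base. -/
def Kills {S' : Scheme.{u}} (g : S' ⟶ S) (α : T ⟶ P) : Prop :=
  ∀ (Z : Over S) (h : Z.left ⟶ S'), h ≫ g = Z.hom → ∀ t : Z ⟶ T, t ≫ α = 1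

theorem pullback_map_eq_one_iff {S' : Scheme.{u}} (g : S' ⟶ S) (α : T ⟶ P) :
    (Over.pullback g).map α = 1 ↔ Kills g α := by
  constructor
  · intro hα Z h hh t
    let e : (Over.map g).obj (Over.mk h) ≅ Z :=
      Over.isoMk (Iso.refl _) (by
        show 𝟙 _ ≫ Z.hom = h ≫ g
        rw [Category.id_comp, hh])
    have := toBase_comp_map g (ofBase g (e.hom ≫ t)) α
    rw [hα, MonObj.comp_one, toBase_ofBase] at this
    rw [← cancel_epi e.hom, MonObj.comp_one, ← Category.assoc]
    exact this.symm.trans (toBase_one g)
  · intro hk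
    apply toBase_injective g
    rw [← Category.id_comp ((Over.pullback g).map α), toBase_comp_map]
    exact (hk ((Over.map g).obj (Red.bc g T)) (Red.bc g T).hom rfl _).trans (toBase_one g).symm

theorem Kills.comp {S' S'' : Scheme.{u}} {g : S' ⟶ S} {α : T ⟶ P} (hk : Kills g α)
    (k : S'' ⟶ S') : Kills (k ≫ g) α :=
  fun Z h hh t => hk Z (h ≫ k) (by rw [Category.assoc, hh]) t

theorem Kills.of_comp {S' S'' : Scheme.{u}} {g : S' ⟶ S} {α : T ⟶ P} {k : S'' ⟶ S'}
    [Flat k] [Surjective k] (hk : Kills (k ≫ g) α) : Kills g α := by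
  intro Z h hh t
  let Z' : Over S := Over.mk (pullback.fst h k ≫ Z.hom)
  let q : Z' ⟶ Z := Over.homMk (pullback.fst h k) rfl
  have : Epi q := by
    have : Epi q.left := Flat.epi_of_flat_of_surjective (pullback.fst h k)
    exact (Over.forget S).epi_of_epi_map (f := q) this
  rw [← cancel_epi q, MonObj.comp_one, ← Category.assoc]
  refine hk Z' (pullback.snd h k) ?_ _
  show pullback.snd h k ≫ k ≫ g = pullback.fst h k ≫ Z.hom
  rw [← pullback.condition_assoc, hh]

theorem specMap_field_flat_surjective {K L : CommRingCat.{u}} (hK : IsField K) [Nontrivial L]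
    (f : K ⟶ L) : Flat (Spec.map f) ∧ Surjective (Spec.map f) := by
  let := hK.toField
  algebraize [f.hom]
  refine (flat_and_surjective_SpecMap_iff f).mpr ?_
  show Module.FaithfullyFlat K L
  infer_instance

/-- Triviality over a geometric point is triviality over the residue field. -/
theorem kills_geomPt_iff (α : T ⟶ P) (s : S) :
    Kills (Red.geomPt s) α ↔ Kills (S.fromSpecResidueField s) α := by
  obtain ⟨hf, hs⟩ := specMap_field_flat_surjective (L := CommRingCat.of
    (AlgebraicClosure (S.residueField s))) (Field.toIsField (S.residueField s))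
    (CommRingCat.ofHom (algebraMap (S.residueField s) (AlgebraicClosure (S.residueField s))))
  exact ⟨fun h => Kills.of_comp (k := Spec.map (CommRingCat.ofHom
    (algebraMap (S.residueField s) (AlgebraicClosure (S.residueField s))))) h, fun h => h.comp _⟩

/-- Triviality over a scheme gives triviality over the geometric points below it. -/
theorem Kills.geomPt {S' : Scheme.{u}} {g : S' ⟶ S} {α : T ⟶ P} (hk : Kills g α) (s' : S') :
    Kills (Red.geomPt (g s')) α := by
  rw [kills_geomPt_iff]
  obtain ⟨hf, hs⟩ := specMap_field_flat_surjective (Field.toIsField (S.residueField (g s')))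
    (g.residueFieldMap s')
  refine Kills.of_comp (k := Spec.map (g.residueFieldMap s')) ?_
  rw [Scheme.Hom.SpecMap_residueFieldMap_fromSpecResidueField]
  exact hk.comp _

end Groth.Agent.RedPts82
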