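import Groth.Agent.RedPts82.Coord

/-!
`gaFn`, `gmFn`, `dsFn`: bijectivity, group laws, naturality.
-/

universe u

open CategoryTheory MonoidalCategory CartesianMonoidalCategory MonObj GrpObj AlgebraicGeometry

namespace Groth.Agent.RedPts82

variable {S : Scheme.{u}} {X Y : Over S}

local notation "f₀" => Limits.IsTerminal.from specULiftZIsTerminal S

/-- The integral algebra structure on the global sections. -/
@[reducible] noncomputable def intAlg (R : Type u) [CommRing R] : Algebra ZU.{u} R :=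
  { smul := fun r x => r.down • x
    algebraMap := (Int.castRingHom R).comp (ULift.ringEquiv (R := ℤ)).toRingHom
    commutes' := fun _ _ => mul_comm _ _
    smul_def' := fun r x => zsmul_eq_mul x r.down }

/-- Global sections as an algebra over the integers. -/
@[reducible] noncomputable def gammaAlg (Z : Scheme.{u}) : Algebra ZU.{u} Γ(Z, ⊤) := intAlg _

attribute [local instance] gammaAlg

section Ga

local notation "A" => SymmetricAlgebra ZU ZU

theorem gaFn_eq (x : X ⟶ Red.Ga S) :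
    Red.gaFn x = ptHom A (toBase f₀ x) (SymmetricAlgebra.ι ZU ZU (ULift.up 1)) := by
  rw [ptHom_apply, Red.gaFn, Red.gaCoord, toBase_left]

/-- The algebra homomorphism on the symmetric algebra sending the generator to a given element. -/
noncomputable def gaHom (Z : Scheme.{u}) (a : Γ(Z, ⊤)) : A →ₐ[ZU] Γ(Z, ⊤) :=
  SymmetricAlgebra.lift
    { toFun := fun r => r.down • a
      map_add' := fun r r' => add_smul r.down r'.down a
      map_smul' := fun r r' => mul_smul r.down r'.down a }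

theorem gaFn_injective {x y : X ⟶ Red.Ga S} (h : Red.gaFn x = Red.gaFn y) : x = y := by
  apply toBase_injective f₀
  apply ptHom_injective
  apply SymmetricAlgebra.algHom_ext
  rw [gaFn_eq, gaFn_eq] at h
  refine LinearMap.ext fun r => ?_
  rw [show r = r.down • (ULift.up 1 : ZU) by ext; simp, map_zsmul, map_zsmul]
  exact congrArg (r.down • ·) h

theorem gaFn_surjective (a : Γ(X.left, ⊤)) : ∃ x : X ⟶ Red.Ga S, Red.gaFn x = a := by
  refine ⟨ofBase f₀ (homPt A (gaHom X.left a)), ?_⟩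
  rw [gaFn_eq, toBase_ofBase, ptHom_homPt]
  exact (SymmetricAlgebra.lift_ι_apply _ _).trans
    (one_smul ℤ a)

theorem gaFn_mul (x y : X ⟶ Red.Ga S) : Red.gaFn (x * y) = Red.gaFn x + Red.gaFn y := by
  rw [gaFn_eq, gaFn_eq, gaFn_eq, toBase_mul, ptHom_mul]
  show (WithConv.toConv (ptHom A (toBase f₀ x)) * WithConv.toConv (ptHom A (toBase f₀ y))) _ = _
  rw [AlgHom.convMul_apply]
  erw [SymmetricAlgebra.comul_ι]
  simp

theorem gaFn_one : Red.gaFn (1 : X ⟶ Red.Ga S) = 0 := by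
  have := gaFn_mul (1 : X ⟶ Red.Ga S) 1
  rw [_root_.one_mul (1 : X ⟶ Red.Ga S)] at this
  exact left_eq_add.mp this

theorem gaFn_inv (x : X ⟶ Red.Ga S) : Red.gaFn x⁻¹ = - Red.gaFn x := by
  have := gaFn_mul x x⁻¹
  rw [mul_inv_cancel, gaFn_one] at this
  exact eq_neg_of_add_eq_zero_right this.symm

theorem gaFn_comp (g : Y ⟶ X) (x : X ⟶ Red.Ga S) :
    Red.gaFn (g ≫ x) = g.left.appTop (Red.gaFn x) := by
  simp only [Red.gaFn, Over.comp_left, Category.assoc, Scheme.Hom.comp_appTop]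
  rfl

theorem gaFn_bijective : Function.Bijective (Red.gaFn : (X ⟶ Red.Ga S) → Γ(X.left, ⊤)) :=
  ⟨fun _ _ h => gaFn_injective h, gaFn_surjective⟩

theorem ga_comm (x y : X ⟶ Red.Ga S) : x * y = y * x :=
  gaFn_injective (by rw [gaFn_mul, gaFn_mul, add_comm])

end Ga

theorem ptHom_comp_map {A₁ A₂ : Type u} [CommRing A₁] [CommRing A₂] [Algebra ZU.{u} A₁] [Algebra ZU.{u} A₂]
    (φ : A₁ →ₐ[ZU] A₂) {Z : Over (Spec (CommRingCat.of ZU.{u}))}
    (p : Z ⟶ (Spec (CommRingCat.of A₂)).asOver (Spec (CommRingCat.of ZU.{u}))) (a : A₁) :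
    ptHom A₁ (p ≫ (Spec.map (CommRingCat.ofHom φ.toRingHom)).asOver (Spec (CommRingCat.of ZU.{u}))) a =
      ptHom A₂ p (φ a) := by
  rw [ptHom_apply, ptHom_apply]
  have e := Scheme.ΓSpecIso_inv_naturality (CommRingCat.ofHom φ.toRingHom)
  have e2 := congr($e a)
  exact (congrArg p.left.appTop.hom e2).symm

section DS

variable {M N : Type} [AddCommGroup M] [AddCommGroup N]

local notation "B" M':max => MonoidAlgebra ZU (Multiplicative M')

/-- The global function attached to a character and a point of a diagonalisable group. -/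
noncomputable def dsFn (t : X ⟶ Red.DS S M) (m : M) : Γ(X.left, ⊤) :=
  ptHom (B M) (toBase f₀ t) (MonoidAlgebra.single (Multiplicative.ofAdd m) 1)

theorem gmFn_eq (t : X ⟶ Red.Gm S) : Red.gmFn t = dsFn t (1 : ℤ) := by
  rw [dsFn, ptHom_apply, Red.gmFn, Red.gmCoord, toBase_left]

theorem dsFn_zero (t : X ⟶ Red.DS S M) : dsFn t 0 = 1 := by
  rw [dsFn, ofAdd_zero, ← MonoidAlgebra.one_def, map_one]

theorem dsFn_add (t : X ⟶ Red.DS S M) (m m' : M) :
    dsFn t (m + m') = dsFn t m * dsFn t m' := by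
  rw [dsFn, dsFn, dsFn, ← map_mul, MonoidAlgebra.single_mul_single, ofAdd_add, _root_.one_mul]

theorem dsFn_isUnit (t : X ⟶ Red.DS S M) (m : M) : IsUnit (dsFn t m) := by
  refine IsUnit.of_mul_eq_one (dsFn t (-m)) ?_
  rw [← dsFn_add, add_neg_cancel, dsFn_zero]

theorem dsFn_injective {t t' : X ⟶ Red.DS S M} (h : ∀ m, dsFn t m = dsFn t' m) : t = t' := by
  apply toBase_injective f₀
  apply ptHom_injective
  refine MonoidAlgebra.algHom_ext (fun m => h (Multiplicative.toAdd m)) ?_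
  exact Subsingleton.elim _ _

theorem dsFn_surjective (c : Multiplicative M →* Γ(X.left, ⊤)) :
    ∃ t : X ⟶ Red.DS S M, ∀ m, dsFn t m = c (Multiplicative.ofAdd m) := by
  refine ⟨ofBase f₀ (homPt (B M) (MonoidAlgebra.lift ZU Γ(X.left, ⊤) (Multiplicative M) c)), ?_⟩
  intro m
  rw [dsFn, toBase_ofBase, ptHom_homPt, MonoidAlgebra.lift_single]
  exact one_smul ZU _

theorem dsFn_mul (t t' : X ⟶ Red.DS S M) (m : M) :
    dsFn (t * t') m = dsFn t m * dsFn t' m := by
  rw [dsFn, dsFn, dsFn, toBase_mul, ptHom_mul]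
  show (WithConv.toConv (ptHom (B M) (toBase f₀ t)) *
    WithConv.toConv (ptHom (B M) (toBase f₀ t'))) _ = _
  rw [AlgHom.convMul_apply]
  simp

theorem dsFn_one (m : M) : dsFn (1 : X ⟶ Red.DS S M) m = 1 := by
  have h := dsFn_mul (1 : X ⟶ Red.DS S M) 1 m
  rw [_root_.one_mul (1 : X ⟶ Red.DS S M)] at h
  exact (mul_eq_left₀' (dsFn_isUnit _ m) h.symm)
where
  mul_eq_left₀' {R : Type u} [CommRing R] {a b : R} (ha : IsUnit a) (h : a * b = a) : b = 1 :=
    ha.mul_left_cancel (by rw [h, _root_.mul_one])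

theorem ds_comm (t t' : X ⟶ Red.DS S M) : t * t' = t' * t :=
  dsFn_injective fun m => by rw [dsFn_mul, dsFn_mul, mul_comm]

theorem dsFn_DSmap (φ : M →+ N) (t : X ⟶ Red.DS S N) (m : M) :
    dsFn (t ≫ Red.DSmap S φ) m = dsFn t (φ m) := by
  rw [dsFn, dsFn, Red.DSmap, toBase_comp_map]
  refine (ptHom_comp_map (MonoidAlgebra.mapDomainAlgHom ZU ZU (AddMonoidHom.toMultiplicative φ))
    (toBase f₀ t) _).trans ?_
  simp

theorem dsFn_comp (g : Y ⟶ X) (t : X ⟶ Red.DS S M) (m : M) :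
    dsFn (g ≫ t) m = g.left.appTop (dsFn t m) := by
  rw [dsFn, dsFn, toBase_comp]
  simp only [ptHom_apply, Over.comp_left, Over.map_map_left, Scheme.Hom.comp_appTop]
  rfl

theorem gmFn_mul (t t' : X ⟶ Red.Gm S) : Red.gmFn (t * t') = Red.gmFn t * Red.gmFn t' := by
  simp only [gmFn_eq, dsFn_mul]

theorem gmFn_one : Red.gmFn (1 : X ⟶ Red.Gm S) = 1 := by
  rw [gmFn_eq, dsFn_one]

theorem gmFn_isUnit (t : X ⟶ Red.Gm S) : IsUnit (Red.gmFn t) := by
  rw [gmFn_eq]; exact dsFn_isUnit _ _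

theorem gmFn_comp (g : Y ⟶ X) (t : X ⟶ Red.Gm S) :
    Red.gmFn (g ≫ t) = g.left.appTop (Red.gmFn t) := by
  rw [gmFn_eq, gmFn_eq, dsFn_comp]

theorem gmFn_chi (m : M) (t : X ⟶ Red.DS S M) :
    Red.gmFn (t ≫ Red.chi S m) = dsFn t m := by
  rw [gmFn_eq, Red.chi, dsFn_DSmap]
  simp

theorem dsFn_gm_zpow (t : X ⟶ Red.Gm S) (n : ℕ) : dsFn t (n : ℤ) = Red.gmFn t ^ n := by
  induction n with
  | zero => simpa using dsFn_zero t
  | succ k ih => rw [Nat.cast_succ, dsFn_add, ih, gmFn_eq, pow_succ]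

theorem gmFn_injective {t t' : X ⟶ Red.Gm S} (h : Red.gmFn t = Red.gmFn t') : t = t' := by
  apply dsFn_injective
  intro m
  obtain ⟨k, rfl | rfl⟩ := Int.eq_nat_or_neg m
  · rw [dsFn_gm_zpow, dsFn_gm_zpow, h]
  · apply (dsFn_isUnit t (k : ℤ)).mul_left_cancel
    rw [← dsFn_add, add_neg_cancel, dsFn_zero, dsFn_gm_zpow, h, ← dsFn_gm_zpow, ← dsFn_add,
      add_neg_cancel, dsFn_zero]

theorem gmFn_surjective {a : Γ(X.left, ⊤)} (ha : IsUnit a) :
    ∃ t : X ⟶ Red.Gm S, Red.gmFn t = a := by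
  obtain ⟨v, rfl⟩ := ha
  obtain ⟨t, ht⟩ := dsFn_surjective (S := S) (X := X) (M := ℤ)
    ((Units.coeHom _).comp (zpowersHom _ v))
  refine ⟨t, ?_⟩
  rw [gmFn_eq, ht]
  simp

theorem gm_comm (t t' : X ⟶ Red.Gm S) : t * t' = t' * t := ds_comm t t'

theorem gmFn_inv_mul (t : X ⟶ Red.Gm S) : Red.gmFn t⁻¹ * Red.gmFn t = 1 := by
  rw [← gmFn_mul, inv_mul_cancel, gmFn_one]

theorem gmFn_pow (t : X ⟶ Red.Gm S) (n : ℕ) : Red.gmFn (t ^ n) = Red.gmFn t ^ n := by
  induction n with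
  | zero => simpa using gmFn_one
  | succ k ih => rw [pow_succ, gmFn_mul, ih, pow_succ]

instance isMonHom_DSmap (φ : M →+ N) : IsMonHom (Red.DSmap S φ) :=
  isMonHom_of_points _ fun Z a b => dsFn_injective fun m => by
    simp only [dsFn_DSmap, dsFn_mul]

instance isMonHom_chi (m : M) : IsMonHom (Red.chi S m) := isMonHom_DSmap _

end DS

end Groth.Agent.RedPts82
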