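import Groth.Agent.RedPts82.Points
import Groth.Agent.Unr55.DescProps
import Mathlib.AlgebraicGeometry.Morphisms.Affine
import Mathlib.RingTheory.FiniteType

/-!
Properties of the structure morphism of a torus.
-/

universe u

open CategoryTheory MonoidalCategory CartesianMonoidalCategory MonObj GrpObj AlgebraicGeometry
open CategoryTheory.Limits MorphismProperty

namespace Groth.Agent.RedPts82

variable {S : Scheme.{u}}

theorem isTorus_prop (P : MorphismProperty Scheme.{u}) [IsZariskiLocalAtTarget P]
    [P.IsStableUnderBaseChange] [P.DescendsAlong Unr55.fpqc.{u}] {T : Over S} [GrpObj T]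
    (hT : Red.IsTorus T)
    (hDS : ∀ (U : Scheme.{u}) (r : ℕ), P (Red.DS U (Fin r → ℤ)).hom) : P T.hom := by
  obtain ⟨S', f, hf, hs, hqc, hloc⟩ := hT
  choose U hU r hr using hloc
  have hcov : TopologicalSpace.IsOpenCover U := by
    rw [TopologicalSpace.IsOpenCover, eq_top_iff]
    exact fun x _ => TopologicalSpace.Opens.mem_iSup.mpr ⟨x, hU x⟩
  have h1 : P (pullback.snd T.hom f) := by
    refine IsZariskiLocalAtTarget.of_openCover (S'.openCoverOfIsOpenCover U hcov) fun (v : S') => ?_
    obtain ⟨e⟩ := hr v
    let e' : Red.bc ((U v).ι ≫ f) T ≅ Red.DS (U v : Scheme.{u}) (Fin (r v) → ℤ) :=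
      (Grp.forget _).mapIso e
    change P (pullback.snd (pullback.snd T.hom f) (U v).ι)
    rw [← pullbackLeftPullbackSndIso_hom_snd T.hom f (U v).ι, P.cancel_left_of_respectsIso]
    have h := hDS (U v : Scheme.{u}) (r v)
    show P (Red.bc ((U v).ι ≫ f) T).hom
    rw [← Over.w e'.hom]
    have : IsIso e'.hom.left := inferInstanceAs (IsIso ((CategoryTheory.Over.forget _).map e'.hom))
    exact (P.cancel_left_of_respectsIso _ _).mpr h
  refine IsZariskiLocalAtTarget.of_openCover (P := P) S.affineCover fun j => ?_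
  let V : S.Opens := (S.affineCover.f j).opensRange
  have hV : IsAffineOpen V := isAffineOpen_opensRange _
  obtain ⟨W, hWc, hWV⟩ := hqc V hV
  have hrange : Set.range (W.ι ≫ f).base ⊆ Set.range (S.affineCover.f j).base := by
    rintro _ ⟨w, rfl⟩
    have : f w.1 ∈ f.base '' (W : Set S') := ⟨w.1, w.2, rfl⟩
    rw [hWV] at this
    exact this
  let k : (W : Scheme.{u}) ⟶ S.affineCover.X j :=
    IsOpenImmersion.lift (S.affineCover.f j) (W.ι ≫ f) hrange
  have hk : k ≫ S.affineCover.f j = W.ι ≫ f := IsOpenImmersion.lift_fac _ _ hrange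
  have hfpqc : Unr55.fpqc k := by
    refine ⟨⟨⟨fun y => ?_⟩, ?_⟩, ?_⟩
    · obtain ⟨w, hw, hwy⟩ : (S.affineCover.f j) y ∈ f.base '' (W : Set S') := by
        rw [hWV]
        exact ⟨y, rfl⟩
      refine ⟨⟨w, hw⟩, (S.affineCover.f j).isOpenEmbedding.injective ?_⟩
      exact (congrArg (fun q => q ⟨w, hw⟩) hk).trans hwy
    · have hsq : IsPullback (𝟙 (W : Scheme.{u})) k (W.ι ≫ f) (S.affineCover.f j) :=
        IsPullback.of_horiz_isIso_mono ⟨by rw [Category.id_comp, hk]⟩
      exact MorphismProperty.of_isPullback (P := @Flat) hsq (inferInstance : Flat (W.ι ≫ f))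
    · have : CompactSpace (W : Scheme.{u}) := isCompact_iff_compactSpace.mp hWc
      exact (quasiCompact_iff_compactSpace k).mpr inferInstance
  have h2 : P (pullback.snd (pullback.snd T.hom (S.affineCover.f j)) k) := by
    rw [← pullbackLeftPullbackSndIso_hom_snd T.hom (S.affineCover.f j) k,
      P.cancel_left_of_respectsIso]
    have h0 : ∀ m, m = W.ι ≫ f → P (pullback.snd T.hom m) := by
      rintro _ rfl
      rw [← pullbackLeftPullbackSndIso_inv_snd_snd T.hom f W.ι, P.cancel_left_of_respectsIso]
      exact MorphismProperty.pullback_snd _ _ h1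
    exact h0 _ hk
  exact MorphismProperty.of_isPullback_of_descendsAlong (P := P)
    (IsPullback.of_hasPullback (pullback.snd T.hom (S.affineCover.f j)) k).flip hfpqc h2

set_option backward.isDefEq.respectTransparency.types false in
theorem isAffineHom_DS (U : Scheme.{u}) (M : Type) [AddCommGroup M] :
    IsAffineHom (Red.DS U M).hom :=
  have : MorphismProperty.IsStableUnderBaseChange (@IsAffineHom : MorphismProperty Scheme.{u}) := isAffineHom_isStableUnderBaseChange
  MorphismProperty.pullback_snd (P := (@IsAffineHom : MorphismProperty Scheme.{u})) _ _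
    (inferInstanceAs (IsAffineHom (Spec.map (CommRingCat.ofHom (algebraMap ZU.{u}
      (MonoidAlgebra ZU.{u} (Multiplicative M)))))))

set_option backward.isDefEq.respectTransparency.types false in
theorem isTorus_isAffineHom {T : Over S} [GrpObj T] (hT : Red.IsTorus T) : IsAffineHom T.hom := by
  have := Unr55.isAffineHom.{u}
  have : IsZariskiLocalAtTarget (@IsAffineHom : MorphismProperty Scheme.{u}) := HasAffineProperty.instIsZariskiLocalAtTarget
  exact isTorus_prop (@IsAffineHom : MorphismProperty Scheme.{u}) hT fun U r => isAffineHom_DS U _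

end Groth.Agent.RedPts82
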