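import Mathlib.Algebra.Group.Units.Basic
import Mathlib.Algebra.Ring.Basic
import Mathlib.Tactic.Ring
import Mathlib.Tactic.Group
import Mathlib.Tactic.LinearCombination

/-!
Formal identities in a group with a torus and two opposite one-parameter subgroups.
-/

namespace Groth.Agent.RedPts82

universe u v w

/-- Formal rank-one data: groups of points over a fixed ring. -/
structure R1 (G : Type u) (R : Type v) (T : Type w) [Group G] [CommRing R] [Group T] where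
  P : R → G
  M : R → G
  P_add : ∀ a b, P (a + b) = P a * P b
  M_add : ∀ a b, M (a + b) = M a * M b
  τ : T →* G
  a : T →* Rˣ
  av : Rˣ →* T
  comm : ∀ t t' : T, t * t' = t' * t
  a_av : ∀ z, a (av z) = z * z
  conjP : ∀ t x, τ t * P x * (τ t)⁻¹ = P ((a t : R) * x)
  conjM : ∀ t y, τ t * M y * (τ t)⁻¹ = M (((a t)⁻¹ : Rˣ) * y)
  F : ∀ (x y : R) (u : Rˣ), (u : R) = 1 + x * y →
    P x * M y = M (((u⁻¹ : Rˣ) : R) * y) * τ (av u) * P (((u⁻¹ : Rˣ) : R) * x)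

namespace R1

variable {G : Type u} {R : Type v} {T : Type w} [Group G] [CommRing R] [Group T] (D : R1 G R T)

/-- The image of the coroot. -/
def h (z : Rˣ) : G := D.τ (D.av z)

/-- The Weyl element attached to a unit. -/
def w (x : Rˣ) : G := D.P x * D.M (-((x⁻¹ : Rˣ) : R)) * D.P x

/-- The opposite Weyl element attached to a unit. -/
def w' (x : Rˣ) : G := D.M (-((x⁻¹ : Rˣ) : R)) * D.P x * D.M (-((x⁻¹ : Rˣ) : R))

theorem h_mul (z z' : Rˣ) : D.h (z * z') = D.h z * D.h z' := by simp [h]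

theorem h_one : D.h 1 = 1 := by simp [h]

theorem h_inv (z : Rˣ) : D.h z⁻¹ = (D.h z)⁻¹ := by simp [h]

theorem P_zero : D.P 0 = 1 := by
  simpa using D.P_add 0 0

theorem M_zero : D.M 0 = 1 := by
  simpa using D.M_add 0 0

theorem P_inv (x : R) : (D.P x)⁻¹ = D.P (-x) :=
  inv_eq_of_mul_eq_one_right (by rw [← D.P_add, add_neg_cancel, P_zero])

theorem M_inv (x : R) : (D.M x)⁻¹ = D.M (-x) :=
  inv_eq_of_mul_eq_one_right (by rw [← D.M_add, add_neg_cancel, M_zero])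

theorem τ_P (t : T) (x : R) : D.τ t * D.P x = D.P ((D.a t : R) * x) * D.τ t := by
  rw [← D.conjP]; group

theorem τ_M (t : T) (y : R) : D.τ t * D.M y = D.M (((D.a t)⁻¹ : Rˣ) * y) * D.τ t := by
  rw [← D.conjM]; group

theorem P_τ (t : T) (x : R) : D.P x * D.τ t = D.τ t * D.P (((D.a t)⁻¹ : Rˣ) * x) := by
  rw [τ_P, Units.mul_inv_cancel_left]

theorem h_P (z : Rˣ) (x : R) : D.h z * D.P x = D.P ((z : R) * z * x) * D.h z := by
  rw [h, τ_P, D.a_av, Units.val_mul]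

theorem h_M (z : Rˣ) (y : R) :
    D.h z * D.M y = D.M (((z⁻¹ : Rˣ) : R) * (z⁻¹ : Rˣ) * y) * D.h z := by
  rw [h, τ_M, D.a_av, mul_inv, Units.val_mul]

theorem MP_eq (x y : R) (u : Rˣ) (hu : (u : R) = 1 + x * y) :
    D.M y * D.P x = D.P (((u⁻¹ : Rˣ) : R) * x) * (D.h u)⁻¹ * D.M (((u⁻¹ : Rˣ) : R) * y) := by
  have := congrArg (·⁻¹) (D.F (-x) (-y) u (by rw [hu]; ring))
  simp only [mul_inv_rev, D.P_inv, D.M_inv, mul_neg, neg_neg] at this
  rw [this, h, mul_assoc]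

/-- The data with the roles of the two subgroups exchanged. -/
def flip : R1 G R T where
  P := D.M
  M := D.P
  P_add := D.M_add
  M_add := D.P_add
  τ := D.τ
  a :=
    { toFun := fun t => (D.a t)⁻¹
      map_one' := by simp
      map_mul' := fun t t' => by rw [map_mul, mul_inv] }
  av :=
    { toFun := fun z => D.av z⁻¹
      map_one' := by simp
      map_mul' := fun z z' => by rw [mul_inv, map_mul] }
  comm := D.comm
  a_av z := by simp [D.a_av]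
  conjP := D.conjM
  conjM t y := by simp [D.conjP]
  F x y u hu := by
    have := D.MP_eq y x u (by rw [hu]; ring)
    simpa [h] using this

theorem coroot_eq (u : Rˣ) :
    D.h u = D.M (((u⁻¹ : Rˣ) : R) * (1 - u)) * D.P 1 * D.M ((u : R) - 1) *
      D.P (-((u⁻¹ : Rˣ) : R)) := by
  rw [mul_assoc (D.M (((u⁻¹ : Rˣ) : R) * (1 - u))),
    D.F 1 ((u : R) - 1) u (by ring), ← mul_assoc (D.M (((u⁻¹ : Rˣ) : R) * (1 - u))),
    ← mul_assoc (D.M (((u⁻¹ : Rˣ) : R) * (1 - u))), ← D.M_add, mul_assoc, ← D.P_add]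
  rw [show ((u⁻¹ : Rˣ) : R) * (1 - u) + ((u⁻¹ : Rˣ) : R) * ((u : R) - 1) = 0 by ring,
    show ((u⁻¹ : Rˣ) : R) * 1 + -((u⁻¹ : Rˣ) : R) = 0 by ring, M_zero, P_zero, h]
  group

theorem w_smul (z x : Rˣ) : D.w (z * x) = D.h z * D.w x := by
  have e1 : D.P ((z : R) * x - (z : R) * z * x) * D.M (-(((z * x)⁻¹ : Rˣ) : R)) =
      D.M (-((z⁻¹ : Rˣ) : R) * (((z * x)⁻¹ : Rˣ) : R)) * D.h z * D.P ((x : R) - (z : R) * x) := by
    rw [D.F _ _ z ?_]
    · rw [h]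
      congr 2
      · congr 1; ring
      · rw [← mul_sub_one_neg z x]
    · simp only [mul_inv, Units.val_mul]
      linear_combination ((x⁻¹ : Rˣ) : R) * (x : R) * (1 - (z : R)) * z.mul_inv +
        (1 - (z : R)) * x.mul_inv
  have e2 : D.h z * D.w x =
      D.P ((z : R) * z * x) * (D.M (((z⁻¹ : Rˣ) : R) * (z⁻¹ : Rˣ) * -((x⁻¹ : Rˣ) : R)) *
        D.h z * D.P x) := by
    simp only [w, ← mul_assoc, h_P]
    rw [mul_assoc (D.P _) (D.h z), h_M]
    simp only [← mul_assoc]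
  rw [e2, w, show ((z * x : Rˣ) : R) = (z : R) * z * x + ((z : R) * x - (z : R) * z * x) by
    simp, D.P_add, mul_assoc (D.P ((z : R) * z * x)) (D.P _) (D.M _), e1, mul_assoc, mul_assoc]
  congr 1
  rw [show -((z⁻¹ : Rˣ) : R) * (((z * x)⁻¹ : Rˣ) : R) =
    ((z⁻¹ : Rˣ) : R) * (z⁻¹ : Rˣ) * -((x⁻¹ : Rˣ) : R) by simp ; ring, mul_assoc]
  congr 2
  rw [← D.P_add, ← D.P_add]
  congr 1
  ring
where
  mul_sub_one_neg (z x : Rˣ) : ((z⁻¹ : Rˣ) : R) * ((z : R) * x - (z : R) * z * x) =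
      (x : R) - (z : R) * x := by
    linear_combination ((x : R) - (z : R) * x) * z.inv_mul

theorem w_inv (x : Rˣ) : (D.w x)⁻¹ = D.w (-x) := by
  simp [w, D.P_inv, D.M_inv, mul_assoc]

theorem τ_w (t : T) (x : Rˣ) : D.τ t * D.w x = D.w (D.a t * x) * D.τ t := by
  simp only [w, ← mul_assoc, τ_P]
  rw [mul_assoc (D.P _) (D.τ t), τ_M, ← mul_assoc, mul_assoc (D.P _ * D.M _) (D.τ t), τ_P,
    ← mul_assoc]
  simp [mul_comm ((x⁻¹ : Rˣ) : R)]

theorem w_conj (x : Rˣ) (t : T) :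
    D.w x * D.τ t * (D.w x)⁻¹ = (D.h (D.a t))⁻¹ * D.τ t := by
  have h1 := D.τ_w t x
  rw [w_smul] at h1
  have h2 : D.w x * D.τ t = (D.h (D.a t))⁻¹ * (D.τ t * D.w x) := by rw [h1]; group
  rw [h2]; group

theorem w_h (x z : Rˣ) : D.w x * D.h z * (D.w x)⁻¹ = (D.h z)⁻¹ := by
  rw [h, w_conj, D.a_av, h_mul]
  simp only [h]
  group

theorem w_smul' (z x : Rˣ) : D.w (z * x) = D.w x * (D.h z)⁻¹ := by
  rw [w_smul]
  have := D.w_h x z⁻¹
  rw [h_inv, inv_inv] at this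
  conv_lhs => rw [← this]
  group

theorem w_mul_w (x y m : Rˣ) (hm : m * y = -x) : D.w x * D.w y = D.h m := by
  have : x = m * (-y) := by rw [mul_neg, hm, neg_neg]
  rw [this, w_smul, ← D.w_inv, inv_mul_cancel_right]

theorem flip_w (x : Rˣ) : D.flip.w (-x⁻¹) = D.w' x := by
  simp [w, w', flip]

theorem flip_h (z : Rˣ) : D.flip.h z = (D.h z)⁻¹ := by
  rw [← h_inv]; rfl

theorem w'_smul (z x : Rˣ) : D.w' (z * x) = D.h z * D.w' x := by
  rw [← flip_w, show -(z * x)⁻¹ = z⁻¹ * (-x⁻¹) by rw [mul_inv, mul_neg], D.flip.w_smul, flip_h,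
    h_inv, inv_inv, flip_w]

theorem w'_h (x z : Rˣ) : D.w' x * D.h z * (D.w' x)⁻¹ = (D.h z)⁻¹ := by
  have := D.flip.w_h (-x⁻¹) z⁻¹
  rwa [flip_w, flip_h, h_inv, inv_inv] at this

theorem w_eq_w'_of_split (x t t' : Rˣ) (ht : (t' : R) = 1 - t) : D.w x = D.w' x := by
  let x' : R := -((x⁻¹ : Rˣ) : R)
  have hx : (x : R) * ((x⁻¹ : Rˣ) : R) = 1 := x.mul_inv
  have e1 : D.P x * D.M ((t : R) * x') =
      D.M ((((t'⁻¹ : Rˣ) : R)) * ((t : R) * x')) * D.h t' * D.P (((t'⁻¹ : Rˣ) : R) * x) :=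
    D.F _ _ t' (by simp only [x']; linear_combination ht + (t : R) * hx)
  have e2 : D.M ((1 - (t : R)) * x') * D.P x =
      D.P (((t⁻¹ : Rˣ) : R) * x) * (D.h t)⁻¹ * D.M (((t⁻¹ : Rˣ) : R) * ((1 - (t : R)) * x')) :=
    D.MP_eq _ _ t (by simp only [x']; linear_combination (1 - (t : R)) * hx)
  have hsum : ((t'⁻¹ : Rˣ) : R) * x + ((t⁻¹ : Rˣ) : R) * x =
      ((t'⁻¹ : Rˣ) : R) * ((t⁻¹ : Rˣ) : R) * x := by
    linear_combination ((t'⁻¹ : Rˣ) : R) * ((t⁻¹ : Rˣ) : R) * (x : R) * ht -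
      ((t⁻¹ : Rˣ) : R) * (x : R) * t'.inv_mul - ((t'⁻¹ : Rˣ) : R) * (x : R) * t.inv_mul
  have hw : D.w x = D.w' ((t' * t⁻¹) * x) * D.h (t' * t⁻¹) := by
    have : D.w x = D.P x * D.M ((t : R) * x') * (D.M ((1 - (t : R)) * x') * D.P x) := by
      rw [← mul_assoc, mul_assoc (D.P x), ← D.M_add,
        show (t : R) * x' + (1 - (t : R)) * x' = x' by ring]
      rfl
    rw [this, e1, e2]
    simp only [← mul_assoc]
    rw [mul_assoc _ (D.P _) (D.P _), ← D.P_add, hsum, ← h_inv]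
    rw [mul_assoc (D.M _) (D.h t'), h_P, ← mul_assoc, mul_assoc (D.M _ * D.P _) (D.h t'), ← h_mul,
      mul_assoc _ (D.h _) (D.M _), h_M, w', ← mul_assoc]
    simp only [x', mul_inv, inv_inv, Units.val_mul]
    congr 2
    · congr 2
      · ring
      · linear_combination ((t' : R) * ((t⁻¹ : Rˣ) : R) * (x : R)) * t'.mul_inv
    · congr 1
      rw [← ht]
      linear_combination (-((t'⁻¹ : Rˣ) : R) * (t : R) * ((x⁻¹ : Rˣ) : R)) * t'.inv_mul +
        (-((t'⁻¹ : Rˣ) : R) * (t : R) * ((x⁻¹ : Rˣ) : R) * ((t'⁻¹ : Rˣ) : R) * (t' : R)) * t.mul_inv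
  have h3 := D.w'_h x (t' * t⁻¹)
  rw [hw, w'_smul, mul_assoc]
  calc D.h (t' * t⁻¹) * (D.w' x * D.h (t' * t⁻¹))
      = D.h (t' * t⁻¹) * (D.w' x * D.h (t' * t⁻¹) * (D.w' x)⁻¹) * D.w' x := by group
    _ = D.w' x := by rw [h3]; group

theorem w_P (x : Rˣ) (hww : D.w x = D.w' x) :
    D.w x * D.P x * (D.w x)⁻¹ = D.M (-((x⁻¹ : Rˣ) : R)) := by
  have : D.w x * D.P x = D.M (-((x⁻¹ : Rˣ) : R)) * D.w x := by
    conv_lhs => rw [hww]
    simp only [w', w, mul_assoc]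
  rw [this]; group

theorem wP_cube (x : Rˣ) (hww : D.w x = D.w' x) : (D.w x * D.P x) ^ 3 = 1 := by
  set A := D.M (-((x⁻¹ : Rˣ) : R)) * D.P x with hA
  have e : D.w x * D.P x = A * A := by
    rw [hww, w', hA]; group
  have e' : D.w x * D.w x = A * A * A := by
    conv_lhs => arg 1; rw [hww]
    rw [w, w', hA]; group
  have hsq : D.w x * D.w x = D.h (-1) := D.w_mul_w x x (-1) (by simp)
  rw [pow_succ, pow_two, e]
  calc A * A * (A * A) * (A * A) = (A * A * A) * (A * A * A) := by group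
    _ = D.h (-1) * D.h (-1) := by rw [← e', hsq]
    _ = 1 := by rw [← h_mul, neg_mul_neg, _root_.one_mul, h_one]

end R1

end Groth.Agent.RedPts82
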