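import Groth.Agent.RedPts82.Comm
import Groth.Agent.RedPts82.RankOne

/-!
From scheme-theoretic rank-one hypotheses to formal rank-one data on points.
-/

universe u

open CategoryTheory MonoidalCategory CartesianMonoidalCategory MonObj GrpObj AlgebraicGeometry

namespace Groth.Agent.RedPts82

variable {S : Scheme.{u}}

/-- The rank-one hypotheses, bundled. -/
structure RH (G T : Over S) [GrpObj G] [GrpObj T] (i : T ⟶ G) (α : T ⟶ Red.Gm S)
    (pp pm : Red.Ga S ⟶ G) (av : Red.Gm S ⟶ T) : Prop where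
  hi : IsMonHom i
  hα : IsMonHom α
  hp : IsMonHom pp
  hm : IsMonHom pm
  hav : IsMonHom av
  hT : Red.IsTorus T
  hpp : ∀ (X : Over S) (t : X ⟶ T) (x : X ⟶ Red.Ga S), ∃ x' : X ⟶ Red.Ga S,
      x' ≫ pp = (t ≫ i) * (x ≫ pp) * (t ≫ i)⁻¹ ∧ Red.gaFn x' = Red.gmFn (t ≫ α) * Red.gaFn x
  hpm : ∀ (X : Over S) (t : X ⟶ T) (y : X ⟶ Red.Ga S), ∃ y' : X ⟶ Red.Ga S,
      y' ≫ pm = (t ≫ i) * (y ≫ pm) * (t ≫ i)⁻¹ ∧ Red.gaFn y' * Red.gmFn (t ≫ α) = Red.gaFn y
  h2 : av ≫ α = (𝟙 (Red.Gm S)) ^ 2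
  hF : ∀ (X : Over S) (x y : X ⟶ Red.Ga S), IsUnit (1 + Red.gaFn x * Red.gaFn y) →
      ∃ (x' y' : X ⟶ Red.Ga S) (z : X ⟶ Red.Gm S), Red.gmFn z = 1 + Red.gaFn x * Red.gaFn y ∧
        Red.gaFn x' * Red.gmFn z = Red.gaFn x ∧ Red.gaFn y' * Red.gmFn z = Red.gaFn y ∧
        (x ≫ pp) * (y ≫ pm) = (y' ≫ pm) * (z ≫ av ≫ i) * (x' ≫ pp)

variable {G T : Over S} [GrpObj G] [GrpObj T] {i : T ⟶ G} {α : T ⟶ Red.Gm S}
  {pp pm : Red.Ga S ⟶ G} {av : Red.Gm S ⟶ T}

/-- The point of the additive group with given coordinate. -/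
noncomputable def gaPt {X : Over S} (r : Γ(X.left, ⊤)) : X ⟶ Red.Ga S := (gaFn_surjective r).choose

theorem gaFn_gaPt {X : Over S} (r : Γ(X.left, ⊤)) : Red.gaFn (gaPt r) = r :=
  (gaFn_surjective r).choose_spec

theorem gaPt_gaFn {X : Over S} (x : X ⟶ Red.Ga S) : gaPt (Red.gaFn x) = x :=
  gaFn_injective (gaFn_gaPt _)

/-- The point of the multiplicative group with given coordinate. -/
noncomputable def gmPt {X : Over S} (r : Γ(X.left, ⊤)ˣ) : X ⟶ Red.Gm S :=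
  (gmFn_surjective r.isUnit).choose

theorem gmFn_gmPt {X : Over S} (r : Γ(X.left, ⊤)ˣ) : Red.gmFn (gmPt r) = (r : Γ(X.left, ⊤)) :=
  (gmFn_surjective r.isUnit).choose_spec

/-- The coordinate of a point of the multiplicative group, as a unit. -/
noncomputable def gmU {X : Over S} (t : X ⟶ Red.Gm S) : Γ(X.left, ⊤)ˣ := (gmFn_isUnit t).unit

theorem val_gmU {X : Over S} (t : X ⟶ Red.Gm S) : (gmU t : Γ(X.left, ⊤)) = Red.gmFn t := rfl

theorem gmPt_gmU {X : Over S} (t : X ⟶ Red.Gm S) : gmPt (gmU t) = t :=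
  gmFn_injective (gmFn_gmPt _)

theorem gaFn_of_mul {X : Over S} {a b : Γ(X.left, ⊤)} {u : Γ(X.left, ⊤)ˣ} (h : a * u = b) :
    a = ((u⁻¹ : Γ(X.left, ⊤)ˣ) : Γ(X.left, ⊤)) * b := by
  rw [← h, mul_comm, _root_.mul_assoc, Units.mul_inv, _root_.mul_one]

/-- Rank-one data on the points with values in `X`. -/
noncomputable def RH.data (H : RH G T i α pp pm av) (X : Over S) :
    R1 (X ⟶ G) Γ(X.left, ⊤) (X ⟶ T) :=
  { P := fun r => gaPt r ≫ pp
    M := fun r => gaPt r ≫ pm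
    P_add := fun a b => by
      have := H.hp
      show gaPt (a + b) ≫ pp = _
      rw [← MonObj.mul_comp (gaPt a) (gaPt b) pp]
      congr 1
      exact gaFn_injective (by rw [gaFn_mul, gaFn_gaPt, gaFn_gaPt, gaFn_gaPt])
    M_add := fun a b => by
      have := H.hm
      rw [← MonObj.mul_comp (gaPt a) (gaPt b) pm]
      congr 1
      exact gaFn_injective (by rw [gaFn_mul, gaFn_gaPt, gaFn_gaPt, gaFn_gaPt])
    τ :=
      { toFun := fun t => t ≫ i
        map_one' := by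
          have := H.hi
          exact MonObj.one_comp i
        map_mul' := fun t t' => by
          have := H.hi
          exact MonObj.mul_comp t t' i }
    a :=
      { toFun := fun t => gmU (t ≫ α)
        map_one' := Units.ext (by have := H.hα; rw [val_gmU, MonObj.one_comp α, gmFn_one, Units.val_one])
        map_mul' := fun t t' => Units.ext (by
          have := H.hα
          rw [Units.val_mul, val_gmU, val_gmU, val_gmU, MonObj.mul_comp t t' α, gmFn_mul]) }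
    av :=
      { toFun := fun z => gmPt z ≫ av
        map_one' := by
          have := H.hav
          rw [show gmPt (1 : Γ(X.left, ⊤)ˣ) = (1 : X ⟶ Red.Gm S) from
            gmFn_injective (by rw [gmFn_gmPt, gmFn_one, Units.val_one]), MonObj.one_comp av]
        map_mul' := fun z z' => by
          have := H.hav
          rw [← MonObj.mul_comp (gmPt z) (gmPt z') av]
          congr 1
          exact gmFn_injective (by rw [gmFn_mul, gmFn_gmPt, gmFn_gmPt, gmFn_gmPt, Units.val_mul]) }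
    comm := fun t t' => isTorus_points_comm H.hT t t'
    a_av := fun z => Units.ext (by
      show Red.gmFn ((gmPt z ≫ av) ≫ α) = _
      rw [Category.assoc, H.h2, MonObj.comp_pow, Category.comp_id, gmFn_pow, gmFn_gmPt, pow_two,
        Units.val_mul])
    conjP := fun t x => by
      obtain ⟨x', h1, h2⟩ := H.hpp X t (gaPt x)
      show (t ≫ i) * (gaPt x ≫ pp) * (t ≫ i)⁻¹ = _
      rw [← h1]
      congr 1
      exact gaFn_injective (by rw [h2, gaFn_gaPt, gaFn_gaPt]; rfl)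
    conjM := fun t y => by
      obtain ⟨y', h1, h2⟩ := H.hpm X t (gaPt y)
      show (t ≫ i) * (gaPt y ≫ pm) * (t ≫ i)⁻¹ = _
      rw [← h1]
      congr 1
      refine gaFn_injective ?_
      rw [gaFn_gaPt] at h2 ⊢
      exact gaFn_of_mul (u := gmU (t ≫ α)) h2
    F := fun x y u hu => by
      obtain ⟨x', y', z, hz, hx', hy', e⟩ := H.hF X (gaPt x) (gaPt y)
        (by rw [gaFn_gaPt, gaFn_gaPt, ← hu]; exact u.isUnit)
      rw [gaFn_gaPt, gaFn_gaPt, ← hu] at hz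
      rw [gaFn_gaPt, hz] at hx' hy'
      rw [e]
      congr 1
      · congr 1
        · congr 1
          refine gaFn_injective ?_
          rw [gaFn_gaPt]
          exact gaFn_of_mul hy'
        · show z ≫ av ≫ i = (gmPt u ≫ av) ≫ i
          rw [Category.assoc, ← gmFn_injective (hz.trans (gmFn_gmPt u).symm)]
      · congr 1
        refine gaFn_injective ?_
        rw [gaFn_gaPt]
        exact gaFn_of_mul hx' }

variable (H : RH G T i α pp pm av) {X : Over S}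

theorem RH.P_pt (x : X ⟶ Red.Ga S) : x ≫ pp = (H.data X).P (Red.gaFn x) := by
  show x ≫ pp = gaPt _ ≫ pp
  rw [gaPt_gaFn]

theorem RH.M_pt (x : X ⟶ Red.Ga S) : x ≫ pm = (H.data X).M (Red.gaFn x) := by
  show x ≫ pm = gaPt _ ≫ pm
  rw [gaPt_gaFn]

theorem RH.h_pt (z : X ⟶ Red.Gm S) : z ≫ av ≫ i = (H.data X).h (gmU z) := by
  show z ≫ av ≫ i = (gmPt (gmU z) ≫ av) ≫ i
  rw [gmPt_gmU, Category.assoc]

theorem RH.τ_pt (t : X ⟶ T) : t ≫ i = (H.data X).τ t := rfl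

theorem RH.av_pt (z : X ⟶ Red.Gm S) : z ≫ av = (H.data X).av (gmU z) := by
  show z ≫ av = gmPt (gmU z) ≫ av
  rw [gmPt_gmU]

theorem RH.val_a (t : X ⟶ T) : (((H.data X).a t : Γ(X.left, ⊤)ˣ) : Γ(X.left, ⊤)) = Red.gmFn (t ≫ α) :=
  rfl

theorem exists_unit_neg_inv {a b : Γ(X.left, ⊤)} (h : a * b = -1) :
    ∃ u : Γ(X.left, ⊤)ˣ, (u : Γ(X.left, ⊤)) = b ∧ a = -((u⁻¹ : Γ(X.left, ⊤)ˣ) : Γ(X.left, ⊤)) :=
  ⟨⟨b, -a, by rw [mul_neg, mul_comm b, h, neg_neg], by rw [neg_mul, h, neg_neg]⟩, rfl,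
    (neg_neg a).symm⟩

theorem RH.w_pt (x x' : X ⟶ Red.Ga S) (hx : Red.gaFn x' * Red.gaFn x = -1) :
    ∃ u : Γ(X.left, ⊤)ˣ, (u : Γ(X.left, ⊤)) = Red.gaFn x ∧
      Red.gaFn x' = -((u⁻¹ : Γ(X.left, ⊤)ˣ) : Γ(X.left, ⊤)) ∧
      (x ≫ pp) * (x' ≫ pm) * (x ≫ pp) = (H.data X).w u := by
  obtain ⟨u, hu, hu'⟩ := exists_unit_neg_inv hx
  refine ⟨u, hu, hu', ?_⟩
  rw [H.P_pt x, H.M_pt x', hu', ← hu]
  rfl

end Groth.Agent.RedPts82
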