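import Groth.Agent.RedPts82.GaCoord
import Groth.Agent.RedPts82.DSChar
import Groth.Agent.RedPts82.Bridge
import Mathlib.AlgebraicGeometry.Morphisms.Smooth
import Mathlib.AlgebraicGeometry.PullbackCarrier
import Mathlib.RingTheory.Smooth.Basic
import Mathlib.Algebra.MvPolynomial.Equiv

/-!
Homomorphisms from tori to the additive group are trivial; the additive group over a field is
smooth, connected and contains no subtorus.
-/

universe u

open CategoryTheory MonoidalCategory CartesianMonoidalCategory MonObj GrpObj AlgebraicGeometry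
open CategoryTheory.Limits

namespace Groth.Agent.RedPts82

variable {S : Scheme.{u}}

theorem hom_DS_Ga_eq_one {M : Type} [AddCommGroup M] (ψ : Red.DS S M ⟶ Red.Ga S) [IsMonHom ψ] :
    ψ = 1 := by
  classical
  refine hom_ext_affine fun Y hY t => gaFn_injective ?_
  rw [MonObj.comp_one, gaFn_one]
  obtain ⟨u₀, hu₀⟩ := (polyCoord_bijective Y M).2 (Red.gaFn (polyTu Y M ≫ ψ))
  have hev : ∀ (Z : Over S) (z : Z ⟶ Y) (t : Z ⟶ Red.DS S M),
      Red.gaFn (t ≫ ψ) = evalDS z t u₀ := by
    intro Z z t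
    obtain ⟨w, -, hw₂, hw₃⟩ := exists_polyLift z t
    rw [← hw₃, hu₀, ← hw₂, Category.assoc, gaFn_comp w]
  let W := polyDS Y (M × M)
  let e : Multiplicative M × Multiplicative M ≃* Multiplicative (M × M) :=
    (MulEquiv.prodMultiplicative M M).symm
  let κ : MonoidAlgebra (Gam Y) (Multiplicative M × Multiplicative M) →+* Γ(W.left, ⊤) :=
    (polyCoord Y (M × M)).comp (MonoidAlgebra.mapDomainRingHom (Gam Y) e.toMonoidHom)
  have hκ : Function.Injective κ :=
    (polyCoord_bijective Y (M × M)).1.comp (MonoidAlgebra.mapDomain_injective e.injective)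
  have hκs : ∀ g : Multiplicative M × Multiplicative M, κ (MonoidAlgebra.single g 1) =
      polyCoord Y (M × M) (MonoidAlgebra.single (e g) 1) := fun g => by
    show polyCoord Y (M × M) (MonoidAlgebra.mapDomain _ _) = _
    rw [MonoidAlgebra.mapDomain_single]
    rfl
  have hevi : ∀ (i : Multiplicative M →* Multiplicative M × Multiplicative M)
      (t : W ⟶ Red.DS S M) (_ : ∀ m, dsFn t m =
        κ (MonoidAlgebra.single (i (Multiplicative.ofAdd m)) 1)),
      evalDS (polyProj Y (M × M)) t = κ.comp (MonoidAlgebra.mapDomainRingHom (Gam Y) i) := by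
    intro i t ht
    refine MonoidAlgebra.ringHom_ext (fun a => ?_) (fun g => ?_)
    · refine (evalDS_single _ _ 0 a).trans ?_
      rw [dsFn_zero, _root_.mul_one, polyProj_appTop]
      show _ = polyCoord Y (M × M) (MonoidAlgebra.mapDomain _ (MonoidAlgebra.mapDomain _ _))
      rw [MonoidAlgebra.mapDomain_single, MonoidAlgebra.mapDomain_single, map_one, map_one]
    · refine (evalDS_single _ _ (Multiplicative.toAdd g) 1).trans ?_
      rw [map_one, _root_.one_mul, ht]
      show κ _ = κ (MonoidAlgebra.mapDomain _ _)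
      rw [MonoidAlgebra.mapDomain_single]
      rfl
  let t₁ : W ⟶ Red.DS S M := polyTu Y (M × M) ≫ Red.DSmap S (AddMonoidHom.inl M M)
  let t₂ : W ⟶ Red.DS S M := polyTu Y (M × M) ≫ Red.DSmap S (AddMonoidHom.inr M M)
  have h₁ : ∀ m, dsFn t₁ m =
      κ (MonoidAlgebra.single (MonoidHom.inl _ _ (Multiplicative.ofAdd m)) 1) := fun m => by
    rw [dsFn_DSmap, dsFn_polyTu, hκs]
    rfl
  have h₂ : ∀ m, dsFn t₂ m =
      κ (MonoidAlgebra.single (MonoidHom.inr _ _ (Multiplicative.ofAdd m)) 1) := fun m => by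
    rw [dsFn_DSmap, dsFn_polyTu, hκs]
    rfl
  have h₁₂ : ∀ m, dsFn (t₁ * t₂) m =
      κ (MonoidAlgebra.single (((MonoidHom.id _).prod (MonoidHom.id _)) (Multiplicative.ofAdd m)) 1) :=
    fun m => by
    rw [dsFn_mul, h₁, h₂, ← map_mul, MonoidAlgebra.single_mul_single]
    simp
  have hsum : MonoidAlgebra.mapDomainRingHom (Gam Y)
      ((MonoidHom.id (Multiplicative M)).prod (MonoidHom.id (Multiplicative M))) u₀ =
      MonoidAlgebra.mapDomainRingHom (Gam Y) (MonoidHom.inl _ _) u₀ +
        MonoidAlgebra.mapDomainRingHom (Gam Y) (MonoidHom.inr _ _) u₀ := by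
    apply hκ
    rw [map_add]
    have e0 := gaFn_mul (t₁ ≫ ψ) (t₂ ≫ ψ)
    rw [← MonObj.mul_comp t₁ t₂ ψ, hev W (polyProj Y (M × M)), hev W (polyProj Y (M × M)),
      hev W (polyProj Y (M × M)), hevi _ _ h₁, hevi _ _ h₂, hevi _ _ h₁₂] at e0
    exact e0
  have hu : u₀ = 0 := by
    refine MonoidAlgebra.ext (Finsupp.ext fun g => ?_)
    have hc := congrArg (fun r => r.coeff (g, g)) hsum
    simp only [MonoidAlgebra.coeff_add, Finsupp.add_apply] at hc
    change Finsupp.mapDomain _ u₀.coeff (g, g) = Finsupp.mapDomain _ u₀.coeff (g, g) +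
      Finsupp.mapDomain _ u₀.coeff (g, g) at hc
    have e0 : Finsupp.mapDomain ((MonoidHom.id (Multiplicative M)).prod (MonoidHom.id _)) u₀.coeff
        (g, g) = u₀.coeff g :=
      Finsupp.mapDomain_apply (f := (MonoidHom.id (Multiplicative M)).prod (MonoidHom.id _))
        (fun a b hab => congrArg Prod.fst hab) _ g
    rw [e0] at hc
    by_cases hg : g = 1
    · subst hg
      have e1 : Finsupp.mapDomain (MonoidHom.inl (Multiplicative M) (Multiplicative M)) u₀.coeff
          ((1 : Multiplicative M), (1 : Multiplicative M)) = u₀.coeff 1 :=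
        Finsupp.mapDomain_apply (f := MonoidHom.inl (Multiplicative M) (Multiplicative M))
          (fun a b hab => congrArg Prod.fst hab) _ 1
      have e2 : Finsupp.mapDomain (MonoidHom.inr (Multiplicative M) (Multiplicative M)) u₀.coeff
          ((1 : Multiplicative M), (1 : Multiplicative M)) = u₀.coeff 1 :=
        Finsupp.mapDomain_apply (f := MonoidHom.inr (Multiplicative M) (Multiplicative M))
          (fun a b hab => congrArg Prod.snd hab) _ 1
      rw [e1, e2] at hc
      simpa using left_eq_add.mp hc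
    · rw [Finsupp.mapDomain_of_notMem_range _ _ (by
          rintro ⟨a, ha⟩; exact hg (congrArg Prod.snd ha).symm),
        Finsupp.mapDomain_of_notMem_range _ _ (by
          rintro ⟨a, ha⟩; exact hg (congrArg Prod.fst ha).symm), add_zero] at hc
      simpa using hc
  rw [hev Y (𝟙 Y) t, hu, map_zero]

/-- The base change of the additive group is the additive group. -/
theorem exists_ga_iso {U : Scheme.{u}} (g : U ⟶ S) :
    ∃ (γ : Red.bc g (Red.Ga S) ⟶ Red.Ga U) (_ : IsMonHom γ), IsIso γ := by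
  let γ : Red.bc g (Red.Ga S) ⟶ Red.Ga U :=
    gaPt (X := Red.bc g (Red.Ga S))
      (Red.gaFn (X := (Over.map g).obj (Red.bc g (Red.Ga S))) (toBase g (𝟙 (Red.bc g (Red.Ga S)))))
  have key : ∀ (X : Over U) (x : X ⟶ Red.bc g (Red.Ga S)),
      (Red.gaFn (x ≫ γ) : Γ(X.left, ⊤)) = Red.gaFn (toBase g x) := by
    intro X x
    rw [gaFn_comp, gaFn_gaPt]
    conv_rhs => rw [show x = x ≫ 𝟙 _ from (Category.comp_id x).symm, toBase_comp, gaFn_comp]
    rfl
  let δ : (Over.map g).obj (Red.Ga U) ⟶ Red.Ga S :=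
    gaPt (X := (Over.map g).obj (Red.Ga U)) (Red.gaFn (X := Red.Ga U) (𝟙 (Red.Ga U)))
  refine ⟨γ, isMonHom_of_points γ fun X x y => gaFn_injective ?_, ?_⟩
  · rw [gaFn_mul, key, key, key, toBase_mul, gaFn_mul]
  · have h1 : ofBase g δ ≫ γ = 𝟙 _ := by
      apply gaFn_injective
      rw [key, toBase_ofBase, gaFn_gaPt]
    have h2 : Mono γ := ⟨fun {X} x y h => toBase_injective g (gaFn_injective (by
      have := congrArg (fun k => Red.gaFn k) h
      simpa only [key] using this))⟩
    exact ⟨ofBase g δ, by rw [← cancel_mono γ, Category.assoc, h1, Category.comp_id, Category.id_comp], h1⟩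

theorem torus_hom_Ga_eq_one {T : Over S} [GrpObj T] (hT : Red.IsTorus T) (j : T ⟶ Red.Ga S)
    [IsMonHom j] : j = 1 := by
  obtain ⟨S', f, hf, hs, -, hloc⟩ := hT
  choose U hU r hr using hloc
  have hcov : TopologicalSpace.IsOpenCover U := by
    rw [TopologicalSpace.IsOpenCover, eq_top_iff]
    exact fun x _ => TopologicalSpace.Opens.mem_iSup.mpr ⟨x, hU x⟩
  have hchart : ∀ v, Kills ((U v).ι ≫ f) j := by
    intro v
    rw [← pullback_map_eq_one_iff]
    obtain ⟨e⟩ := hr v
    obtain ⟨γ, hγm, hγi⟩ := exists_ga_iso ((U v).ι ≫ f)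
    let e' : Red.bc ((U v).ι ≫ f) T ≅ Red.DS (U v : Scheme.{u}) (Fin (r v) → ℤ) :=
      (Grp.forget _).mapIso e
    have : IsMonHom e'.inv := e.inv.hom.isMonHom_hom
    have h0 := hom_DS_Ga_eq_one (e'.inv ≫ (Over.pullback ((U v).ι ≫ f)).map j ≫ γ)
    rw [← cancel_mono γ, MonObj.one_comp γ, ← cancel_epi e'.inv, h0, MonObj.comp_one]
  apply Over.OverMorphism.ext
  have : Surjective (pullback.fst T.hom f) := inferInstance
  have : Epi (pullback.fst T.hom f) := Flat.epi_of_flat_of_surjective _
  rw [← cancel_epi (pullback.fst T.hom f)]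
  refine Scheme.Cover.hom_ext ((S'.openCoverOfIsOpenCover U hcov).pullback₁ (pullback.snd T.hom f))
    _ _ fun (v : S') => ?_
  change pullback.fst (pullback.snd T.hom f) (U v).ι ≫ pullback.fst T.hom f ≫ j.left =
    pullback.fst (pullback.snd T.hom f) (U v).ι ≫ pullback.fst T.hom f ≫ _
  let Z : Over S := Over.mk ((pullback.fst (pullback.snd T.hom f) (U v).ι ≫ pullback.fst T.hom f) ≫ T.hom)
  let t : Z ⟶ T := Over.homMk (pullback.fst (pullback.snd T.hom f) (U v).ι ≫ pullback.fst T.hom f) rfl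
  have h := hchart v Z (pullback.snd _ _) (by
    show pullback.snd (pullback.snd T.hom f) (U v).ι ≫ (U v).ι ≫ f =
      (pullback.fst (pullback.snd T.hom f) (U v).ι ≫ pullback.fst T.hom f) ≫ T.hom
    rw [← pullback.condition_assoc, Category.assoc, pullback.condition]) t
  rw [← Category.assoc, ← Category.assoc]
  exact congrArg CommaMorphism.left (h.trans (MonObj.comp_one t).symm)

theorem hasNoSubtorus_bc_Ga {K : Type u} [Field K] (g : Spec (CommRingCat.of K) ⟶ S) :
    Red.HasNoSubtorus K (Red.bc g (Red.Ga S)) := by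
  intro T _ j _ _ hT
  obtain ⟨γ, hγm, hγi⟩ := exists_ga_iso g
  have h := torus_hom_Ga_eq_one hT (j ≫ γ)
  have h1 : j = 1 := by rw [← cancel_mono γ, MonObj.one_comp γ, h]
  have hid : 𝟙 T = 1 := by
    rw [← cancel_mono j, MonObj.one_comp j, Category.id_comp, h1]
  refine ⟨η[T].left, ?_, Over.w η[T]⟩
  have := congrArg CommaMorphism.left hid
  rw [Hom.one_def] at this
  exact this.symm

theorem polyGa_base_facts (K : Type u) [Field K] :
    ∀ U : Over (Spec (CommRingCat.of K)), (U ≅ Red.Ga (Spec (CommRingCat.of K))) →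
      Smooth U.hom ∧ ConnectedSpace U.left := by
  intro U e
  let S₀ := Spec (CommRingCat.of K)
  have : IsAffine (𝟙_ (Over S₀)).left := inferInstanceAs (IsAffine (Spec (CommRingCat.of K)))
  let Y : Over S₀ := 𝟙_ (Over S₀)
  let E : polyGa Y ≅ U := gaIso Y ≪≫ (λ_ (Red.Ga S₀)) ≪≫ e.symm
  have : IsIso E.inv.left := inferInstanceAs (IsIso ((Over.forget _).map E.inv))
  let σ : Γ(Y.left, ⊤) ≃+* K := (Scheme.ΓSpecIso (CommRingCat.of K)).commRingCatIsoToRingEquiv
  constructor
  · rw [← Over.w E.inv]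
    have h2 : Smooth (Spec.map (CommRingCat.ofHom (Polynomial.C : Gam Y →+* Polynomial (Gam Y)))) := by
      rw [HasRingHomProperty.Spec_iff (P := @Smooth)]
      show (algebraMap (Gam Y) (Polynomial (Gam Y))).Smooth
      rw [RingHom.smooth_algebraMap]
      have : Algebra.FormallySmooth (Gam Y) (Polynomial (Gam Y)) :=
        Algebra.FormallySmooth.of_equiv (MvPolynomial.uniqueAlgEquiv (Gam Y) PUnit.{u + 1})
      exact { }
    have h3 : Smooth (polyGa Y).hom := by
      show Smooth ((Spec.map (CommRingCat.ofHom (Polynomial.C : Gam Y →+* Polynomial (Gam Y))) ≫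
        Y.left.isoSpec.inv) ≫ Y.hom)
      have : IsIso Y.hom := inferInstanceAs (IsIso (𝟙 S₀))
      infer_instance
    infer_instance
  · have : IsDomain (Gam Y) := σ.toMulEquiv.isDomain
    have : ConnectedSpace (polyGa Y).left :=
      inferInstanceAs (ConnectedSpace (PrimeSpectrum (Polynomial (Gam Y))))
    let eh : (polyGa Y).left ≃ₜ U.left := Scheme.homeoOfIso ((Over.forget _).mapIso E)
    exact eh.surjective.connectedSpace eh.continuous

theorem not_isTrivialGrp_Ga (K : Type u) [Field K] (U : Over (Spec (CommRingCat.of K)))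
    (e : U ≅ Red.Ga (Spec (CommRingCat.of K))) : ¬ Red.IsTrivialGrp U := by
  intro h
  have : IsIso U.hom := h
  have : IsIso e.inv.left := inferInstanceAs (IsIso ((Over.forget _).map e.inv))
  have : IsIso (Red.Ga (Spec (CommRingCat.of K))).hom := by rw [← Over.w e.inv]; infer_instance
  let W : Over (Spec (CommRingCat.of K)) := Over.mk (𝟙 _)
  have hsub : (gaPt (X := W) 1 : W ⟶ Red.Ga (Spec (CommRingCat.of K))) = gaPt 0 := by
    apply Over.OverMorphism.ext
    rw [← cancel_mono (Red.Ga (Spec (CommRingCat.of K))).hom, Over.w, Over.w]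
  have h1 := congrArg (fun k => Red.gaFn k) hsub
  simp only [gaFn_gaPt] at h1
  have : Nontrivial Γ(W.left, ⊤) :=
    (Scheme.ΓSpecIso (CommRingCat.of K)).commRingCatIsoToRingEquiv.nontrivial
  exact one_ne_zero h1

end Groth.Agent.RedPts82
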