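import Groth.Agent.RedPts82.Bridge
import Mathlib.AlgebraicGeometry.PullbackCarrier
import Mathlib.RingTheory.AdjoinRoot
import Mathlib.RingTheory.RingHom.FaithfullyFlat

/-!
Every base has a faithfully flat extension on which some element and one minus it are units.
-/

universe u

open CategoryTheory MonoidalCategory CartesianMonoidalCategory MonObj GrpObj AlgebraicGeometry
open CategoryTheory.Limits Polynomial

namespace Groth.Agent.RedPts82

variable {S : Scheme.{u}}

theorem exists_split_cover (X : Over S) :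
    ∃ (Y : Over S) (g : Y ⟶ X), Flat g.left ∧ Surjective g.left ∧
      ∃ t : Γ(Y.left, ⊤), t * (1 - t) = 1 := by
  let p : ZU.{u}[X] := Polynomial.X ^ 2 + Polynomial.C (-1) * Polynomial.X + Polynomial.C 1
  have hp : p.natDegree = 2 := by unfold p; compute_degree!
  have hm : p.Monic := by
    rw [Monic, Polynomial.leadingCoeff, hp]; simp [p, coeff_one]
  have := hm.free_adjoinRoot
  have : IsDomain ZU.{u} := (ULift.ringEquiv (R := ℤ)).toMulEquiv.isDomain
  have : Nontrivial (AdjoinRoot p) :=
    AdjoinRoot.nontrivial p (by rw [degree_eq_natDegree hm.ne_zero, hp]; decide)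
  have hff : (algebraMap ZU.{u} (AdjoinRoot p)).FaithfullyFlat :=
    RingHom.faithfullyFlat_algebraMap_iff.mpr inferInstance
  let q : Spec (CommRingCat.of (AdjoinRoot p)) ⟶ Spec (CommRingCat.of ZU.{u}) :=
    Spec.map (CommRingCat.ofHom (algebraMap _ _))
  obtain ⟨hflat, hsurj⟩ := (flat_and_surjective_SpecMap_iff
    (CommRingCat.ofHom (algebraMap ZU.{u} (AdjoinRoot p)))).mpr hff
  have : Flat q := hflat
  have : Surjective q := hsurj
  let e := IsTerminal.from specULiftZIsTerminal X.left
  refine ⟨Over.mk (pullback.fst e q ≫ X.hom), Over.homMk (pullback.fst e q),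
    ?_, ?_, ?_⟩
  · show Flat (pullback.fst e q)
    infer_instance
  · show Surjective (pullback.fst e q)
    infer_instance
  let φ : AdjoinRoot p →+* Γ(pullback e q, ⊤) :=
    (pullback.snd e q).appTop.hom.comp (Scheme.ΓSpecIso (CommRingCat.of (AdjoinRoot p))).inv.hom
  refine ⟨φ (AdjoinRoot.root p), ?_⟩
  have h := AdjoinRoot.eval₂_root p
  simp [p] at h
  have h' := congrArg φ h
  simp at h'
  show φ (AdjoinRoot.root p) * (1 - φ (AdjoinRoot.root p)) = 1
  linear_combination -h'

theorem epi_of_flat_surjective_left {X Y : Over S} (g : Y ⟶ X) [Flat g.left] [Surjective g.left] :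
    Epi g := by
  have : Epi g.left := Flat.epi_of_flat_of_surjective _
  exact (Over.forget S).epi_of_epi_map (f := g) this

variable {G T : Over S} [GrpObj G] [GrpObj T] {i : T ⟶ G} {α : T ⟶ Red.Gm S}
  {pp pm : Red.Ga S ⟶ G} {av : Red.Gm S ⟶ T}

/-- The two forms of the Weyl element agree. -/
theorem RH.w_eq_w' (H : RH G T i α pp pm av) {X : Over S} (u : Γ(X.left, ⊤)ˣ) :
    (H.data X).w u = (H.data X).w' u := by
  obtain ⟨Y, g, hf, hs, t, ht⟩ := exists_split_cover X
  have := epi_of_flat_surjective_left g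
  let v : Γ(Y.left, ⊤)ˣ := Units.map g.left.appTop.hom.toMonoidHom u
  have hP : ∀ r, g ≫ (H.data X).P r = (H.data Y).P (g.left.appTop r) := fun r => by
    show g ≫ gaPt r ≫ pp = gaPt _ ≫ pp
    rw [← Category.assoc]
    congr 1
    exact gaFn_injective (by rw [gaFn_comp, gaFn_gaPt, gaFn_gaPt])
  have hM : ∀ r, g ≫ (H.data X).M r = (H.data Y).M (g.left.appTop r) := fun r => by
    show g ≫ gaPt r ≫ pm = gaPt _ ≫ pm
    rw [← Category.assoc]
    congr 1
    exact gaFn_injective (by rw [gaFn_comp, gaFn_gaPt, gaFn_gaPt])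
  rw [← cancel_epi g]
  simp only [R1.w, R1.w', MonObj.comp_mul, hP, hM, map_neg]
  exact (H.data Y).w_eq_w'_of_split v ⟨t, 1 - t, ht, by rw [mul_comm]; exact ht⟩
    ⟨1 - t, t, by rw [mul_comm]; exact ht, ht⟩ rfl

end Groth.Agent.RedPts82
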