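import Groth.Agent.RedPts82.Weights
import Groth.Agent.RedPts82.SplitCover
import Groth.Agent.RedPts82.GaNoTorus
import Mathlib.AlgebraicGeometry.Morphisms.Flat

/-!
Tools for the commutation formula in rank one: covers avoiding the roots of a polynomial, a
truncated infinitesimal point, and constancy of morphisms from the line to a torus.
-/

universe u

open CategoryTheory MonoidalCategory CartesianMonoidalCategory MonObj GrpObj AlgebraicGeometry
open CategoryTheory.Limits

namespace Groth.Agent.RedPts82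

variable {S : Scheme.{u}}

/-- A point of the scheme lifts to a point with values in an algebraically closed field. -/
theorem exists_field_point {X : Over S} (p : X.left) :
    ∃ (K : Type u) (_ : Field K) (_ : IsAlgClosed K) (W : Over S) (_ : IsAffine W.left)
      (_ : K ≃+* Γ(W.left, ⊤)) (x : W ⟶ X) (q : W.left), x.left q = p := by
  let K := AlgebraicClosure (X.left.residueField p)
  let l : Spec (CommRingCat.of K) ⟶ X.left :=
    Spec.map (CommRingCat.ofHom (algebraMap (X.left.residueField p) K)) ≫ X.left.fromSpecResidueField p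
  exact ⟨K, inferInstance, inferInstance, Over.mk (l ≫ X.hom),
    inferInstanceAs (IsAffine (Spec (CommRingCat.of K))),
    (Scheme.ΓSpecIso (CommRingCat.of K)).commRingCatIsoToRingEquiv.symm, Over.homMk l rfl,
    (IsLocalRing.closedPoint K : Spec (CommRingCat.of K)), Scheme.fromSpecResidueField_apply p _⟩

theorem mem_basicOpen_of_isUnit_appTop {X W : Over S} (x : W ⟶ X) (r : Γ(X.left, ⊤))
    (h : IsUnit (x.left.appTop r)) (q : W.left) : x.left q ∈ X.left.basicOpen r := by
  show q ∈ x.left ⁻¹ᵁ X.left.basicOpen r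
  rw [Scheme.preimage_basicOpen_top, Scheme.basicOpen_of_isUnit _ h]
  trivial

theorem isUnit_of_basicOpen_eq_top {X : Scheme.{u}} (r : Γ(X, ⊤)) (h : X.basicOpen r = ⊤) :
    IsUnit r := by
  refine RingedSpace.isUnit_of_isUnit_germ X.toRingedSpace ⊤ r fun x hx => ?_
  have : x ∈ X.basicOpen r := by rw [h]; trivial
  exact (Scheme.mem_basicOpen_top X r x).mp this

/-- A function is a unit if its values at field-valued points are nonzero. -/
theorem isUnit_of_field_points {X : Over S} (r : Γ(X.left, ⊤))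
    (h : ∀ (K : Type u) [Field K] [IsAlgClosed K] (W : Over S) [IsAffine W.left]
      (_ : K ≃+* Γ(W.left, ⊤)) (x : W ⟶ X), x.left.appTop r ≠ 0) : IsUnit r := by
  refine isUnit_of_basicOpen_eq_top r (eq_top_iff.mpr fun p _ => ?_)
  obtain ⟨K, _, _, W, _, e, x, q, rfl⟩ := exists_field_point p
  exact mem_basicOpen_of_isUnit_appTop x r
    ((isUnit_or_eq_zero_of_field e _).resolve_right (h K W e x)) q
where
  isUnit_or_eq_zero_of_field {K : Type u} [Field K] {R : Type u} [CommRing R] (e : K ≃+* R) (r : R) :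
      IsUnit r ∨ r = 0 := by
    by_cases h : e.symm r = 0
    · exact Or.inr (by rw [← e.apply_symm_apply r, h, map_zero])
    · exact Or.inl (by rw [← e.apply_symm_apply r]; exact (Ne.isUnit h).map e)

theorem flat_gaProj (Y : Over S) [IsAffine Y.left] : Flat (gaProj Y).left := by
  have : Flat (Spec.map (CommRingCat.ofHom (Polynomial.C : Gam Y →+* Polynomial (Gam Y)))) := by
    rw [HasRingHomProperty.Spec_iff (P := @Flat)]
    show RingHom.Flat (algebraMap (Gam Y) (Polynomial (Gam Y)))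
    rw [RingHom.flat_algebraMap_iff]
    infer_instance
  exact inferInstanceAs (Flat (Spec.map _ ≫ Y.left.isoSpec.inv))

/-- A faithfully flat affine extension with a value at which a fibrewise nonzero polynomial is a
unit. -/
theorem exists_avoid (Y : Over S) [IsAffine Y.left] (g : Polynomial (Gam Y))
    (hg : ∀ (K : Type u) [Field K] [IsAlgClosed K] (W : Over S) [IsAffine W.left]
      (_ : K ≃+* Γ(W.left, ⊤)) (y : W ⟶ Y), ∃ b, IsUnit (g.eval₂ y.left.appTop.hom b)) :
    ∃ (Z : Over S) (k : Z ⟶ Y) (r : Γ(Z.left, ⊤)), IsAffine Z.left ∧ Flat k.left ∧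
      Surjective k.left ∧ IsUnit (g.eval₂ k.left.appTop.hom r) := by
  let f := gaCoordHom Y g
  let U := (polyGa Y).left.basicOpen f
  let Z : Over S := Over.mk (U.ι ≫ (polyGa Y).hom)
  let j : Z ⟶ polyGa Y := Over.homMk U.ι rfl
  have hU : IsAffine (U : Scheme.{u}) := (isAffineOpen_top (polyGa Y).left).basicOpen f
  refine ⟨Z, j ≫ gaProj Y, Red.gaFn (j ≫ gaTu Y), hU, ?_, ⟨fun p => ?_⟩, ?_⟩
  · have := flat_gaProj Y
    exact inferInstanceAs (Flat (U.ι ≫ (gaProj Y).left))
  · obtain ⟨K, _, _, W, _, e, y, q, rfl⟩ := exists_field_point p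
    obtain ⟨b, hb⟩ := hg K W e y
    obtain ⟨w, hw₁, -, hw₃⟩ := exists_gaLift y (gaPt b)
    have hmem : w.left q ∈ U := mem_basicOpen_of_isUnit_appTop w f (by
      rw [hw₃]
      show IsUnit (g.eval₂ _ (Red.gaFn (gaPt b)))
      rw [gaFn_gaPt]
      exact hb) q
    refine ⟨⟨w.left q, hmem⟩, ?_⟩
    show (gaProj Y).left (w.left q) = y.left q
    rw [← hw₁]
    rfl
  · obtain ⟨w, hw₁, hw₂, hw₃⟩ := exists_gaLift (j ≫ gaProj Y) (j ≫ gaTu Y)
    have hwj : w = j := polyGa_hom_ext hw₁ hw₂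
    show IsUnit (evalGa (j ≫ gaProj Y) (j ≫ gaTu Y) g)
    rw [← hw₃, hwj]
    refine isUnit_of_basicOpen_eq_top _ ?_
    rw [← Scheme.preimage_basicOpen_top]
    exact U.ι_preimage_self

/-- An affine extension by an infinitesimal of order three. -/
theorem exists_trunc (Y : Over S) [IsAffine Y.left] :
    ∃ (N : Over S) (k : N ⟶ Y) (_ : IsAffine N.left) (ε : Γ(N.left, ⊤)), ε ^ 3 = 0 ∧
      (∀ r, ∃ a b c, r = k.left.appTop a + k.left.appTop b * ε + k.left.appTop c * ε ^ 2) ∧
      (∀ a b c, k.left.appTop a + k.left.appTop b * ε + k.left.appTop c * ε ^ 2 = 0 →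
        a = 0 ∧ b = 0 ∧ c = 0) ∧
      (∀ (Z : Over S) (z : Z ⟶ Y) (d : Γ(Z.left, ⊤)), d ^ 3 = 0 →
        ∃ l : Z ⟶ N, l ≫ k = z ∧ l.left.appTop ε = d) := by
  classical
  let m : Polynomial (Gam Y) := Polynomial.X ^ 3
  let A := CommRingCat.of (AdjoinRoot m)
  let π : Spec A ⟶ Y.left := Spec.map (CommRingCat.ofHom (AdjoinRoot.of m)) ≫ Y.left.isoSpec.inv
  let N : Over S := Over.mk (π ≫ Y.hom)
  let k : N ⟶ Y := Over.homMk π rfl
  let σ : AdjoinRoot m →+* Γ(N.left, ⊤) := (Scheme.ΓSpecIso A).inv.hom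
  have hσ : Function.Bijective σ :=
    (Scheme.ΓSpecIso A).commRingCatIsoToRingEquiv.symm.bijective
  have hk : ∀ a, k.left.appTop a = σ (AdjoinRoot.of m a) := fun a => by
    show (Spec.map (CommRingCat.ofHom (AdjoinRoot.of m)) ≫ Y.left.isoSpec.inv).appTop a = _
    rw [Scheme.Hom.comp_appTop, isoSpec_inv_appTop, ← Scheme.ΓSpecIso_inv_naturality]
    rfl
  have hmk : ∀ a b c, k.left.appTop a + k.left.appTop b * σ (AdjoinRoot.root m) +
      k.left.appTop c * σ (AdjoinRoot.root m) ^ 2 =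
      σ (AdjoinRoot.mk m (Polynomial.C a + Polynomial.C b * Polynomial.X +
        Polynomial.C c * Polynomial.X ^ 2)) := fun a b c => by
    simp only [hk, map_add, map_mul, map_pow, AdjoinRoot.mk_C, AdjoinRoot.mk_X]
  refine ⟨N, k, inferInstanceAs (IsAffine (Spec A)), σ (AdjoinRoot.root m), ?_, ?_, ?_, ?_⟩
  · rw [← map_pow, ← AdjoinRoot.mk_X, ← map_pow, AdjoinRoot.mk_self, map_zero]
  · intro r
    obtain ⟨r, rfl⟩ := hσ.2 r
    obtain ⟨p, rfl⟩ := AdjoinRoot.mk_surjective r
    refine ⟨p.coeff 0, p.coeff 1, p.coeff 2, ?_⟩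
    rw [hmk]
    congr 1
    rw [AdjoinRoot.mk_eq_mk, Polynomial.X_pow_dvd_iff]
    intro d hd
    interval_cases d <;> simp
  · intro a b c h
    rw [hmk, ← map_zero σ] at h
    have h' := hσ.1 h
    rw [AdjoinRoot.mk_eq_zero, Polynomial.X_pow_dvd_iff] at h'
    refine ⟨?_, ?_, ?_⟩
    · simpa using h' 0 (by norm_num)
    · simpa using h' 1 (by norm_num)
    · simpa using h' 2 (by norm_num)
  · intro Z z d hd
    have hroot : m.eval₂ z.left.appTop.hom d = 0 := by simp [m, hd]
    let ψ : AdjoinRoot m →+* Γ(Z.left, ⊤) := AdjoinRoot.lift z.left.appTop.hom d hroot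
    let l : Z.left ⟶ N.left := Z.left.toSpecΓ ≫ Spec.map (CommRingCat.ofHom ψ)
    have hl : ∀ r, l.appTop (σ r) = ψ r := by
      intro r
      show (Z.left.toSpecΓ ≫ Spec.map (CommRingCat.ofHom ψ)).appTop (σ r) = _
      have e : (Scheme.ΓSpecIso A).inv ≫
          (Z.left.toSpecΓ ≫ Spec.map (CommRingCat.ofHom ψ)).appTop = CommRingCat.ofHom ψ := by
        rw [Scheme.Hom.comp_appTop, ← Scheme.ΓSpecIso_inv_naturality_assoc, Scheme.toSpecΓ_appTop,
          Iso.inv_hom_id]
        exact Category.comp_id _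
      exact congr($e r)
    have hz : l ≫ k.left = z.left := by
      apply ext_of_isAffine
      refine CommRingCat.hom_ext (RingHom.ext fun a => ?_)
      show l.appTop (k.left.appTop a) = _
      rw [hk, hl]
      exact AdjoinRoot.lift_of hroot
    refine ⟨Over.homMk l (by show l ≫ k.left ≫ Y.hom = Z.hom; rw [← Category.assoc, hz]; exact Over.w z),
      Over.OverMorphism.ext hz, ?_⟩
    exact (hl _).trans (AdjoinRoot.lift_root hroot)

/-- A morphism from the line over an algebraically closed field to a torus is constant. -/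
theorem torus_const {T : Over S} [GrpObj T] (hT : Red.IsTorus T) {K : Type u} [Field K] (W : Over S)
    [IsAffine W.left] (e : K ≃+* Γ(W.left, ⊤)) (τ : polyGa W ⟶ T) (o : W ⟶ polyGa W)
    (ho : o ≫ gaProj W = 𝟙 W) : τ = gaProj W ≫ o ≫ τ := by
  classical
  have haff := isTorus_isAffineHom hT
  obtain ⟨S', f, -, hs, -, hloc⟩ := hT
  obtain ⟨q⟩ : Nonempty W.left := by
    by_contra h
    rw [not_nonempty_iff] at h
    have : Nontrivial Γ(W.left, ⊤) := e.symm.nontrivial
    exact not_subsingleton Γ(W.left, ⊤) inferInstance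
  obtain ⟨s', hs'⟩ := hs.1 (W.hom q)
  obtain ⟨U, hU, r, ⟨iso⟩⟩ := hloc s'
  let g : (U : Scheme.{u}) ⟶ S := U.ι ≫ f
  obtain ⟨P, -, -⟩ := Scheme.Pullback.exists_preimage_pullback (f := W.hom) (g := g) q ⟨s', hU⟩
    hs'.symm
  obtain ⟨L, _, _, W₂, _, e₂, x, -, -⟩ :=
    exists_field_point (X := Over.mk (pullback.fst W.hom g ≫ W.hom)) P
  let k : W₂ ⟶ W := x ≫ Over.homMk (pullback.fst W.hom g) rfl
  let b : W₂.left ⟶ (U : Scheme.{u}) := x.left ≫ pullback.snd W.hom g
  have hb : b ≫ g = W₂.hom := by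
    rw [← Over.w x]
    show (x.left ≫ pullback.snd W.hom g) ≫ g = x.left ≫ pullback.fst W.hom g ≫ W.hom
    exact (Category.assoc _ _ _).trans (congrArg (x.left ≫ ·) pullback.condition.symm)
  obtain ⟨j, hj₁, hj₂, hj₃⟩ := exists_gaLift (gaProj W₂ ≫ k) (gaTu W₂)
  obtain ⟨o₂, ho₁, ho₂, ho₃⟩ := exists_gaLift (𝟙 W₂) (k ≫ o ≫ gaTu W)
  have hjo : o₂ ≫ j = k ≫ o := by
    refine polyGa_hom_ext ?_ ?_
    · rw [Category.assoc, hj₁, ← Category.assoc, ho₁, Category.id_comp, Category.assoc, ho,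
        Category.comp_id]
    · rw [Category.assoc, hj₂, ho₂]; simp only [Category.assoc]
  -- the group of units of the line is constant
  have hconst : ∀ u : Γ((polyGa W₂).left, ⊤), IsUnit u →
      (gaProj W₂ ≫ o₂).left.appTop u = u := by
    intro u hu
    have : IsDomain (Gam W₂) := e₂.symm.toMulEquiv.isDomain
    obtain ⟨p, rfl⟩ := (gaCoordHom_bijective W₂).2 u
    have hp : IsUnit p :=
      (isUnit_map_iff (RingEquiv.ofBijective _ (gaCoordHom_bijective W₂)) p).mp hu
    obtain ⟨c, -, rfl⟩ := Polynomial.isUnit_iff.mp hp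
    rw [Over.comp_left, Scheme.Hom.comp_appTop]
    show (gaProj W₂).left.appTop (o₂.left.appTop (gaCoordHom W₂ (Polynomial.C c))) = _
    rw [ho₃, evalGa_C, gaProj_appTop]
    simp
  let e' : Red.bc g T ≅ Red.DS (U : Scheme.{u}) (Fin r → ℤ) := (Grp.forget _).mapIso iso
  have key : ∀ t : polyGa W₂ ⟶ T, gaProj W₂ ≫ o₂ ≫ t = t := by
    intro t
    let V : Over (U : Scheme.{u}) := Over.mk ((gaProj W₂).left ≫ b)
    have hV : ((gaProj W₂).left ≫ b) ≫ g = (polyGa W₂).hom := by
      rw [Category.assoc, hb]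
      exact Over.w (gaProj W₂)
    let ι' : (Over.map g).obj V ⟶ polyGa W₂ := Over.homMk (𝟙 (polyGa W₂).left) (by
      show 𝟙 _ ≫ (polyGa W₂).hom = ((gaProj W₂).left ≫ b) ≫ g
      rw [Category.id_comp, hV])
    let ρ : V ⟶ V := Over.homMk (gaProj W₂ ≫ o₂).left (by
      show (gaProj W₂ ≫ o₂).left ≫ (gaProj W₂).left ≫ b = (gaProj W₂).left ≫ b
      rw [← Category.assoc, ← Over.comp_left, Category.assoc, ho₁, Category.comp_id])
    let tU : V ⟶ Red.bc g T := ofBase g (ι' ≫ t)
    have h1 : ρ ≫ tU ≫ e'.hom = tU ≫ e'.hom := by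
      refine dsFn_injective fun m => ?_
      rw [dsFn_comp]
      exact hconst _ (dsFn_isUnit (tU ≫ e'.hom) m)
    rw [← Category.assoc, cancel_mono] at h1
    have h2 := congrArg (toBase g) h1
    rw [toBase_comp, toBase_ofBase] at h2
    apply Over.OverMorphism.ext
    have h3 := congrArg CommaMorphism.left h2
    calc (gaProj W₂).left ≫ o₂.left ≫ t.left
        = ((gaProj W₂).left ≫ o₂.left) ≫ 𝟙 (polyGa W₂).left ≫ t.left := by
          rw [Category.id_comp, Category.assoc]
      _ = 𝟙 (polyGa W₂).left ≫ t.left := h3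
      _ = t.left := Category.id_comp _
  refine eq_of_appTop_injective haff (gaProj W) j ?_ ?_
  · refine (injective_iff_map_eq_zero j.left.appTop.hom).mpr fun u hu => ?_
    obtain ⟨p, rfl⟩ := (gaCoordHom_bijective W).2 u
    change j.left.appTop (gaCoordHom W p) = 0 at hu
    have hev : evalGa (gaProj W₂ ≫ k) (gaTu W₂) p = gaCoordHom W₂ (p.map k.left.appTop.hom) := by
      rw [← Polynomial.coe_mapRingHom]
      show p.eval₂ _ _ = _
      rw [gaFn_gaTu, Polynomial.coe_mapRingHom, Polynomial.map, Polynomial.hom_eval₂]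
      congr 1
      exact RingHom.ext fun a => gaProj_appTop W₂ (k.left.appTop a)
    rw [hj₃, hev, map_eq_zero_iff _ (gaCoordHom_bijective W₂).1] at hu
    have hinj : Function.Injective k.left.appTop.hom := by
      have : IsField Γ(W.left, ⊤) := e.symm.toMulEquiv.isField (Field.toIsField K)
      let := this.toField
      have : Nontrivial Γ(W₂.left, ⊤) := e₂.symm.nontrivial
      exact k.left.appTop.hom.injective
    rw [Polynomial.map_eq_zero_iff hinj] at hu
    rw [hu, map_zero]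
  · calc j ≫ τ = gaProj W₂ ≫ o₂ ≫ j ≫ τ := (key _).symm
      _ = _ := by rw [← Category.assoc o₂, hjo, ← Category.assoc j, hj₁]; simp only [Category.assoc]

end Groth.Agent.RedPts82
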