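import Groth.Agent.RedPts82.CommTools

/-!
The decomposition of a product of points of the two root groups along the big cell, and its
behaviour under scaling and addition.
-/

universe u

open CategoryTheory MonoidalCategory CartesianMonoidalCategory MonObj GrpObj AlgebraicGeometry
open CategoryTheory.Limits

namespace Groth.Agent.RedPts82

variable {S : Scheme.{u}} {G T : Over S} [GrpObj G] [GrpObj T]

/-- `P x · M y = M y' · t · P x'`. -/
def Rel (i : T ⟶ G) (pp pm : Red.Ga S ⟶ G) {X : Over S} (x y y' : Γ(X.left, ⊤)) (t : X ⟶ T)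
    (x' : Γ(X.left, ⊤)) : Prop :=
  (gaPt x ≫ pp) * (gaPt y ≫ pm) = (gaPt y' ≫ pm) * (t ≫ i) * (gaPt x' ≫ pp)

/-- `P x · M y` lies in the cell. -/
def IC (i : T ⟶ G) (pp pm : Red.Ga S ⟶ G) {X : Over S} (x y : Γ(X.left, ⊤)) : Prop :=
  InCell i pp pm ((gaPt x ≫ pp) * (gaPt y ≫ pm))

/-- The inverse of the value of the character. -/
noncomputable def hv (α : T ⟶ Red.Gm S) {X : Over S} (t : X ⟶ T) : Γ(X.left, ⊤)ˣ :=
  (gmU (t ≫ α))⁻¹

omit [GrpObj T] in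
theorem comp_gaPt {X X' : Over S} (k : X' ⟶ X) (r : Γ(X.left, ⊤)) :
    k ≫ gaPt r = gaPt (S := S) (k.left.appTop r) :=
  gaFn_injective (by rw [gaFn_comp, gaFn_gaPt, gaFn_gaPt])

theorem gaPt_zero {X : Over S} : gaPt (0 : Γ(X.left, ⊤)) = (1 : X ⟶ Red.Ga S) :=
  gaFn_injective (by rw [gaFn_gaPt, gaFn_one])

theorem gaPt_add {X : Over S} (a b : Γ(X.left, ⊤)) :
    gaPt (S := S) (a + b) = gaPt a * gaPt b :=
  gaFn_injective (by rw [gaFn_mul, gaFn_gaPt, gaFn_gaPt, gaFn_gaPt])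

theorem gaPt_injective {X : Over S} {a b : Γ(X.left, ⊤)} (h : gaPt (S := S) a = gaPt b) : a = b := by
  simpa [gaFn_gaPt] using congrArg Red.gaFn h

theorem appTop_injective_of_cover {X X' : Over S} (k : X' ⟶ X) [Flat k.left] [Surjective k.left] :
    Function.Injective k.left.appTop := by
  intro a b h
  have := epi_of_flat_surjective_left k
  refine gaPt_injective (S := S) ?_
  rw [← cancel_epi k, comp_gaPt, comp_gaPt, h]

variable {i : T ⟶ G} {α : T ⟶ Red.Gm S} {pp pm : Red.Ga S ⟶ G}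

omit [GrpObj T] in
theorem Rel.comp {X X' : Over S} {x y y' : Γ(X.left, ⊤)} {t : X ⟶ T} {x' : Γ(X.left, ⊤)}
    (h : Rel i pp pm x y y' t x') (k : X' ⟶ X) :
    Rel i pp pm (k.left.appTop x) (k.left.appTop y) (k.left.appTop y') (k ≫ t) (k.left.appTop x') := by
  have := congrArg (k ≫ ·) h
  simp only [MonObj.comp_mul, ← Category.assoc, comp_gaPt] at this
  exact this

omit [GrpObj T] in
theorem Rel.of_cover {X X' : Over S} {x y y' : Γ(X.left, ⊤)} {t : X ⟶ T} {x' : Γ(X.left, ⊤)}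
    (k : X' ⟶ X) [Epi k] (h : Rel i pp pm (k.left.appTop x) (k.left.appTop y) (k.left.appTop y')
      (k ≫ t) (k.left.appTop x')) : Rel i pp pm x y y' t x' := by
  refine (cancel_epi k).mp ?_
  simp only [MonObj.comp_mul, ← Category.assoc, comp_gaPt]
  exact h

omit [GrpObj T] in
theorem IC.comp {X X' : Over S} {x y : Γ(X.left, ⊤)} (h : IC i pp pm x y) (k : X' ⟶ X) :
    IC i pp pm (k.left.appTop x) (k.left.appTop y) := by
  have := InCell.comp h k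
  simp only [MonObj.comp_mul, ← Category.assoc, comp_gaPt] at this
  exact this

omit [GrpObj T] in
theorem IC.of_surjective {X X' : Over S} {x y : Γ(X.left, ⊤)} (k : X' ⟶ X)
    (hk : Surjective k.left) (h : IC i pp pm (k.left.appTop x) (k.left.appTop y)) :
    IC i pp pm x y := by
  refine InCell.of_surjective k hk ?_
  simp only [MonObj.comp_mul, ← Category.assoc, comp_gaPt]
  exact h

omit [GrpObj T] in
theorem IC.of_field_points {X : Over S} {x y : Γ(X.left, ⊤)}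
    (h : ∀ (K : Type u) [Field K] [IsAlgClosed K] (W : Over S) [IsAffine W.left]
      (_ : K ≃+* Γ(W.left, ⊤)) (k : W ⟶ X), IC i pp pm (k.left.appTop x) (k.left.appTop y)) :
    IC i pp pm x y := by
  refine InCell.of_field_points fun K _ _ W _ e k => ?_
  simp only [MonObj.comp_mul, ← Category.assoc, comp_gaPt]
  exact h K W e k

omit [GrpObj T] in
theorem Rel.ic {X : Over S} {x y y' : Γ(X.left, ⊤)} {t : X ⟶ T} {x' : Γ(X.left, ⊤)}
    (h : Rel i pp pm x y y' t x') : IC i pp pm x y := by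
  rw [IC, h]
  exact inCell_mk ..

omit [GrpObj T] in
theorem hv_comp {X X' : Over S} (k : X' ⟶ X) (t : X ⟶ T) :
    ((hv α (k ≫ t) : Γ(X'.left, ⊤)ˣ) : Γ(X'.left, ⊤)) =
      k.left.appTop ((hv α t : Γ(X.left, ⊤)ˣ) : Γ(X.left, ⊤)) := by
  have e : gmU ((k ≫ t) ≫ α) = Units.map k.left.appTop.hom.toMonoidHom (gmU (t ≫ α)) :=
    Units.ext (by rw [val_gmU, Category.assoc, gmFn_comp]; rfl)
  rw [hv, e, ← map_inv]
  rfl

variable (H : BC G T i α pp pm)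
include H

theorem BC.rel_exists {X : Over S} {x y : Γ(X.left, ⊤)} (h : IC i pp pm x y) :
    ∃ y' t x', Rel i pp pm x y y' t x' := by
  obtain ⟨a, t, b, e⟩ := H.exists_of_inCell h
  exact ⟨Red.gaFn a, t, Red.gaFn b, by rw [Rel, gaPt_gaFn, gaPt_gaFn]; exact e⟩

theorem BC.rel_inj {X : Over S} {x y a a' : Γ(X.left, ⊤)} {t t' : X ⟶ T} {b b' : Γ(X.left, ⊤)}
    (h : Rel i pp pm x y a t b) (h' : Rel i pp pm x y a' t' b') : a = a' ∧ t = t' ∧ b = b' := by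
  obtain ⟨e1, e2, e3⟩ := H.inj (h.symm.trans h')
  exact ⟨gaPt_injective e1, e2, gaPt_injective e3⟩

theorem BC.pp_add {X : Over S} (a b : Γ(X.left, ⊤)) :
    gaPt (S := S) (a + b) ≫ pp = (gaPt a ≫ pp) * (gaPt b ≫ pp) := by
  have := H.hp
  rw [gaPt_add, MonObj.mul_comp _ _ pp]

theorem BC.pm_add {X : Over S} (a b : Γ(X.left, ⊤)) :
    gaPt (S := S) (a + b) ≫ pm = (gaPt a ≫ pm) * (gaPt b ≫ pm) := by
  have := H.hm
  rw [gaPt_add, MonObj.mul_comp _ _ pm]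

theorem BC.rel_zero_left {X : Over S} (y : Γ(X.left, ⊤)) : Rel i pp pm 0 y y 1 0 := by
  have := H.hi
  have := H.hp
  rw [Rel, gaPt_zero, MonObj.one_comp pp, MonObj.one_comp i, _root_.one_mul, _root_.mul_one,
    _root_.mul_one]

theorem BC.rel_zero_right {X : Over S} (x : Γ(X.left, ⊤)) : Rel i pp pm x 0 0 1 x := by
  have := H.hi
  have := H.hm
  rw [Rel, gaPt_zero, MonObj.one_comp pm, MonObj.one_comp i, _root_.one_mul, _root_.mul_one,
    _root_.one_mul]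

theorem BC.conj_pp {X : Over S} (t : X ⟶ T) (r : Γ(X.left, ⊤)) :
    (t ≫ i) * (gaPt r ≫ pp) * (t ≫ i)⁻¹ = gaPt (Red.gmFn (t ≫ α) * r) ≫ pp := by
  obtain ⟨x', e, e'⟩ := H.hpp X t (gaPt r)
  rw [← e]
  congr 1
  exact gaFn_injective (by rw [e', gaFn_gaPt, gaFn_gaPt])

theorem BC.conj_pm {X : Over S} (t : X ⟶ T) (r : Γ(X.left, ⊤)) :
    (t ≫ i) * (gaPt r ≫ pm) * (t ≫ i)⁻¹ = gaPt ((hv α t : Γ(X.left, ⊤)) * r) ≫ pm := by
  obtain ⟨y', e, e'⟩ := H.hpm X t (gaPt r)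
  rw [← e]
  congr 1
  refine gaFn_injective ?_
  rw [gaFn_gaPt] at e' ⊢
  exact gaFn_of_mul (u := gmU (t ≫ α)) e'

theorem BC.pp_swap {X : Over S} (t : X ⟶ T) (r : Γ(X.left, ⊤)) :
    (gaPt r ≫ pp) * (t ≫ i) = (t ≫ i) * (gaPt ((hv α t : Γ(X.left, ⊤)) * r) ≫ pp) := by
  have h := H.conj_pp t ((hv α t : Γ(X.left, ⊤)) * r)
  rw [← _root_.mul_assoc (Red.gmFn (t ≫ α)), hv, ← val_gmU, Units.mul_inv, _root_.one_mul] at h
  rw [← h, hv]; group

theorem BC.pm_swap {X : Over S} (t : X ⟶ T) (r : Γ(X.left, ⊤)) :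
    (t ≫ i) * (gaPt r ≫ pm) = (gaPt ((hv α t : Γ(X.left, ⊤)) * r) ≫ pm) * (t ≫ i) := by
  rw [← H.conj_pm]; group

theorem BC.hv_mul {X : Over S} (t t' : X ⟶ T) : hv α (t * t') = hv α t * hv α t' := by
  have := H.hα
  have e : gmU ((t * t') ≫ α) = gmU (t ≫ α) * gmU (t' ≫ α) :=
    Units.ext (by rw [Units.val_mul, val_gmU, val_gmU, val_gmU, MonObj.mul_comp _ _ α, gmFn_mul])
  rw [hv, e, _root_.mul_inv]
  rfl

theorem BC.hv_one {X : Over S} : hv α (1 : X ⟶ T) = 1 := by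
  have := H.hα
  have e : gmU ((1 : X ⟶ T) ≫ α) = 1 :=
    Units.ext (by rw [val_gmU, MonObj.one_comp α, gmFn_one, Units.val_one])
  rw [hv, e, inv_one]

/-- Scaling. -/
theorem BC.rel_scale {X : Over S} {x y y' : Γ(X.left, ⊤)} {t : X ⟶ T} {x' : Γ(X.left, ⊤)}
    (h : Rel i pp pm x y y' t x') (z : Γ(X.left, ⊤)ˣ) :
    Rel i pp pm ((z : Γ(X.left, ⊤)) * x) (((z⁻¹ : Γ(X.left, ⊤)ˣ) : Γ(X.left, ⊤)) * y)
      (((z⁻¹ : Γ(X.left, ⊤)ˣ) : Γ(X.left, ⊤)) * y') t ((z : Γ(X.left, ⊤)) * x') := by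
  have := H.hα
  have := H.hi
  obtain ⟨X', k, s, hf, hs, hs'⟩ := exists_root H.hT α H.hne (gmPt (S := S) z)
  have := epi_of_flat_surjective_left k
  refine Rel.of_cover k ?_
  have hz : Red.gmFn (s ≫ α) = k.left.appTop (z : Γ(X.left, ⊤)) := by
    rw [hs', gmFn_comp, gmFn_gmPt]
  have hz' : (hv α s : Γ(X'.left, ⊤)) = k.left.appTop ((z⁻¹ : Γ(X.left, ⊤)ˣ) : Γ(X.left, ⊤)) := by
    have e : gmU (s ≫ α) = Units.map k.left.appTop.hom.toMonoidHom z :=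
      Units.ext (by rw [val_gmU, hz]; rfl)
    rw [hv, e, ← map_inv]
    rfl
  simp only [Rel, map_mul, ← hz, ← hz', ← H.conj_pp, ← H.conj_pm]
  have h' := h.comp k
  have hc : (s ≫ i) * ((k ≫ t) ≫ i) = ((k ≫ t) ≫ i) * (s ≫ i) := by
    rw [← MonObj.mul_comp s (k ≫ t) i, ← MonObj.mul_comp (k ≫ t) s i, isTorus_points_comm H.hT]
  calc _ = (s ≫ i) * ((gaPt (k.left.appTop x) ≫ pp) * (gaPt (k.left.appTop y) ≫ pm)) * (s ≫ i)⁻¹ := by
        group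
    _ = (s ≫ i) * ((gaPt (k.left.appTop y') ≫ pm) * ((k ≫ t) ≫ i) *
          (gaPt (k.left.appTop x') ≫ pp)) * (s ≫ i)⁻¹ := by rw [h']
    _ = (s ≫ i) * (gaPt (k.left.appTop y') ≫ pm) * (s ≫ i)⁻¹ * ((s ≫ i) * ((k ≫ t) ≫ i)) *
          ((gaPt (k.left.appTop x') ≫ pp) * (s ≫ i)⁻¹) := by group
    _ = _ := by rw [hc]; group

theorem BC.ic_scale {X : Over S} {x y : Γ(X.left, ⊤)} (h : IC i pp pm x y) (z : Γ(X.left, ⊤)ˣ) :
    IC i pp pm ((z : Γ(X.left, ⊤)) * x) (((z⁻¹ : Γ(X.left, ⊤)ˣ) : Γ(X.left, ⊤)) * y) := by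
  obtain ⟨y', t, x', h'⟩ := H.rel_exists h
  exact (H.rel_scale h' z).ic

/-- Scaling to second coordinate one. -/
theorem BC.ic_mul_iff {X : Over S} (x : Γ(X.left, ⊤)) (y : Γ(X.left, ⊤)ˣ) :
    IC i pp pm x (y : Γ(X.left, ⊤)) ↔ IC i pp pm (x * (y : Γ(X.left, ⊤))) 1 := by
  constructor <;> intro h
  · have h' := H.ic_scale h y
    rwa [Units.inv_mul, mul_comm (y : Γ(X.left, ⊤)) x] at h'
  · have h' := H.ic_scale h y⁻¹
    rwa [_root_.inv_inv, _root_.mul_one, mul_comm x, Units.inv_mul_cancel_left] at h'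

/-- The decomposition at a point with unit second coordinate from the one at second coordinate one. -/
theorem BC.rel_of_one {X : Over S} {x : Γ(X.left, ⊤)} (y : Γ(X.left, ⊤)ˣ) {a b : Γ(X.left, ⊤)}
    {t : X ⟶ T} (h : Rel i pp pm (x * (y : Γ(X.left, ⊤))) 1 a t b) :
    Rel i pp pm x (y : Γ(X.left, ⊤)) ((y : Γ(X.left, ⊤)) * a) t
      (((y⁻¹ : Γ(X.left, ⊤)ˣ) : Γ(X.left, ⊤)) * b) := by
  have h' := H.rel_scale h y⁻¹
  rwa [_root_.inv_inv, _root_.mul_one, mul_comm x, Units.inv_mul_cancel_left] at h'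

/-- Addition in the first coordinate. -/
theorem BC.rel_add_left {X : Over S} {x x₂ y y' : Γ(X.left, ⊤)} {t : X ⟶ T} {x' : Γ(X.left, ⊤)}
    (h : Rel i pp pm x y y' t x') {b : Γ(X.left, ⊤)} {s : X ⟶ T} {a : Γ(X.left, ⊤)}
    (h₂ : Rel i pp pm x₂ y' b s a) :
    Rel i pp pm (x + x₂) y b (s * t) ((hv α t : Γ(X.left, ⊤)) * a + x') := by
  have := H.hi
  rw [Rel, add_comm x, H.pp_add, H.pp_add, _root_.mul_assoc, h, ← _root_.mul_assoc,
    ← _root_.mul_assoc, h₂, _root_.mul_assoc _ (gaPt a ≫ pp) (t ≫ i), H.pp_swap,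
    MonObj.mul_comp s t i]
  group

/-- Addition in the second coordinate. -/
theorem BC.rel_add_right {X : Over S} {x y y₂ y' : Γ(X.left, ⊤)} {t : X ⟶ T} {x' : Γ(X.left, ⊤)}
    (h : Rel i pp pm x y y' t x') {b : Γ(X.left, ⊤)} {s : X ⟶ T} {a : Γ(X.left, ⊤)}
    (h₂ : Rel i pp pm x' y₂ b s a) :
    Rel i pp pm x (y + y₂) (y' + (hv α t : Γ(X.left, ⊤)) * b) (t * s) a := by
  have := H.hi
  rw [Rel, H.pm_add, H.pm_add, ← _root_.mul_assoc, h, _root_.mul_assoc _ (gaPt x' ≫ pp), h₂,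
    ← _root_.mul_assoc, ← _root_.mul_assoc, _root_.mul_assoc _ (t ≫ i) (gaPt b ≫ pm), H.pm_swap,
    MonObj.mul_comp t s i]
  group

theorem BC.inCell_left {X : Over S} {g : X ⟶ G} (hg : InCell i pp pm g) (r : Γ(X.left, ⊤))
    (t : X ⟶ T) : InCell i pp pm ((gaPt r ≫ pm) * (t ≫ i) * g) := by
  have := H.hi
  obtain ⟨y, s, x, rfl⟩ := H.exists_of_inCell hg
  rw [← gaPt_gaFn y, ← gaPt_gaFn x]
  have e : (gaPt r ≫ pm) * (t ≫ i) * ((gaPt (Red.gaFn y) ≫ pm) * (s ≫ i) * (gaPt (Red.gaFn x) ≫ pp)) =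
      (gaPt (r + (hv α t : Γ(X.left, ⊤)) * Red.gaFn y) ≫ pm) * ((t * s) ≫ i) *
        (gaPt (Red.gaFn x) ≫ pp) := by
    rw [← _root_.mul_assoc, ← _root_.mul_assoc, _root_.mul_assoc _ (t ≫ i) (gaPt _ ≫ pm), H.pm_swap,
      H.pm_add, MonObj.mul_comp t s i]
    group
  rw [e]
  exact inCell_mk ..

theorem BC.inCell_right {X : Over S} {g : X ⟶ G} (hg : InCell i pp pm g) (r : Γ(X.left, ⊤))
    (t : X ⟶ T) : InCell i pp pm (g * (t ≫ i) * (gaPt r ≫ pp)) := by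
  have := H.hi
  obtain ⟨y, s, x, rfl⟩ := H.exists_of_inCell hg
  rw [← gaPt_gaFn y, ← gaPt_gaFn x]
  have e : (gaPt (Red.gaFn y) ≫ pm) * (s ≫ i) * (gaPt (Red.gaFn x) ≫ pp) * (t ≫ i) * (gaPt r ≫ pp) =
      (gaPt (Red.gaFn y) ≫ pm) * ((s * t) ≫ i) *
        (gaPt ((hv α t : Γ(X.left, ⊤)) * Red.gaFn x + r) ≫ pp) := by
    rw [_root_.mul_assoc _ (gaPt _ ≫ pp) (t ≫ i), H.pp_swap, H.pp_add, MonObj.mul_comp s t i]
    group
  rw [e]
  exact inCell_mk ..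

theorem BC.ic_add_left {X : Over S} {x x₂ y y' : Γ(X.left, ⊤)} {t : X ⟶ T} {x' : Γ(X.left, ⊤)}
    (h : Rel i pp pm x y y' t x') : IC i pp pm (x + x₂) y ↔ IC i pp pm x₂ y' := by
  have := H.hi
  refine ⟨fun hic => ?_, fun hic => ?_⟩
  · have e := H.inCell_right hic (-((hv α t⁻¹ : Γ(X.left, ⊤)) * x')) t⁻¹
    have e' : (gaPt (x + x₂) ≫ pp) * (gaPt y ≫ pm) * (t⁻¹ ≫ i) *
        (gaPt (-((hv α t⁻¹ : Γ(X.left, ⊤)) * x')) ≫ pp) = (gaPt x₂ ≫ pp) * (gaPt y' ≫ pm) := by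
      rw [add_comm x, H.pp_add, _root_.mul_assoc (gaPt x₂ ≫ pp), h]
      have hsw : (gaPt x' ≫ pp) * (t⁻¹ ≫ i) * (gaPt (-((hv α t⁻¹ : Γ(X.left, ⊤)) * x')) ≫ pp) =
          t⁻¹ ≫ i := by
        rw [H.pp_swap, _root_.mul_assoc, ← H.pp_add, add_neg_cancel, gaPt_zero]
        have := H.hp
        rw [MonObj.one_comp pp, _root_.mul_one]
      calc _ = (gaPt x₂ ≫ pp) * (gaPt y' ≫ pm) * (t ≫ i) * ((gaPt x' ≫ pp) * (t⁻¹ ≫ i) *
            (gaPt (-((hv α t⁻¹ : Γ(X.left, ⊤)) * x')) ≫ pp)) := by group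
        _ = _ := by rw [hsw, GrpObj.inv_comp _ i, mul_inv_cancel_right]
    rwa [e'] at e
  · obtain ⟨b, s, a, h₂⟩ := H.rel_exists hic
    exact (H.rel_add_left h h₂).ic

theorem BC.ic_add_right {X : Over S} {x y y₂ y' : Γ(X.left, ⊤)} {t : X ⟶ T} {x' : Γ(X.left, ⊤)}
    (h : Rel i pp pm x y y' t x') : IC i pp pm x (y + y₂) ↔ IC i pp pm x' y₂ := by
  have := H.hi
  refine ⟨fun hic => ?_, fun hic => ?_⟩
  · have e := H.inCell_left hic (-((hv α t⁻¹ : Γ(X.left, ⊤)) * y')) t⁻¹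
    have e' : (gaPt (-((hv α t⁻¹ : Γ(X.left, ⊤)) * y')) ≫ pm) * (t⁻¹ ≫ i) *
        ((gaPt x ≫ pp) * (gaPt (y + y₂) ≫ pm)) = (gaPt x' ≫ pp) * (gaPt y₂ ≫ pm) := by
      rw [H.pm_add, ← _root_.mul_assoc (gaPt x ≫ pp), h]
      have hsw : (gaPt (-((hv α t⁻¹ : Γ(X.left, ⊤)) * y')) ≫ pm) * ((t⁻¹ ≫ i) * (gaPt y' ≫ pm)) =
          t⁻¹ ≫ i := by
        rw [H.pm_swap, ← _root_.mul_assoc, ← H.pm_add, neg_add_cancel, gaPt_zero]
        have := H.hm
        rw [MonObj.one_comp pm, _root_.one_mul]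
      calc _ = (gaPt (-((hv α t⁻¹ : Γ(X.left, ⊤)) * y')) ≫ pm) * ((t⁻¹ ≫ i) * (gaPt y' ≫ pm)) *
            (t ≫ i) * (gaPt x' ≫ pp) * (gaPt y₂ ≫ pm) := by group
        _ = _ := by rw [hsw, GrpObj.inv_comp _ i, inv_mul_cancel, _root_.one_mul]
    rwa [e'] at e
  · obtain ⟨b, s, a, h₂⟩ := H.rel_exists hic
    exact (H.rel_add_right h h₂).ic

theorem BC.ic_nilpotent_left {X : Over S} {d : Γ(X.left, ⊤)} (hd : IsNilpotent d) (y : Γ(X.left, ⊤)) :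
    IC i pp pm d y := by
  refine IC.of_field_points fun K _ _ W _ e k => ?_
  have : IsReduced Γ(W.left, ⊤) := isReduced_of_injective e.symm e.symm.injective
  rw [(hd.map k.left.appTop.hom).eq_zero]
  exact (H.rel_zero_left _).ic

theorem BC.ic_nilpotent_right {X : Over S} {d : Γ(X.left, ⊤)} (hd : IsNilpotent d) (x : Γ(X.left, ⊤)) :
    IC i pp pm x d := by
  refine IC.of_field_points fun K _ _ W _ e k => ?_
  have : IsReduced Γ(W.left, ⊤) := isReduced_of_injective e.symm e.symm.injective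
  rw [(hd.map k.left.appTop.hom).eq_zero]
  exact (H.rel_zero_right _).ic

/-- If the first coordinate is a unit then so is the first coordinate of the decomposition. -/
theorem BC.isUnit_fst {X : Over S} {x y y' : Γ(X.left, ⊤)} {t : X ⟶ T} {x' : Γ(X.left, ⊤)}
    (h : Rel i pp pm x y y' t x') (hy : IsUnit y) : IsUnit y' := by
  refine isUnit_of_field_points y' fun K _ _ W _ e k h0 => ?_
  have : Nontrivial Γ(W.left, ⊤) := e.symm.nontrivial
  have hk := h.comp k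
  rw [h0] at hk
  have h2 := H.rel_add_left hk (H.rel_zero_right (-(k.left.appTop x)))
  rw [add_neg_cancel] at h2
  exact not_isUnit_zero (((H.rel_inj h2 (H.rel_zero_left _)).1).symm ▸ hy.map k.left.appTop.hom)

theorem BC.isUnit_snd {X : Over S} {x y y' : Γ(X.left, ⊤)} {t : X ⟶ T} {x' : Γ(X.left, ⊤)}
    (h : Rel i pp pm x y y' t x') (hx : IsUnit x) : IsUnit x' := by
  refine isUnit_of_field_points x' fun K _ _ W _ e k h0 => ?_
  have : Nontrivial Γ(W.left, ⊤) := e.symm.nontrivial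
  have hk := h.comp k
  rw [h0] at hk
  have h2 := H.rel_add_right hk (H.rel_zero_left (-(k.left.appTop y)))
  rw [add_neg_cancel] at h2
  exact not_isUnit_zero (((H.rel_inj h2 (H.rel_zero_right _)).2.2).symm ▸ hx.map k.left.appTop.hom)

end Groth.Agent.RedPts82
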