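import Groth.Agent.S8478
import Groth.Agent.RedPts82.CommRel
import Groth.Agent.Unr55.DescProps
import Mathlib.RingTheory.RingHom.Flat
import Mathlib.AlgebraicGeometry.Morphisms.Separated

/-!
Homomorphisms of rank-one systems which restrict to a faithfully flat homomorphism of the tori.
-/

universe u

open CategoryTheory MonoidalCategory CartesianMonoidalCategory MonObj GrpObj AlgebraicGeometry
open CategoryTheory.Limits

namespace Groth.Agent.RedPts82

variable {S : Scheme.{u}}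

theorem affineHom_left {X Y : Over S} (g : X ⟶ Y) (hX : IsAffineHom X.hom) (hY : IsAffineHom Y.hom) :
    IsAffineHom g.left := by
  have : IsAffineHom (g.left ≫ Y.hom) := by rw [Over.w g]; exact hX
  have hsep : IsSeparated Y.hom := inferInstance
  exact MorphismProperty.of_postcomp (W := @IsAffineHom) (W' := @IsSeparated) g.left Y.hom hsep this

theorem affineHom_tensor {X Y : Over S} (hX : IsAffineHom X.hom) (hY : IsAffineHom Y.hom) :
    IsAffineHom (X ⊗ Y).hom := by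
  show IsAffineHom (pullback.fst X.hom Y.hom ≫ X.hom)
  have : IsAffineHom (pullback.fst X.hom Y.hom) :=
    MorphismProperty.pullback_fst (P := @IsAffineHom) _ _ hY
  infer_instance

theorem affineHom_ga : IsAffineHom (Red.Ga S).hom :=
  MorphismProperty.pullback_snd (P := (@IsAffineHom : MorphismProperty Scheme.{u})) _ _
    (inferInstanceAs (IsAffineHom (Spec.map _)))

/-- Every point is a quotient of two points of the open subobject after an fpqc extension. -/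
theorem exists_div_affine {G A : Over S} [GrpObj G] (hG : Red.IsReductive G) (hA : IsAffineHom A.hom)
    (j : A ⟶ G) [IsOpenImmersion j.left]
    (h1 : ∀ X : Over S, Set.range (1 : X ⟶ G).left.base ⊆ Set.range j.left.base)
    {X : Over S} (g : X ⟶ G) :
    ∃ (X' : Over S) (k : X' ⟶ X) (a b : X' ⟶ A), Flat k.left ∧ Surjective k.left ∧
      IsAffineHom k.left ∧ k ≫ g = (a ≫ j) * (b ≫ j)⁻¹ := by
  have := smooth_divMap hG.2.1 j
  have hs := surjective_divMap hG j h1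
  have haf : IsAffineHom (divMap j).left := affineHom_left _ (affineHom_tensor hA hA) hG.1
  let X' : Over S := Over.mk (pullback.fst g.left (divMap j).left ≫ X.hom)
  let c : X' ⟶ A ⊗ A := Over.homMk (pullback.snd g.left (divMap j).left) (by
    show _ = pullback.fst g.left (divMap j).left ≫ X.hom
    rw [← Over.w g, ← Over.w (divMap j), pullback.condition_assoc])
  refine ⟨X', Over.homMk (pullback.fst g.left (divMap j).left) rfl, c ≫ fst _ _, c ≫ snd _ _,
    MorphismProperty.pullback_fst (P := @Flat) _ _ inferInstance,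
    MorphismProperty.pullback_fst (P := @Surjective) _ _ hs,
    MorphismProperty.pullback_fst (P := @IsAffineHom) _ _ haf, ?_⟩
  rw [← divMap_pt, show lift (c ≫ fst A A) (c ≫ snd A A) = c by ext <;> simp]
  exact Over.OverMorphism.ext pullback.condition

theorem flat_descends_fpqc :
    MorphismProperty.DescendsAlong (@Flat : MorphismProperty Scheme.{u}) Unr55.fpqc.{u} :=
  HasRingHomProperty.descendsAlong_flat <| .mk _ RingHom.Flat.respectsIso
    fun R S T _ _ _ _ _ h h' => by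
      rw [RingHom.faithfullyFlat_algebraMap_iff] at h
      rw [RingHom.flat_algebraMap_iff] at h' ⊢
      exact Module.Flat.of_flat_tensorProduct R T S

/-- A homomorphism with given kernel and a point lifting a given one has a product as pullback. -/
theorem isPullback_of_isKernel {G G' Q P : Over S} [GrpObj G] [GrpObj G'] (f : G ⟶ G') [IsMonHom f]
    {κ : Q ⟶ G} (hk : AlgGrp.IsKernel κ f) (l : P ⟶ G) (k : P ⟶ G') (hl : l ≫ f = k) :
    IsPullback ((fst Q P ≫ κ) * (snd Q P ≫ l)) (snd Q P) f k := by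
  have hκ : κ ≫ f = 1 := by rw [hk.w, Hom.one_def]
  have hm : ((fst Q P ≫ κ) * (snd Q P ≫ l)) ≫ f = snd Q P ≫ k := by
    rw [MonObj.mul_comp _ _ f, Category.assoc, Category.assoc, hκ, hl, MonObj.comp_one,
      _root_.one_mul]
  have hker : ∀ s : PullbackCone f k, (s.fst * (s.snd ≫ l)⁻¹) ≫ f = toUnit _ ≫ η[G'] := by
    intro s
    rw [MonObj.mul_comp _ _ f, GrpObj.inv_comp _ f, Category.assoc, hl, s.condition,
      mul_inv_cancel, Hom.one_def]
  have h1 : ∀ {W : Over S} (n : W ⟶ Q ⊗ P), n ≫ ((fst Q P ≫ κ) * (snd Q P ≫ l)) =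
      ((n ≫ fst Q P) ≫ κ) * ((n ≫ snd Q P) ≫ l) := by
    intro W n
    simp only [MonObj.comp_mul, Category.assoc]
  refine IsPullback.of_isLimit (PullbackCone.IsLimit.mk hm
    (fun s => lift (hk.lift _ (toUnit _) (hker s)) s.snd) (fun s => ?_) (fun s => lift_snd _ _)
    fun s n e1 e2 => ?_)
  · rw [h1, lift_fst, lift_snd, hk.lift_fst, inv_mul_cancel_right]
  · rw [h1, e2] at e1
    ext1
    · refine hk.hom_ext ?_ (toUnit_unique _ _)
      rw [lift_fst, hk.lift_fst, ← e1, mul_inv_cancel_right]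
    · rw [lift_snd, e2]

variable {G T G' T' : Over S} [GrpObj G] [GrpObj T] [GrpObj G'] [GrpObj T']
  {i : T ⟶ G} {α : T ⟶ Red.Gm S} {pp pm : Red.Ga S ⟶ G} {av : Red.Gm S ⟶ T}
  {i' : T' ⟶ G'} {α' : T' ⟶ Red.Gm S} {pp' pm' : Red.Ga S ⟶ G'} {av' : Red.Gm S ⟶ T'}

/-- Compatibility data of a homomorphism of rank-one systems. -/
structure RankHom (HR : RH G T i α pp pm av) (HR' : RH G' T' i' α' pp' pm' av')
    (c : 𝟙_ (Over S) ⟶ Red.Gm S) (fT : T ⟶ T') (f : G ⟶ G') : Prop where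
  hf : IsMonHom f
  hfT : IsMonHom fT
  hav : av ≫ fT = av'
  hi : i ≫ f = fT ≫ i'
  hP : ∀ (X : Over S) (r : Γ(X.left, ⊤)),
    (HR.data X).P r ≫ f = (HR'.data X).P (Red.gmFn (toUnit X ≫ c) * r)

variable {HR : RH G T i α pp pm av} {HR' : RH G' T' i' α' pp' pm' av'}
  {c : 𝟙_ (Over S) ⟶ Red.Gm S} {fT : T ⟶ T'} {f : G ⟶ G'} (F : RankHom HR HR' c fT f)
include F

theorem RankHom.hh (X : Over S) (v : Γ(X.left, ⊤)ˣ) :
    (HR.data X).h v ≫ f = (HR'.data X).h v := by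
  show ((gmPt v ≫ av) ≫ i) ≫ f = (gmPt v ≫ av') ≫ i'
  simp only [← F.hav, Category.assoc, F.hi]

theorem RankHom.hM (H' : BC G' T' i' α' pp' pm') (X : Over S) (r : Γ(X.left, ⊤)) :
    (HR.data X).M r ≫ f = (HR'.data X).M ((((gmU (toUnit X ≫ c))⁻¹ : Γ(X.left, ⊤)ˣ) : Γ(X.left, ⊤)) * r) := by
  have := F.hf
  refine Groth.Agent.S8478.negRoot HR H' HR' 1 one_pos (fun X a b => by simp) c f
    (fun W s => by rw [pow_one]; exact F.hP W s) (fun W v => by rw [pow_one]; exact F.hh W v)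
    (gaPt r) (gaPt _) ?_
  rw [gaFn_gaPt, gaFn_gaPt, pow_one, mul_comm, ← _root_.mul_assoc, ← val_gmU, Units.mul_inv,
    _root_.one_mul]

theorem RankHom.cell_map (H' : BC G' T' i' α' pp' pm') {X : Over S} (y x : X ⟶ Red.Ga S)
    (t : X ⟶ T) : ((y ≫ pm) * (t ≫ i) * (x ≫ pp)) ≫ f =
      (gaPt ((((gmU (toUnit X ≫ c))⁻¹ : Γ(X.left, ⊤)ˣ) : Γ(X.left, ⊤)) * Red.gaFn y) ≫ pm') * ((t ≫ fT) ≫ i') *
        (gaPt (Red.gmFn (toUnit X ≫ c) * Red.gaFn x) ≫ pp') := by
  have := F.hf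
  rw [MonObj.mul_comp _ _ f, MonObj.mul_comp _ _ f, HR.M_pt, HR.P_pt, F.hM H', F.hP, Category.assoc,
    F.hi, Category.assoc]
  rfl

/-- The kernel lies in the torus. -/
theorem RankHom.ker (H : BC G T i α pp pm) (hG : Red.IsReductive G) (H' : BC G' T' i' α' pp' pm')
    {X : Over S} (g : X ⟶ G) (hg : g ≫ f = 1) : ∃ t : X ⟶ T, t ≫ i = g ∧ t ≫ fT = 1 := by
  have := F.hf
  have hin : InCell i pp pm g := InCell.of_field_points fun K _ _ W _ e k => by
    rcases RH.bruhat' H HR hG e (k ≫ g) with h | ⟨t, r, hk⟩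
    · exact h
    exfalso
    have h1 : (k ≫ g) ≫ f = 1 := by rw [Category.assoc, hg, MonObj.comp_one]
    rw [hk, MonObj.mul_comp _ _ f, MonObj.mul_comp _ _ f] at h1
    have hw : HR.w₁ W ≫ f = (HR'.data W).h (gmU (toUnit W ≫ c)) * HR'.w₁ W := by
      show ((HR.data W).P _ * (HR.data W).M _ * (HR.data W).P _) ≫ f = _
      rw [MonObj.mul_comp _ _ f, MonObj.mul_comp _ _ f, F.hP, F.hM H', ← (HR'.data W).w_smul,
        _root_.mul_one, R1.w]
      simp only [Units.val_one, inv_one, _root_.mul_one, mul_neg, ← val_gmU]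
    have ht : (HR.data W).τ t ≫ f = (HR'.data W).τ (t ≫ fT) := by
      show (t ≫ i) ≫ f = (t ≫ fT) ≫ i'
      rw [Category.assoc, F.hi, Category.assoc]
    rw [hw, ht, F.hP] at h1
    refine RH.not_inCell_w H' HR' e (t ≫ fT) (Red.gmFn (toUnit W ≫ c) * r) ?_
    have h2 : HR'.w₁ W * (HR'.data W).τ (t ≫ fT) * (HR'.data W).P (Red.gmFn (toUnit W ≫ c) * r) =
        (gaPt 0 ≫ pm') * ((HR'.data W).av (gmU (toUnit W ≫ c))⁻¹ ≫ i') * 1 := by
      rw [gaPt_zero]
      have := H'.hm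
      rw [MonObj.one_comp pm', _root_.one_mul, _root_.mul_one]
      show _ = (HR'.data W).h (gmU (toUnit W ≫ c))⁻¹
      rw [R1.h_inv]
      refine eq_inv_of_mul_eq_one_right ?_
      rw [← h1]
      group
    rw [h2]
    exact H'.inCell_left (H'.one_inCell W) _ _
  obtain ⟨y, t, x, rfl⟩ := H.exists_of_inCell hin
  rw [F.cell_map H', ← H'.cell_one X] at hg
  obtain ⟨ey, et, ex⟩ := H'.inj hg
  have ey' := congrArg Red.gaFn ey
  have ex' := congrArg Red.gaFn ex
  rw [gaFn_gaPt, gaFn_one, ← val_gmU] at *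
  have hy : y = 1 := gaFn_injective (by rw [gaFn_one]; exact (Units.mul_right_eq_zero _).mp ey')
  have hx : x = 1 := gaFn_injective (by rw [gaFn_one]; exact (Units.mul_right_eq_zero _).mp ex')
  refine ⟨t, ?_, et⟩
  have := H.hp
  have := H.hm
  rw [hy, hx, MonObj.one_comp pm, MonObj.one_comp pp, _root_.one_mul, _root_.mul_one]

theorem RankHom.isKernel (H : BC G T i α pp pm) (hG : Red.IsReductive G)
    (H' : BC G' T' i' α' pp' pm') [Mono i] {Q : Over S} {κ : Q ⟶ T} (hk : AlgGrp.IsKernel κ fT) :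
    AlgGrp.IsKernel (κ ≫ i) f := by
  have := F.hf
  have := H'.hi
  have hκ : κ ≫ fT = 1 := by rw [hk.w, Hom.one_def]
  have hw : (κ ≫ i) ≫ f = toUnit Q ≫ η[G'] := by
    rw [Category.assoc, F.hi, reassoc_of% hκ, MonObj.one_comp i', Hom.one_def]
  have hker : ∀ s : PullbackCone f η[G'], ∃ t : s.pt ⟶ T, t ≫ i = s.fst ∧ t ≫ fT = 1 := fun s =>
    F.ker H hG H' s.fst (by rw [s.condition, Hom.one_def, toUnit_unique s.snd (toUnit _)])
  choose tk htk using hker
  refine IsPullback.of_isLimit (PullbackCone.IsLimit.mk hw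
    (fun s => hk.lift (tk s) (toUnit _) (by rw [(htk s).2, Hom.one_def]))
    (fun s => by rw [← Category.assoc, hk.lift_fst, (htk s).1]) (fun s => toUnit_unique _ _)
    fun s n e1 _ => ?_)
  refine hk.hom_ext ?_ (toUnit_unique _ _)
  rw [hk.lift_fst, ← cancel_mono i, (htk s).1, ← e1, Category.assoc]

/-- A lift of a point of the cell. -/
theorem RankHom.lift_cell (H' : BC G' T' i' α' pp' pm') {X : Over S} (y x : X ⟶ Red.Ga S)
    (t : X ⟶ T) (t' : X ⟶ T') (ht : t ≫ fT = t') :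
    ∃ g : X ⟶ G, g ≫ f = (y ≫ pm') * (t' ≫ i') * (x ≫ pp') := by
  refine ⟨(gaPt (Red.gmFn (toUnit X ≫ c) * Red.gaFn y) ≫ pm) * (t ≫ i) *
    (gaPt ((((gmU (toUnit X ≫ c))⁻¹ : Γ(X.left, ⊤)ˣ) : Γ(X.left, ⊤)) * Red.gaFn x) ≫ pp), ?_⟩
  rw [F.cell_map H', ht, gaFn_gaPt, gaFn_gaPt, ← val_gmU, Units.inv_mul_cancel_left,
    Units.mul_inv_cancel_left, gaPt_gaFn, gaPt_gaFn]

omit F in
theorem exists_cover_lift {X T T' : Over S} (q : T ⟶ T') (t : X ⟶ T') [Flat q.left] [Surjective q.left]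
    [IsAffineHom q.left] :
    ∃ (P : Over S) (p : P ⟶ X) (s : P ⟶ T), Flat p.left ∧ Surjective p.left ∧ IsAffineHom p.left ∧
      s ≫ q = p ≫ t := by
  refine ⟨Over.mk (pullback.fst t.left q.left ≫ X.hom), Over.homMk (pullback.fst t.left q.left) rfl,
    Over.homMk (pullback.snd t.left q.left) (by
      show _ = pullback.fst t.left q.left ≫ X.hom
      rw [← Over.w t, ← Over.w q, pullback.condition_assoc]),
    MorphismProperty.pullback_fst (P := @Flat) _ _ inferInstance,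
    MorphismProperty.pullback_fst (P := @Surjective) _ _ inferInstance,
    MorphismProperty.pullback_fst (P := @IsAffineHom) _ _ inferInstance,
    Over.OverMorphism.ext pullback.condition.symm⟩

omit [GrpObj T'] F in
theorem cell_pt' {X : Over S} (w : X ⟶ (Red.Ga S ⊗ T') ⊗ Red.Ga S) :
    ∃ (y : X ⟶ Red.Ga S) (t : X ⟶ T') (x : X ⟶ Red.Ga S),
      w ≫ cell i' pp' pm' = (y ≫ pm') * (t ≫ i') * (x ≫ pp') :=
  ⟨w ≫ fst _ _ ≫ fst _ _, w ≫ fst _ _ ≫ snd _ _, w ≫ snd _ _, by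
    rw [cell_pt]
    simp only [Category.assoc]⟩

theorem RankHom.lift_div (H' : BC G' T' i' α' pp' pm') {X Y : Over S} (k : Y ⟶ G') (p : X ⟶ Y)
    (y y' x x' : Y ⟶ Red.Ga S) (t' t'' : Y ⟶ T')
    (e : k = ((y ≫ pm') * (t' ≫ i') * (x ≫ pp')) * ((y' ≫ pm') * (t'' ≫ i') * (x' ≫ pp'))⁻¹)
    (s s' : X ⟶ T) (hs : s ≫ fT = p ≫ t') (hs' : s' ≫ fT = p ≫ t'') :
    ∃ l : X ⟶ G, l ≫ f = p ≫ k := by
  have := F.hf
  obtain ⟨la, hla⟩ := F.lift_cell H' (p ≫ y) (p ≫ x) s _ hs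
  obtain ⟨lb, hlb⟩ := F.lift_cell H' (p ≫ y') (p ≫ x') s' _ hs'
  refine ⟨la * lb⁻¹, ?_⟩
  rw [MonObj.mul_comp _ _ f, GrpObj.inv_comp _ f, hla, hlb, e]
  simp only [MonObj.comp_mul, GrpObj.comp_inv, Category.assoc]

/-- The structure of a homomorphism of rank-one systems with faithfully flat torus part: after an
fpqc extension of the target it is a projection. -/
theorem RankHom.exists_cover (H : BC G T i α pp pm) (hG : Red.IsReductive G)
    (H' : BC G' T' i' α' pp' pm') (hG' : Red.IsReductive G') [Flat fT.left] [Surjective fT.left]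
    {Q : Over S} {κ : Q ⟶ T} (hk : AlgGrp.IsKernel κ fT) :
    ∃ (X' : Over S) (k : X' ⟶ G') (m : Q ⊗ X' ⟶ G), Flat k.left ∧ Surjective k.left ∧
      IsAffineHom k.left ∧ IsPullback m.left (snd Q X').left f.left k.left := by
  have := F.hf
  have := H'.hΩ
  have := H.hi
  have := F.hfT
  have hTa : IsAffineHom T.hom := isTorus_isAffineHom H.hT
  have hT'a : IsAffineHom T'.hom := isTorus_isAffineHom H'.hT
  have hfTa : IsAffineHom fT.left := affineHom_left fT hTa hT'a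
  have hcell : IsAffineHom ((Red.Ga S ⊗ T') ⊗ Red.Ga S).hom :=
    affineHom_tensor (affineHom_tensor affineHom_ga hT'a) affineHom_ga
  obtain ⟨X₁, k₁, a, b, hf₁, hs₁, ha₁, e⟩ :=
    exists_div_affine hG' hcell (cell i' pp' pm') (fun X => H'.one_inCell X) (𝟙 G')
  rw [Category.comp_id] at e
  obtain ⟨y, t', x, ea⟩ := cell_pt' (i' := i') (pp' := pp') (pm' := pm') a
  obtain ⟨y', t'', x', eb⟩ := cell_pt' (i' := i') (pp' := pp') (pm' := pm') b
  rw [ea, eb] at e
  obtain ⟨P, p₁, s₁, hf1, hu1, haf1, hs1⟩ := exists_cover_lift fT t'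
  obtain ⟨P', p₂, s₂, hf2, hu2, haf2, hs2⟩ := exists_cover_lift fT (p₁ ≫ t'')
  obtain ⟨l, hl⟩ := F.lift_div H' k₁ (p₂ ≫ p₁) y y' x x' t' t'' e (p₂ ≫ s₁) s₂
    (by rw [Category.assoc, hs1, Category.assoc]) (by rw [hs2, Category.assoc])
  have : Mono i := by
    refine ⟨fun {Z} u v huv => ?_⟩
    have h0 : ((1 : Z ⟶ Red.Ga S) ≫ pm) * (u ≫ i) * ((1 : Z ⟶ Red.Ga S) ≫ pp) =
        ((1 : Z ⟶ Red.Ga S) ≫ pm) * (v ≫ i) * ((1 : Z ⟶ Red.Ga S) ≫ pp) := by rw [huv]
    exact (H.inj h0).2.1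
  have hpb := isPullback_of_isKernel f (F.isKernel H hG H' hk) l _ hl
  refine ⟨P', (p₂ ≫ p₁) ≫ k₁, (fst Q P' ≫ κ ≫ i) * (snd Q P' ≫ l), ?_, ?_, ?_,
    hpb.map (Over.forget S)⟩
  · exact inferInstanceAs (Flat ((p₂.left ≫ p₁.left) ≫ k₁.left))
  · exact inferInstanceAs (Surjective ((p₂.left ≫ p₁.left) ≫ k₁.left))
  · exact inferInstanceAs (IsAffineHom ((p₂.left ≫ p₁.left) ≫ k₁.left))

end Groth.Agent.RedPts82
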