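import Groth.Agent.RedPts82.RankOneGeom

/-!
Naturality of the rank-one Weyl element attached to one.
-/

universe u

open CategoryTheory MonoidalCategory CartesianMonoidalCategory MonObj GrpObj AlgebraicGeometry

namespace Groth.Agent.RedPts82

variable {S : Scheme.{u}} {G T : Over S} [GrpObj G] [GrpObj T]
  {i : T ⟶ G} {α : T ⟶ Red.Gm S} {pp pm : Red.Ga S ⟶ G} {av : Red.Gm S ⟶ T}

theorem RH.comp_P (HR : RH G T i α pp pm av) {X Y : Over S} (k : Y ⟶ X) (r : Γ(X.left, ⊤)) :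
    k ≫ (HR.data X).P r = (HR.data Y).P (k.left.appTop r) := by
  show k ≫ gaPt r ≫ pp = gaPt _ ≫ pp
  rw [← Category.assoc]
  congr 1
  exact gaFn_injective (by rw [gaFn_comp, gaFn_gaPt, gaFn_gaPt])

theorem RH.comp_M (HR : RH G T i α pp pm av) {X Y : Over S} (k : Y ⟶ X) (r : Γ(X.left, ⊤)) :
    k ≫ (HR.data X).M r = (HR.data Y).M (k.left.appTop r) := by
  show k ≫ gaPt r ≫ pm = gaPt _ ≫ pm
  rw [← Category.assoc]
  congr 1
  exact gaFn_injective (by rw [gaFn_comp, gaFn_gaPt, gaFn_gaPt])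

theorem RH.comp_w₁ (HR : RH G T i α pp pm av) {X Y : Over S} (k : Y ⟶ X) :
    k ≫ HR.w₁ X = HR.w₁ Y := by
  simp only [RH.w₁, R1.w, MonObj.comp_mul, HR.comp_P, HR.comp_M, inv_one, Units.val_one, map_one,
    map_neg]

end Groth.Agent.RedPts82
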