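import Groth.Agent.RedPts82.Normalize
import Groth.Agent.RedPts82.CommTools
import Groth.Agent.RedPts82.W1Nat
import Groth.Agent.RedPts82.RankOneHom

/-!
In rank one the root groups and their products with the torus are closed.
-/

universe u

open CategoryTheory MonoidalCategory CartesianMonoidalCategory MonObj GrpObj AlgebraicGeometry
open CategoryTheory.Limits

namespace Groth.Agent.RedPts82

variable {S : Scheme.{u}}

theorem isClosedImmersion_section {A B : Over S} [IsSeparated B.hom] (s : A ⟶ B) (p : B ⟶ A)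
    (h : s ≫ p = 𝟙 A) : IsClosedImmersion s.left := by
  have : IsSeparated (p.left ≫ A.hom) := by rw [Over.w p]; infer_instance
  have : IsSeparated p.left := IsSeparated.of_comp p.left A.hom
  have : IsClosedImmersion (s.left ≫ p.left) := by rw [← Over.comp_left, h]; infer_instance
  exact IsClosedImmersion.of_comp s.left p.left

theorem isSeparated_ga : IsSeparated (Red.Ga S).hom := by
  have := affineHom_ga (S := S)
  infer_instance

theorem isSeparated_tensor {A B : Over S} [IsSeparated A.hom] [IsSeparated B.hom] :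
    IsSeparated (A ⊗ B).hom := by
  rw [Over.tensorObj_hom]
  infer_instance

variable {G T : Over S} [GrpObj G] [GrpObj T] {i : T ⟶ G} {α : T ⟶ Red.Gm S}
  {pp pm : Red.Ga S ⟶ G} {av : Red.Gm S ⟶ T}

/-- The Borel map. -/
noncomputable abbrev borel (i : T ⟶ G) (pp : Red.Ga S ⟶ G) : T ⊗ Red.Ga S ⟶ G := (i ⊗ₘ pp) ≫ μ[G]

/-- The inclusion of the Borel part in the cell. -/
noncomputable def borelSec (T : Over S) : T ⊗ Red.Ga S ⟶ (Red.Ga S ⊗ T) ⊗ Red.Ga S :=
  lift (lift (gaPt 0) (fst _ _)) (snd _ _)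

omit [GrpObj T] in
theorem borel_pt (i : T ⟶ G) (pp : Red.Ga S ⟶ G) {X : Over S} (w : X ⟶ T ⊗ Red.Ga S) :
    w ≫ borel i pp = (w ≫ fst _ _ ≫ i) * (w ≫ snd _ _ ≫ pp) := by
  have hw : w = lift (w ≫ fst _ _) (w ≫ snd _ _) := by ext <;> simp
  conv_lhs => rw [hw]
  rw [borel, lift_map_assoc, Hom.mul_def]
  simp only [Category.assoc]

omit [GrpObj T] in
theorem borelSec_cell [IsMonHom pm] : borelSec T ≫ cell i pp pm = borel i pp := by
  have h1 := borel_pt i pp (𝟙 (T ⊗ Red.Ga S))
  simp only [Category.id_comp] at h1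
  rw [borelSec, cell_lift, gaPt_zero, MonObj.one_comp pm, _root_.one_mul, h1]

theorem RH.inv_w₁_mul (HR : RH G T i α pp pm av) {X : Over S} (t : X ⟶ T) (c : Γ(X.left, ⊤)) :
    ∃ t' : X ⟶ T, (HR.w₁ X)⁻¹ * ((HR.data X).τ t * (HR.data X).P c) =
      HR.w₁ X * (HR.data X).τ t' * (HR.data X).P c := by
  set D := HR.data X
  have h1 : (HR.w₁ X)⁻¹ = D.h (-1) * HR.w₁ X := by
    show (D.w 1)⁻¹ = D.h (-1) * D.w 1
    rw [D.w_inv, ← D.w_smul, _root_.mul_one]
  have hwh : D.h (-1) * HR.w₁ X = HR.w₁ X * (D.h (-1))⁻¹ := by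
    have := D.w_h 1 (-1 : Γ(X.left, ⊤)ˣ)⁻¹
    rw [D.h_inv, inv_inv_pt] at this
    show D.h (-1) * D.w 1 = D.w 1 * (D.h (-1))⁻¹
    conv_lhs => rw [← this]
    group
  refine ⟨(D.av (-1))⁻¹ * t, ?_⟩
  rw [h1, hwh, map_mul, map_inv, R1.h]
  group

theorem RH.isClosed_range_borel (H : BC G T i α pp pm) (HR : RH G T i α pp pm av)
    (hG : Red.IsReductive G) : IsClosed (Set.range (borel i pp).left.base) := by
  have := H.hΩ
  have := H.hm
  have : IsSeparated (Red.Ga S).hom := isSeparated_ga
  have : IsSeparated T.hom := by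
    have := isTorus_isAffineHom H.hT
    infer_instance
  have : IsSeparated (T ⊗ Red.Ga S).hom := isSeparated_tensor
  have : IsSeparated (Red.Ga S ⊗ T).hom := isSeparated_tensor
  have : IsSeparated ((Red.Ga S ⊗ T) ⊗ Red.Ga S).hom := isSeparated_tensor
  have hσ : IsClosedImmersion (borelSec T).left := isClosedImmersion_section _
    (lift (fst _ _ ≫ snd _ _) (snd _ _)) (by ext <;> simp [borelSec])
  let L : G ⟶ G := (HR.w₁ G)⁻¹ * 𝟙 G
  let U₁ : Set G.left := (cell i pp pm).left.base '' (Set.range (borelSec T).left.base)ᶜ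
  let U₂ : Set G.left := L.left.base ⁻¹' Set.range (cell i pp pm).left.base
  have hU₁ : IsOpen U₁ := (cell i pp pm).left.isOpenEmbedding.isOpenMap _
    hσ.isClosedEmbedding.isClosed_range.isOpen_compl
  have hU₂ : IsOpen U₂ :=
    (cell i pp pm).left.isOpenEmbedding.isOpen_range.preimage L.left.continuous
  have hψ : ∀ q, (borel i pp).left q = (cell i pp pm).left ((borelSec T).left q) := fun q =>
    (congrArg (fun k => k.left q) (borelSec_cell (pm := pm) (i := i) (pp := pp))).symm
  suffices h : Set.range (borel i pp).left.base = (U₁ ∪ U₂)ᶜ by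
    rw [h]
    exact (hU₁.union hU₂).isClosed_compl
  have hL : ∀ {W : Over S} (g : W ⟶ G), g ≫ L = (HR.w₁ W)⁻¹ * g := by
    intro W g
    show g ≫ ((HR.w₁ G)⁻¹ * 𝟙 G) = _
    rw [MonObj.comp_mul, GrpObj.comp_inv, HR.comp_w₁, Category.comp_id]
  ext p
  constructor
  · rintro ⟨q, rfl⟩
    rintro (⟨z, hz, hzq⟩ | hin)
    · rw [hψ] at hzq
      exact hz ⟨q, ((cell i pp pm).left.isOpenEmbedding.injective hzq).symm⟩
    · obtain ⟨K, _, _, W, _, e, x, q', rfl⟩ := exists_field_point q
      have hb := borel_pt i pp x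
      rw [← Category.assoc x (snd _ _), ← Category.assoc x (fst _ _), HR.P_pt, HR.τ_pt] at hb
      obtain ⟨t', ht'⟩ := HR.inv_w₁_mul (x ≫ fst _ _) (Red.gaFn (x ≫ snd _ _))
      refine RH.not_inCell_w H HR e t' (Red.gaFn (x ≫ snd _ _)) ?_
      rw [← ht', ← hb, ← hL]
      rintro _ ⟨r, rfl⟩
      have : Subsingleton W.left := by
        have : Subsingleton (PrimeSpectrum Γ(W.left, ⊤)) := by
          have : IsField Γ(W.left, ⊤) := e.symm.toMulEquiv.isField (Field.toIsField K)
          let := this.toField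
          infer_instance
        exact @Function.Injective.subsingleton _ _ _ (Scheme.Hom.homeomorph W.left.isoSpec.hom).injective this
      rw [Subsingleton.elim r q']
      exact hin
  · intro hp
    simp only [Set.mem_compl_iff, Set.mem_union, not_or] at hp
    by_cases hc : p ∈ Set.range (cell i pp pm).left.base
    · obtain ⟨z, rfl⟩ := hc
      obtain ⟨q, rfl⟩ : z ∈ Set.range (borelSec T).left.base := by
        by_contra hz
        exact hp.1 ⟨z, hz, rfl⟩
      exact ⟨q, hψ q⟩
    · exfalso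
      obtain ⟨K, _, _, W, _, e, x, q, rfl⟩ := exists_field_point p
      rcases RH.bruhat' H HR hG e x with h | ⟨t, c, hx⟩
      · exact hc (h ⟨q, rfl⟩)
      · refine hp.2 ?_
        have h1 : x ≫ L = (gaPt 0 ≫ pm) * (t ≫ i) * (gaPt c ≫ pp) := by
          rw [hL, gaPt_zero, MonObj.one_comp pm, _root_.one_mul]
          conv_lhs => arg 2; rw [hx]
          rw [_root_.mul_assoc, inv_mul_cancel_left]
          rfl
        exact inCell_mk i pp pm (gaPt 0) t (gaPt c) ⟨q, (congrArg (fun k => k.left q) h1).symm⟩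

theorem RH.isClosedImmersion_borel (H : BC G T i α pp pm) (HR : RH G T i α pp pm av)
    (hG : Red.IsReductive G) : IsClosedImmersion (borel i pp).left := by
  have := H.hΩ
  have := H.hm
  have := isTorus_isAffineHom H.hT
  have : IsSeparated (Red.Ga S).hom := isSeparated_ga
  have : IsSeparated (Red.Ga S ⊗ T).hom := isSeparated_tensor
  have : IsSeparated ((Red.Ga S ⊗ T) ⊗ Red.Ga S).hom := isSeparated_tensor
  have hσ : IsClosedImmersion (borelSec T).left := isClosedImmersion_section _
    (lift (fst _ _ ≫ snd _ _) (snd _ _)) (by ext <;> simp [borelSec])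
  have : IsPreimmersion (borel i pp).left := by
    rw [← borelSec_cell (pm := pm), Over.comp_left]; infer_instance
  exact IsClosedImmersion.of_isPreimmersion _ (HR.isClosed_range_borel H hG)

theorem isClosedImmersion_of_borel [IsMonHom i] (hT : Red.IsTorus T)
    (h : IsClosedImmersion (borel i pp).left) : IsClosedImmersion pp.left := by
  have := isTorus_isAffineHom hT
  have : IsSeparated (Red.Ga S).hom := isSeparated_ga
  have : IsSeparated (T ⊗ Red.Ga S).hom := isSeparated_tensor
  have hs : IsClosedImmersion (lift (1 : Red.Ga S ⟶ T) (𝟙 _)).left :=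
    isClosedImmersion_section _ (snd _ _) (lift_snd _ _)
  have e : pp = lift (1 : Red.Ga S ⟶ T) (𝟙 _) ≫ borel i pp := by
    rw [borel_pt]
    simp [MonObj.one_comp]
  rw [e, Over.comp_left]
  infer_instance

theorem BC.closed_borel (H : BC G T i α pp pm) [Mono i] [Mono pp] [Mono pm]
    (hG : Red.IsReductive G) (hTm : Red.IsMaximalTorus i) :
    IsClosedImmersion pp.left ∧ IsClosedImmersion (borel i pp).left := by
  obtain ⟨σ, av, hσ, H', HR⟩ := H.exists_normalize hG hTm
  have h := HR.isClosedImmersion_borel H' hG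
  have := H.hi
  exact ⟨isClosedImmersion_of_borel H.hT h, h⟩

end Groth.Agent.RedPts82
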