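import Groth.Agent.RedPts82.Points
import Groth.Prelude.Def_SGA3x
import Mathlib.AlgebraicGeometry.PullbackCarrier
import Mathlib.AlgebraicGeometry.Cover.Open

/-!
Points of tori and of groups of multiplicative type commute.
-/

universe u

open CategoryTheory MonoidalCategory CartesianMonoidalCategory MonObj GrpObj AlgebraicGeometry
open CategoryTheory.Limits

namespace Groth.Agent.RedPts82

variable {S : Scheme.{u}}

theorem comm_of_grpIso {G H : Over S} [GrpObj G] [GrpObj H] (e : Grp.mk G ≅ Grp.mk H)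
    (hH : ∀ (X : Over S) (a b : X ⟶ H), a * b = b * a) (X : Over S) (a b : X ⟶ G) :
    a * b = b * a := by
  have hmono : Mono e.hom.hom.hom := by
    exact inferInstanceAs (Mono ((Grp.forget _).map e.hom))
  rw [← cancel_mono e.hom.hom.hom, MonObj.mul_comp, MonObj.mul_comp, hH]

/-- Commutativity of points can be checked on a flat surjective cover, Zariski locally. -/
theorem points_comm_of_locally {G : Over S} [GrpObj G] {S' : Scheme.{u}} (f : S' ⟶ S)
    [Flat f] [Surjective f]
    (hloc : ∀ s' : S', ∃ U : S'.Opens, s' ∈ U ∧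
      ∀ (W : Over (U : Scheme.{u})) (a b : W ⟶ Red.bc (U.ι ≫ f) G), a * b = b * a)
    {X : Over S} (x y : X ⟶ G) : x * y = y * x := by
  choose U hU hW using hloc
  apply Over.OverMorphism.ext
  have : Surjective (pullback.fst X.hom f) := inferInstance
  have : Epi (pullback.fst X.hom f) := Flat.epi_of_flat_of_surjective _
  rw [← cancel_epi (pullback.fst X.hom f)]
  have hcov : TopologicalSpace.IsOpenCover U := by
    rw [TopologicalSpace.IsOpenCover, eq_top_iff]
    exact fun s _ => TopologicalSpace.Opens.mem_iSup.mpr ⟨s, hU s⟩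
  refine Scheme.Cover.hom_ext ((S'.openCoverOfIsOpenCover U hcov).pullback₁ (pullback.snd X.hom f))
    _ _ fun s' => ?_
  change pullback.fst (pullback.snd X.hom f) (U s').ι ≫ _ =
    pullback.fst (pullback.snd X.hom f) (U s').ι ≫ _
  let w : Over (U s' : Scheme.{u}) := Over.mk (pullback.snd (pullback.snd X.hom f) (U s').ι)
  let h : (Over.map ((U s').ι ≫ f)).obj w ⟶ X :=
    Over.homMk (pullback.fst (pullback.snd X.hom f) (U s').ι ≫ pullback.fst X.hom f) (by
      show _ = pullback.snd (pullback.snd X.hom f) (U s').ι ≫ (U s').ι ≫ f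
      simp [pullback.condition, pullback.condition_assoc])
  have key : (h ≫ x) * (h ≫ y) = (h ≫ y) * (h ≫ x) := by
    rw [← toBase_ofBase _ (h ≫ x), ← toBase_ofBase _ (h ≫ y), ← toBase_mul, ← toBase_mul,
      hW s' _ (ofBase _ (h ≫ x)) (ofBase _ (h ≫ y))]
  rw [← MonObj.comp_mul, ← MonObj.comp_mul] at key
  simpa [h] using congrArg CommaMorphism.left key

theorem isTorus_points_comm {T : Over S} [GrpObj T] (hT : Red.IsTorus T) {X : Over S}
    (x y : X ⟶ T) : x * y = y * x := by
  obtain ⟨S', f, hf, hs, -, hloc⟩ := hT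
  refine points_comm_of_locally f (fun s' => ?_) x y
  obtain ⟨U, hU, r, ⟨e⟩⟩ := hloc s'
  exact ⟨U, hU, fun W a b => comm_of_grpIso e (fun _ => ds_comm) W a b⟩

theorem isMultTypeFT_points_comm {T : Over S} [GrpObj T] (hT : SGA3x.IsMultTypeFT T) {X : Over S}
    (x y : X ⟶ T) : x * y = y * x := by
  obtain ⟨S', f, hf, hs, -, hloc⟩ := hT
  refine points_comm_of_locally f (fun s' => ?_) x y
  obtain ⟨U, hU, M, hM, -, ⟨e⟩⟩ := hloc s'
  exact ⟨U, hU, fun W a b => comm_of_grpIso e (fun _ => ds_comm) W a b⟩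

end Groth.Agent.RedPts82
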