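import Groth.Agent.RedPts82.DSCoord
import Groth.Agent.RedPts82.DSChar
import Mathlib.AlgebraicGeometry.PullbackCarrier
import Mathlib.Algebra.MonoidAlgebra.NoZeroDivisors
import Mathlib.RingTheory.Spectrum.Prime.Topology

/-!
A torus over a field is irreducible and reduced.
-/

universe u

open CategoryTheory MonoidalCategory CartesianMonoidalCategory MonObj GrpObj AlgebraicGeometry
open CategoryTheory.Limits

namespace Groth.Agent.RedPts82

set_option backward.isDefEq.respectTransparency.types false in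
theorem irreducible_reduced_of_isTorus {K : Type u} [Field K]
    {T : Over (Spec (CommRingCat.of K))} [GrpObj T] (hT : Red.IsTorus T) :
    IrreducibleSpace T.left ∧ IsReduced T.left := by
  obtain ⟨S', f, -, hs, -, hloc⟩ := hT
  obtain ⟨x₀⟩ : Nonempty (Spec (CommRingCat.of K)) :=
    inferInstanceAs (Nonempty (PrimeSpectrum K))
  obtain ⟨s', -⟩ := hs.surj x₀
  obtain ⟨U, hU, r, ⟨e⟩⟩ := hloc s'
  let e' : Red.bc (U.ι ≫ f) T ≅ Red.DS (U : Scheme.{u}) (Fin r → ℤ) :=
    (Grp.forget _).mapIso e
  let u₀ : (U : Scheme.{u}) := ⟨s', hU⟩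
  let Y : Over (U : Scheme.{u}) := Over.mk ((U : Scheme.{u}).fromSpecResidueField u₀)
  have : IsAffine Y.left := inferInstanceAs (IsAffine (Spec _))
  let q : polyDS Y (Fin r → ℤ) ⟶ Y ⊗ Red.bc (U.ι ≫ f) T :=
    (polyIso Y (Fin r → ℤ)).hom ≫ (Y ◁ e'.inv)
  have hq : IsIso q := inferInstance
  have hql : IsIso q.left := inferInstanceAs (IsIso ((Over.forget _).map q))
  have hdom : IsDomain (DSRing Y (Fin r → ℤ)) := by
    have : IsDomain (Gam Y) :=
      (Scheme.ΓSpecIso ((U : Scheme.{u}).residueField u₀)).commRingCatIsoToRingEquiv.toMulEquiv.isDomain _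
    infer_instance
  have : IrreducibleSpace ↥(polyDS Y (Fin r → ℤ)).left :=
    inferInstanceAs (IrreducibleSpace (PrimeSpectrum (DSRing Y (Fin r → ℤ))))
  let ψ : (polyDS Y (Fin r → ℤ)).left ⟶ T.left :=
    q.left ≫ pullback.snd Y.hom (pullback.snd T.hom (U.ι ≫ f)) ≫ pullback.fst T.hom (U.ι ≫ f)
  have hψ : Function.Surjective ψ.base := by
    intro x
    obtain ⟨y, hy1, hy2⟩ := Scheme.Pullback.exists_preimage_pullback (f := T.hom)
      (g := U.ι ≫ f) x u₀ (Subsingleton.elim _ _)
    let c : Y.left := IsLocalRing.closedPoint ((U : Scheme.{u}).residueField u₀)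
    obtain ⟨z, -, hz⟩ := Scheme.Pullback.exists_preimage_pullback (f := Y.hom)
      (g := pullback.snd T.hom (U.ι ≫ f)) c y (by
        rw [hy2]
        exact Scheme.fromSpecResidueField_apply _ _)
    refine ⟨(inv q.left).base z, ?_⟩
    have : (inv q.left ≫ ψ) z = x := by
      simp only [ψ, IsIso.inv_hom_id_assoc, Scheme.Hom.comp_apply, hz, hy1]
    exact this
  have hne : Nonempty T.left := ⟨ψ (Classical.arbitrary _)⟩
  refine ⟨{ toPreirreducibleSpace := ⟨by
              rw [← hψ.range_eq, ← Set.image_univ]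
              exact (PreirreducibleSpace.isPreirreducible_univ.image _ ψ.continuous.continuousOn)⟩
            toNonempty := hne }, ?_⟩
  have : IsReduced (polyDS Y (Fin r → ℤ)).left :=
    inferInstanceAs (IsReduced (Spec (CommRingCat.of (DSRing Y (Fin r → ℤ)))))
  have : Surjective ψ := ⟨hψ⟩
  let g := Y.hom ≫ U.ι ≫ f
  have hfl : Flat g := by
    obtain ⟨w, hw⟩ := Spec.map_surjective g
    rw [← hw]
    exact (specMap_field_flat_surjective (Field.toIsField K) w).1
  have hψfl : Flat ψ := by
    have hsym : pullback.snd Y.hom (pullback.snd T.hom (U.ι ≫ f)) ≫ pullback.fst T.hom (U.ι ≫ f) =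
        (pullbackSymmetry _ _).hom ≫ (pullbackLeftPullbackSndIso T.hom (U.ι ≫ f) Y.hom).hom ≫
          pullback.fst T.hom g := by
      rw [pullbackLeftPullbackSndIso_hom_fst, ← Category.assoc, pullbackSymmetry_hom_comp_fst]
    show Flat (q.left ≫ _)
    rw [hsym]
    haveI : Flat (pullback.fst T.hom g) := MorphismProperty.pullback_fst _ _ hfl
    infer_instance
  have : ∀ y, _root_.IsReduced (T.left.presheaf.stalk y) := fun y => by
    obtain ⟨x, rfl⟩ := ψ.surjective y
    letI := (ψ.stalkMap x).hom.toAlgebra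
    haveI : Module.Flat (T.left.presheaf.stalk (ψ x)) ((polyDS Y (Fin r → ℤ)).left.presheaf.stalk x) :=
      Flat.stalkMap ψ x
    haveI : IsLocalHom (algebraMap (T.left.presheaf.stalk (ψ x))
        ((polyDS Y (Fin r → ℤ)).left.presheaf.stalk x)) :=
      inferInstanceAs (IsLocalHom (ψ.stalkMap x).hom)
    haveI := Module.FaithfullyFlat.of_flat_of_isLocalHom (A := T.left.presheaf.stalk (ψ x))
      (B := (polyDS Y (Fin r → ℤ)).left.presheaf.stalk x)
    exact isReduced_of_injective (ψ.stalkMap x).hom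
      (FaithfulSMul.algebraMap_injective (T.left.presheaf.stalk (ψ x))
        ((polyDS Y (Fin r → ℤ)).left.presheaf.stalk x))
  exact isReduced_of_isReduced_stalk T.left

end Groth.Agent.RedPts82
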