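import Groth.Agent.RedPts82.SmoothTransporter

/-!
Homomorphisms between diagonalisable groups over a variable affine object: rigidity along ideals
of square zero.
-/

universe u

open CategoryTheory MonoidalCategory CartesianMonoidalCategory MonObj GrpObj AlgebraicGeometry
open CategoryTheory.Limits

namespace Groth.Agent.RedPts82

variable {S : Scheme.{u}} {Y : Over S} [IsAffine Y.left] {M : Type} [AddCommGroup M]

/-- Group-like functions on `Y × D(M)`. -/
def IsGL (u : DSRing Y M) : Prop :=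
  (∀ (Z : Over S) (z : Z ⟶ Y) (t t' : Z ⟶ Red.DS S M),
      evalDS z (t * t') u = evalDS z t u * evalDS z t' u) ∧
    ∀ (Z : Over S) (z : Z ⟶ Y), evalDS z (1 : Z ⟶ Red.DS S M) u = 1

theorem isGL_one : IsGL (1 : DSRing Y M) :=
  ⟨fun _ _ _ _ => by simp, fun _ _ => by simp⟩

theorem IsGL.mul {u v : DSRing Y M} (hu : IsGL u) (hv : IsGL v) : IsGL (u * v) :=
  ⟨fun Z z t t' => by
    rw [map_mul, map_mul, map_mul, hu.1, hv.1]
    exact mul_mul_mul_comm _ _ _ _,
  fun Z z => by rw [map_mul, hu.2, hv.2, _root_.mul_one]⟩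

theorem evalDS_eq_sum {Z : Over S} (z : Z ⟶ Y) (t : Z ⟶ Red.DS S M) (u : DSRing Y M) :
    evalDS z t u = u.coeff.sum fun g a => z.left.appTop a * dsFn t (Multiplicative.toAdd g) := by
  conv_lhs => rw [← MonoidAlgebra.sum_coeff_single u]
  rw [map_finsuppSum]
  exact Finsupp.sum_congr fun g _ => evalDS_single z t (Multiplicative.toAdd g) _

theorem IsGL.coeff_mul [DecidableEq M] {u₀ : DSRing Y M} (hu : IsGL u₀) (a b : Multiplicative M) :
    u₀.coeff a * u₀.coeff b = if a = b then u₀.coeff a else 0 := by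
  classical
  let W := polyDS Y (M × M)
  let e : Multiplicative M × Multiplicative M ≃* Multiplicative (M × M) :=
    (MulEquiv.prodMultiplicative M M).symm
  let t₁ : W ⟶ Red.DS S M := polyTu Y (M × M) ≫ Red.DSmap S (AddMonoidHom.inl M M)
  let t₂ : W ⟶ Red.DS S M := polyTu Y (M × M) ≫ Red.DSmap S (AddMonoidHom.inr M M)
  let κ : MonoidAlgebra (Gam Y) (Multiplicative M × Multiplicative M) →+* Γ(W.left, ⊤) :=
    (polyCoord Y (M × M)).comp (MonoidAlgebra.mapDomainRingHom (Gam Y) e.toMonoidHom)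
  have hκ : Function.Injective κ :=
    (polyCoord_bijective Y (M × M)).1.comp (MonoidAlgebra.mapDomain_injective e.injective)
  have hev : ∀ (i : Multiplicative M →* Multiplicative M × Multiplicative M)
      (t : W ⟶ Red.DS S M) (_ : ∀ m, dsFn t m =
        κ (MonoidAlgebra.single (i (Multiplicative.ofAdd m)) 1)),
      evalDS (polyProj Y (M × M)) t = κ.comp (MonoidAlgebra.mapDomainRingHom (Gam Y) i) := by
    intro i t ht
    refine MonoidAlgebra.ringHom_ext (fun a => ?_) (fun g => ?_)
    · refine (evalDS_single _ _ 0 a).trans ?_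
      rw [dsFn_zero, _root_.mul_one, polyProj_appTop]
      show _ = polyCoord Y (M × M) (MonoidAlgebra.mapDomain _ (MonoidAlgebra.mapDomain _ _))
      rw [MonoidAlgebra.mapDomain_single, MonoidAlgebra.mapDomain_single, map_one, map_one]
    · refine (evalDS_single _ _ (Multiplicative.toAdd g) 1).trans ?_
      rw [map_one, _root_.one_mul, ht]
      show κ _ = κ (MonoidAlgebra.mapDomain _ _)
      rw [MonoidAlgebra.mapDomain_single]
      rfl
  have hκs : ∀ g : Multiplicative M × Multiplicative M, κ (MonoidAlgebra.single g 1) =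
      polyCoord Y (M × M) (MonoidAlgebra.single (e g) 1) := fun g => by
    show polyCoord Y (M × M) (MonoidAlgebra.mapDomain _ _) = _
    rw [MonoidAlgebra.mapDomain_single]
    rfl
  have h₁ : ∀ m, dsFn t₁ m =
      κ (MonoidAlgebra.single (MonoidHom.inl _ _ (Multiplicative.ofAdd m)) 1) := fun m => by
    rw [dsFn_DSmap, dsFn_polyTu, hκs]
    rfl
  have h₂ : ∀ m, dsFn t₂ m =
      κ (MonoidAlgebra.single (MonoidHom.inr _ _ (Multiplicative.ofAdd m)) 1) := fun m => by
    rw [dsFn_DSmap, dsFn_polyTu, hκs]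
    rfl
  have h₁₂ : ∀ m, dsFn (t₁ * t₂) m =
      κ (MonoidAlgebra.single (((MonoidHom.id _).prod (MonoidHom.id _)) (Multiplicative.ofAdd m)) 1) :=
    fun m => by
    rw [dsFn_mul, h₁, h₂, ← map_mul, MonoidAlgebra.single_mul_single]
    simp
  have hprod : MonoidAlgebra.mapDomainRingHom (Gam Y)
      ((MonoidHom.id (Multiplicative M)).prod (MonoidHom.id (Multiplicative M))) u₀ =
      MonoidAlgebra.mapDomainRingHom (Gam Y) (MonoidHom.inl _ _) u₀ *
        MonoidAlgebra.mapDomainRingHom (Gam Y) (MonoidHom.inr _ _) u₀ := by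
    apply hκ
    rw [map_mul]
    have e0 := hu.1 W (polyProj Y (M × M)) t₁ t₂
    rw [hev _ _ h₁, hev _ _ h₂, hev _ _ h₁₂] at e0
    exact e0
  rw [← coeff_mapDomain_inl_mul_inr u₀ u₀ a b, ← hprod]
  show Finsupp.mapDomain _ u₀.coeff (a, b) = _
  split_ifs with hab
  · subst hab
    exact Finsupp.mapDomain_apply (f := (MonoidHom.id (Multiplicative M)).prod (MonoidHom.id _))
      (fun x y h => congrArg Prod.fst h) _ a
  · refine Finsupp.mapDomain_of_notMem_range _ _ ?_
    rintro ⟨x, hx⟩
    exact hab ((congrArg Prod.fst hx).symm.trans (congrArg Prod.snd hx))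

theorem IsGL.coeff_sum {u₀ : DSRing Y M} (hu : IsGL u₀) :
    (u₀.coeff.sum fun _ a => a) = 1 := by
  refine Eq.trans ?_ (hu.2 Y (𝟙 Y))
  rw [evalDS_eq_sum]
  refine Finsupp.sum_congr fun g _ => ?_
  rw [dsFn_one, _root_.mul_one]
  rfl

/-- Complete orthogonal idempotents give group-like functions. -/
theorem isGL_sum {κ : Type} [Fintype κ] (g : κ → M) {e : κ → Gam Y}
    (he : CompleteOrthogonalIdempotents e) :
    IsGL (∑ i, MonoidAlgebra.single (Multiplicative.ofAdd (g i)) (e i) : DSRing Y M) := by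
  classical
  refine ⟨fun Z z t t' => ?_, fun Z z => ?_⟩
  · simp only [map_sum, evalDS_single, dsFn_mul]
    rw [Finset.sum_mul_sum]
    refine Finset.sum_congr rfl fun i _ => ?_
    rw [Finset.sum_eq_single i (fun j _ hj => ?_) (fun h => absurd (Finset.mem_univ i) h)]
    · have h1 := congrArg z.left.appTop.hom (he.idem i)
      rw [map_mul] at h1
      conv_lhs => rw [← h1]
      ring
    · have h1 := congrArg z.left.appTop.hom (he.ortho hj.symm)
      rw [map_mul, map_zero] at h1
      calc z.left.appTop (e i) * dsFn t (g i) * (z.left.appTop (e j) * dsFn t' (g j)) =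
          (z.left.appTop (e i) * z.left.appTop (e j)) * (dsFn t (g i) * dsFn t' (g j)) := by ring
        _ = 0 := by rw [h1, zero_mul]
  · simp only [map_sum, evalDS_single, dsFn_one, _root_.mul_one]
    rw [← map_sum, he.complete, map_one]

/-- Group-like functions congruent modulo an ideal of square zero are equal. -/
theorem IsGL.eq_of_congr {u v : DSRing Y M} (hu : IsGL u) (hv : IsGL v) {J : Ideal (Gam Y)}
    (hJ : J * J = ⊥) (h : ∀ g, u.coeff g - v.coeff g ∈ J) : u = v := by
  classical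
  refine MonoidAlgebra.ext (Finsupp.ext fun g => ?_)
  have e1 : u.coeff g * u.coeff g = u.coeff g := by rw [hu.coeff_mul, if_pos rfl]
  have e2 : v.coeff g * v.coeff g = v.coeff g := by rw [hv.coeff_mul, if_pos rfl]
  have h0 : (u.coeff g - v.coeff g) * (u.coeff g - v.coeff g) = 0 :=
    (Submodule.mem_bot _).mp (hJ ▸ Ideal.mul_mem_mul (h g) (h g))
  linear_combination (u.coeff g - v.coeff g) * h0 + (3 * v.coeff g - u.coeff g - 1) * e1 +
    (v.coeff g - 3 * u.coeff g + 1) * e2

section Red

variable {T : Over S} [IsAffine T.left] {J : Ideal (Gam T)}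

omit [IsAffine Y.left] in
theorem evalDS_comp_map {Y' : Over S} [IsAffine Y.left] [IsAffine Y'.left] (w : Y' ⟶ Y) {Z : Over S}
    (z : Z ⟶ Y') (t : Z ⟶ Red.DS S M) (u : DSRing Y M) :
    evalDS (z ≫ w) t u =
      evalDS z t (MonoidAlgebra.mapRingHom (Multiplicative M) w.left.appTop.hom u) := by
  refine DFunLike.congr_fun (f := evalDS (z ≫ w) t)
    (g := (evalDS z t).comp (MonoidAlgebra.mapRingHom (Multiplicative M) w.left.appTop.hom)) ?_ u
  refine MonoidAlgebra.ringHom_ext (fun a => ?_) (fun g => ?_)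
  · refine (evalDS_single _ _ 0 a).trans ?_
    rw [RingHom.comp_apply, MonoidAlgebra.mapRingHom_single]
    exact (evalDS_single z t 0 _).symm
  · refine (evalDS_single _ _ (Multiplicative.toAdd g) 1).trans ?_
    rw [RingHom.comp_apply, MonoidAlgebra.mapRingHom_single]
    refine Eq.trans ?_ (evalDS_single z t (Multiplicative.toAdd g) _).symm
    simp

theorem evalDS_polyTu (u : DSRing Y M) : evalDS (polyProj Y M) (polyTu Y M) u = polyCoord Y M u := by
  refine DFunLike.congr_fun (f := evalDS (polyProj Y M) (polyTu Y M)) (g := polyCoord Y M) ?_ u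
  refine MonoidAlgebra.ringHom_ext (fun a => ?_) (fun g => ?_)
  · refine (evalDS_single _ _ 0 a).trans ?_
    rw [← polyCoord_single]
    rfl
  · refine (evalDS_single _ _ (Multiplicative.toAdd g) 1).trans ?_
    rw [← polyCoord_single]
    rfl

theorem redMap_appTop_surjective : Function.Surjective (redMap T J).left.appTop := fun b => by
  obtain ⟨a, ha⟩ := Ideal.Quotient.mk_surjective
    ((Scheme.ΓSpecIso (CommRingCat.of (Gam T ⧸ J))).hom b)
  refine ⟨a, ?_⟩
  rw [redMap_appTop, ha]
  exact (Scheme.ΓSpecIso (CommRingCat.of (Gam T ⧸ J))).commRingCatIsoToRingEquiv.symm_apply_apply b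

/-- A group-like function modulo an ideal of square zero lifts. -/
theorem exists_isGL_lift (hJ : J * J = ⊥) {u₀ : DSRing (redObj T J) M} (hu : IsGL u₀) :
    ∃ u : DSRing T M, IsGL u ∧
      MonoidAlgebra.mapRingHom (Multiplicative M) (redMap T J).left.appTop.hom u = u₀ := by
  classical
  have he : CompleteOrthogonalIdempotents fun g : u₀.coeff.support => u₀.coeff g.1 :=
    { idem := fun g => (hu.coeff_mul g.1 g.1).trans (if_pos rfl)
      ortho := fun g g' hgg => (hu.coeff_mul g.1 g'.1).trans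
        (if_neg fun h => hgg (Subtype.ext h))
      complete := by
        rw [Finset.sum_coe_sort u₀.coeff.support (fun g => u₀.coeff g)]
        exact hu.coeff_sum }
  have hker : ∀ x ∈ RingHom.ker (redMap T J).left.appTop.hom, IsNilpotent x := fun x hx => by
    refine ⟨2, ?_⟩
    have : x ∈ J := by
      have := (redMap_appTop_eq_iff T J x 0).mp (by rw [map_zero]; exact hx)
      simpa using this
    rw [pow_two]
    exact (Submodule.mem_bot _).mp (hJ ▸ Ideal.mul_mem_mul this this)
  obtain ⟨e, he', hee⟩ := he.lift_of_isNilpotent_ker (redMap T J).left.appTop.hom hker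
    fun g => RingHom.mem_range.2 (redMap_appTop_surjective _)
  refine ⟨_, isGL_sum (fun g : u₀.coeff.support => Multiplicative.toAdd g.1) he', ?_⟩
  rw [map_sum]
  have hem : ∀ g : u₀.coeff.support, (redMap T J).left.appTop.hom (e g) = u₀.coeff g.1 :=
    fun g => congrFun hee g
  simp only [MonoidAlgebra.mapRingHom_single, hem, ofAdd_toAdd]
  rw [Finset.sum_coe_sort u₀.coeff.support fun g => MonoidAlgebra.single g (u₀.coeff g)]
  exact u₀.sum_coeff_single

end Red

/-- A family of homomorphisms of diagonalisable groups over `Y`. -/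
def IsRelHom {N : Type} [AddCommGroup N] (f : Y ⊗ Red.DS S M ⟶ Red.DS S N) : Prop :=
  ∀ (Z : Over S) (z : Z ⟶ Y) (t t' : Z ⟶ Red.DS S M),
    CartesianMonoidalCategory.lift z (t * t') ≫ f =
      (CartesianMonoidalCategory.lift z t ≫ f) * (CartesianMonoidalCategory.lift z t' ≫ f)

variable {N : Type} [AddCommGroup N]

theorem IsRelHom.map_one {f : Y ⊗ Red.DS S M ⟶ Red.DS S N} (hf : IsRelHom f) (Z : Over S)
    (z : Z ⟶ Y) : CartesianMonoidalCategory.lift z (1 : Z ⟶ Red.DS S M) ≫ f = 1 := by
  have h := hf Z z 1 1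
  rw [_root_.one_mul (1 : Z ⟶ Red.DS S M)] at h
  refine dsFn_injective fun n => ?_
  have h1 := congrArg (fun k => dsFn k n) h
  rw [dsFn_mul] at h1
  rw [dsFn_one]
  have hu : dsFn (CartesianMonoidalCategory.lift z (1 : Z ⟶ Red.DS S M) ≫ f) n *
      dsFn (CartesianMonoidalCategory.lift z (1 : Z ⟶ Red.DS S M) ≫ f) (-n) = 1 := by
    rw [← dsFn_add, add_neg_cancel, dsFn_zero]
  exact (IsUnit.of_mul_eq_one _ hu).mul_eq_left.mp h1.symm

theorem exists_fn_of_relHom {f : Y ⊗ Red.DS S M ⟶ Red.DS S N} (hf : IsRelHom f) (n : N) :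
    ∃ u : DSRing Y M, IsGL u ∧ ∀ (Z : Over S) (z : Z ⟶ Y) (t : Z ⟶ Red.DS S M),
      dsFn (CartesianMonoidalCategory.lift z t ≫ f) n = evalDS z t u := by
  obtain ⟨u, hu⟩ := (polyCoord_bijective Y M).2
    (dsFn ((polyIso Y M).hom ≫ f) n)
  have key : ∀ (Z : Over S) (z : Z ⟶ Y) (t : Z ⟶ Red.DS S M),
      dsFn (CartesianMonoidalCategory.lift z t ≫ f) n = evalDS z t u := fun Z z t => by
    obtain ⟨w, h1, h2, h3⟩ := exists_polyLift z t
    rw [← h3, hu, ← dsFn_comp]
    show _ = dsFn (w ≫ CartesianMonoidalCategory.lift (polyProj Y M) (polyTu Y M) ≫ f) n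
    rw [comp_lift_assoc, h1, h2]
  refine ⟨u, ⟨fun Z z t t' => ?_, fun Z z => ?_⟩, key⟩
  · rw [← key, ← key, ← key, hf, dsFn_mul]
  · rw [← key, hf.map_one, dsFn_one]

section Lift

variable {T : Over S} [IsAffine T.left] {J : Ideal (Gam T)}

/-- Congruent families of homomorphisms of diagonalisable groups are equal. -/
theorem IsRelHom.eq_of_congr (hJ : J * J = ⊥) {f f' : T ⊗ Red.DS S M ⟶ Red.DS S N}
    (hf : IsRelHom f) (hf' : IsRelHom f')
    (h : ∀ (Z : Over S) (z : Z ⟶ redObj T J) (t : Z ⟶ Red.DS S M),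
      CartesianMonoidalCategory.lift (z ≫ redMap T J) t ≫ f =
        CartesianMonoidalCategory.lift (z ≫ redMap T J) t ≫ f') : f = f' := by
  refine dsFn_injective fun n => ?_
  obtain ⟨u, hu, hu'⟩ := exists_fn_of_relHom hf n
  obtain ⟨v, hv, hv'⟩ := exists_fn_of_relHom hf' n
  have e : u = v := by
    refine hu.eq_of_congr hv hJ fun g => (redMap_appTop_eq_iff T J _ _).mp ?_
    have h1 := h _ (polyProj (redObj T J) M) (polyTu (redObj T J) M)
    have h2 := congrArg (fun k => dsFn k n) h1
    simp only [hu', hv', evalDS_comp_map, evalDS_polyTu] at h2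
    have h3 := (polyCoord_bijective (redObj T J) M).1 h2
    simpa using congrArg (fun x => x.coeff g) h3
  have h1 := hu' _ (fst T (Red.DS S M)) (snd _ _)
  have h2 := hv' _ (fst T (Red.DS S M)) (snd _ _)
  rw [lift_fst_snd, Category.id_comp] at h1 h2
  rw [h1, h2, e]

/-- Families of homomorphisms of diagonalisable groups lift along ideals of square zero. -/
theorem exists_relHom_lift (hJ : J * J = ⊥) (f₀ : redObj T J ⊗ Red.DS S M ⟶ Red.DS S N)
    (hf₀ : IsRelHom f₀) :
    ∃ f : T ⊗ Red.DS S M ⟶ Red.DS S N, IsRelHom f ∧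
      ∀ (Z : Over S) (z : Z ⟶ redObj T J) (t : Z ⟶ Red.DS S M),
        CartesianMonoidalCategory.lift (z ≫ redMap T J) t ≫ f =
          CartesianMonoidalCategory.lift z t ≫ f₀ := by
  choose u₀ hu₀ hu₀' using fun n => exists_fn_of_relHom hf₀ n
  choose u hu hu' using fun n => exists_isGL_lift hJ (hu₀ n)
  have huniq : ∀ n (v : DSRing T M), IsGL v →
      MonoidAlgebra.mapRingHom (Multiplicative M) (redMap T J).left.appTop.hom v = u₀ n →
      v = u n := fun n v hv hv' => by
    refine hv.eq_of_congr (hu n) hJ fun g => (redMap_appTop_eq_iff T J _ _).mp ?_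
    simpa using congrArg (fun x => x.coeff g) (hv'.trans (hu' n).symm)
  have hinj : ∀ a b : DSRing (redObj T J) M,
      evalDS (polyProj _ M) (polyTu _ M) a = evalDS (polyProj _ M) (polyTu _ M) b → a = b :=
    fun a b h => by
      rw [evalDS_polyTu, evalDS_polyTu] at h
      exact (polyCoord_bijective _ M).1 h
  let χ : Multiplicative N →* Γ((polyDS T M).left, ⊤) :=
    { toFun := fun n => polyCoord T M (u (Multiplicative.toAdd n))
      map_one' := by
        rw [← huniq _ 1 isGL_one (hinj _ _ (by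
          rw [← hu₀', map_one, map_one]; exact (dsFn_zero _).symm)), map_one]
      map_mul' := fun a b => by
        rw [← huniq _ _ ((hu (Multiplicative.toAdd a)).mul (hu (Multiplicative.toAdd b)))
          (hinj _ _ (by
            rw [map_mul, hu', hu', map_mul, ← hu₀', ← hu₀', ← hu₀', toAdd_mul, dsFn_add])),
          map_mul] }
  obtain ⟨φ, hφ⟩ := dsFn_surjective (S := S) (M := N) (X := polyDS T M) χ
  let f : T ⊗ Red.DS S M ⟶ Red.DS S N := (polyIso T M).inv ≫ φ
  have key : ∀ (Z : Over S) (z : Z ⟶ T) (t : Z ⟶ Red.DS S M) (n : N),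
      dsFn (CartesianMonoidalCategory.lift z t ≫ f) n = evalDS z t (u n) := fun Z z t n => by
    obtain ⟨w, h1, h2, h3⟩ := exists_polyLift z t
    have e : CartesianMonoidalCategory.lift z t ≫ (polyIso T M).inv = w := by
      rw [Iso.comp_inv_eq]
      show _ = w ≫ CartesianMonoidalCategory.lift (polyProj T M) (polyTu T M)
      rw [comp_lift, h1, h2]
    show dsFn (_ ≫ _ ≫ φ) n = _
    rw [reassoc_of% e, dsFn_comp, hφ, ← h3]
    rfl
  refine ⟨f, fun Z z t t' => dsFn_injective fun n => ?_, fun Z z t => dsFn_injective fun n => ?_⟩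
  · rw [dsFn_mul, key, key, key, (hu n).1]
  · rw [key, evalDS_comp_map, hu', hu₀']

end Lift

end Groth.Agent.RedPts82
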