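import Groth.Agent.RedPts82.FixedPts
import Groth.Agent.RedPts82.RelHom
import Groth.Agent.RedPts82.TorusBasic

/-!
The normaliser of a subgroup of multiplicative type in a smooth separated group is smooth.
-/

universe u

open CategoryTheory MonoidalCategory CartesianMonoidalCategory MonObj GrpObj AlgebraicGeometry
open CategoryTheory.Limits

namespace Groth.Agent.RedPts82

variable {S : Scheme.{u}}

set_option maxHeartbeats 4000000 in
/-- A diagonalisable group surjecting on the points of the base change of a group isomorphic to it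
after base change. -/
theorem exists_ds_cover_mono {W U : Scheme.{u}} (i : W ⟶ U) (g : U ⟶ S) (φ : W ⟶ S) (hφ : i ≫ g = φ)
    {H : Over S} [GrpObj H] {M : Type} [AddCommGroup M]
    (e : Grp.mk (Red.bc g H) ≅ Grp.mk (Red.DS U M)) :
    ∃ a : Red.DS W M ⟶ Red.bc φ H, IsMonHom a ∧ Mono a ∧
      ∀ (X : Over W) (h : X ⟶ Red.bc φ H), ∃ t : X ⟶ Red.DS W M, t ≫ a = h := by
  subst hφ
  haveI : IsMonHom e.inv.hom.hom := e.inv.hom.isMonHom_hom
  -- the same functions, over `U`
  have h1 : ∀ (X : Over W) (t : X ⟶ Red.DS W M),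
      ∃ t' : (Over.map i).obj X ⟶ Red.DS U M, ∀ m, dsFn t' m = dsFn t m := fun X t =>
    let χ : Multiplicative M →* Γ(X.left, ⊤) :=
      { toFun := fun m => dsFn t (Multiplicative.toAdd m)
        map_one' := dsFn_zero t
        map_mul' := fun m m' => dsFn_add t _ _ }
    dsFn_surjective (X := (Over.map i).obj X) χ
  choose L hL using h1
  let cg : ∀ X : Over W, (Over.map (i ≫ g)).obj X ⟶ (Over.map g).obj ((Over.map i).obj X) := fun X =>
    Over.homMk (𝟙 X.left) (by simp)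
  let cg' : ∀ X : Over W, (Over.map g).obj ((Over.map i).obj X) ⟶ (Over.map (i ≫ g)).obj X := fun X =>
    Over.homMk (𝟙 X.left) (by simp)
  let Θ : ∀ (X : Over W), (X ⟶ Red.DS W M) → (X ⟶ Red.bc (i ≫ g) H) := fun X t =>
    ofBase (i ≫ g) (cg X ≫ toBase g (L X t ≫ e.inv.hom.hom))
  have hnat : ∀ (X X' : Over W) (w : X' ⟶ X) (t : X ⟶ Red.DS W M), Θ X' (w ≫ t) = w ≫ Θ X t := by
    intro X X' w t
    apply toBase_injective (i ≫ g)
    have hl : L X' (w ≫ t) = (Over.map i).map w ≫ L X t := dsFn_injective fun m => by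
      rw [hL, dsFn_comp, dsFn_comp, hL]; rfl
    rw [toBase_comp]
    simp only [Θ, toBase_ofBase, hl]
    rw [Category.assoc ((Over.map i).map w), toBase_comp g ((Over.map i).map w), ← Category.assoc,
      ← Category.assoc ((Over.map (i ≫ g)).map w)]
    congr 1
  have hmul : ∀ (X : Over W) (t t' : X ⟶ Red.DS W M), Θ X (t * t') = Θ X t * Θ X t' := by
    intro X t t'
    apply toBase_injective (i ≫ g)
    have hl : L X (t * t') = L X t * L X t' := dsFn_injective fun m => by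
      rw [hL, dsFn_mul, dsFn_mul, hL, hL]
    rw [toBase_mul]
    simp only [Θ, toBase_ofBase, hl, MonObj.mul_comp _ _ e.inv.hom.hom, toBase_mul, MonObj.comp_mul]
  have ha : ∀ (X : Over W) (t : X ⟶ Red.DS W M), t ≫ Θ _ (𝟙 _) = Θ X t := fun X t => by
    rw [← hnat, Category.comp_id]
  have hmono : Mono (Θ _ (𝟙 _)) := ⟨fun {X} x y h => by
    rw [ha, ha] at h
    have h1 := congrArg (fun q => cg' X ≫ toBase (i ≫ g) q) h
    simp only [Θ, toBase_ofBase] at h1
    rw [← Category.assoc, ← Category.assoc] at h1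
    have hc : cg' X ≫ cg X = 𝟙 _ := Over.OverMorphism.ext (Category.comp_id _)
    rw [hc, Category.id_comp, Category.id_comp] at h1
    haveI : IsIso e.inv.hom.hom := ((Grp.forget _).mapIso e).isIso_inv
    have h2 : L X x = L X y := (cancel_mono e.inv.hom.hom).mp (toBase_injective g h1)
    exact dsFn_injective fun m => by rw [← hL X x m, ← hL X y m, h2]⟩
  refine ⟨Θ _ (𝟙 _), isMonHom_of_points _ fun X x y => by rw [ha, ha, ha, hmul], hmono, fun X h => ?_⟩
  let h₂ : (Over.map i).obj X ⟶ Red.bc g H :=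
    ofBase g (cg' X ≫ toBase (i ≫ g) h)
  obtain ⟨t₀, ht₀⟩ : ∃ t₀ : (Over.map i).obj X ⟶ Red.DS U M, t₀ = h₂ ≫ e.hom.hom.hom := ⟨_, rfl⟩
  let χ : Multiplicative M →* Γ(((Over.map i).obj X).left, ⊤) :=
    { toFun := fun m => dsFn t₀ (Multiplicative.toAdd m)
      map_one' := dsFn_zero t₀
      map_mul' := fun m m' => dsFn_add t₀ _ _ }
  obtain ⟨t, ht⟩ := dsFn_surjective (S := W) (M := M) (X := X) χ
  refine ⟨t, ?_⟩
  rw [ha]
  have hl : L X t = h₂ ≫ e.hom.hom.hom := ht₀ ▸ dsFn_injective fun m => (hL X t m).trans (ht m)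
  apply toBase_injective (i ≫ g)
  have he : e.hom.hom.hom ≫ e.inv.hom.hom = 𝟙 _ := congrArg (fun k => k.hom.hom) e.hom_inv_id
  simp only [Θ, toBase_ofBase, hl, Category.assoc, he, Category.comp_id, h₂]
  rw [← Category.assoc]
  refine (congrArg (· ≫ toBase (i ≫ g) h) ?_).trans (Category.id_comp _)
  exact Over.OverMorphism.ext (Category.comp_id _)


section Split

variable [IsAffine S] {G : Over S} [GrpObj G] [Smooth G.hom] {M : Type}
  [AddCommGroup M] (q : Red.DS S M ⟶ G) [IsMonHom q] [Mono q]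

set_option maxHeartbeats 2000000 in
/-- A point normalising a diagonalisable subgroup modulo an ideal of square zero lifts to a
normalising point. -/
theorem exists_normalizer_lift {Xu : Over S} [IsAffine Xu.left] (j : Xu ⟶ G) [IsOpenImmersion j.left]
    {T : Over S} [IsAffine T.left] {J : Ideal (Gam T)} (hJ : J * J = ⊥) (g : T ⟶ Xu)
    (hg : ∀ (Z : Over S) (z : Z ⟶ redObj T J) (h : Z ⟶ Red.DS S M),
      (∃ h', (z ≫ redMap T J ≫ g ≫ j) * (h ≫ q) * (z ≫ redMap T J ≫ g ≫ j)⁻¹ = h' ≫ q) ∧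
      ∃ h', (z ≫ redMap T J ≫ g ≫ j)⁻¹ * (h ≫ q) * (z ≫ redMap T J ≫ g ≫ j) = h' ≫ q) :
    ∃ k : T ⟶ Xu, redMap T J ≫ k = redMap T J ≫ g ∧
      ∀ (Z : Over S) (x : Z ⟶ T) (h : Z ⟶ Red.DS S M),
        (∃ h', (x ≫ k ≫ j) * (h ≫ q) * (x ≫ k ≫ j)⁻¹ = h' ≫ q) ∧
        ∃ h', (x ≫ k ≫ j)⁻¹ * (h ≫ q) * (x ≫ k ≫ j) = h' ≫ q := by
  let g₀ : redObj T J ⟶ G := redMap T J ≫ g ≫ j
  obtain ⟨f₀, hf₀'⟩ := (hg _ (fst (redObj T J) (Red.DS S M)) (snd _ _)).1
  obtain ⟨e₀, he₀'⟩ := (hg _ (fst (redObj T J) (Red.DS S M)) (snd _ _)).2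
  have hf₀ : ∀ {Z : Over S} (z : Z ⟶ redObj T J) (t : Z ⟶ Red.DS S M),
      (CartesianMonoidalCategory.lift z t ≫ f₀) ≫ q = (z ≫ g₀) * (t ≫ q) * (z ≫ g₀)⁻¹ := fun z t => by
    rw [Category.assoc, ← hf₀']
    simp only [MonObj.comp_mul, GrpObj.comp_inv, lift_fst_assoc, lift_snd_assoc, g₀]
  have he₀ : ∀ {Z : Over S} (z : Z ⟶ redObj T J) (t : Z ⟶ Red.DS S M),
      (CartesianMonoidalCategory.lift z t ≫ e₀) ≫ q = (z ≫ g₀)⁻¹ * (t ≫ q) * (z ≫ g₀) := fun z t => by
    rw [Category.assoc, ← he₀']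
    simp only [MonObj.comp_mul, GrpObj.comp_inv, lift_fst_assoc, lift_snd_assoc, g₀]
  obtain ⟨f, hf, hff⟩ := exists_relHom_lift hJ f₀ fun Z z t t' => by
    rw [← cancel_mono q]
    simp only [MonObj.mul_comp, hf₀]
    group
  obtain ⟨e, he, hee⟩ := exists_relHom_lift hJ e₀ fun Z z t t' => by
    rw [← cancel_mono q]
    simp only [MonObj.mul_comp, he₀]
    group
  -- the two families are inverse to each other
  have hfe : CartesianMonoidalCategory.lift (fst T (Red.DS S M)) e ≫ f = snd _ _ := by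
    refine IsRelHom.eq_of_congr hJ (fun Z z t t' => ?_) (fun Z z t t' => ?_) fun Z z t => ?_
    · simp only [comp_lift_assoc, lift_fst]
      rw [he, hf]
    · simp only [lift_snd]
    · rw [comp_lift_assoc, lift_fst, hee, hff, lift_snd, ← cancel_mono q, hf₀, he₀]
      group
  -- the twisted conjugation action on `T × G`
  let act : Red.DS S M ⊗ (T ⊗ G) ⟶ T ⊗ G :=
    CartesianMonoidalCategory.lift (snd _ _ ≫ fst T G)
      ((CartesianMonoidalCategory.lift (snd _ _ ≫ fst T G) (fst _ _) ≫ f ≫ q) *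
        (snd _ _ ≫ snd T G) * (fst _ _ ≫ q)⁻¹)
  have hact : ∀ {Z : Over S} (h : Z ⟶ Red.DS S M) (p : Z ⟶ T ⊗ G),
      CartesianMonoidalCategory.lift h p ≫ act = CartesianMonoidalCategory.lift (p ≫ fst T G)
        ((CartesianMonoidalCategory.lift (p ≫ fst T G) h ≫ f ≫ q) * (p ≫ snd T G) * (h ≫ q)⁻¹) :=
    fun h p => by
      simp only [act, comp_lift, comp_lift_assoc, MonObj.comp_mul, GrpObj.comp_inv, lift_snd_assoc,
        lift_fst_assoc, lift_fst]
  haveI : IsOpenImmersion (T ◁ j).left := by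
    rw [Over.whiskerLeft_left]
    infer_instance
  haveI : IsAffine (T ⊗ Xu).left := isAffine_tensor
  have hfirst : redMap (polyDS T M) (upIdeal T M J) ≫
        CartesianMonoidalCategory.lift (polyTu T M)
          (polyProj T M ≫ CartesianMonoidalCategory.lift (𝟙 T) g ≫ (T ◁ j)) ≫ act =
      redMap (polyDS T M) (upIdeal T M J) ≫ polyProj T M ≫
        CartesianMonoidalCategory.lift (𝟙 T) g ≫ (T ◁ j) := by
    obtain ⟨v, hv⟩ := exists_redMap_comp (J := upIdeal T M J) (J' := J) (polyProj T M)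
      fun a ha => Ideal.mem_map_of_mem _ ha
    simp only [hact, comp_lift, comp_lift_assoc, lift_whiskerLeft, Category.assoc, lift_fst,
      lift_snd, Category.comp_id, MonObj.comp_mul, GrpObj.comp_inv]
    refine congrArg₂ CartesianMonoidalCategory.lift rfl ?_
    rw [← hv, reassoc_of% hff, ← reassoc_of% hv, ← Category.assoc _ f₀ q, hf₀]
    simp only [Category.assoc, g₀]
    group
  obtain ⟨k, hk, hfix⟩ := exists_fixed_lift act (fun Z h h' p => by
      simp only [hact, lift_fst, lift_snd]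
      refine congrArg₂ CartesianMonoidalCategory.lift rfl ?_
      simp only [← Category.assoc]
      rw [hf, MonObj.mul_comp, MonObj.mul_comp]
      group) (T ◁ j) hJ (CartesianMonoidalCategory.lift (𝟙 T) g) hfirst
  refine ⟨k ≫ snd T Xu, by rw [reassoc_of% hk, lift_snd], fun Z x h => ?_⟩
  have key : ∀ t : Z ⟶ Red.DS S M,
      (CartesianMonoidalCategory.lift (x ≫ k ≫ fst T Xu) t ≫ f) ≫ q =
        (x ≫ k ≫ snd T Xu ≫ j) * (t ≫ q) * (x ≫ k ≫ snd T Xu ≫ j)⁻¹ := fun t => by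
    have h1 := congrArg (fun w => w ≫ snd T G) (hfix Z x t)
    simp only [hact, Category.assoc, lift_snd, whiskerLeft_fst, whiskerLeft_snd] at h1
    rw [Category.assoc, eq_mul_inv_iff_mul_eq]
    exact mul_inv_eq_iff_eq_mul.mp h1
  simp only [Category.assoc]
  refine ⟨⟨_, (key h).symm⟩, ⟨CartesianMonoidalCategory.lift (x ≫ k ≫ fst T Xu) h ≫ e, ?_⟩⟩
  have h2 := key (CartesianMonoidalCategory.lift (x ≫ k ≫ fst T Xu) h ≫ e)
  have h3 := congrArg (fun w => CartesianMonoidalCategory.lift (x ≫ k ≫ fst T Xu) h ≫ w) hfe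
  simp only [comp_lift_assoc, lift_fst, lift_snd] at h3
  rw [h3] at h2
  rw [h2]
  group


/-- The normaliser of a diagonalisable subgroup is smooth. -/
theorem smooth_normalizer_split {N : Over S} (c : N ⟶ G) [IsClosedImmersion c.left]
    [LocallyOfFinitePresentation N.hom]
    (hN : ∀ (X : Over S) (g : X ⟶ G), (∃ z : X ⟶ N, z ≫ c = g) ↔
      ∀ (X' : Over S) (x : X' ⟶ X) (h : X' ⟶ Red.DS S M),
        (∃ h', (x ≫ g) * (h ≫ q) * (x ≫ g)⁻¹ = h' ≫ q) ∧
        ∃ h', (x ≫ g)⁻¹ * (h ≫ q) * (x ≫ g) = h' ≫ q) : Smooth N.hom := by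
  refine IsZariskiLocalAtSource.of_openCover (P := @Smooth)
    (G.left.affineCover.pullback₁ c.left) fun i => ?_
  let Xu : Over S := Over.mk (G.left.affineCover.f i ≫ G.hom)
  let j : Xu ⟶ G := Over.homMk (G.left.affineCover.f i) rfl
  haveI : IsAffine Xu.left := inferInstanceAs (IsAffine (G.left.affineCover.X i))
  haveI : IsOpenImmersion j.left := inferInstanceAs (IsOpenImmersion (G.left.affineCover.f i))
  haveI : Smooth Xu.hom := inferInstanceAs (Smooth (G.left.affineCover.f i ≫ G.hom))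
  let CU : Over S := Over.mk (pullback.fst c.left j.left ≫ N.hom)
  let d : CU ⟶ N := Over.homMk (pullback.fst c.left j.left) rfl
  let cu : CU ⟶ Xu := Over.homMk (pullback.snd c.left j.left) (by
    show pullback.snd c.left j.left ≫ Xu.hom = pullback.fst c.left j.left ≫ N.hom
    rw [← Over.w j, ← pullback.condition_assoc, Over.w c])
  have hsq : cu ≫ j = d ≫ c := Over.OverMorphism.ext pullback.condition.symm
  haveI : IsClosedImmersion cu.left :=
    MorphismProperty.pullback_snd (P := @IsClosedImmersion) _ _ ‹_›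
  haveI : IsAffine CU.left := isAffine_of_isAffineHom cu.left
  haveI : LocallyOfFinitePresentation CU.hom := by
    haveI : IsOpenImmersion (pullback.fst c.left j.left) := inferInstance
    exact inferInstanceAs (LocallyOfFinitePresentation (pullback.fst c.left j.left ≫ N.hom))
  show Smooth CU.hom
  refine smooth_of_lifts fun T _ J hJ g₀ => ?_
  obtain ⟨g, hg⟩ := exists_lift_of_smooth hJ (g₀ ≫ cu)
  obtain ⟨k, hk, hnorm⟩ := exists_normalizer_lift q j hJ g fun Z z h => by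
    have := (hN _ (g₀ ≫ d ≫ c)).mp ⟨g₀ ≫ d, Category.assoc _ _ _⟩ Z z h
    rw [reassoc_of% hg, hsq]
    exact this
  obtain ⟨z, hz⟩ := (hN T (k ≫ j)).mpr fun X' x h => hnorm X' x h
  let w : T ⟶ CU := Over.homMk (pullback.lift z.left k.left (congrArg CommaMorphism.left hz)) (by
    show pullback.lift z.left k.left _ ≫ pullback.fst _ _ ≫ N.hom = T.hom
    rw [pullback.lift_fst_assoc, Over.w z])
  have hw : w ≫ cu = k := Over.OverMorphism.ext (pullback.lift_snd _ _ _)
  haveI : Mono cu := Over.mono_of_mono_left cu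
  exact ⟨w, by rw [← cancel_mono cu, Category.assoc, hw, hk, hg]⟩

end Split

set_option maxHeartbeats 4000000 in
/-- The normaliser of a closed subgroup of multiplicative type of a smooth separated group is a
closed subgroup, smooth over the base. -/
theorem exists_smooth_normalizer {H G : Over S} [GrpObj H] [GrpObj G] (hH : IsMultType H)
    [IsSeparated G.hom] [Smooth G.hom] (u : H ⟶ G) [IsMonHom u] [IsClosedImmersion u.left]
    [LocallyOfFinitePresentation u.left] :
    ∃ (N : Over S) (_ : GrpObj N) (n : N ⟶ G), Red.IsNormalizerOf u n ∧ IsClosedImmersion n.left ∧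
      Smooth N.hom := by
  haveI := isMultType_isAffineHom hH
  haveI : IsClosedImmersion (u ⊗ₘ u).left := by
    rw [Over.tensorHom_left]
    exact MorphismProperty.pullbackMap (P := @IsClosedImmersion) ‹_› ‹_› (Over.w u).symm
      (Over.w u).symm
  obtain ⟨C, c, hc, hC, hfp⟩ := exists_transporter_fp (isEssentiallyFree_of_isMultType hH)
    (CartesianMonoidalCategory.lift (fst G H * (snd G H ≫ u) * (fst G H)⁻¹)
      ((fst G H)⁻¹ * (snd G H ≫ u) * fst G H)) (u ⊗ₘ u)
  haveI : Mono c := Over.mono_of_mono_left c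
  have hC' : ∀ (X : Over S) (g : X ⟶ G), (∃ z : X ⟶ C, z ≫ c = g) ↔
      ∀ (X' : Over S) (x : X' ⟶ X) (h : X' ⟶ H),
        (∃ h', (x ≫ g) * (h ≫ u) * (x ≫ g)⁻¹ = h' ≫ u) ∧
        ∃ h', (x ≫ g)⁻¹ * (h ≫ u) * (x ≫ g) = h' ≫ u := by
    intro X g
    refine (hC X g).trans (forall_congr' fun X' => forall_congr' fun x => forall_congr' fun a => ?_)
    simp only [comp_lift, MonObj.comp_mul, GrpObj.comp_inv, lift_fst, lift_snd_assoc]
    constructor
    · rintro ⟨y, hy⟩
      have e1 := congrArg (· ≫ fst G G) hy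
      have e2 := congrArg (· ≫ snd G G) hy
      simp only [Category.assoc, tensorHom_fst, tensorHom_snd, lift_fst, lift_snd] at e1 e2
      exact ⟨⟨y ≫ fst H H, by rw [e1, Category.assoc]⟩, y ≫ snd H H, by rw [e2, Category.assoc]⟩
    · rintro ⟨⟨h₁, e1⟩, h₂, e2⟩
      exact ⟨CartesianMonoidalCategory.lift h₁ h₂, by rw [lift_map, e1, e2]⟩
  haveI : LocallyOfFinitePresentation c.left := by
    refine hfp inferInstance ?_
    rw [Over.tensorHom_left]
    exact MorphismProperty.pullbackMap (P := @LocallyOfFinitePresentation) ‹_› ‹_› (Over.w u).symm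
      (Over.w u).symm
  haveI : LocallyOfFinitePresentation C.hom := by rw [← Over.w c]; infer_instance
  obtain ⟨i, hi⟩ := exists_grpObj_mono c
    (fun T => (hC' T 1).mpr fun X' x h => ⟨⟨h, by simp⟩, h, by simp⟩)
    (fun T a b => (hC' T _).mpr fun X' x h => by
      obtain ⟨⟨h1, e1⟩, -⟩ := (hC' T (b ≫ c)).mp ⟨b, rfl⟩ X' x h
      obtain ⟨⟨h2, e2⟩, -⟩ := (hC' T (a ≫ c)).mp ⟨a, rfl⟩ X' x h1
      obtain ⟨-, h3, e3⟩ := (hC' T (a ≫ c)).mp ⟨a, rfl⟩ X' x h
      obtain ⟨-, h4, e4⟩ := (hC' T (b ≫ c)).mp ⟨b, rfl⟩ X' x h3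
      refine ⟨⟨h2, ?_⟩, h4, ?_⟩
      · rw [← e2, ← e1, MonObj.comp_mul]
        group
      · rw [← e4, ← e3, MonObj.comp_mul]
        group)
    (fun T a => (hC' T _).mpr fun X' x h => by
      obtain ⟨⟨h1, e1⟩, h2, e2⟩ := (hC' T (a ≫ c)).mp ⟨a, rfl⟩ X' x h
      refine ⟨⟨h2, ?_⟩, h1, ?_⟩
      · rw [← e2, GrpObj.comp_inv]
        group
      · rw [← e1, GrpObj.comp_inv]
        group)
  refine ⟨C, i, c, ⟨hi, inferInstance, hC'⟩, hc, ?_⟩
  obtain ⟨S', f, hf, hs, hqc, hloc⟩ := hH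
  haveI : MorphismProperty.DescendsAlong (@Smooth : MorphismProperty Scheme.{u}) Unr55.fpqc.{u} := by
    unfold Unr55.fpqc; infer_instance
  refine prop_of_fpqc_cover (@Smooth) C.hom f hqc fun s' => ?_
  obtain ⟨U₀, hU₀, M, hM, ⟨e⟩⟩ := hloc s'
  obtain ⟨W, hW, hsW, hWU⟩ := exists_isAffineOpen_mem_and_subset hU₀
  refine ⟨W, hsW, ?_⟩
  let φ : (W : Scheme.{u}) ⟶ S := W.ι ≫ f
  haveI : IsAffine (W : Scheme.{u}) := hW
  obtain ⟨a, ha, hmono, hsurj⟩ :=
    exists_ds_cover_mono (S'.homOfLE hWU) (U₀.ι ≫ f) φ (by simp [φ]) e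
  haveI : Smooth (Red.bc φ G).hom := MorphismProperty.pullback_snd (P := @Smooth) _ _ ‹_›
  haveI : IsSeparated (Red.bc φ G).hom := MorphismProperty.pullback_snd (P := @IsSeparated) _ _ ‹_›
  haveI : LocallyOfFinitePresentation (Red.bc φ C).hom :=
    MorphismProperty.pullback_snd (P := @LocallyOfFinitePresentation) _ _ ‹_›
  haveI : IsClosedImmersion ((Over.pullback φ).map c).left :=
    MorphismProperty.baseChange_map φ c inferInstance
  haveI : Mono ((Over.pullback φ).map u) := by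
    haveI : IsClosedImmersion ((Over.pullback φ).map u).left :=
      MorphismProperty.baseChange_map φ u inferInstance
    exact Over.mono_of_mono_left _
  show Smooth (Red.bc φ C).hom
  refine smooth_normalizer_split (a ≫ (Over.pullback φ).map u) ((Over.pullback φ).map c)
    fun X g => ?_
  have hconv : ∀ {X' : Over (W : Scheme.{u})} (g : X' ⟶ Red.bc φ G)
      (h : X' ⟶ Red.DS (W : Scheme.{u}) M),
      ((∃ h', g * (h ≫ a ≫ (Over.pullback φ).map u) * g⁻¹ = h' ≫ a ≫ (Over.pullback φ).map u) ↔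
        ∃ h₁, toBase φ g * (toBase φ (h ≫ a) ≫ u) * (toBase φ g)⁻¹ = h₁ ≫ u) ∧
      ((∃ h', g⁻¹ * (h ≫ a ≫ (Over.pullback φ).map u) * g = h' ≫ a ≫ (Over.pullback φ).map u) ↔
        ∃ h₁, (toBase φ g)⁻¹ * (toBase φ (h ≫ a) ≫ u) * toBase φ g = h₁ ≫ u) := by
    intro X' g h
    constructor <;> constructor <;> rintro ⟨h', e'⟩
    · refine ⟨toBase φ (h' ≫ a), ?_⟩
      have := congrArg (toBase φ) e'
      simp only [← Category.assoc, toBase_mul, toBase_inv, toBase_comp_map] at this ⊢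
      exact this
    · obtain ⟨t, ht⟩ := hsurj X' (ofBase φ h')
      refine ⟨t, toBase_injective φ ?_⟩
      simp only [← Category.assoc, toBase_mul, toBase_inv, toBase_comp_map, ht, toBase_ofBase]
      exact e'
    · refine ⟨toBase φ (h' ≫ a), ?_⟩
      have := congrArg (toBase φ) e'
      simp only [← Category.assoc, toBase_mul, toBase_inv, toBase_comp_map] at this ⊢
      exact this
    · obtain ⟨t, ht⟩ := hsurj X' (ofBase φ h')
      refine ⟨t, toBase_injective φ ?_⟩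
      simp only [← Category.assoc, toBase_mul, toBase_inv, toBase_comp_map, ht, toBase_ofBase]
      exact e'
  constructor
  · rintro ⟨z, rfl⟩ X' x h
    have := (hC' _ _).mp ⟨toBase φ z, rfl⟩ _ ((Over.map φ).map x) (toBase φ (h ≫ a))
    rw [← toBase_comp_map, ← toBase_comp φ x] at this
    exact ⟨(hconv _ h).1.mpr this.1, (hconv _ h).2.mpr this.2⟩
  · intro h
    have key : ∀ (X' : Over S) (x : X' ⟶ (Over.map φ).obj X) (t : X' ⟶ H),
        (∃ h', (x ≫ toBase φ g) * (t ≫ u) * (x ≫ toBase φ g)⁻¹ = h' ≫ u) ∧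
        ∃ h', (x ≫ toBase φ g)⁻¹ * (t ≫ u) * (x ≫ toBase φ g) = h' ≫ u := by
      intro X' x t
      let X₁ : Over (W : Scheme.{u}) := Over.mk (x.left ≫ X.hom)
      have hw : x.left ≫ X.hom ≫ φ = X'.hom := Over.w x
      let α : (Over.map φ).obj X₁ ≅ X' := Over.isoMk (Iso.refl _) (by simpa [X₁] using hw.symm)
      let x₁ : X₁ ⟶ X := Over.homMk x.left rfl
      obtain ⟨t₁, ht₁⟩ := hsurj X₁ (ofBase φ (α.hom ≫ t))
      have hx₁ : toBase φ (x₁ ≫ g) = α.hom ≫ x ≫ toBase φ g := by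
        rw [toBase_comp, ← Category.assoc α.hom]
        congr 1
      obtain ⟨h1, h2⟩ := h X₁ x₁ t₁
      obtain ⟨k1, e1⟩ := (hconv _ t₁).1.mp h1
      obtain ⟨k2, e2⟩ := (hconv _ t₁).2.mp h2
      rw [ht₁, toBase_ofBase, hx₁] at e1 e2
      refine ⟨⟨α.inv ≫ k1, ?_⟩, α.inv ≫ k2, ?_⟩
      · rw [← cancel_epi α.hom]
        simp only [MonObj.comp_mul, GrpObj.comp_inv, Category.assoc, Iso.hom_inv_id_assoc] at e1 ⊢
        exact e1
      · rw [← cancel_epi α.hom]
        simp only [MonObj.comp_mul, GrpObj.comp_inv, Category.assoc, Iso.hom_inv_id_assoc] at e2 ⊢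
        exact e2
    obtain ⟨z, hz⟩ := (hC' _ _).mpr key
    exact ⟨ofBase φ z, toBase_injective φ (by rw [toBase_comp_map, toBase_ofBase, hz])⟩

end Groth.Agent.RedPts82
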