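import Groth.Agent.SGA3a.Transporter
import Mathlib.RingTheory.Finiteness.ModuleFinitePresentation
import Mathlib.RingTheory.Flat.EquationalCriterion
import Mathlib.AlgebraicGeometry.Morphisms.Finite

/-!
Finite locally free morphisms are essentially free; closed transporters of finite presentation.
-/

universe u

open CategoryTheory CategoryTheory.Limits MonoidalCategory CartesianMonoidalCategory AlgebraicGeometry
open Groth.Agent.SGA3a

namespace Groth.Agent.RedPts82

set_option backward.isDefEq.respectTransparency.types false in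
theorem isEssentiallyFree_of_finite_flat {S X : Scheme.{u}} (f : X ⟶ S) [IsFinite f] [Flat f]
    [LocallyOfFinitePresentation f] : SGA3x.IsEssentiallyFree f := by
  refine SGA3a.isEssentiallyFree_of_charts fun s => ?_
  obtain ⟨U, hU, hsU, -⟩ := exists_isAffineOpen_mem_and_subset (U := ⊤) (TopologicalSpace.Opens.mem_top s)
  refine ⟨U, _, _, hU.isoSpec, 𝟙 _, hsU, RingHom.FaithfullyFlat.of_bijective Function.bijective_id,
    fun x => ?_⟩
  let φ₀ : Spec Γ(S, U) ⟶ S := Spec.map (𝟙 _) ≫ hU.isoSpec.inv ≫ U.ι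
  let P := pullback f φ₀
  haveI : IsFinite (pullback.snd f φ₀) := MorphismProperty.pullback_snd _ _ ‹_›
  haveI : Flat (pullback.snd f φ₀) := MorphismProperty.pullback_snd _ _ ‹_›
  haveI : LocallyOfFinitePresentation (pullback.snd f φ₀) :=
    MorphismProperty.pullback_snd _ _ ‹_›
  haveI : IsAffine P := isAffine_of_isAffineHom (pullback.snd f φ₀)
  obtain ⟨α, hα⟩ : ∃ α, Spec.map α = P.isoSpec.inv ≫ pullback.snd f φ₀ := ⟨_, Spec.map_preimage _⟩
  haveI h1 : IsFinite (Spec.map α) := by rw [hα]; infer_instance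
  haveI h2 : Flat (Spec.map α) := by rw [hα]; infer_instance
  haveI h3 : LocallyOfFinitePresentation (Spec.map α) := by rw [hα]; infer_instance
  refine ⟨⟨_, α, P.isoSpec.inv, inferInstance, hα.symm, ?_⟩, P.isoSpec.hom x, by
    rw [← Scheme.Hom.comp_apply, Iso.hom_inv_id]; rfl⟩
  have hf := (IsFinite.SpecMap_iff α).1 h1
  have hfl := (HasRingHomProperty.Spec_iff (P := @Flat)).1 h2
  have hfp := (HasRingHomProperty.Spec_iff (P := @LocallyOfFinitePresentation)).1 h3
  letI := α.hom.toAlgebra
  haveI : Module.Finite Γ(S, U) Γ(P, ⊤) := hf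
  haveI : Algebra.FinitePresentation Γ(S, U) Γ(P, ⊤) := hfp
  haveI : Module.Flat Γ(S, U) Γ(P, ⊤) := RingHom.flat_algebraMap_iff.1 hfl
  haveI := Module.FinitePresentation.of_finite_of_finitePresentation Γ(S, U) Γ(P, ⊤)
  exact Module.Flat.projective_of_finitePresentation

/-- Closed transporters of finite presentation along an essentially free quasi-compact parameter
scheme. -/
theorem exists_transporter_fp {S : Scheme.{u}} {G X Y P : Over S}
    (hX : SGA3x.IsEssentiallyFree X.hom) (Φ : G ⊗ X ⟶ P) (y : Y ⟶ P) [IsClosedImmersion y.left] :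
    ∃ (T : Over S) (t : T ⟶ G), IsClosedImmersion t.left ∧
      (∀ (S' : Over S) (g : S' ⟶ G), (∃ z : S' ⟶ T, z ≫ t = g) ↔
        ∀ (S'' : Over S) (s : S'' ⟶ S') (x : S'' ⟶ X), ∃ x' : S'' ⟶ Y, lift (s ≫ g) x ≫ Φ = x' ≫ y) ∧
      (QuasiCompact X.hom → LocallyOfFinitePresentation y.left →
        LocallyOfFinitePresentation t.left) := by
  let σ : pullback X.hom G.hom ⟶ (G ⊗ X).left :=
    pullback.lift (pullback.snd X.hom G.hom) (pullback.fst X.hom G.hom) pullback.condition.symm
  let j := pullback.fst (σ ≫ Φ.left) y.left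
  obtain ⟨T₀, t₀, ht₀, hT, hfp⟩ :=
    exists_closed_weilRestriction (j := j) (isEssentiallyFree_snd G.hom hX)
  obtain ⟨T', t', ht', hT'⟩ := SGA3a.exists_transporter hX Φ y
  refine ⟨T', t', ht', hT', fun hq hy => ?_⟩
  have h₀ : LocallyOfFinitePresentation t₀ :=
    hfp (MorphismProperty.pullback_snd (P := @QuasiCompact) _ _ hq)
      (MorphismProperty.pullback_fst (P := @LocallyOfFinitePresentation) _ _ hy)
  -- the two subschemes agree
  let T₁ : Over S := Over.mk (t₀ ≫ G.hom)
  let t₁ : T₁ ⟶ G := Over.homMk t₀ rfl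
  have key : ∀ (S' : Over S) (g : S' ⟶ G), (∃ z : S' ⟶ T₁, z ≫ t₁ = g) ↔
      (∃ z : S' ⟶ T', z ≫ t' = g) := by
    intro S' g
    rw [hT']
    constructor
    · rintro ⟨z, rfl⟩ S'' s x
      have hF := (hT _ _).1 ⟨z.left, rfl⟩
      have e : x.left ≫ X.hom = (s ≫ z ≫ t₁).left ≫ G.hom := by rw [Over.w, Over.w]
      obtain ⟨l, hl⟩ := hF S''.left (pullback.lift x.left (s ≫ z ≫ t₁).left e) s.left (by
        rw [pullback.lift_snd]; simp [t₁])
      have key : (l ≫ pullback.snd (σ ≫ Φ.left) y.left) ≫ y.left = (lift (s ≫ z ≫ t₁) x ≫ Φ).left := by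
        rw [Category.assoc, ← pullback.condition, ← Category.assoc, show l ≫ j = _ from hl,
          show (lift (s ≫ z ≫ t₁) x ≫ Φ).left = (lift (s ≫ z ≫ t₁) x).left ≫ Φ.left from rfl,
          ← Category.assoc]
        congr 1
        rw [Over.lift_left]
        apply pullback.hom_ext
        · erw [Category.assoc, pullback.lift_fst, pullback.lift_snd, pullback.lift_fst]
        · erw [Category.assoc, pullback.lift_snd, pullback.lift_fst, pullback.lift_snd]
      refine ⟨Over.homMk (l ≫ pullback.snd _ _) ?_, ?_⟩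
      · rw [← Over.w y, ← Category.assoc, key, Over.w]
      · ext1
        exact key.symm
    · intro h
      have hF : Factors (pullback.snd X.hom G.hom) j S'.left g.left := by
        intro W a b w
        let S'' : Over S := Over.mk (b ≫ S'.hom)
        let s : S'' ⟶ S' := Over.homMk b rfl
        let x : S'' ⟶ X := Over.homMk (a ≫ pullback.fst _ _) (by
          rw [Category.assoc, pullback.condition, ← Category.assoc, w, Category.assoc, Over.w]; rfl)
        obtain ⟨x', hx'⟩ := h S'' s x
        have e1 : a ≫ σ = (lift (s ≫ g) x).left := by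
          rw [Over.lift_left]
          apply pullback.hom_ext
          · erw [Category.assoc, pullback.lift_fst, pullback.lift_fst]
            exact w
          · erw [Category.assoc, pullback.lift_snd, pullback.lift_snd]
            rfl
        refine ⟨pullback.lift a x'.left ?_, pullback.lift_fst _ _ _⟩
        rw [← Category.assoc, e1, ← Over.comp_left, hx', Over.comp_left]
      obtain ⟨z₀, hz⟩ := (hT _ g.left).2 hF
      refine ⟨Over.homMk z₀ ?_, by ext1; exact hz⟩
      show z₀ ≫ t₀ ≫ G.hom = S'.hom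
      rw [← Category.assoc, hz, Over.w]
  obtain ⟨v, hv⟩ := (key T₁ t₁).1 ⟨𝟙 _, Category.id_comp _⟩
  obtain ⟨w, hw⟩ := (key T' t').2 ⟨𝟙 _, Category.id_comp _⟩
  haveI : IsClosedImmersion t₁.left := ht₀
  haveI : Mono t' := Over.mono_of_mono_left t'
  haveI : Mono t₁ := Over.mono_of_mono_left t₁
  have h1 : v ≫ w = 𝟙 _ := by rw [← cancel_mono t₁, Category.assoc, hw, hv, Category.id_comp]
  have h2 : w ≫ v = 𝟙 _ := by rw [← cancel_mono t', Category.assoc, hv, hw, Category.id_comp]
  have : IsIso w := ⟨v, h2, h1⟩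
  have : IsIso w.left := inferInstanceAs (IsIso ((CategoryTheory.Over.forget _).map w))
  rw [← hw, Over.comp_left]
  haveI : LocallyOfFinitePresentation t₁.left := h₀
  infer_instance

end Groth.Agent.RedPts82
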