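import Groth.Agent.RedPts82.Points
import Mathlib.AlgebraicGeometry.AffineScheme
import Mathlib.RingTheory.Idempotents

/-!
The coordinate ring of a diagonalisable group over an affine object of `Over S`, and the
classification of its homomorphisms to the multiplicative group: locally on the base they are
characters.
-/

universe u

open CategoryTheory MonoidalCategory CartesianMonoidalCategory MonObj GrpObj AlgebraicGeometry
open CategoryTheory.Limits

namespace Groth.Agent.RedPts82

variable {S : Scheme.{u}} (Y : Over S) (M : Type) [AddCommGroup M]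

/-- The ring of global sections of an object over the base. -/
abbrev Gam : Type u := Γ(Y.left, ⊤)

/-- The coordinate ring of the diagonalisable group over an affine object. -/
abbrev DSRing : Type u := MonoidAlgebra (Gam Y) (Multiplicative M)

variable [IsAffine Y.left]

/-- The diagonalisable group over an affine object, as a spectrum. -/
noncomputable def polyDS : Over S :=
  Over.mk ((Spec.map (CommRingCat.ofHom (algebraMap (Gam Y) (DSRing Y M))) ≫ Y.left.isoSpec.inv) ≫
    Y.hom)

/-- Its projection to the affine object. -/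
noncomputable def polyProj : polyDS Y M ⟶ Y :=
  Over.homMk (Spec.map (CommRingCat.ofHom (algebraMap (Gam Y) (DSRing Y M))) ≫ Y.left.isoSpec.inv) rfl

instance : IsAffine (polyDS Y M).left :=
  inferInstanceAs (IsAffine (Spec (CommRingCat.of (DSRing Y M))))

/-- The identification of its global sections with the group algebra. -/
noncomputable def polyCoord : DSRing Y M →+* Γ((polyDS Y M).left, ⊤) :=
  (Scheme.ΓSpecIso (CommRingCat.of (DSRing Y M))).inv.hom

theorem polyCoord_bijective : Function.Bijective (polyCoord Y M) :=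
  (Scheme.ΓSpecIso (CommRingCat.of (DSRing Y M))).commRingCatIsoToRingEquiv.symm.bijective

theorem isoSpec_inv_appTop (Z : Scheme.{u}) [IsAffine Z] :
    Z.isoSpec.inv.appTop = (Scheme.ΓSpecIso Γ(Z, ⊤)).inv := by
  have h := congrArg Scheme.Hom.appTop Z.toSpecΓ_isoSpec_inv
  rw [Scheme.Hom.comp_appTop, Scheme.toSpecΓ_appTop, Scheme.Hom.id_appTop] at h
  exact ((Iso.comp_hom_eq_id (Scheme.ΓSpecIso Γ(Z, ⊤))).mp h)

theorem polyProj_appTop (a : Gam Y) :
    (polyProj Y M).left.appTop a = polyCoord Y M (MonoidAlgebra.single 1 a) := by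
  show (Spec.map (CommRingCat.ofHom (algebraMap (Gam Y) (DSRing Y M))) ≫
    Y.left.isoSpec.inv).appTop a = _
  rw [Scheme.Hom.comp_appTop, isoSpec_inv_appTop, ← Scheme.ΓSpecIso_inv_naturality]
  rfl

theorem exists_polyTu : ∃ t : polyDS Y M ⟶ Red.DS S M,
    ∀ m, dsFn t m = polyCoord Y M (MonoidAlgebra.single (Multiplicative.ofAdd m) 1) :=
  dsFn_surjective ((polyCoord Y M).toMonoidHom.comp (MonoidAlgebra.of (Gam Y) (Multiplicative M)))

/-- The universal point. -/
noncomputable def polyTu : polyDS Y M ⟶ Red.DS S M := (exists_polyTu Y M).choose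

theorem dsFn_polyTu (m : M) :
    dsFn (polyTu Y M) m = polyCoord Y M (MonoidAlgebra.single (Multiplicative.ofAdd m) 1) :=
  (exists_polyTu Y M).choose_spec m

variable {Y M} {Z : Over S}

/-- Evaluation of the group algebra at a pair of points. -/
noncomputable def evalDS (z : Z ⟶ Y) (t : Z ⟶ Red.DS S M) : DSRing Y M →+* Γ(Z.left, ⊤) :=
  MonoidAlgebra.liftNCRingHom z.left.appTop.hom
    { toFun := fun g => dsFn t (Multiplicative.toAdd g)
      map_one' := dsFn_zero t
      map_mul' := fun g g' => dsFn_add t _ _ }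
    (fun _ _ => Commute.all _ _)

omit [IsAffine Y.left] in
theorem evalDS_single (z : Z ⟶ Y) (t : Z ⟶ Red.DS S M) (m : M) (a : Gam Y) :
    evalDS z t (MonoidAlgebra.single (Multiplicative.ofAdd m) a) =
      z.left.appTop a * dsFn t m :=
  MonoidAlgebra.liftNC_single _ _ _ _

theorem polyDS_hom_ext {w w' : Z ⟶ polyDS Y M} (h₁ : w ≫ polyProj Y M = w' ≫ polyProj Y M)
    (h₂ : w ≫ polyTu Y M = w' ≫ polyTu Y M) : w = w' := by
  apply Over.OverMorphism.ext
  apply ext_of_isAffine
  have : w.left.appTop.hom.comp (polyCoord Y M) = w'.left.appTop.hom.comp (polyCoord Y M) := by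
    refine MonoidAlgebra.ringHom_ext (fun a => ?_) (fun g => ?_)
    · simp only [RingHom.comp_apply, ← polyProj_appTop]
      exact congrArg (fun k => k.left.appTop a) h₁
    · have e := congrArg (fun k => dsFn k (Multiplicative.toAdd g)) h₂
      simp only [dsFn_comp, dsFn_polyTu] at e
      exact e
  refine CommRingCat.hom_ext (RingHom.ext fun x => ?_)
  obtain ⟨c, rfl⟩ := (polyCoord_bijective Y M).2 x
  exact congr($this c)

theorem exists_polyLift (z : Z ⟶ Y) (t : Z ⟶ Red.DS S M) :
    ∃ w : Z ⟶ polyDS Y M, w ≫ polyProj Y M = z ∧ w ≫ polyTu Y M = t ∧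
      ∀ c, w.left.appTop (polyCoord Y M c) = evalDS z t c := by
  let l : Z.left ⟶ (polyDS Y M).left :=
    Z.left.toSpecΓ ≫ Spec.map (CommRingCat.ofHom (evalDS z t))
  have hl : ∀ c, l.appTop (polyCoord Y M c) = evalDS z t c := by
    intro c
    show (Z.left.toSpecΓ ≫ Spec.map (CommRingCat.ofHom (evalDS z t))).appTop (polyCoord Y M c) = _
    have e : (Scheme.ΓSpecIso (CommRingCat.of (DSRing Y M))).inv ≫
        (Z.left.toSpecΓ ≫ Spec.map (CommRingCat.ofHom (evalDS z t))).appTop =
          CommRingCat.ofHom (evalDS z t) := by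
      rw [Scheme.Hom.comp_appTop, ← Scheme.ΓSpecIso_inv_naturality_assoc, Scheme.toSpecΓ_appTop,
        Iso.inv_hom_id]
      exact Category.comp_id _
    exact congr($e c)
  have hz : l ≫ (polyProj Y M).left = z.left := by
    apply ext_of_isAffine
    refine CommRingCat.hom_ext (RingHom.ext fun a => ?_)
    show l.appTop ((polyProj Y M).left.appTop a) = _
    rw [polyProj_appTop, hl]
    refine (evalDS_single z t 0 a).trans ?_
    rw [dsFn_zero]
    exact _root_.mul_one _
  refine ⟨Over.homMk l ?_, ?_, ?_, hl⟩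
  · show l ≫ (polyProj Y M).left ≫ Y.hom = Z.hom
    rw [← Category.assoc, hz]
    exact Over.w z
  · exact Over.OverMorphism.ext hz
  · refine dsFn_injective fun m => ?_
    rw [dsFn_comp, dsFn_polyTu]
    refine (hl _).trans ((evalDS_single z t m 1).trans ?_)
    rw [map_one, _root_.one_mul]

/-- The object `polyDS Y M` is the product of `Y` and the diagonalisable group. -/
noncomputable def polyIso (Y : Over S) [IsAffine Y.left] (M : Type) [AddCommGroup M] :
    polyDS Y M ≅ Y ⊗ Red.DS S M where
  hom := lift (polyProj Y M) (polyTu Y M)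
  inv := (exists_polyLift (fst Y (Red.DS S M)) (snd _ _)).choose
  hom_inv_id := by
    obtain ⟨h₁, h₂, -⟩ := (exists_polyLift (fst Y (Red.DS S M)) (snd _ _)).choose_spec
    refine polyDS_hom_ext ?_ ?_
    · rw [Category.assoc, h₁, lift_fst, Category.id_comp]
    · rw [Category.assoc, h₂, lift_snd, Category.id_comp]
  inv_hom_id := by
    obtain ⟨h₁, h₂, -⟩ := (exists_polyLift (fst Y (Red.DS S M)) (snd _ _)).choose_spec
    ext1
    · rw [Category.assoc, lift_fst, h₁, Category.id_comp]
    · rw [Category.assoc, lift_snd, h₂, Category.id_comp]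

/-- A function on the diagonalisable group evaluated at a point. -/
theorem exists_coord (Y : Over S) [IsAffine Y.left] (α : Red.DS S M ⟶ Red.Gm S) :
    ∃ u₀ : DSRing Y M, ∀ (Z : Over S) (z : Z ⟶ Y) (t : Z ⟶ Red.DS S M),
      Red.gmFn (t ≫ α) = evalDS z t u₀ := by
  obtain ⟨u₀, hu₀⟩ := (polyCoord_bijective Y M).2 (Red.gmFn (polyTu Y M ≫ α))
  refine ⟨u₀, fun Z z t => ?_⟩
  obtain ⟨w, -, hw₂, hw₃⟩ := exists_polyLift z t
  rw [← hw₃, hu₀, ← hw₂, Category.assoc, gmFn_comp]

theorem coeff_mapDomain_inl_mul_inr {A : Type u} [CommRing A] {G : Type} [CommGroup G]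
    (x y : MonoidAlgebra A G) (a b : G) :
    (MonoidAlgebra.mapDomainRingHom A (MonoidHom.inl G G) x *
      MonoidAlgebra.mapDomainRingHom A (MonoidHom.inr G G) y).coeff (a, b) =
        x.coeff a * y.coeff b := by
  classical
  induction x using MonoidAlgebra.induction_linear with
  | zero => simp
  | add f g hf hg =>
    simp only [map_add, add_mul, MonoidAlgebra.coeff_add, Finsupp.add_apply, hf, hg]
  | single g r =>
    induction y using MonoidAlgebra.induction_linear with
    | zero => simp
    | add f g hf hg =>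
      simp only [map_add, mul_add, MonoidAlgebra.coeff_add, Finsupp.add_apply, hf, hg]
    | single g' r' =>
      show (MonoidAlgebra.mapDomain _ _ * MonoidAlgebra.mapDomain _ _ : MonoidAlgebra A (G × G)).coeff
        _ = _
      rw [MonoidAlgebra.mapDomain_single, MonoidAlgebra.mapDomain_single,
        MonoidAlgebra.single_mul_single, MonoidAlgebra.coeff_single, MonoidAlgebra.coeff_single,
        MonoidAlgebra.coeff_single, Finsupp.single_apply, Finsupp.single_apply,
        Finsupp.single_apply]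
      simp only [MonoidHom.inl_apply, MonoidHom.inr_apply, Prod.mk_mul_mk, _root_.mul_one, _root_.one_mul,
        Prod.mk.injEq]
      split_ifs <;> simp_all

/-- Coefficients of a homomorphism from a diagonalisable group to the multiplicative group:
orthogonal idempotents with sum one. -/
theorem exists_coeff_of_hom (Y : Over S) [IsAffine Y.left] (α : Red.DS S M ⟶ Red.Gm S)
    [IsMonHom α] :
    ∃ c : Multiplicative M →₀ Gam Y, (∀ g h, g ≠ h → c g * c h = 0) ∧
      (∀ g, IsIdempotentElem (c g)) ∧ c.sum (fun _ a => a) = 1 ∧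
      ∀ (Z : Over S) (z : Z ⟶ Y) (t : Z ⟶ Red.DS S M), Red.gmFn (t ≫ α) =
        c.sum fun g a => z.left.appTop a * dsFn t (Multiplicative.toAdd g) := by
  classical
  obtain ⟨u₀, hu⟩ := exists_coord Y α
  have hsum : ∀ (Z : Over S) (z : Z ⟶ Y) (t : Z ⟶ Red.DS S M), Red.gmFn (t ≫ α) =
      u₀.coeff.sum fun g a => z.left.appTop a * dsFn t (Multiplicative.toAdd g) := by
    intro Z z t
    rw [hu Z z t]
    conv_lhs => rw [← MonoidAlgebra.sum_coeff_single u₀]
    rw [map_finsuppSum]
    exact Finsupp.sum_congr fun g _ => evalDS_single z t (Multiplicative.toAdd g) _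
  -- two universal points
  let W := polyDS Y (M × M)
  let e : Multiplicative M × Multiplicative M ≃* Multiplicative (M × M) :=
    (MulEquiv.prodMultiplicative M M).symm
  let t₁ : W ⟶ Red.DS S M := polyTu Y (M × M) ≫ Red.DSmap S (AddMonoidHom.inl M M)
  let t₂ : W ⟶ Red.DS S M := polyTu Y (M × M) ≫ Red.DSmap S (AddMonoidHom.inr M M)
  let κ : MonoidAlgebra (Gam Y) (Multiplicative M × Multiplicative M) →+* Γ(W.left, ⊤) :=
    (polyCoord Y (M × M)).comp (MonoidAlgebra.mapDomainRingHom (Gam Y) e.toMonoidHom)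
  have hκ : Function.Injective κ :=
    (polyCoord_bijective Y (M × M)).1.comp (MonoidAlgebra.mapDomain_injective e.injective)
  have hev : ∀ (i : Multiplicative M →* Multiplicative M × Multiplicative M)
      (t : W ⟶ Red.DS S M) (_ : ∀ m, dsFn t m =
        κ (MonoidAlgebra.single (i (Multiplicative.ofAdd m)) 1)),
      evalDS (polyProj Y (M × M)) t = κ.comp (MonoidAlgebra.mapDomainRingHom (Gam Y) i) := by
    intro i t ht
    refine MonoidAlgebra.ringHom_ext (fun a => ?_) (fun g => ?_)
    · refine (evalDS_single _ _ 0 a).trans ?_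
      rw [dsFn_zero, _root_.mul_one, polyProj_appTop]
      show _ = polyCoord Y (M × M) (MonoidAlgebra.mapDomain _ (MonoidAlgebra.mapDomain _ _))
      rw [MonoidAlgebra.mapDomain_single, MonoidAlgebra.mapDomain_single, map_one, map_one]
    · refine (evalDS_single _ _ (Multiplicative.toAdd g) 1).trans ?_
      rw [map_one, _root_.one_mul, ht]
      show κ _ = κ (MonoidAlgebra.mapDomain _ _)
      rw [MonoidAlgebra.mapDomain_single]
      rfl
  have hκs : ∀ g : Multiplicative M × Multiplicative M, κ (MonoidAlgebra.single g 1) =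
      polyCoord Y (M × M) (MonoidAlgebra.single (e g) 1) := fun g => by
    show polyCoord Y (M × M) (MonoidAlgebra.mapDomain _ _) = _
    rw [MonoidAlgebra.mapDomain_single]
    rfl
  have h₁ : ∀ m, dsFn t₁ m =
      κ (MonoidAlgebra.single (MonoidHom.inl _ _ (Multiplicative.ofAdd m)) 1) := fun m => by
    rw [dsFn_DSmap, dsFn_polyTu, hκs]
    rfl
  have h₂ : ∀ m, dsFn t₂ m =
      κ (MonoidAlgebra.single (MonoidHom.inr _ _ (Multiplicative.ofAdd m)) 1) := fun m => by
    rw [dsFn_DSmap, dsFn_polyTu, hκs]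
    rfl
  have h₁₂ : ∀ m, dsFn (t₁ * t₂) m =
      κ (MonoidAlgebra.single (((MonoidHom.id _).prod (MonoidHom.id _)) (Multiplicative.ofAdd m)) 1) :=
    fun m => by
    rw [dsFn_mul, h₁, h₂, ← map_mul, MonoidAlgebra.single_mul_single]
    simp
  have hprod : MonoidAlgebra.mapDomainRingHom (Gam Y)
      ((MonoidHom.id (Multiplicative M)).prod (MonoidHom.id (Multiplicative M))) u₀ =
      MonoidAlgebra.mapDomainRingHom (Gam Y) (MonoidHom.inl _ _) u₀ *
        MonoidAlgebra.mapDomainRingHom (Gam Y) (MonoidHom.inr _ _) u₀ := by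
    apply hκ
    rw [map_mul]
    have e0 := gmFn_mul (t₁ ≫ α) (t₂ ≫ α)
    rw [← MonObj.mul_comp t₁ t₂ α, hu W (polyProj Y (M × M)), hu W (polyProj Y (M × M)),
      hu W (polyProj Y (M × M)), hev _ _ h₁, hev _ _ h₂, hev _ _ h₁₂] at e0
    exact e0
  have hcoef : ∀ a b, u₀.coeff a * u₀.coeff b = if a = b then u₀.coeff a else 0 := by
    intro a b
    rw [← coeff_mapDomain_inl_mul_inr u₀ u₀ a b, ← hprod]
    show Finsupp.mapDomain _ u₀.coeff (a, b) = _
    split_ifs with hab
    · subst hab
      exact Finsupp.mapDomain_apply (f := (MonoidHom.id (Multiplicative M)).prod (MonoidHom.id _))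
        (fun x y h => congrArg Prod.fst h) _ a
    · refine Finsupp.mapDomain_of_notMem_range _ _ ?_
      rintro ⟨x, hx⟩
      exact hab ((congrArg Prod.fst hx).symm.trans (congrArg Prod.snd hx))
  refine ⟨u₀.coeff, fun g h hgh => by rw [hcoef, if_neg hgh],
    fun g => by rw [IsIdempotentElem, hcoef, if_pos rfl], ?_, hsum⟩
  have h1 := hsum Y (𝟙 Y) 1
  rw [MonObj.one_comp α, gmFn_one] at h1
  refine Eq.trans ?_ h1.symm
  refine Finsupp.sum_congr fun g _ => ?_
  rw [dsFn_one, _root_.mul_one]
  rfl

theorem sum_eq_of_idem {A B : Type u} [CommRing A] [CommRing B] (φ : A →+* B) {I : Type}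
    (c : I →₀ A) (hc : ∀ g h, g ≠ h → c g * c h = 0) (hi : ∀ g, IsIdempotentElem (c g)) (m : I)
    (hm : IsUnit (φ (c m))) (v : I → B) : (c.sum fun g a => φ a * v g) = v m := by
  classical
  have h1 : φ (c m) = 1 := (IsIdempotentElem.iff_eq_one_of_isUnit hm).mp ((hi m).map φ)
  have hm0 : ∀ g, g ≠ m → φ (c g) = 0 := fun g hg => by
    rw [← _root_.mul_one (φ (c g)), ← h1, ← map_mul, hc g m hg, map_zero]
  rw [Finsupp.sum, Finset.sum_eq_single m (fun g _ hg => by rw [hm0 g hg, zero_mul])]
  · rw [h1, _root_.one_mul]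
  · intro hnot
    have h0 : c m = 0 := Finsupp.notMem_support_iff.mp hnot
    rw [h0, map_zero, zero_mul]

/-- A homomorphism from a diagonalisable group to the multiplicative group is, near every point of
the base, a character. -/
theorem exists_chi_nhd (α : Red.DS S M ⟶ Red.Gm S) [IsMonHom α] (s : S) :
    ∃ (U : S.Opens) (_ : s ∈ U) (m : M), ∀ (Z : Over S) (g : Z.left ⟶ (U : Scheme.{u}))
      (_ : g ≫ U.ι = Z.hom) (t : Z ⟶ Red.DS S M), t ≫ α = t ≫ Red.chi S m := by
  classical
  obtain ⟨V, hV, hsV, -⟩ := exists_isAffineOpen_mem_and_subset (x := s) (U := ⊤) (by simp)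
  let Y : Over S := Over.mk V.ι
  have : IsAffine Y.left := hV
  obtain ⟨c, horth, hidem, hone, hα⟩ := exists_coeff_of_hom Y α
  let y : Y.left := ⟨s, hsV⟩
  obtain ⟨g₀, hg₀⟩ : ∃ g, y ∈ Y.left.basicOpen (c g) := by
    by_contra hne
    push Not at hne
    have hy : y ∈ Y.left.basicOpen (1 : Gam Y) := by
      rw [Scheme.basicOpen_of_isUnit _ isUnit_one]
      trivial
    rw [← hone] at hy
    have : ∀ (s : Finset (Multiplicative M)), y ∉ Y.left.basicOpen (∑ g ∈ s, c g) := by
      intro s
      induction s using Finset.induction_on with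
      | empty => simp
      | insert a s ha ih =>
        rw [Finset.sum_insert ha]
        intro h
        rw [Scheme.mem_basicOpen_top] at h ih
        rw [map_add] at h
        have hna := hne a
        rw [Scheme.mem_basicOpen_top] at hna
        exact (IsLocalRing.nonunits_add hna ih) h
    exact this _ hy
  refine ⟨V.ι ''ᵁ Y.left.basicOpen (c g₀), ⟨y, hg₀, rfl⟩, Multiplicative.toAdd g₀,
    fun Z g hg t => ?_⟩
  have hle : V.ι ''ᵁ Y.left.basicOpen (c g₀) ≤ V := by
    rintro _ ⟨x, -, rfl⟩
    exact x.2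
  let z : Z ⟶ Y := Over.homMk (g ≫ S.homOfLE hle) (by
    show (g ≫ S.homOfLE hle) ≫ V.ι = Z.hom
    rw [Category.assoc, Scheme.homOfLE_ι, hg])
  have hu : IsUnit (z.left.appTop (c g₀)) := by
    have htop : z.left ⁻¹ᵁ Y.left.basicOpen (c g₀) = ⊤ := by
      rw [eq_top_iff]
      intro x _
      show z.left x ∈ Y.left.basicOpen (c g₀)
      have hx : ((g ≫ S.homOfLE hle) x : V).1 ∈ V.ι ''ᵁ Y.left.basicOpen (c g₀) := by
        have : ((g ≫ S.homOfLE hle) x : V).1 = (g ≫ (V.ι ''ᵁ Y.left.basicOpen (c g₀)).ι) x := by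
          rw [← Scheme.homOfLE_ι _ hle, ← Category.assoc]
          rfl
        rw [this]
        exact (g x).2
      obtain ⟨x', hx', hxx⟩ := hx
      have : x' = z.left x := Subtype.ext hxx
      exact this ▸ hx'
    rw [Scheme.preimage_basicOpen_top] at htop
    refine RingedSpace.isUnit_of_isUnit_germ _ ⊤ _ (fun x hx => ?_)
    have : x ∈ Z.left.basicOpen (z.left.appTop (c g₀)) := by rw [htop]; trivial
    rwa [Scheme.mem_basicOpen_top] at this
  apply gmFn_injective
  rw [hα Z z t, gmFn_chi]
  exact sum_eq_of_idem _ c horth hidem g₀ hu _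

end Groth.Agent.RedPts82
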