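import Groth.Agent.RedPts82.TorusBasic
import Groth.Agent.RedPts82.DSCoord
import Groth.Agent.SGA3a.EssFree
import Groth.Prelude.Def_SGA3x
import Groth.Prelude.Def_TwC
import Mathlib.AlgebraicGeometry.Limits

/-!
Groups of multiplicative type of finite type are quasi-compact, affine and essentially free over
the base.
-/

universe u

open CategoryTheory MonoidalCategory CartesianMonoidalCategory MonObj GrpObj AlgebraicGeometry
open CategoryTheory.Limits
open Groth.Agent.SGA3a (ProjChart)

namespace Groth.Agent.RedPts82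

variable {S : Scheme.{u}}

set_option backward.isDefEq.respectTransparency.types false in
theorem isMultTypeFT_prop (P : MorphismProperty Scheme.{u}) [IsZariskiLocalAtTarget P]
    [P.IsStableUnderBaseChange] [P.DescendsAlong Unr55.fpqc.{u}] {T : Over S} [GrpObj T]
    (hT : SGA3x.IsMultTypeFT T)
    (hDS : ∀ (U : Scheme.{u}) (M : Type) [AddCommGroup M], AddGroup.FG M → P (Red.DS U M).hom) :
    P T.hom := by
  obtain ⟨S', f, hf, hs, hqc, hloc⟩ := hT
  choose U hU M hM hFG hr using hloc
  have hcov : TopologicalSpace.IsOpenCover U := by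
    rw [TopologicalSpace.IsOpenCover, eq_top_iff]
    exact fun x _ => TopologicalSpace.Opens.mem_iSup.mpr ⟨x, hU x⟩
  have h1 : P (pullback.snd T.hom f) := by
    refine IsZariskiLocalAtTarget.of_openCover (S'.openCoverOfIsOpenCover U hcov) fun (v : S') => ?_
    obtain ⟨e⟩ := hr v
    let e' : Red.bc ((U v).ι ≫ f) T ≅ Red.DS (U v : Scheme.{u}) (M v) :=
      (Grp.forget _).mapIso e
    change P (pullback.snd (pullback.snd T.hom f) (U v).ι)
    rw [← pullbackLeftPullbackSndIso_hom_snd T.hom f (U v).ι, P.cancel_left_of_respectsIso]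
    have h := hDS (U v : Scheme.{u}) (M v) (hFG v)
    show P (Red.bc ((U v).ι ≫ f) T).hom
    rw [← Over.w e'.hom]
    have : IsIso e'.hom.left := inferInstanceAs (IsIso ((CategoryTheory.Over.forget _).map e'.hom))
    exact (P.cancel_left_of_respectsIso _ _).mpr h
  refine IsZariskiLocalAtTarget.of_openCover (P := P) S.affineCover fun j => ?_
  let V : S.Opens := (S.affineCover.f j).opensRange
  have hV : IsAffineOpen V := isAffineOpen_opensRange _
  obtain ⟨W, hWc, hWV⟩ := hqc V hV
  have hrange : Set.range (W.ι ≫ f).base ⊆ Set.range (S.affineCover.f j).base := by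
    rintro _ ⟨w, rfl⟩
    have : f w.1 ∈ f.base '' (W : Set S') := ⟨w.1, w.2, rfl⟩
    rw [hWV] at this
    exact this
  let k : (W : Scheme.{u}) ⟶ S.affineCover.X j :=
    IsOpenImmersion.lift (S.affineCover.f j) (W.ι ≫ f) hrange
  have hk : k ≫ S.affineCover.f j = W.ι ≫ f := IsOpenImmersion.lift_fac _ _ hrange
  have hfpqc : Unr55.fpqc k := by
    refine ⟨⟨⟨fun y => ?_⟩, ?_⟩, ?_⟩
    · obtain ⟨w, hw, hwy⟩ : (S.affineCover.f j) y ∈ f.base '' (W : Set S') := by
        rw [hWV]
        exact ⟨y, rfl⟩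
      refine ⟨⟨w, hw⟩, (S.affineCover.f j).isOpenEmbedding.injective ?_⟩
      exact (congrArg (fun q => q ⟨w, hw⟩) hk).trans hwy
    · have hsq : IsPullback (𝟙 (W : Scheme.{u})) k (W.ι ≫ f) (S.affineCover.f j) :=
        IsPullback.of_horiz_isIso_mono ⟨by rw [Category.id_comp, hk]⟩
      exact MorphismProperty.of_isPullback (P := @Flat) hsq (inferInstance : Flat (W.ι ≫ f))
    · have : CompactSpace (W : Scheme.{u}) := isCompact_iff_compactSpace.mp hWc
      exact (quasiCompact_iff_compactSpace k).mpr inferInstance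
  have h2 : P (pullback.snd (pullback.snd T.hom (S.affineCover.f j)) k) := by
    rw [← pullbackLeftPullbackSndIso_hom_snd T.hom (S.affineCover.f j) k,
      P.cancel_left_of_respectsIso]
    have h0 : ∀ m, m = W.ι ≫ f → P (pullback.snd T.hom m) := by
      rintro _ rfl
      rw [← pullbackLeftPullbackSndIso_inv_snd_snd T.hom f W.ι, P.cancel_left_of_respectsIso]
      exact MorphismProperty.pullback_snd _ _ h1
    exact h0 _ hk
  exact MorphismProperty.of_isPullback_of_descendsAlong (P := P)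
    (IsPullback.of_hasPullback (pullback.snd T.hom (S.affineCover.f j)) k).flip hfpqc h2

theorem isMultTypeFT_isAffineHom {T : Over S} [GrpObj T] (hT : SGA3x.IsMultTypeFT T) :
    IsAffineHom T.hom := by
  have := Unr55.isAffineHom.{u}
  have := isAffineHom_isStableUnderBaseChange.{u}
  exact isMultTypeFT_prop (@IsAffineHom) hT fun U M _ _ => isAffineHom_DS U M

/-- A product of rings is projective over itself componentwise. -/
theorem projective_pi_factor {κ : Type u} [Finite κ] (R : κ → CommRingCat.{u}) (i : κ) (M : Type)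
    (A : CommRingCat.{u}) (δ : R i ⟶ A)
    (b : letI := δ.hom.toAlgebra; Module.Basis M (R i) A) :
    letI := (CommRingCat.ofHom (Pi.evalRingHom (fun j => (R j : Type u)) i) ≫ δ).hom.toAlgebra
    Module.Projective (∀ j, (R j : Type u)) A := by
  classical
  let evalI := Pi.evalRingHom (fun j => (R j : Type u)) i
  letI : Algebra (∀ j, (R j : Type u)) (R i) := evalI.toAlgebra
  letI : Algebra (R i) A := δ.hom.toAlgebra
  letI : Algebra (∀ j, (R j : Type u)) A :=
    (CommRingCat.ofHom evalI ≫ δ).hom.toAlgebra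
  haveI : IsScalarTower (∀ j, (R j : Type u)) (R i) A := IsScalarTower.of_algebraMap_eq fun _ => rfl
  haveI : Module.Projective (∀ j, (R j : Type u)) (R i) := by
    refine Module.Projective.of_split
      ({ toFun := fun r => Pi.single i r
         map_add' := fun a c => by
          funext j
          by_cases h : j = i
          · subst h; simp
          · simp [h]
         map_smul' := fun c r => by
          funext j
          by_cases h : j = i
          · subst h
            simp [Algebra.smul_def, RingHom.algebraMap_toAlgebra, evalI]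
          · simp [h] } : (R i) →ₗ[∀ j, (R j : Type u)] (∀ j, (R j : Type u)))
      ({ toFun := fun c => c i
         map_add' := fun _ _ => rfl
         map_smul' := fun c r => by simp [Algebra.smul_def, RingHom.algebraMap_toAlgebra, evalI] } :
        (∀ j, (R j : Type u)) →ₗ[∀ j, (R j : Type u)] (R i)) ?_
    ext r
    simp
  haveI : Module.Projective (∀ j, (R j : Type u)) (M →₀ (R i : Type u)) :=
    Module.Projective.of_equiv (finsuppLequivDFinsupp (∀ j, (R j : Type u))).symm
  exact Module.Projective.of_equiv (b.repr.restrictScalars (∀ j, (R j : Type u))).symm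

/-- fpqc-locally diagonalisable groups (of arbitrary type). -/
abbrev IsMultType (H : Over S) [GrpObj H] : Prop :=
  TwC.Locally S TwC.Topology.fpqc (fun S' g => ∃ (M : Type) (_ : AddCommGroup M),
    Nonempty (Grp.mk (Red.bc g H) ≅ Grp.mk (Red.DS S' M)))

theorem isMultType_of_isMultTypeFT {H : Over S} [GrpObj H] (hH : SGA3x.IsMultTypeFT H) :
    IsMultType H := by
  obtain ⟨S', f, hf, hs, hqc, hloc⟩ := hH
  refine ⟨S', f, hf, hs, hqc, fun s' => ?_⟩
  obtain ⟨U, hU, M, hM, -, he⟩ := hloc s'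
  exact ⟨U, hU, M, hM, he⟩

set_option backward.isDefEq.respectTransparency.types false in
theorem isEssentiallyFree_of_isMultType {H : Over S} [GrpObj H] (hH : IsMultType H) :
    SGA3x.IsEssentiallyFree H.hom := by
  classical
  refine SGA3a.isEssentiallyFree_of_charts fun s => ?_
  obtain ⟨S', f, hf, -, hqc, hloc⟩ := hH
  choose U hU M hM hr using hloc
  obtain ⟨V, hV, hsV, -⟩ := exists_isAffineOpen_mem_and_subset (U := ⊤) (TopologicalSpace.Opens.mem_top s)
  obtain ⟨W, hWc, hWV⟩ := hqc V hV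
  have hA : ∀ w : (W : Set S'), ∃ O : S'.Opens, IsAffineOpen O ∧ (w : S') ∈ O ∧
      (O : Set S') ⊆ (U (w : S') ⊓ f ⁻¹ᵁ V : S'.Opens) := fun w => by
    have : (w : S') ∈ U (w : S') ⊓ f ⁻¹ᵁ V := by
      refine ⟨hU _, ?_⟩
      show f (w : S') ∈ (V : Set S)
      rw [← hWV]
      exact ⟨w, w.2, rfl⟩
    obtain ⟨O, hO, h1, h2⟩ := exists_isAffineOpen_mem_and_subset this
    exact ⟨O, hO, h1, h2⟩
  choose O hO hwO hOle using hA
  obtain ⟨t, ht⟩ := hWc.elim_finite_subcover (fun w => (O w : Set S')) (fun w => (O w).2)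
    fun w hw => Set.mem_iUnion.mpr ⟨⟨w, hw⟩, hwO ⟨w, hw⟩⟩
  let R : ↥t → CommRingCat.{u} := fun w => Γ(S', O w.1)
  let a : ∀ w : ↥t, Spec (R w) ⟶ S' := fun w => (hO w.1).fromSpec
  have hra : ∀ w : ↥t, Set.range (a w) = (O w.1 : Set S') := fun w => (hO w.1).range_fromSpec
  have hVr : ∀ w : ↥t, Set.range (a w ≫ f).base ⊆ Set.range V.ι.base := by
    rintro w _ ⟨y, rfl⟩
    have h1 : a w y ∈ (O w.1 : Set S') := hra w ▸ ⟨y, rfl⟩
    exact V.range_ι.symm ▸ (hOle w.1 h1).2
  have hUr : ∀ w : ↥t, Set.range (a w).base ⊆ Set.range (U (w.1 : S')).ι.base := by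
    rintro w _ ⟨y, rfl⟩
    have h1 : a w y ∈ (O w.1 : Set S') := hra w ▸ ⟨y, rfl⟩
    exact (U (w.1 : S')).range_ι.symm ▸ (hOle w.1 h1).1
  let b : ∀ w : ↥t, Spec (R w) ⟶ (V : Scheme.{u}) := fun w =>
    IsOpenImmersion.lift V.ι (a w ≫ f) (hVr w)
  have hb : ∀ w, b w ≫ V.ι = a w ≫ f := fun w => IsOpenImmersion.lift_fac _ _ _
  have hbfl : ∀ w, Flat (b w) := fun w => by
    have hsq : IsPullback (𝟙 _) (b w) (a w ≫ f) V.ι :=
      IsPullback.of_horiz_isIso_mono ⟨by rw [Category.id_comp, hb w]⟩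
    exact MorphismProperty.of_isPullback (P := @Flat) hsq (inferInstance : Flat (a w ≫ f))
  let g : Spec (CommRingCat.of (∀ w, (R w : Type u))) ⟶ (V : Scheme.{u}) :=
    inv (sigmaSpec R) ≫ Sigma.desc b
  have hgfl : Flat g := by
    have : Flat (Sigma.desc b) := IsZariskiLocalAtSource.sigmaDesc hbfl
    infer_instance
  have hι : ∀ w, Spec.map (CommRingCat.ofHom (Pi.evalRingHom (fun j => (R j : Type u)) w)) ≫ g = b w := by
    intro w
    rw [← ι_sigmaSpec R w]
    simp only [g, Category.assoc, IsIso.hom_inv_id_assoc, Sigma.ι_desc]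
  have hgs : Surjective g := by
    refine ⟨fun v => ?_⟩
    obtain ⟨w, hwW, hwv⟩ : V.ι v ∈ f.base '' (W : Set S') := by
      rw [hWV]; exact V.range_ι ▸ ⟨v, rfl⟩
    obtain ⟨i, hit, hwi⟩ : ∃ i ∈ t, w ∈ (O i : Set S') := by simpa using ht hwW
    obtain ⟨y, hy⟩ : w ∈ Set.range (a ⟨i, hit⟩) := (hra ⟨i, hit⟩).symm ▸ hwi
    refine ⟨Spec.map (CommRingCat.ofHom (Pi.evalRingHom (fun j => (R j : Type u)) ⟨i, hit⟩)) y,
      V.ι.isOpenEmbedding.injective ?_⟩
    have h := congrArg (fun q => q y) (congrArg (· ≫ V.ι) (hι ⟨i, hit⟩))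
    simp only [Scheme.Hom.comp_apply, hb] at h
    rw [h, hy]
    exact hwv
  obtain ⟨ι', hι'⟩ : ∃ ι', Spec.map ι' = g ≫ hV.isoSpec.hom := ⟨_, Spec.map_preimage _⟩
  have hff : ι'.hom.FaithfullyFlat := by
    have h : Flat (Spec.map ι') ∧ Surjective (Spec.map ι') := by
      rw [hι']; exact ⟨inferInstance, inferInstance⟩
    exact (flat_and_surjective_SpecMap_iff ι').1 h
  refine ⟨V, _, _, hV.isoSpec, ι', hsV, hff, fun x => ?_⟩
  let φ₀ := Spec.map ι' ≫ hV.isoSpec.inv ≫ V.ι
  -- the component of `x`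
  obtain ⟨i, y, hy⟩ : ∃ (i : ↥t) (y : Spec (R i)),
      Spec.map (CommRingCat.ofHom (Pi.evalRingHom (fun j => (R j : Type u)) i)) y =
        pullback.snd H.hom φ₀ x := by
    obtain ⟨z, hz⟩ := (sigmaSpec R).surjective (pullback.snd H.hom φ₀ x)
    obtain ⟨i, y, rfl⟩ : ∃ i, ∃ y, Sigma.ι (fun i => Spec (R i)) i y = z :=
      ⟨_, (sigmaOpenCover _).covers z⟩
    exact ⟨i, y, by rw [← ι_sigmaSpec R i]; exact hz⟩
  let p : Spec (R i) ⟶ Spec (CommRingCat.of (∀ w, (R w : Type u))) :=
    Spec.map (CommRingCat.ofHom (Pi.evalRingHom (fun j => (R j : Type u)) i))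
  have hp : IsOpenImmersion p := by
    show IsOpenImmersion (Spec.map _)
    rw [← ι_sigmaSpec R i]; infer_instance
  let U₀ : Scheme.{u} := (U ((i.1 : (W : Set S')) : S') : Scheme.{u})
  let a' : Spec (R i) ⟶ U₀ := IsOpenImmersion.lift (U ((i.1 : (W : Set S')) : S')).ι (a i) (hUr i)
  have ha' : a' ≫ (U ((i.1 : (W : Set S')) : S')).ι = a i := IsOpenImmersion.lift_fac _ _ _
  let Y : Over U₀ := Over.mk a'
  have : IsAffine Y.left := inferInstanceAs (IsAffine (Spec _))
  obtain ⟨e⟩ := hr ((i.1 : (W : Set S')) : S')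
  let e' : Red.bc ((U ((i.1 : (W : Set S')) : S')).ι ≫ f) H ≅ Red.DS U₀ (M ((i.1 : (W : Set S')) : S')) :=
    (Grp.forget _).mapIso e
  let q : polyDS Y (M ((i.1 : (W : Set S')) : S')) ⟶ Y ⊗ Red.bc ((U ((i.1 : (W : Set S')) : S')).ι ≫ f) H :=
    (polyIso Y _).hom ≫ (Y ◁ e'.inv)
  have hq : IsIso q := inferInstance
  have : IsIso q.left := inferInstanceAs (IsIso ((CategoryTheory.Over.forget _).map q))
  have hpφ : p ≫ φ₀ = a' ≫ (U ((i.1 : (W : Set S')) : S')).ι ≫ f := by
    calc p ≫ φ₀ = (p ≫ g) ≫ V.ι := by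
          simp only [φ₀, reassoc_of% hι', Category.assoc, Iso.hom_inv_id_assoc]
      _ = b i ≫ V.ι := by rw [show p ≫ g = b i from hι i]
      _ = _ := by rw [hb i, ← ha', Category.assoc]
  let j : (polyDS Y (M ((i.1 : (W : Set S')) : S'))).left ⟶ pullback (pullback.snd H.hom φ₀) p :=
    q.left ≫ (pullbackSymmetry a' (pullback.snd H.hom ((U ((i.1 : (W : Set S')) : S')).ι ≫ f))).hom ≫
      (pullbackLeftPullbackSndIso H.hom ((U ((i.1 : (W : Set S')) : S')).ι ≫ f) a').hom ≫
        (pullback.congrHom rfl hpφ.symm).hom ≫ (pullbackLeftPullbackSndIso H.hom φ₀ p).inv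
  have hj : IsIso j := inferInstance
  let v : Spec (CommRingCat.of (DSRing Y (M ((i.1 : (W : Set S')) : S')))) ⟶ pullback H.hom φ₀ :=
    j ≫ pullback.fst _ _
  let δ : R i ⟶ CommRingCat.of (DSRing Y (M ((i.1 : (W : Set S')) : S'))) :=
    (Scheme.ΓSpecIso (R i)).inv ≫ CommRingCat.ofHom (algebraMap (Gam Y) (DSRing Y (M ((i.1 : (W : Set S')) : S'))))
  have hjs : j ≫ pullback.snd (pullback.snd H.hom φ₀) p = Spec.map δ := by
    have h1 : (pullbackLeftPullbackSndIso H.hom φ₀ p).inv ≫ pullback.snd (pullback.snd H.hom φ₀) p =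
        pullback.snd H.hom (p ≫ φ₀) := by
      rw [Iso.inv_comp_eq]; exact (pullbackLeftPullbackSndIso_hom_snd _ _ _).symm
    have h2 : q.left ≫ pullback.fst a' (pullback.snd H.hom ((U ((i.1 : (W : Set S')) : S')).ι ≫ f)) =
        (polyProj Y _).left := by
      show ((polyIso Y _).hom ≫ (Y ◁ e'.inv) ≫ fst _ _).left = _
      rw [whiskerLeft_fst]
      simp [polyIso]
    show (q.left ≫ _ ≫ _ ≫ _ ≫ _) ≫ _ = _
    simp only [Category.assoc, h1, pullback.congrHom_hom, pullback.lift_snd, Category.comp_id]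
    rw [pullbackLeftPullbackSndIso_hom_snd, pullbackSymmetry_hom_comp_snd, h2]
    show Spec.map _ ≫ (Spec (R i)).isoSpec.inv = Spec.map δ
    rw [Scheme.isoSpec_Spec_inv, ← Spec.map_comp]
    rfl
  have hprop := projective_pi_factor R i (Multiplicative (M ((i.1 : (W : Set S')) : S')))
    (CommRingCat.of (DSRing Y (M ((i.1 : (W : Set S')) : S')))) δ (by
      letI := δ.hom.toAlgebra
      refine Module.Basis.ofRepr
        { toFun := fun F => Finsupp.mapRange (Scheme.ΓSpecIso (R i)).hom.hom (map_zero _) (MonoidAlgebra.coeff F)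
          invFun := fun F => MonoidAlgebra.ofCoeff (Finsupp.mapRange (Scheme.ΓSpecIso (R i)).inv.hom (map_zero _) F)
          map_add' := fun F G => by ext m; simp
          map_smul' := fun r F => by
            let Fd : DSRing Y (M ((i.1 : (W : Set S')) : S')) := F
            let c : Gam Y := (Scheme.ΓSpecIso (R i)).inv.hom r
            have e : r • F = (c • Fd : DSRing Y _) :=
              (Algebra.smul_def r F).trans (Algebra.smul_def c Fd).symm
            ext m
            have e3 : MonoidAlgebra.coeff (c • Fd) = c • MonoidAlgebra.coeff Fd := rfl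
            rw [e]
            show (Scheme.ΓSpecIso (R i)).hom.hom (MonoidAlgebra.coeff (c • Fd) m) =
              r * (Scheme.ΓSpecIso (R i)).hom.hom (MonoidAlgebra.coeff Fd m)
            rw [e3, Finsupp.smul_apply, smul_eq_mul]
            refine (map_mul _ _ _).trans (congrArg (· * _) ?_)
            simp [c]
          left_inv := fun F => by ext m; simp
          right_inv := fun F => by ext m; simp })
  have hvo : IsOpenImmersion v := by
    haveI : IsOpenImmersion (pullback.fst (pullback.snd H.hom φ₀) p) :=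
      MorphismProperty.pullback_fst (P := @IsOpenImmersion) _ _ hp
    show IsOpenImmersion (j ≫ pullback.fst _ _)
    infer_instance
  refine ⟨⟨_, CommRingCat.ofHom (Pi.evalRingHom (fun w => (R w : Type u)) i) ≫ δ, v,
    hvo, ?_, hprop⟩, ?_⟩
  · show (j ≫ pullback.fst _ _) ≫ _ = _
    rw [Category.assoc, pullback.condition, ← Category.assoc, hjs]
    exact (Spec.map_comp _ _).symm
  · obtain ⟨z, hz, -⟩ := Scheme.Pullback.exists_preimage_pullback (f := pullback.snd H.hom φ₀) (g := p)
      x y hy.symm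
    refine ⟨inv j z, ?_⟩
    show (j ≫ pullback.fst _ _) (inv j z) = x
    rw [← Scheme.Hom.comp_apply, IsIso.inv_hom_id_assoc]
    exact hz

theorem isEssentiallyFree_of_isMultTypeFT {H : Over S} [GrpObj H] (hH : SGA3x.IsMultTypeFT H) :
    SGA3x.IsEssentiallyFree H.hom :=
  isEssentiallyFree_of_isMultType (isMultType_of_isMultTypeFT hH)

end Groth.Agent.RedPts82
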