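import Groth.Prelude.Def_Red2

/-!
A subobject of a group object whose points form subgroups is a group object.
-/

universe u

open CategoryTheory MonoidalCategory CartesianMonoidalCategory MonObj GrpObj AlgebraicGeometry

namespace Groth.Agent.RedPts82

theorem exists_grpObj_mono {S : Scheme.{u}} {G K : Over S} [GrpObj G] (j : K ⟶ G) [Mono j]
    (h1 : ∀ T : Over S, ∃ e : T ⟶ K, e ≫ j = 1)
    (hmul : ∀ (T : Over S) (a b : T ⟶ K), ∃ c : T ⟶ K, c ≫ j = (a ≫ j) * (b ≫ j))
    (hinv : ∀ (T : Over S) (a : T ⟶ K), ∃ c : T ⟶ K, c ≫ j = (a ≫ j)⁻¹) :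
    ∃ (_ : GrpObj K), IsMonHom j := by
  obtain ⟨e, he0⟩ := h1 (𝟙_ (Over S))
  have he : e ≫ j = η[G] := by
    rw [he0, Hom.one_def, toUnit_unique (toUnit _) (𝟙 _), Category.id_comp]
  obtain ⟨m, hm⟩ := hmul (K ⊗ K) (fst K K) (snd K K)
  obtain ⟨n, hn⟩ := hinv K (𝟙 K)
  rw [Category.id_comp] at hn
  have hm' : ∀ {T : Over S} (a b : T ⟶ K), (lift a b ≫ m) ≫ j = (a ≫ j) * (b ≫ j) := fun a b => by
    rw [Category.assoc, hm, MonObj.comp_mul, lift_fst_assoc, lift_snd_assoc]
  have hη : ∀ T : Over S, toUnit T ≫ η[G] = (1 : T ⟶ G) := fun T => (Hom.one_def).symm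
  let M : GrpObj K :=
    { one := e
      mul := m
      inv := n
      one_mul := by
        rw [← cancel_mono j, Category.assoc, hm, MonObj.comp_mul, whiskerRight_fst_assoc,
          whiskerRight_snd_assoc, he, toUnit_unique (fst (𝟙_ _) K) (toUnit _), hη, _root_.one_mul,
          leftUnitor_hom]
      mul_one := by
        rw [← cancel_mono j, Category.assoc, hm, MonObj.comp_mul, whiskerLeft_fst_assoc,
          whiskerLeft_snd_assoc, he, toUnit_unique (snd K (𝟙_ _)) (toUnit _), hη, _root_.mul_one,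
          rightUnitor_hom]
      mul_assoc := by
        rw [← cancel_mono j]
        simp only [Category.assoc, hm, MonObj.comp_mul, whiskerLeft_fst_assoc, whiskerLeft_snd_assoc,
          whiskerRight_fst_assoc, whiskerRight_snd_assoc, associator_hom_fst_assoc,
          associator_hom_snd_fst_assoc, associator_hom_snd_snd_assoc, _root_.mul_assoc]
      left_inv := by
        rw [← cancel_mono j, hm', hn, Category.id_comp, inv_mul_cancel, Category.assoc, he, hη]
      right_inv := by
        rw [← cancel_mono j, hm', hn, Category.id_comp, mul_inv_cancel, Category.assoc, he, hη] }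
  refine ⟨M, ⟨he, ?_⟩⟩
  show m ≫ j = (j ⊗ₘ j) ≫ μ[G]
  rw [hm, Hom.mul_def]
  congr 1

end Groth.Agent.RedPts82
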