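import Groth.Agent.RedPts82.InfAvg
import Groth.Agent.RedPts82.DSChar
import Groth.Agent.RedPts82.MultEssFree
import Groth.Prelude.Def_TwC
import Groth.Agent.RedPts82.FinTransporter
import Groth.Agent.RedPts82.SubGrp
import Groth.Agent.LimDesc62.Points
import Mathlib.AlgebraicGeometry.Morphisms.Smooth
import Mathlib.AlgebraicGeometry.Morphisms.LocalFlatDescent
import Mathlib.RingTheory.Smooth.Basic

/-!
Smoothness of transporters of homomorphisms from groups of multiplicative type to smooth affine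
groups.
-/

universe u

open CategoryTheory MonoidalCategory CartesianMonoidalCategory MonObj GrpObj AlgebraicGeometry
open CategoryTheory.Limits

namespace Groth.Agent.RedPts82

variable {S : Scheme.{u}}

/-- A morphism of affine objects from a compatible ring homomorphism. -/
theorem exists_hom_of_ring [IsAffine S] {Z X : Over S} [IsAffine X.left]
    (ψ : Γ(X.left, ⊤) ⟶ Γ(Z.left, ⊤)) (h : X.hom.appTop ≫ ψ = Z.hom.appTop) :
    ∃ φ : Z ⟶ X, φ.left.appTop = ψ := by
  let l : Z.left ⟶ X.left := Z.left.toSpecΓ ≫ Spec.map ψ ≫ X.left.isoSpec.inv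
  have hl : l.appTop = ψ := by
    simp only [l, Scheme.Hom.comp_appTop, isoSpec_inv_appTop]
    rw [← Scheme.ΓSpecIso_inv_naturality, Category.assoc, Scheme.toSpecΓ_appTop, Iso.inv_hom_id]
    exact Category.comp_id _
  have hw : l ≫ X.hom = Z.hom := by
    apply ext_of_isAffine
    rw [Scheme.Hom.comp_appTop, hl]
    exact h
  exact ⟨Over.homMk l hw, hl⟩

theorem ΓSpecIso_hom_inv (A : CommRingCat.{u}) (x : A) :
    (Scheme.ΓSpecIso A).hom.hom ((Scheme.ΓSpecIso A).inv.hom x) = x :=
  (Scheme.ΓSpecIso A).commRingCatIsoToRingEquiv.apply_symm_apply x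

theorem hom_eq_of_appTop {Z X : Over S} [IsAffine X.left] {φ ψ : Z ⟶ X}
    (h : φ.left.appTop = ψ.left.appTop) : φ = ψ :=
  Over.OverMorphism.ext (ext_of_isAffine h)

instance isAffine_redObj (Y : Over S) [IsAffine Y.left] (J : Ideal (Gam Y)) :
    IsAffine (redObj Y J).left :=
  inferInstanceAs (IsAffine (Spec _))

/-- Lifting of points of a smooth affine scheme along square-zero ideals. -/
theorem exists_lift_of_smooth [IsAffine S] {X T : Over S} [IsAffine X.left] [IsAffine T.left]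
    [Smooth X.hom] {J : Ideal (Gam T)} (hJ : J * J = ⊥) (g₀ : redObj T J ⟶ X) :
    ∃ g : T ⟶ X, redMap T J ≫ g = g₀ := by
  letI algX : Algebra Γ(S, ⊤) Γ(X.left, ⊤) := X.hom.appTop.hom.toAlgebra
  letI algT : Algebra Γ(S, ⊤) (Gam T) := T.hom.appTop.hom.toAlgebra
  haveI : Algebra.Smooth Γ(S, ⊤) Γ(X.left, ⊤) :=
    (HasRingHomProperty.iff_of_isAffine (P := @Smooth)).mp (inferInstance : Smooth X.hom)
  haveI := ‹Algebra.Smooth Γ(S, ⊤) Γ(X.left, ⊤)›.formallySmooth
  let σ := (Scheme.ΓSpecIso (CommRingCat.of (Gam T ⧸ J))).hom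
  let f₀ : Γ(X.left, ⊤) →ₐ[Γ(S, ⊤)] (Gam T ⧸ J) :=
    { toRingHom := σ.hom.comp g₀.left.appTop.hom
      commutes' := fun r => by
        show σ (g₀.left.appTop (X.hom.appTop r)) = Ideal.Quotient.mk J (T.hom.appTop r)
        have := congrArg (fun k => k.appTop r) ((Over.w g₀).trans (Over.w (redMap T J)).symm)
        simp only [Scheme.Hom.comp_appTop, CommRingCat.comp_apply] at this
        rw [this, redMap_appTop]
        simp [σ] }
  obtain ⟨f, hf⟩ := Algebra.FormallySmooth.exists_lift J ⟨2, by rw [pow_two]; exact hJ⟩ f₀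
  obtain ⟨g, hg⟩ := exists_hom_of_ring (Z := T) (X := X) (CommRingCat.ofHom f.toRingHom)
    (CommRingCat.hom_ext (RingHom.ext fun r => f.commutes r))
  refine ⟨g, hom_eq_of_appTop (CommRingCat.hom_ext (RingHom.ext fun a => ?_))⟩
  show (redMap T J).left.appTop (g.left.appTop a) = g₀.left.appTop a
  rw [hg, redMap_appTop]
  have e : Ideal.Quotient.mk J (f a) = σ (g₀.left.appTop a) := AlgHom.congr_fun hf a
  show (Scheme.ΓSpecIso (CommRingCat.of (Gam T ⧸ J))).inv (Ideal.Quotient.mk J (f a)) = _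
  rw [e]
  simp [σ]

/-- An affine scheme of finite presentation with liftings along square-zero ideals is smooth. -/
theorem smooth_of_lifts [IsAffine S] {X : Over S} [IsAffine X.left]
    [LocallyOfFinitePresentation X.hom]
    (H : ∀ (T : Over S) [IsAffine T.left] (J : Ideal (Gam T)), J * J = ⊥ →
      ∀ g₀ : redObj T J ⟶ X, ∃ g : T ⟶ X, redMap T J ≫ g = g₀) : Smooth X.hom := by
  letI algX : Algebra Γ(S, ⊤) Γ(X.left, ⊤) := X.hom.appTop.hom.toAlgebra
  refine (HasRingHomProperty.iff_of_isAffine (P := @Smooth)).mpr ?_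
  show Algebra.Smooth Γ(S, ⊤) Γ(X.left, ⊤)
  haveI hfp : Algebra.FinitePresentation Γ(S, ⊤) Γ(X.left, ⊤) :=
    (HasRingHomProperty.iff_of_isAffine (P := @LocallyOfFinitePresentation)).mp
      (inferInstance : LocallyOfFinitePresentation X.hom)
  refine { formallySmooth := Algebra.FormallySmooth.of_comp_surjective fun B _ _ I hI f₀ => ?_ }
  let T : Over S := Over.mk (Spec.map (CommRingCat.ofHom (algebraMap Γ(S, ⊤) B)) ≫ S.isoSpec.inv)
  haveI : IsAffine T.left := inferInstanceAs (IsAffine (Spec _))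
  let e : Gam T ≃+* B := (Scheme.ΓSpecIso (CommRingCat.of B)).commRingCatIsoToRingEquiv
  have hT : ∀ r, e (T.hom.appTop r) = algebraMap Γ(S, ⊤) B r := by
    intro r
    show (Scheme.ΓSpecIso (CommRingCat.of B)).hom
      ((Spec.map (CommRingCat.ofHom (algebraMap Γ(S, ⊤) B)) ≫ S.isoSpec.inv).appTop r) = _
    rw [Scheme.Hom.comp_appTop, isoSpec_inv_appTop, ← Scheme.ΓSpecIso_inv_naturality]
    exact e.apply_symm_apply _
  let J : Ideal (Gam T) := I.comap (e : Gam T →+* B)
  have hJ : J * J = ⊥ := by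
    rw [eq_bot_iff]
    refine Ideal.mul_le.mpr fun a ha b hb => ?_
    have : e (a * b) ∈ I ^ 2 := by rw [map_mul, pow_two]; exact Ideal.mul_mem_mul ha hb
    rw [hI] at this
    exact (Submodule.mem_bot _).mpr (e.injective (((Submodule.mem_bot _).mp this).trans (map_zero e).symm))
  let q : B ⧸ I →+* Gam T ⧸ J :=
    Ideal.quotientMap J (e.symm : B →+* Gam T) fun b hb => by
      show e (e.symm b) ∈ I
      rwa [RingEquiv.apply_symm_apply]
  let σ := (Scheme.ΓSpecIso (CommRingCat.of (Gam T ⧸ J))).inv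
  obtain ⟨g₀, hg₀⟩ := exists_hom_of_ring (Z := redObj T J) (X := X)
    (CommRingCat.ofHom (q.comp f₀.toRingHom) ≫ σ) (by
      refine CommRingCat.hom_ext (RingHom.ext fun r => ?_)
      show σ (q (f₀ (algebraMap Γ(S, ⊤) Γ(X.left, ⊤) r))) = (redObj T J).hom.appTop r
      rw [f₀.commutes, ← Over.w (redMap T J), Scheme.Hom.comp_appTop, CommRingCat.comp_apply,
        redMap_appTop]
      show σ (Ideal.Quotient.mk J (e.symm (algebraMap Γ(S, ⊤) B r))) = _
      rw [← hT, RingEquiv.symm_apply_apply])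
  obtain ⟨g, hg⟩ := H T J hJ g₀
  refine ⟨{ toRingHom := (e : Gam T →+* B).comp g.left.appTop.hom, commutes' := fun r => ?_ }, ?_⟩
  · show e (g.left.appTop (X.hom.appTop r)) = _
    rw [← hT, ← Over.w g, Scheme.Hom.comp_appTop]
    rfl
  · refine AlgHom.ext fun a => ?_
    show Ideal.Quotient.mk I (e (g.left.appTop a)) = f₀ a
    have h := congrArg (fun k => k.left.appTop a) hg
    simp only [Over.comp_left, Scheme.Hom.comp_appTop, CommRingCat.comp_apply, redMap_appTop, hg₀] at h
    have h' : Ideal.Quotient.mk J (g.left.appTop a) = q (f₀ a) :=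
      (Scheme.ΓSpecIso (CommRingCat.of (Gam T ⧸ J))).commRingCatIsoToRingEquiv.symm.injective h
    obtain ⟨b, hb⟩ := Ideal.Quotient.mk_surjective (f₀ a)
    rw [← hb] at h' ⊢
    change Ideal.Quotient.mk J (g.left.appTop a) = Ideal.Quotient.mk J (e.symm b) at h'
    rw [Ideal.Quotient.eq] at h' ⊢
    have : e (g.left.appTop a - e.symm b) ∈ I := h'
    rwa [map_sub, RingEquiv.apply_symm_apply] at this

section Split

variable [IsAffine S] {G : Over S} [GrpObj G] [IsAffine G.left] [Smooth G.hom]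
  {M : Type} [AddCommGroup M] (u v : Red.DS S M ⟶ G) [IsMonHom u] [IsMonHom v]

/-- The transporter of two homomorphisms from a diagonalisable group is smooth. -/
theorem smooth_transporter_split {C : Over S} (c : C ⟶ G) [IsClosedImmersion c.left]
    [LocallyOfFinitePresentation C.hom]
    (hC : ∀ (X : Over S) (g : X ⟶ G), (∃ z : X ⟶ C, z ≫ c = g) ↔
      ∀ (X' : Over S) (x : X' ⟶ X) (h : X' ⟶ Red.DS S M),
        (x ≫ g) * (h ≫ u) * (x ≫ g)⁻¹ = h ≫ v) : Smooth C.hom := by
  haveI : IsAffine C.left := isAffine_of_isAffineHom c.left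
  refine smooth_of_lifts fun T _ J hJ g₀ => ?_
  obtain ⟨g, hg⟩ := exists_lift_of_smooth hJ (g₀ ≫ c)
  let P := polyDS T M
  let J1 := upIdeal T M J
  obtain ⟨x, hx⟩ : ∃ x : redObj P J1 ⟶ redObj T J, x ≫ redMap T J = redMap P J1 ≫ polyProj T M := by
    let p := (polyProj T M).left.appTop
    let ψ : CommRingCat.of (Gam T ⧸ J) ⟶ CommRingCat.of (Gam P ⧸ J1) :=
      CommRingCat.ofHom (Ideal.quotientMap J1 p.hom (fun a ha => Ideal.mem_map_of_mem _ ha))
    obtain ⟨x, hx⟩ := exists_hom_of_ring (Z := redObj P J1) (X := redObj T J)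
      ((Scheme.ΓSpecIso _).hom ≫ ψ ≫ (Scheme.ΓSpecIso _).inv) (by
        refine CommRingCat.hom_ext (RingHom.ext fun r => ?_)
        have e1 : (redObj T J).hom.appTop r = (redMap T J).left.appTop (T.hom.appTop r) := by
          rw [← Over.w (redMap T J), Scheme.Hom.comp_appTop]; rfl
        have e2 : (redObj P J1).hom.appTop r =
            (redMap P J1).left.appTop (p (T.hom.appTop r)) := by
          rw [← Over.w (redMap P J1), Scheme.Hom.comp_appTop, CommRingCat.comp_apply]
          congr 1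
        simp only [CommRingCat.hom_comp, RingHom.comp_apply]
        rw [e2, redMap_appTop]
        rw [e1, redMap_appTop]
        exact congrArg (Scheme.ΓSpecIso _).inv.hom ((congrArg ψ.hom (ΓSpecIso_hom_inv _ _)).trans rfl))
    refine ⟨x, hom_eq_of_appTop (CommRingCat.hom_ext (RingHom.ext fun a => ?_))⟩
    show x.left.appTop ((redMap T J).left.appTop a) =
      (redMap P J1).left.appTop ((polyProj T M).left.appTop a)
    rw [hx, redMap_appTop, redMap_appTop]
    exact congrArg (Scheme.ΓSpecIso _).inv.hom ((congrArg ψ.hom (ΓSpecIso_hom_inv _ _)).trans rfl)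
  have hmem := (hC _ (g₀ ≫ c)).mp ⟨g₀, rfl⟩ _ x (redMap P J1 ≫ polyTu T M)
  obtain ⟨g', hg', hu⟩ := exists_conj_lift (T := T) hJ u v g (by
    rw [← hg] at hmem
    simp only [reassoc_of% hx, Category.assoc] at hmem
    simp only [MonObj.comp_mul, GrpObj.comp_inv, Category.assoc]
    exact hmem)
  obtain ⟨z, hz⟩ := (hC T g').mpr fun X' y h => hu X' y h
  haveI : Mono c := Over.mono_of_mono_left c
  exact ⟨z, by rw [← cancel_mono c, Category.assoc, hz, hg', hg]⟩

end Split

/-- A property local on the target and descending along fpqc morphisms can be checked on an fpqc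
covering. -/
theorem prop_of_fpqc_cover (P : MorphismProperty Scheme.{u}) [IsZariskiLocalAtTarget P]
    [P.IsStableUnderBaseChange] [P.DescendsAlong Unr55.fpqc.{u}] {X : Scheme.{u}} (π : X ⟶ S)
    {S' : Scheme.{u}} (f : S' ⟶ S) [Flat f] [Surjective f]
    (hqc : ∀ V : S.Opens, IsAffineOpen V →
      ∃ W : S'.Opens, IsCompact (W : Set S') ∧ f.base '' (W : Set S') = (V : Set S))
    (h : ∀ s' : S', ∃ U : S'.Opens, s' ∈ U ∧ P (pullback.snd π (U.ι ≫ f))) : P π := by
  choose U hU hr using h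
  have hcov : TopologicalSpace.IsOpenCover U := by
    rw [TopologicalSpace.IsOpenCover, eq_top_iff]
    exact fun x _ => TopologicalSpace.Opens.mem_iSup.mpr ⟨x, hU x⟩
  have h1 : P (pullback.snd π f) := by
    refine IsZariskiLocalAtTarget.of_openCover (S'.openCoverOfIsOpenCover U hcov) fun (v : S') => ?_
    change P (pullback.snd (pullback.snd π f) (U v).ι)
    rw [← pullbackLeftPullbackSndIso_hom_snd π f (U v).ι, P.cancel_left_of_respectsIso]
    exact hr v
  refine IsZariskiLocalAtTarget.of_openCover (P := P) S.affineCover fun j => ?_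
  let V : S.Opens := (S.affineCover.f j).opensRange
  have hV : IsAffineOpen V := isAffineOpen_opensRange _
  obtain ⟨W, hWc, hWV⟩ := hqc V hV
  have hrange : Set.range (W.ι ≫ f).base ⊆ Set.range (S.affineCover.f j).base := by
    rintro _ ⟨w, rfl⟩
    have : f w.1 ∈ f.base '' (W : Set S') := ⟨w.1, w.2, rfl⟩
    rw [hWV] at this
    exact this
  let k : (W : Scheme.{u}) ⟶ S.affineCover.X j :=
    IsOpenImmersion.lift (S.affineCover.f j) (W.ι ≫ f) hrange
  have hk : k ≫ S.affineCover.f j = W.ι ≫ f := IsOpenImmersion.lift_fac _ _ hrange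
  have hfpqc : Unr55.fpqc k := by
    refine ⟨⟨⟨fun y => ?_⟩, ?_⟩, ?_⟩
    · obtain ⟨w, hw, hwy⟩ : (S.affineCover.f j) y ∈ f.base '' (W : Set S') := by
        rw [hWV]
        exact ⟨y, rfl⟩
      refine ⟨⟨w, hw⟩, (S.affineCover.f j).isOpenEmbedding.injective ?_⟩
      exact (congrArg (fun q => q ⟨w, hw⟩) hk).trans hwy
    · have hsq : IsPullback (𝟙 (W : Scheme.{u})) k (W.ι ≫ f) (S.affineCover.f j) :=
        IsPullback.of_horiz_isIso_mono ⟨by rw [Category.id_comp, hk]⟩
      exact MorphismProperty.of_isPullback (P := @Flat) hsq (inferInstance : Flat (W.ι ≫ f))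
    · have : CompactSpace (W : Scheme.{u}) := isCompact_iff_compactSpace.mp hWc
      exact (quasiCompact_iff_compactSpace k).mpr inferInstance
  have h2 : P (pullback.snd (pullback.snd π (S.affineCover.f j)) k) := by
    rw [← pullbackLeftPullbackSndIso_hom_snd π (S.affineCover.f j) k,
      P.cancel_left_of_respectsIso]
    have h0 : ∀ m, m = W.ι ≫ f → P (pullback.snd π m) := by
      rintro _ rfl
      rw [← pullbackLeftPullbackSndIso_inv_snd_snd π f W.ι, P.cancel_left_of_respectsIso]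
      exact MorphismProperty.pullback_snd _ _ h1
    exact h0 _ hk
  exact MorphismProperty.of_isPullback_of_descendsAlong (P := P)
    (IsPullback.of_hasPullback (pullback.snd π (S.affineCover.f j)) k).flip hfpqc h2

theorem toBase_inv {W : Scheme.{u}} (φ : W ⟶ S) {X : Over W} {P : Over S} [GrpObj P]
    (x : X ⟶ Red.bc φ P) : toBase φ x⁻¹ = (toBase φ x)⁻¹ := by
  refine eq_inv_of_mul_eq_one_left ?_
  rw [← toBase_mul, inv_mul_cancel, toBase_one]

set_option maxHeartbeats 4000000 in
/-- A diagonalisable group surjecting on the points of the base change of a group isomorphic to it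
after base change. -/
theorem exists_ds_cover {W U : Scheme.{u}} (i : W ⟶ U) (g : U ⟶ S) (φ : W ⟶ S) (hφ : i ≫ g = φ)
    {H : Over S} [GrpObj H] {M : Type} [AddCommGroup M]
    (e : Grp.mk (Red.bc g H) ≅ Grp.mk (Red.DS U M)) :
    ∃ a : Red.DS W M ⟶ Red.bc φ H, IsMonHom a ∧
      ∀ (X : Over W) (h : X ⟶ Red.bc φ H), ∃ t : X ⟶ Red.DS W M, t ≫ a = h := by
  subst hφ
  haveI : IsMonHom e.inv.hom.hom := e.inv.hom.isMonHom_hom
  -- the same functions, over `U`
  have h1 : ∀ (X : Over W) (t : X ⟶ Red.DS W M),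
      ∃ t' : (Over.map i).obj X ⟶ Red.DS U M, ∀ m, dsFn t' m = dsFn t m := fun X t =>
    let χ : Multiplicative M →* Γ(X.left, ⊤) :=
      { toFun := fun m => dsFn t (Multiplicative.toAdd m)
        map_one' := dsFn_zero t
        map_mul' := fun m m' => dsFn_add t _ _ }
    dsFn_surjective (X := (Over.map i).obj X) χ
  choose L hL using h1
  let cg : ∀ X : Over W, (Over.map (i ≫ g)).obj X ⟶ (Over.map g).obj ((Over.map i).obj X) := fun X =>
    Over.homMk (𝟙 X.left) (by simp)
  let cg' : ∀ X : Over W, (Over.map g).obj ((Over.map i).obj X) ⟶ (Over.map (i ≫ g)).obj X := fun X =>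
    Over.homMk (𝟙 X.left) (by simp)
  let Θ : ∀ (X : Over W), (X ⟶ Red.DS W M) → (X ⟶ Red.bc (i ≫ g) H) := fun X t =>
    ofBase (i ≫ g) (cg X ≫ toBase g (L X t ≫ e.inv.hom.hom))
  have hnat : ∀ (X X' : Over W) (w : X' ⟶ X) (t : X ⟶ Red.DS W M), Θ X' (w ≫ t) = w ≫ Θ X t := by
    intro X X' w t
    apply toBase_injective (i ≫ g)
    have hl : L X' (w ≫ t) = (Over.map i).map w ≫ L X t := dsFn_injective fun m => by
      rw [hL, dsFn_comp, dsFn_comp, hL]; rfl
    rw [toBase_comp]
    simp only [Θ, toBase_ofBase, hl]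
    rw [Category.assoc ((Over.map i).map w), toBase_comp g ((Over.map i).map w), ← Category.assoc,
      ← Category.assoc ((Over.map (i ≫ g)).map w)]
    congr 1
  have hmul : ∀ (X : Over W) (t t' : X ⟶ Red.DS W M), Θ X (t * t') = Θ X t * Θ X t' := by
    intro X t t'
    apply toBase_injective (i ≫ g)
    have hl : L X (t * t') = L X t * L X t' := dsFn_injective fun m => by
      rw [hL, dsFn_mul, dsFn_mul, hL, hL]
    rw [toBase_mul]
    simp only [Θ, toBase_ofBase, hl, MonObj.mul_comp _ _ e.inv.hom.hom, toBase_mul, MonObj.comp_mul]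
  have ha : ∀ (X : Over W) (t : X ⟶ Red.DS W M), t ≫ Θ _ (𝟙 _) = Θ X t := fun X t => by
    rw [← hnat, Category.comp_id]
  refine ⟨Θ _ (𝟙 _), isMonHom_of_points _ fun X x y => by rw [ha, ha, ha, hmul], fun X h => ?_⟩
  let h₂ : (Over.map i).obj X ⟶ Red.bc g H :=
    ofBase g (cg' X ≫ toBase (i ≫ g) h)
  obtain ⟨t₀, ht₀⟩ : ∃ t₀ : (Over.map i).obj X ⟶ Red.DS U M, t₀ = h₂ ≫ e.hom.hom.hom := ⟨_, rfl⟩
  let χ : Multiplicative M →* Γ(((Over.map i).obj X).left, ⊤) :=
    { toFun := fun m => dsFn t₀ (Multiplicative.toAdd m)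
      map_one' := dsFn_zero t₀
      map_mul' := fun m m' => dsFn_add t₀ _ _ }
  obtain ⟨t, ht⟩ := dsFn_surjective (S := W) (M := M) (X := X) χ
  refine ⟨t, ?_⟩
  rw [ha]
  have hl : L X t = h₂ ≫ e.hom.hom.hom := ht₀ ▸ dsFn_injective fun m => (hL X t m).trans (ht m)
  apply toBase_injective (i ≫ g)
  have he : e.hom.hom.hom ≫ e.inv.hom.hom = 𝟙 _ := congrArg (fun k => k.hom.hom) e.hom_inv_id
  simp only [Θ, toBase_ofBase, hl, Category.assoc, he, Category.comp_id, h₂]
  rw [← Category.assoc]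
  refine (congrArg (· ≫ toBase (i ≫ g) h) ?_).trans (Category.id_comp _)
  exact Over.OverMorphism.ext (Category.comp_id _)

/-- The transporter of two homomorphisms from a group of multiplicative type to a smooth affine
group is smooth. -/
theorem smooth_transporter {H G : Over S} [GrpObj H] [GrpObj G]
    (hH : TwC.Locally S TwC.Topology.fpqc (fun S' g => ∃ (M : Type) (_ : AddCommGroup M), Nonempty (Grp.mk (Red.bc g H) ≅ Grp.mk (Red.DS S' M))))
    [Smooth G.hom] [IsAffineHom G.hom] (u v : H ⟶ G) [IsMonHom u] [IsMonHom v]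
    {C : Over S} (c : C ⟶ G) [IsClosedImmersion c.left] [LocallyOfFinitePresentation C.hom]
    (hC : ∀ (X : Over S) (g : X ⟶ G), (∃ z : X ⟶ C, z ≫ c = g) ↔
      ∀ (X' : Over S) (x : X' ⟶ X) (h : X' ⟶ H), (x ≫ g) * (h ≫ u) * (x ≫ g)⁻¹ = h ≫ v) :
    Smooth C.hom := by
  obtain ⟨S', f, hf, hs, hqc, hloc⟩ := hH
  haveI : MorphismProperty.DescendsAlong (@Smooth : MorphismProperty Scheme.{u}) Unr55.fpqc.{u} := by
    unfold Unr55.fpqc; infer_instance
  refine prop_of_fpqc_cover (@Smooth) C.hom f hqc fun s' => ?_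
  obtain ⟨U₀, hU₀, M, hM, ⟨e⟩⟩ := hloc s'
  obtain ⟨W, hW, hsW, hWU⟩ := exists_isAffineOpen_mem_and_subset hU₀
  refine ⟨W, hsW, ?_⟩
  let φ : (W : Scheme.{u}) ⟶ S := W.ι ≫ f
  haveI : IsAffine (W : Scheme.{u}) := hW
  let i : (W : Scheme.{u}) ⟶ (U₀ : Scheme.{u}) := S'.homOfLE hWU
  have hi : i ≫ U₀.ι ≫ f = φ := by simp [i, φ]
  obtain ⟨a, ha⟩ := exists_ds_cover i (U₀.ι ≫ f) φ hi e
  haveI := ha.1
  haveI : IsAffine (Red.bc φ G).left := by
    haveI := isAffineHom_isStableUnderBaseChange.{u}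
    haveI : IsAffineHom (pullback.snd G.hom φ) := MorphismProperty.pullback_snd (P := @IsAffineHom) _ _ ‹_›
    exact isAffine_of_isAffineHom (pullback.snd G.hom φ)
  haveI : Smooth (Red.bc φ G).hom := MorphismProperty.pullback_snd (P := @Smooth) _ _ ‹_›
  haveI : LocallyOfFinitePresentation (Red.bc φ C).hom :=
    MorphismProperty.pullback_snd (P := @LocallyOfFinitePresentation) _ _ ‹_›
  haveI : IsClosedImmersion ((Over.pullback φ).map c).left :=
    MorphismProperty.baseChange_map φ c inferInstance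
  show Smooth (Red.bc φ C).hom
  refine smooth_transporter_split (a ≫ (Over.pullback φ).map u) (a ≫ (Over.pullback φ).map v)
    ((Over.pullback φ).map c) fun X g => ?_
  constructor
  · rintro ⟨z, rfl⟩ X' x h
    apply toBase_injective φ
    have := (hC _ _).mp ⟨toBase φ z, rfl⟩ _ ((Over.map φ).map x) (toBase φ (h ≫ a))
    simp only [← Category.assoc] at this ⊢
    simp only [toBase_mul, toBase_comp_map, GrpObj.comp_inv, toBase_inv, ← toBase_comp] at this ⊢
    exact this
  · intro h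
    have key : ∀ (X' : Over S) (x : X' ⟶ (Over.map φ).obj X) (t : X' ⟶ H),
        (x ≫ toBase φ g) * (t ≫ u) * (x ≫ toBase φ g)⁻¹ = t ≫ v := by
      intro X' x t
      let X₁ : Over (W : Scheme.{u}) := Over.mk (x.left ≫ X.hom)
      have hw : x.left ≫ X.hom ≫ φ = X'.hom := Over.w x
      let α : (Over.map φ).obj X₁ ≅ X' := Over.isoMk (Iso.refl _) (by simpa [X₁] using hw.symm)
      let x₁ : X₁ ⟶ X := Over.homMk x.left rfl
      obtain ⟨t₁, ht₁⟩ := ha.2 X₁ (ofBase φ (α.hom ≫ t))
      have := congrArg (toBase φ) (h X₁ x₁ t₁)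
      simp only [← Category.assoc, toBase_mul, toBase_inv, toBase_comp_map, ht₁, toBase_ofBase] at this
      have hx₁ : toBase φ (x₁ ≫ g) = α.hom ≫ x ≫ toBase φ g := by
        rw [toBase_comp, ← Category.assoc α.hom]
        congr 1
      rw [hx₁] at this
      rw [← cancel_epi α.hom]
      simp only [MonObj.comp_mul, GrpObj.comp_inv, Category.assoc] at this ⊢
      exact this
    obtain ⟨z, hz⟩ := (hC _ _).mpr key
    exact ⟨ofBase φ z, toBase_injective φ (by rw [toBase_comp_map, toBase_ofBase, hz])⟩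

set_option backward.isDefEq.respectTransparency.types false in
theorem isMultType_isAffineHom {H : Over S} [GrpObj H] (hH : IsMultType H) : IsAffineHom H.hom := by
  obtain ⟨S', f, hf, hs, hqc, hloc⟩ := hH
  have := Unr55.isAffineHom.{u}
  have := isAffineHom_isStableUnderBaseChange.{u}
  refine prop_of_fpqc_cover (@IsAffineHom) H.hom f hqc fun s' => ?_
  obtain ⟨U, hU, M, hM, ⟨e⟩⟩ := hloc s'
  refine ⟨U, hU, ?_⟩
  let e' : Red.bc (U.ι ≫ f) H ≅ Red.DS (U : Scheme.{u}) M := (Grp.forget _).mapIso e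
  show IsAffineHom (Red.bc (U.ι ≫ f) H).hom
  rw [← Over.w e'.hom]
  have := isAffineHom_DS (U : Scheme.{u}) M
  have : IsIso e'.hom.left := inferInstanceAs (IsIso ((CategoryTheory.Over.forget _).map e'.hom))
  exact (MorphismProperty.cancel_left_of_respectsIso (P := @IsAffineHom) _ _).mpr ‹_›

/-- The transporter of two homomorphisms from a group of multiplicative type to a smooth affine
group is representable by a closed subscheme smooth over the base. -/
theorem exists_smooth_transporter {H G : Over S} [GrpObj H] [GrpObj G] (hH : IsMultType H)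
    [Smooth G.hom] [IsAffineHom G.hom] (u v : H ⟶ G) [IsMonHom u] [IsMonHom v] :
    ∃ (C : Over S) (c : C ⟶ G), IsClosedImmersion c.left ∧ Smooth C.hom ∧
      ∀ (X : Over S) (g : X ⟶ G), (∃ z : X ⟶ C, z ≫ c = g) ↔
        ∀ (X' : Over S) (x : X' ⟶ X) (h : X' ⟶ H), (x ≫ g) * (h ≫ u) * (x ≫ g)⁻¹ = h ≫ v := by
  haveI := isMultType_isAffineHom hH
  haveI := Groth.Agent.SGA3a.isClosedImmersion_diag G
  obtain ⟨C, c, hc, hC, hfp⟩ := exists_transporter_fp (isEssentiallyFree_of_isMultType hH)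
    (CartesianMonoidalCategory.lift (fst G H * (snd G H ≫ u) * (fst G H)⁻¹) (snd G H ≫ v))
    (CartesianMonoidalCategory.lift (𝟙 G) (𝟙 G))
  have hC' : ∀ (X : Over S) (g : X ⟶ G), (∃ z : X ⟶ C, z ≫ c = g) ↔
      ∀ (X' : Over S) (x : X' ⟶ X) (h : X' ⟶ H), (x ≫ g) * (h ≫ u) * (x ≫ g)⁻¹ = h ≫ v := by
    intro X g
    refine (hC X g).trans (forall_congr' fun X' => forall_congr' fun x => forall_congr' fun a => ?_)
    simp only [comp_lift, Category.comp_id, MonObj.comp_mul, GrpObj.comp_inv, lift_fst, lift_snd_assoc]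
    refine ⟨fun ⟨x', hx'⟩ => ?_, fun e => ⟨a ≫ v, by rw [e]⟩⟩
    have e1 := congrArg (· ≫ fst G G) hx'
    have e2 := congrArg (· ≫ snd G G) hx'
    simp only [lift_fst, lift_snd] at e1 e2
    exact e1.trans e2.symm
  haveI : LocallyOfFinitePresentation c.left := by
    refine hfp inferInstance ?_
    rw [Over.lift_left]
    show LocallyOfFinitePresentation (pullback.diagonal G.hom)
    haveI : LocallyOfFiniteType G.hom := inferInstance
    haveI : LocallyOfFinitePresentation (pullback.diagonal G.hom ≫ pullback.fst G.hom G.hom) := by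
      rw [pullback.diagonal_fst]; infer_instance
    exact Groth.Agent.LimDesc62.lfp_of_comp _ (pullback.fst G.hom G.hom)
  haveI : LocallyOfFinitePresentation C.hom := by rw [← Over.w c]; infer_instance
  exact ⟨C, c, hc, smooth_transporter hH u v c hC', hC'⟩

/-- The centraliser of a homomorphism from a group of multiplicative type to a smooth affine group is
a closed subgroup, smooth over the base. -/
theorem exists_smooth_centralizer {H G : Over S} [GrpObj H] [GrpObj G] (hH : IsMultType H)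
    [Smooth G.hom] [IsAffineHom G.hom] (u : H ⟶ G) [IsMonHom u] :
    ∃ (Z : Over S) (_ : GrpObj Z) (j : Z ⟶ G), Red.IsCentralizerOf u j ∧ IsClosedImmersion j.left ∧
      Smooth Z.hom := by
  obtain ⟨C, c, hc, hsm, hC⟩ := exists_smooth_transporter hH u u
  haveI : Mono c := Over.mono_of_mono_left c
  have hC' : ∀ (X : Over S) (g : X ⟶ G), (∃ z : X ⟶ C, z ≫ c = g) ↔
      ∀ (X' : Over S) (x : X' ⟶ X) (h : X' ⟶ H), (x ≫ g) * (h ≫ u) = (h ≫ u) * (x ≫ g) := by
    intro X g
    refine (hC X g).trans (forall_congr' fun X' => forall_congr' fun x => forall_congr' fun a => ?_)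
    exact mul_inv_eq_iff_eq_mul
  obtain ⟨i, hi⟩ := exists_grpObj_mono c
    (fun T => (hC' T 1).mpr fun X' x h => by simp)
    (fun T a b => (hC' T _).mpr fun X' x h => by
      have ha := (hC' T (a ≫ c)).mp ⟨a, rfl⟩ X' x h
      have hb := (hC' T (b ≫ c)).mp ⟨b, rfl⟩ X' x h
      rw [MonObj.comp_mul, _root_.mul_assoc, hb, ← _root_.mul_assoc, ha, _root_.mul_assoc])
    (fun T a => (hC' T _).mpr fun X' x h => by
      rw [GrpObj.comp_inv, inv_mul_eq_iff_eq_mul, ← _root_.mul_assoc,
        (hC' T (a ≫ c)).mp ⟨a, rfl⟩ X' x h, mul_inv_cancel_right])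
  exact ⟨C, i, c, ⟨hi, inferInstance, hC'⟩, hc, hsm⟩

end Groth.Agent.RedPts82
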