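import Groth.Agent.RedPts82.DSImage
import Groth.Agent.RedPts82.SubGrp
import Groth.Agent.RedPts82.RankOneHom
import Groth.Agent.Desc59.IdealFpqc
import Groth.Agent.MP99.Image
import Mathlib.AlgebraicGeometry.Morphisms.SchemeTheoreticallyDominant

/-!
The image of a homomorphism which locally factors through a faithfully flat map and a closed
immersion.
-/

universe u

open CategoryTheory MonoidalCategory CartesianMonoidalCategory MonObj GrpObj AlgebraicGeometry
open CategoryTheory.Limits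

namespace Groth.Agent.RedPts82

variable {S : Scheme.{u}}

theorem isSTD_of_flat_surjective {X Y : Scheme.{u}} (p : X ⟶ Y) [Flat p] [Surjective p] :
    IsSchemeTheoreticallyDominant p := by
  refine ⟨Desc59.IdealFpqc.ext_of_family (fun _ : PUnit.{1} => p) (fun _ => inferInstance)
    (fun y => ⟨⟨⟩, p.surjective y⟩) fun _ => ?_⟩
  rw [← Scheme.IdealSheafData.map_bot, Scheme.IdealSheafData.comap_bot]
  exact le_bot_iff.mp (Scheme.IdealSheafData.comap_map_le _ _)

theorem ker_comp_of_std {X Y Z : Scheme.{u}} (p : X ⟶ Y) [IsSchemeTheoreticallyDominant p] (j : Y ⟶ Z) :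
    (p ≫ j).ker = j.ker := by
  rw [Scheme.Hom.ker_comp, p.ker_eq_bot, Scheme.IdealSheafData.map_bot]

/-- The formation of the ideal of the image commutes with flat base change. -/
theorem ker_of_isPullback_flat {X Y X' Y' : Scheme.{u}} {f : X ⟶ Y} [QuasiCompact f] {g : Y' ⟶ Y}
    [Flat g] {g' : X' ⟶ X} {f' : X' ⟶ Y'} (h : IsPullback g' f' f g) : f'.ker = f.ker.comap g := by
  haveI := MP99.dominant_toImage f
  haveI : QuasiCompact f.toImage := by
    haveI : QuasiCompact (f.toImage ≫ f.imageι) := by rw [Scheme.Hom.toImage_imageι]; infer_instance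
    exact QuasiCompact.of_comp f.toImage f.imageι
  let c := pullback.fst g f.imageι
  let d := pullback.snd g f.imageι
  haveI : Flat d := MorphismProperty.pullback_snd (P := @Flat) _ _ ‹_›
  let a : X' ⟶ pullback g f.imageι := pullback.lift f' (g' ≫ f.toImage) (by
    rw [Category.assoc, Scheme.Hom.toImage_imageι, h.w])
  have hsq : IsPullback g' a f.toImage d := by
    refine IsPullback.of_bot ?_ (pullback.lift_snd _ _ _).symm (IsPullback.of_hasPullback g f.imageι).flip
    rw [Scheme.Hom.toImage_imageι, pullback.lift_fst]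
    exact h
  haveI : IsSchemeTheoreticallyDominant a := IsSchemeTheoreticallyDominant.of_isPullback hsq
  rw [show f' = a ≫ c from (pullback.lift_fst _ _ _).symm,
    ker_comp_of_std a, Scheme.IdealSheafData.ker_fst_of_isClosedImmersion]
  · exact congrArg (Scheme.IdealSheafData.comap · g) (Scheme.IdealSheafData.ker_subschemeι _)

variable {H G : Over S} [GrpObj H] [GrpObj G]

/-- The homomorphism factors over `φ` as a faithfully flat one followed by a closed immersion. -/
def FactorsOn {T : Scheme.{u}} (φ : T ⟶ S) (f : H ⟶ G) (Q₁ : Over T) [GrpObj Q₁] : Prop :=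
  ∃ (j₁ : Q₁ ⟶ Red.bc φ G) (p : Red.bc φ H ⟶ Q₁), IsMonHom j₁ ∧ IsMonHom p ∧
    IsClosedImmersion j₁.left ∧ Flat p.left ∧ Surjective p.left ∧ p ≫ j₁ = (Over.pullback φ).map f

variable (f : H ⟶ G) [IsMonHom f] [QuasiCompact f.left]

theorem ker_of_factors {T : Scheme.{u}} (φ : T ⟶ S) [Flat φ] {Q₁ : Over T}
    (j₁ : Q₁ ⟶ Red.bc φ G) (p : Red.bc φ H ⟶ Q₁) [Flat p.left] [Surjective p.left]
    (hp : p ≫ j₁ = (Over.pullback φ).map f) :
    j₁.left.ker = f.left.ker.comap (pullback.fst G.hom φ) := by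
  haveI := isSTD_of_flat_surjective p.left
  rw [← ker_comp_of_std p.left j₁.left, ← Over.comp_left, hp]
  exact ker_of_isPullback_flat (isPullback_bc_map f φ)

/-- The image of a homomorphism, as a scheme over the base. -/
noncomputable abbrev imageObj : Over S := Over.mk (f.left.imageι ≫ G.hom)

/-- The inclusion of the image. -/
noncomputable abbrev imageIncl : imageObj f ⟶ G := Over.homMk f.left.imageι rfl

/-- The corestriction to the image. -/
noncomputable def imageProj : H ⟶ imageObj f := Over.homMk f.left.toImage (by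
  show f.left.toImage ≫ f.left.imageι ≫ G.hom = H.hom
  rw [Scheme.Hom.toImage_imageι_assoc, Over.w f])

omit [GrpObj H] [GrpObj G] [IsMonHom f] in
theorem imageProj_incl : imageProj f ≫ imageIncl f = f :=
  Over.OverMorphism.ext (Scheme.Hom.toImage_imageι _)

omit [GrpObj H] [GrpObj G] [IsMonHom f] in
theorem isClosedImmersion_imageIncl : IsClosedImmersion (imageIncl f).left :=
  inferInstanceAs (IsClosedImmersion f.left.imageι)

omit [GrpObj H] [GrpObj G] [IsMonHom f] in
/-- Points of the image. -/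
theorem exists_image_pt_iff {Z : Over S} (t : Z ⟶ G) :
    (∃ z : Z ⟶ imageObj f, z ≫ imageIncl f = t) ↔ f.left.ker.comap t.left = ⊥ := by
  constructor
  · rintro ⟨z, rfl⟩
    show f.left.ker.comap (z.left ≫ f.left.imageι) = ⊥
    rw [Scheme.IdealSheafData.comap_comp]
    have h : f.left.ker.comap f.left.imageι = ⊥ := le_bot_iff.mp (by
      conv_lhs => rw [← Scheme.IdealSheafData.ker_subschemeι f.left.ker, ← Scheme.IdealSheafData.map_bot]
      exact Scheme.IdealSheafData.comap_map_le _ _)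
    rw [h, Scheme.IdealSheafData.comap_bot]
  · intro h
    have hle : f.left.imageι.ker ≤ t.left.ker := by
      refine (le_of_eq (Scheme.IdealSheafData.ker_subschemeι f.left.ker)).trans ?_
      refine le_of_le_of_eq ?_ (Scheme.IdealSheafData.map_bot t.left)
      exact Scheme.IdealSheafData.le_map_iff_comap_le.mpr (le_of_eq h)
    refine ⟨Over.homMk (IsClosedImmersion.lift f.left.imageι t.left hle) ?_,
      Over.OverMorphism.ext (IsClosedImmersion.lift_fac _ _ _)⟩
    show IsClosedImmersion.lift _ _ hle ≫ f.left.imageι ≫ G.hom = Z.hom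
    rw [IsClosedImmersion.lift_fac_assoc, Over.w t]

/-- Over a chart the image is the closed subgroup. -/
theorem exists_chart_iso {T : Scheme.{u}} (φ : T ⟶ S) [Flat φ] {Q₁ : Over T} (j₁ : Q₁ ⟶ Red.bc φ G)
    [IsClosedImmersion j₁.left] (p : Red.bc φ H ⟶ Q₁) [Flat p.left] [Surjective p.left]
    (hp : p ≫ j₁ = (Over.pullback φ).map f) :
    ∃ e : Q₁ ≅ Red.bc φ (imageObj f), e.hom ≫ (Over.pullback φ).map (imageIncl f) = j₁ := by
  let i := (Over.pullback φ).map (imageIncl f)
  haveI := isClosedImmersion_imageIncl f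
  haveI : IsClosedImmersion i.left :=
    MorphismProperty.of_isPullback (P := @IsClosedImmersion) (isPullback_bc_map (imageIncl f) φ) ‹_›
  have hk : i.left.ker = j₁.left.ker := by
    rw [ker_of_factors f φ j₁ p hp]
    have h := isPullback_bc_map (imageIncl f) φ
    rw [← Scheme.IdealSheafData.ker_subschemeι f.left.ker,
      ← Scheme.IdealSheafData.ker_fst_of_isClosedImmersion]
    rw [← h.flip.isoPullback_hom_fst, Scheme.Hom.ker_comp_of_isIso]
    rfl
  let a := IsClosedImmersion.lift i.left j₁.left hk.le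
  have ha : a ≫ i.left = j₁.left := IsClosedImmersion.lift_fac _ _ _
  haveI : IsIso a := IsClosedImmersion.isIso_lift i.left j₁.left hk
  refine ⟨Over.isoMk (asIso a) ?_, Over.OverMorphism.ext ha⟩
  show a ≫ (Red.bc φ (imageObj f)).hom = Q₁.hom
  rw [← Over.w i, reassoc_of% ha, Over.w j₁]

variable {I : Type u} (T : I → Scheme.{u}) (φ : ∀ i, T i ⟶ S) [∀ i, Flat (φ i)]
  (hcov : ∀ s : S, ∃ i y, φ i y = s) (Q : ∀ i, Over (T i)) [∀ i, GrpObj (Q i)]
  (hQ : ∀ i, FactorsOn (φ i) f (Q i))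

include hcov hQ

/-- A point of `G` lying in the image on the charts lies in the image. -/
theorem image_pt_local {Z : Over S} (t : Z ⟶ G)
    (h : ∀ i (j₁ : Q i ⟶ Red.bc (φ i) G) (p : Red.bc (φ i) H ⟶ Q i), IsMonHom j₁ →
      IsClosedImmersion j₁.left → Flat p.left → Surjective p.left →
      p ≫ j₁ = (Over.pullback (φ i)).map f →
      ∃ z : Over.mk (pullback.snd Z.hom (φ i)) ⟶ Q i, toBase (φ i) (z ≫ j₁) =
        (Over.homMk (pullback.fst Z.hom (φ i)) pullback.condition :
          (Over.map (φ i)).obj (Over.mk (pullback.snd Z.hom (φ i))) ⟶ Z) ≫ t) :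
    ∃ z : Z ⟶ imageObj f, z ≫ imageIncl f = t := by
  rw [exists_image_pt_iff]
  refine Desc59.IdealFpqc.ext_of_family (fun i => pullback.fst Z.hom (φ i))
    (fun i => inferInstance) (fun x => ?_) fun i => ?_
  · obtain ⟨i, y, hy⟩ := hcov (Z.hom x)
    obtain ⟨z, hz, -⟩ := Scheme.Pullback.exists_preimage_pullback x y hy.symm
    exact ⟨i, z, hz⟩
  · obtain ⟨j₁, p, hj, hp, hc, hf, hs, he⟩ := hQ i
    haveI := hf; haveI := hs
    obtain ⟨z, hz⟩ := h i j₁ p hj hc hf hs he
    have e := congrArg Over.Hom.left hz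
    rw [toBase_left, Over.comp_left, Category.assoc, Over.comp_left] at e
    rw [Scheme.IdealSheafData.comap_bot, ← Scheme.IdealSheafData.comap_comp,
      show pullback.fst Z.hom (φ i) ≫ t.left = z.left ≫ j₁.left ≫ pullback.fst G.hom (φ i) from e.symm,
      Scheme.IdealSheafData.comap_comp, Scheme.IdealSheafData.comap_comp,
      ← ker_of_factors f (φ i) j₁ p he]
    have h0 : j₁.left.ker.comap j₁.left = ⊥ := le_bot_iff.mp (by
      rw [← Scheme.IdealSheafData.map_bot]
      exact Scheme.IdealSheafData.comap_map_le _ _)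
    rw [h0, Scheme.IdealSheafData.comap_bot]

omit hcov hQ in
/-- Points of the image seen on a chart. -/
theorem image_pt_chart (i : I) (j₁ : Q i ⟶ Red.bc (φ i) G) (p : Red.bc (φ i) H ⟶ Q i)
    [IsClosedImmersion j₁.left] [Flat p.left] [Surjective p.left]
    (he : p ≫ j₁ = (Over.pullback (φ i)).map f) {Z : Over S} (a : Z ⟶ imageObj f) :
    ∃ z : Over.mk (pullback.snd Z.hom (φ i)) ⟶ Q i, toBase (φ i) (z ≫ j₁) =
      (Over.homMk (pullback.fst Z.hom (φ i)) pullback.condition :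
        (Over.map (φ i)).obj (Over.mk (pullback.snd Z.hom (φ i))) ⟶ Z) ≫ a ≫ imageIncl f := by
  obtain ⟨e, he'⟩ := exists_chart_iso f (φ i) j₁ p he
  let w : (Over.map (φ i)).obj (Over.mk (pullback.snd Z.hom (φ i))) ⟶ Z :=
    Over.homMk (pullback.fst Z.hom (φ i)) pullback.condition
  refine ⟨ofBase (φ i) (w ≫ a) ≫ e.inv, ?_⟩
  rw [← he', Category.assoc, Iso.inv_hom_id_assoc, toBase_comp_map, toBase_ofBase, Category.assoc]

/-- The image is a subgroup. -/
theorem exists_image_grp :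
    ∃ (_ : GrpObj (imageObj f)), IsMonHom (imageIncl f) ∧ IsMonHom (imageProj f) := by
  haveI := isClosedImmersion_imageIncl f
  haveI : Mono (imageIncl f) := Over.mono_of_mono_left _
  obtain ⟨hgrp, hm⟩ := exists_grpObj_mono (imageIncl f)
    (fun Z => image_pt_local f T φ hcov Q hQ 1 fun i j₁ p hj _ _ _ _ => by
      haveI := hj
      exact ⟨1, by rw [MonObj.one_comp, toBase_one, MonObj.comp_one]⟩)
    (fun Z a b => image_pt_local f T φ hcov Q hQ _ fun i j₁ p hj hc hf hs he => by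
      haveI := hj; haveI := hc; haveI := hf; haveI := hs
      obtain ⟨za, hza⟩ := image_pt_chart f T φ Q i j₁ p he a
      obtain ⟨zb, hzb⟩ := image_pt_chart f T φ Q i j₁ p he b
      exact ⟨za * zb, by rw [MonObj.mul_comp _ _ j₁, toBase_mul, hza, hzb, MonObj.comp_mul]⟩)
    (fun Z a => image_pt_local f T φ hcov Q hQ _ fun i j₁ p hj hc hf hs he => by
      haveI := hj; haveI := hc; haveI := hf; haveI := hs
      obtain ⟨za, hza⟩ := image_pt_chart f T φ Q i j₁ p he a
      refine ⟨za⁻¹, ?_⟩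
      rw [GrpObj.inv_comp, GrpObj.comp_inv, ← hza, eq_inv_iff_mul_eq_one, ← toBase_mul,
        inv_mul_cancel, toBase_one])
  haveI := hm
  refine ⟨hgrp, hm, isMonHom_of_points _ fun X x y => ?_⟩
  rw [← cancel_mono (imageIncl f), MonObj.mul_comp _ _ (imageIncl f), Category.assoc, Category.assoc,
    Category.assoc, imageProj_incl, MonObj.mul_comp _ _ f]

omit hcov hQ

/-- Two successive base changes. -/
theorem exists_bc_comp_iso {T₁ W : Scheme.{u}} (g : T₁ ⟶ S) (ψ : W ⟶ T₁) :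
    ∃ e : ∀ X : Over S, Red.bc (ψ ≫ g) X ≅ Red.bc ψ (Red.bc g X),
      (∀ {X Y : Over S} (u : X ⟶ Y), (e X).hom ≫ (Over.pullback ψ).map ((Over.pullback g).map u) =
        (Over.pullback (ψ ≫ g)).map u ≫ (e Y).hom) ∧
      ∀ (X : Over S) [GrpObj X], IsMonHom (e X).hom ∧ IsMonHom (e X).inv := by
  let c : ∀ X : Over W, (Over.map g).obj ((Over.map ψ).obj X) ⟶ (Over.map (ψ ≫ g)).obj X := fun X =>
    Over.homMk (𝟙 X.left) (by simp)
  let c' : ∀ X : Over W, (Over.map (ψ ≫ g)).obj X ⟶ (Over.map g).obj ((Over.map ψ).obj X) := fun X =>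
    Over.homMk (𝟙 X.left) (by simp)
  have hcc : ∀ X, c' X ≫ c X = 𝟙 _ := fun X => Over.OverMorphism.ext (Category.comp_id _)
  have hcc' : ∀ X, c X ≫ c' X = 𝟙 _ := fun X => Over.OverMorphism.ext (Category.comp_id _)
  let b : ∀ X : Over S, Red.bc (ψ ≫ g) X ⟶ Red.bc ψ (Red.bc g X) := fun X =>
    ofBase ψ (ofBase g (c _ ≫ toBase (ψ ≫ g) (𝟙 _)))
  have hb : ∀ (X : Over S) (Z : Over W) (x : Z ⟶ Red.bc (ψ ≫ g) X),
      toBase g (toBase ψ (x ≫ b X)) = c Z ≫ toBase (ψ ≫ g) x := by
    intro X Z x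
    rw [toBase_comp, toBase_comp, toBase_ofBase, toBase_ofBase]
    have e : (Over.map g).map ((Over.map ψ).map x) ≫ c _ = c Z ≫ (Over.map (ψ ≫ g)).map x :=
      Over.OverMorphism.ext ((Category.comp_id _).trans (Category.id_comp _).symm)
    rw [← Category.assoc, e, Category.assoc, ← toBase_comp, Category.comp_id]
  have hinj : ∀ {X : Over S} {Z : Over W} {p q : Z ⟶ Red.bc ψ (Red.bc g X)},
      toBase g (toBase ψ p) = toBase g (toBase ψ q) → p = q := fun h =>
    toBase_injective ψ (toBase_injective g h)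
  let r : ∀ X : Over S, Red.bc ψ (Red.bc g X) ⟶ Red.bc (ψ ≫ g) X := fun X =>
    ofBase (ψ ≫ g) (c' _ ≫ toBase g (toBase ψ (𝟙 _)))
  have hrb : ∀ X, r X ≫ b X = 𝟙 _ := fun X => hinj (by
    rw [hb, toBase_ofBase, ← Category.assoc, hcc', Category.id_comp])
  have hbinj : ∀ (X : Over S) (Z : Over W) (x y : Z ⟶ Red.bc (ψ ≫ g) X), x ≫ b X = y ≫ b X → x = y := by
    intro X Z x y e
    apply toBase_injective (ψ ≫ g)
    have e' := congrArg (fun k => c' Z ≫ toBase g (toBase ψ k)) e
    simp only [hb, ← Category.assoc, hcc, Category.id_comp] at e'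
    exact e'
  let e : ∀ X : Over S, Red.bc (ψ ≫ g) X ≅ Red.bc ψ (Red.bc g X) := fun X =>
    ⟨b X, r X, hbinj _ _ _ _ (by rw [Category.assoc, hrb, Category.comp_id, Category.id_comp]), hrb X⟩
  refine ⟨e, fun {X Y} u => ?_, fun X _ => ?_⟩
  · apply hinj
    show toBase g (toBase ψ (b X ≫ _)) = toBase g (toBase ψ (_ ≫ b Y))
    rw [hb, toBase_comp_map, toBase_comp_map, ← Category.id_comp (b X), hb,
      ← Category.id_comp ((Over.pullback (ψ ≫ g)).map u), toBase_comp_map, Category.assoc]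
  haveI : IsMonHom (e X).hom := isMonHom_of_points _ fun Z x y => hinj (by
    show toBase g (toBase ψ (_ ≫ b X)) = toBase g (toBase ψ ((x ≫ b X) * (y ≫ b X)))
    rw [hb, toBase_mul ψ, toBase_mul g, hb, hb, toBase_mul, MonObj.comp_mul])
  exact ⟨this, isMonHom_of_points _ fun Z x y => hbinj X Z _ _ (by
    rw [MonObj.mul_comp _ _ (e X).hom]
    simp only [Category.assoc]
    rw [show r X ≫ b X = 𝟙 _ from hrb X]
    simp only [Category.comp_id])⟩

/-- A homomorphism which is on a flat cover a faithfully flat map followed by a closed immersion has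
a closed image subgroup. -/
theorem exists_image {S' : Scheme.{u}} (π : S' ⟶ S) [Flat π] [Surjective π] (hqc : IsQcCover π)
    (hloc : ∀ s' : S', ∃ U : S'.Opens, s' ∈ U ∧ ∃ (Q₁ : Over (U : Scheme.{u})) (_ : GrpObj Q₁),
      FactorsOn (U.ι ≫ π) f Q₁) :
    ∃ (Q : Over S) (_ : GrpObj Q) (j : Q ⟶ G) (_ : IsMonHom j) (f' : H ⟶ Q) (_ : IsMonHom f'),
      IsClosedImmersion j.left ∧ Flat f'.left ∧ Surjective f'.left ∧ f' ≫ j = f ∧
      ∀ (T₁ : Scheme.{u}) (φ₁ : T₁ ⟶ S) (Q₁ : Over T₁) [GrpObj Q₁], Flat φ₁ → FactorsOn φ₁ f Q₁ →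
        Nonempty (Grp.mk (Red.bc φ₁ Q) ≅ Grp.mk Q₁) := by
  choose U hU Q₀ hQ₀ hfac using hloc
  have hcov : ∀ s : S, ∃ (i : S') (y : (U i : Scheme.{u})), ((U i).ι ≫ π) y = s := fun s => by
    obtain ⟨s', hs'⟩ := π.surjective s
    exact ⟨s', ⟨s', hU s'⟩, hs'⟩
  haveI : ∀ i, Flat ((U i).ι ≫ π) := fun i => inferInstance
  obtain ⟨hgrp, hj, hp⟩ := exists_image_grp f (fun i => (U i : Scheme.{u})) (fun i => (U i).ι ≫ π)
    hcov Q₀ hfac
  letI := hgrp
  haveI := hj; haveI := hp
  haveI := isClosedImmersion_imageIncl f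
  have key : ∀ (T₁ : Scheme.{u}) (φ₁ : T₁ ⟶ S) (Q₁ : Over T₁) [GrpObj Q₁] [Flat φ₁],
      FactorsOn φ₁ f Q₁ → ∃ (e : Q₁ ≅ Red.bc φ₁ (imageObj f)) (_ : IsMonHom e.hom)
        (p : Red.bc φ₁ H ⟶ Q₁), Flat p.left ∧ Surjective p.left ∧
        p ≫ e.hom = (Over.pullback φ₁).map (imageProj f) := by
    intro T₁ φ₁ Q₁ _ _ ⟨j₁, p, hj₁, hp₁, hc₁, hf₁, hs₁, he₁⟩
    haveI := hc₁; haveI := hf₁; haveI := hs₁
    obtain ⟨e, he⟩ := exists_chart_iso f φ₁ j₁ p he₁
    let i := (Over.pullback φ₁).map (imageIncl f)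
    haveI : IsClosedImmersion i.left :=
      MorphismProperty.of_isPullback (P := @IsClosedImmersion) (isPullback_bc_map (imageIncl f) φ₁) ‹_›
    haveI : Mono i := Over.mono_of_mono_left _
    refine ⟨e, isMonHom_of_points _ fun Z x y => ?_, p, hf₁, hs₁, ?_⟩
    · rw [← cancel_mono i, MonObj.mul_comp _ _ i, Category.assoc, Category.assoc, Category.assoc, he]
      exact MonObj.mul_comp _ _ j₁
    · rw [← cancel_mono i, Category.assoc, he, he₁, ← Functor.map_comp, imageProj_incl]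
  haveI := flat_descends_fpqc.{u}
  haveI : MorphismProperty.DescendsAlong (@Surjective : MorphismProperty Scheme.{u})
      Unr55.fpqc.{u} := by unfold Unr55.fpqc; infer_instance
  have hff : ∀ s' : S', ffProp ((Over.pullback ((U s').ι ≫ π)).map (imageProj f)).left := by
    intro s'
    obtain ⟨e, -, p, h₁, h₂, h₃⟩ := key _ _ (Q₀ s') (hfac s')
    haveI : IsIso e.hom.left := inferInstanceAs (IsIso ((Over.forget _).map e.hom))
    rw [← h₃, Over.comp_left]
    exact (MorphismProperty.cancel_right_of_respectsIso (P := ffProp) _ _).mpr ⟨h₁, h₂⟩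
  refine ⟨imageObj f, hgrp, imageIncl f, hj, imageProj f, hp, isClosedImmersion_imageIncl f,
    map_prop_of_fpqc_cover (@Flat) (imageProj f) π hqc fun s' => ⟨U s', hU s', (hff s').1⟩,
    map_prop_of_fpqc_cover (@Surjective) (imageProj f) π hqc fun s' => ⟨U s', hU s', (hff s').2⟩,
    imageProj_incl f, fun T₁ φ₁ Q₁ _ hflat hfac₁ => ?_⟩
  haveI := hflat
  obtain ⟨e, he, -⟩ := key T₁ φ₁ Q₁ hfac₁
  haveI := he
  exact ⟨(Grp.mkIso' e).symm⟩

/-- Two factorisations through closed subgroups coincide. -/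
theorem factor_unique {Q₁ Q₂ : Over S} (j₁ : Q₁ ⟶ G) (j₂ : Q₂ ⟶ G) [IsClosedImmersion j₁.left]
    [IsClosedImmersion j₂.left] (f₁ : H ⟶ Q₁) (f₂ : H ⟶ Q₂) [Flat f₁.left] [Surjective f₁.left]
    [Flat f₂.left] [Surjective f₂.left] (h₁ : f₁ ≫ j₁ = f) (h₂ : f₂ ≫ j₂ = f) :
    ∃ e : Q₁ ≅ Q₂, e.hom ≫ j₂ = j₁ ∧ f₁ ≫ e.hom = f₂ := by
  haveI := isSTD_of_flat_surjective f₁.left
  haveI := isSTD_of_flat_surjective f₂.left
  have hk : j₂.left.ker = j₁.left.ker := by
    rw [← ker_comp_of_std f₁.left j₁.left, ← ker_comp_of_std f₂.left j₂.left, ← Over.comp_left,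
      ← Over.comp_left, h₁, h₂]
  let a := IsClosedImmersion.lift j₂.left j₁.left hk.le
  have ha : a ≫ j₂.left = j₁.left := IsClosedImmersion.lift_fac _ _ _
  haveI : IsIso a := IsClosedImmersion.isIso_lift j₂.left j₁.left hk
  let e : Q₁ ≅ Q₂ := Over.isoMk (asIso a) (by
    show a ≫ Q₂.hom = Q₁.hom
    rw [← Over.w j₂, reassoc_of% ha, Over.w j₁])
  have he : e.hom ≫ j₂ = j₁ := Over.OverMorphism.ext ha
  haveI : Mono j₂ := Over.mono_of_mono_left _
  exact ⟨e, he, by rw [← cancel_mono j₂, Category.assoc, he, h₁, h₂]⟩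

end Groth.Agent.RedPts82
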