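import Groth.Agent.RedPts82.ImageSub

/-!
The image of a homomorphism from a group of multiplicative type to a separated group of finite
presentation.
-/

universe u

open CategoryTheory MonoidalCategory CartesianMonoidalCategory MonObj GrpObj AlgebraicGeometry
open CategoryTheory.Limits

namespace Groth.Agent.RedPts82

variable {S : Scheme.{u}}

theorem ff_bc_DSmap {T V : Scheme.{u}} (m : V ⟶ T) {Γ Λ : Type} [AddCommGroup Γ] [AddCommGroup Λ]
    (φ : Λ →+ Γ) (hφ : Function.Injective φ) :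
    Flat ((Over.pullback m).map (Red.DSmap T φ)).left ∧
      Surjective ((Over.pullback m).map (Red.DSmap T φ)).left := by
  obtain ⟨h₁, h₂⟩ := DSmap_flat_surjective (S := T) φ hφ
  exact ⟨MorphismProperty.of_isPullback (P := @Flat) (isPullback_bc_map _ m) h₁,
    MorphismProperty.of_isPullback (P := @Surjective) (isPullback_bc_map _ m) h₂⟩

/-- The base change of a diagonalisable group along an open immersion, as groups. -/
theorem grpIso_bc_DS {T V : Scheme.{u}} (m : V ⟶ T) (Λ : Type) [AddCommGroup Λ] :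
    Nonempty (Grp.mk (Red.bc m (Red.DS T Λ)) ≅ Grp.mk (Red.DS V Λ)) := by
  obtain ⟨a, ha, hi, -⟩ := exists_ds_bc m Λ
  exact ⟨(Grp.mkIso' (asIso a)).symm⟩

/-- A factorisation after two base changes. -/
theorem FactorsOn.trans {H G : Over S} [GrpObj H] [GrpObj G] {f : H ⟶ G} {T V : Scheme.{u}}
    {φ : T ⟶ S} {m : V ⟶ T} {Q₁ : Over V} [GrpObj Q₁]
    (h : FactorsOn m ((Over.pullback φ).map f) Q₁) : FactorsOn (m ≫ φ) f Q₁ := by
  obtain ⟨j, p, hj, hp, hjc, hpf, hps, he⟩ := h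
  obtain ⟨c, hc, hcm⟩ := exists_bc_comp_iso φ m
  haveI := (hcm H).1
  haveI := (hcm G).2
  haveI : IsIso (c H).hom.left := inferInstanceAs (IsIso ((Over.forget _).map (c H).hom))
  haveI : IsIso (c G).inv.left := inferInstanceAs (IsIso ((Over.forget _).map (c G).inv))
  refine ⟨j ≫ (c G).inv, (c H).hom ≫ p, inferInstance, inferInstance,
    (MorphismProperty.cancel_right_of_respectsIso (P := @IsClosedImmersion) _ _).mpr hjc,
    (MorphismProperty.cancel_left_of_respectsIso (P := @Flat) _ _).mpr hpf,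
    (MorphismProperty.cancel_left_of_respectsIso (P := @Surjective) _ _).mpr hps, ?_⟩
  rw [Category.assoc, reassoc_of% he, ← Category.assoc, hc, Category.assoc, Iso.hom_inv_id,
    Category.comp_id]

/-- A factorisation pulls back. -/
theorem FactorsOn.bc {H G : Over S} [GrpObj H] [GrpObj G] {f : H ⟶ G} {T V : Scheme.{u}}
    {φ : T ⟶ S} (m : V ⟶ T) {Q₁ : Over T} [GrpObj Q₁] (h : FactorsOn φ f Q₁) :
    FactorsOn (m ≫ φ) f (Red.bc m Q₁) := by
  obtain ⟨j, p, hj, hp, hjc, hpf, hps, he⟩ := h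
  exact FactorsOn.trans ⟨(Over.pullback m).map j, (Over.pullback m).map p, inferInstance,
    inferInstance, MorphismProperty.of_isPullback (P := @IsClosedImmersion) (isPullback_bc_map j m) hjc,
    MorphismProperty.of_isPullback (P := @Flat) (isPullback_bc_map p m) hpf,
    MorphismProperty.of_isPullback (P := @Surjective) (isPullback_bc_map p m) hps,
    by rw [← Functor.map_comp, he]⟩

/-- A homomorphism from a diagonalisable group factors on open and closed pieces through closed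
diagonalisable subgroups. -/
theorem exists_ds_factor_clopen {Γ : Type} [AddCommGroup Γ] {G : Over S} [GrpObj G]
    [IsSeparated G.hom] [QuasiCompact G.hom] [LocallyOfFinitePresentation G.hom]
    (q : Red.DS S Γ ⟶ G) [IsMonHom q] (s : S) :
    ∃ U : S.Opens, s ∈ U ∧ IsClosed (U : Set S) ∧ ∃ Λ : AddSubgroup Γ, Λ.FG ∧
      FactorsOn U.ι q (Red.bc U.ι (Red.DS S Λ)) := by
  obtain ⟨U, hsU, hUc, Λ, hΛ, hk, hann⟩ := exists_ann_locus q s
  obtain ⟨j, h₁, h₂, h₃⟩ := exists_factor q U ‹_› Λ hΛ hk hann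
  haveI : IsMonHom (Red.DSmap S Λ.subtype) := isMonHom_of_points _ fun Z a b => dsFn_injective fun m => by
    simp only [dsFn_mul, dsFn_DSmap]
  obtain ⟨h₄, h₅⟩ := ff_bc_DSmap U.ι Λ.subtype Subtype.val_injective
  exact ⟨U, hsU, hUc, Λ, hΛ, j, (Over.pullback U.ι).map (Red.DSmap S Λ.subtype), h₁, inferInstance, h₂,
    h₄, h₅, h₃.symm⟩

/-- A homomorphism from a diagonalisable group factors locally through closed diagonalisable
subgroups. -/
theorem exists_ds_factor {Γ : Type} [AddCommGroup Γ] {G : Over S} [GrpObj G] [IsSeparated G.hom]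
    [QuasiCompact G.hom] [LocallyOfFinitePresentation G.hom] (q : Red.DS S Γ ⟶ G) [IsMonHom q]
    (s : S) : ∃ U : S.Opens, s ∈ U ∧ ∃ Λ : AddSubgroup Γ, Λ.FG ∧
      FactorsOn U.ι q (Red.bc U.ι (Red.DS S Λ)) := by
  obtain ⟨U, hsU, -, Λ, hΛ, h⟩ := exists_ds_factor_clopen q s
  exact ⟨U, hsU, Λ, hΛ, h⟩

/-- A homomorphism from a group of multiplicative type factors locally for the fpqc topology through
closed diagonalisable subgroups. -/
theorem exists_mult_factor' {H G : Over S} [GrpObj H] [GrpObj G] [IsSeparated G.hom]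
    [QuasiCompact G.hom] [LocallyOfFinitePresentation G.hom] (f : H ⟶ G) [IsMonHom f]
    {S' : Scheme.{u}} (π : S' ⟶ S) {U : S'.Opens} {M : Type} [AddCommGroup M]
    (e : Grp.mk (Red.bc (U.ι ≫ π) H) ≅ Grp.mk (Red.DS (U : Scheme.{u}) M)) {s' : S'} (hs : s' ∈ U) :
    ∃ V : S'.Opens, s' ∈ V ∧ ∃ (Q₁ : Over (V : Scheme.{u})) (_ : GrpObj Q₁) (Λ : Type)
      (_ : AddCommGroup Λ), FactorsOn (V.ι ≫ π) f Q₁ ∧
        Nonempty (Grp.mk Q₁ ≅ Grp.mk (Red.DS (V : Scheme.{u}) Λ)) ∧ AddGroup.FG Λ ∧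
        (IsAddTorsionFree M → IsAddTorsionFree Λ) ∧
        (IsClosed (U : Set S') → IsClosed (V : Set S')) := by
  let T : Scheme.{u} := U
  let φ : T ⟶ S := U.ι ≫ π
  let a : Red.DS T M ⟶ Red.bc φ H := e.inv.hom.hom
  haveI : IsMonHom a := e.inv.hom.isMonHom_hom
  haveI : IsIso a := ((Grp.forget _).mapIso e).isIso_inv
  haveI : IsSeparated (Red.bc φ G).hom := inferInstanceAs (IsSeparated (pullback.snd G.hom φ))
  haveI : QuasiCompact (Red.bc φ G).hom := inferInstanceAs (QuasiCompact (pullback.snd G.hom φ))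
  haveI : LocallyOfFinitePresentation (Red.bc φ G).hom :=
    MorphismProperty.pullback_snd (P := @LocallyOfFinitePresentation) _ _ ‹_›
  obtain ⟨W, hW, hWc, Λ, hΛ, j, p, hj, hp, hjc, hpf, hps, hpj⟩ :=
    exists_ds_factor_clopen (a ≫ (Over.pullback φ).map f) (⟨s', hs⟩ : T)
  let V : S'.Opens := U.ι ''ᵁ W
  let i : (V : Scheme.{u}) ⟶ (W : Scheme.{u}) :=
    IsOpenImmersion.lift (W.ι ≫ U.ι) V.ι (by
      rintro _ ⟨⟨_, w, hw, rfl⟩, rfl⟩
      exact ⟨⟨w, hw⟩, rfl⟩)
  let ψ : (V : Scheme.{u}) ⟶ T := i ≫ W.ι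
  have hψ : ψ ≫ φ = V.ι ≫ π := by
    show (i ≫ W.ι) ≫ U.ι ≫ π = V.ι ≫ π
    rw [Category.assoc, ← Category.assoc W.ι, ← Category.assoc i, IsOpenImmersion.lift_fac]
  let Q₁ := Red.bc i (Red.bc W.ι (Red.DS T Λ))
  haveI := hp; haveI := hj
  haveI : IsMonHom (CategoryTheory.inv a) := isMonHom_of_points _ fun X x y => by
    rw [← cancel_mono a, MonObj.mul_comp _ _ a]
    simp only [Category.assoc, IsIso.inv_hom_id, Category.comp_id]
  haveI : IsIso ((Over.pullback W.ι).map (CategoryTheory.inv a)).left :=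
    inferInstanceAs (IsIso ((Over.forget _).map ((Over.pullback W.ι).map (CategoryTheory.inv a))))
  have h₀ : FactorsOn W.ι ((Over.pullback φ).map f) (Red.bc W.ι (Red.DS T Λ)) :=
    ⟨j, (Over.pullback W.ι).map (CategoryTheory.inv a) ≫ p, hj, inferInstance, hjc,
      (MorphismProperty.cancel_left_of_respectsIso (P := @Flat) _ _).mpr hpf,
      (MorphismProperty.cancel_left_of_respectsIso (P := @Surjective) _ _).mpr hps, by
        rw [Category.assoc, hpj, ← Functor.map_comp, IsIso.inv_hom_id_assoc]⟩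
  have hfac : FactorsOn (ψ ≫ φ) f Q₁ := by
    rw [Category.assoc]
    exact (FactorsOn.trans h₀).bc i
  refine ⟨V, ⟨⟨s', hs⟩, hW, rfl⟩, Q₁, inferInstance, Λ, inferInstance, hψ ▸ hfac, ?_,
    (AddGroup.fg_iff_addSubgroup_fg _).mpr hΛ, fun h => ⟨fun n hn a b hab => Subtype.ext
      (h.nsmul_right_injective hn (congrArg Subtype.val hab))⟩, fun hUc =>
      (show Topology.IsClosedEmbedding U.ι from ⟨U.ι.isOpenEmbedding.isEmbedding, by
        rw [Scheme.Opens.range_ι]; exact hUc⟩).isClosedMap _ hWc⟩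
  obtain ⟨a₁, ha₁, hi₁, -⟩ := exists_ds_bc W.ι (Λ : Type)
  obtain ⟨e₂⟩ := grpIso_bc_DS i (Λ : Type)
  exact ⟨(Over.pullback i).mapGrp.mapIso (Grp.mkIso' (asIso a₁)).symm ≪≫ e₂⟩

/-- A homomorphism from a group of multiplicative type factors locally for the fpqc topology through
closed diagonalisable subgroups. -/
theorem exists_mult_factor {H G : Over S} [GrpObj H] [GrpObj G] [IsSeparated G.hom]
    [QuasiCompact G.hom] [LocallyOfFinitePresentation G.hom] (f : H ⟶ G) [IsMonHom f]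
    {S' : Scheme.{u}} (π : S' ⟶ S) {U : S'.Opens} {M : Type} [AddCommGroup M]
    (e : Grp.mk (Red.bc (U.ι ≫ π) H) ≅ Grp.mk (Red.DS (U : Scheme.{u}) M)) {s' : S'} (hs : s' ∈ U) :
    ∃ V : S'.Opens, s' ∈ V ∧ ∃ (Q₁ : Over (V : Scheme.{u})) (_ : GrpObj Q₁) (Λ : Type)
      (_ : AddCommGroup Λ), FactorsOn (V.ι ≫ π) f Q₁ ∧
        Nonempty (Grp.mk Q₁ ≅ Grp.mk (Red.DS (V : Scheme.{u}) Λ)) := by
  obtain ⟨V, hV, Q₁, hQ₁, Λ, hΛ, h₁, h₂, -⟩ := exists_mult_factor' f π e hs
  exact ⟨V, hV, Q₁, hQ₁, Λ, hΛ, h₁, h₂⟩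

theorem quasiCompact_of_mult {H G : Over S} [GrpObj H] (hH : IsMultType H) [IsSeparated G.hom]
    (f : H ⟶ G) : QuasiCompact f.left := by
  haveI := isMultType_isAffineHom hH
  haveI : QuasiCompact (f.left ≫ G.hom) := by rw [Over.w f]; infer_instance
  exact QuasiCompact.of_comp f.left G.hom

end Groth.Agent.RedPts82
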