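import Groth.Agent.RedPts82.Normalizer

/-!
Groups of multiplicative type are stable under base change.
-/

universe u

open CategoryTheory MonoidalCategory CartesianMonoidalCategory MonObj GrpObj AlgebraicGeometry
open CategoryTheory.Limits

namespace Groth.Agent.RedPts82

variable {S T : Scheme.{u}}

/-- A diagonalisation over a scheme over `T` gives one of the base change to `T`. -/
theorem exists_grpIso_bc_bc {W : Scheme.{u}} (g : T ⟶ S) (ψ : W ⟶ T) {H : Over S} [GrpObj H]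
    {M : Type} [AddCommGroup M] (a : Red.DS W M ⟶ Red.bc (ψ ≫ g) H) [IsMonHom a] [Mono a]
    (hs : ∀ (X : Over W) (h : X ⟶ Red.bc (ψ ≫ g) H), ∃ t, t ≫ a = h) :
    Nonempty (Grp.mk (Red.bc ψ (Red.bc g H)) ≅ Grp.mk (Red.DS W M)) := by
  let D := Red.DS W M
  let c : ∀ X : Over W, (Over.map g).obj ((Over.map ψ).obj X) ⟶ (Over.map (ψ ≫ g)).obj X := fun X =>
    Over.homMk (𝟙 X.left) (by simp)
  let c' : ∀ X : Over W, (Over.map (ψ ≫ g)).obj X ⟶ (Over.map g).obj ((Over.map ψ).obj X) := fun X =>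
    Over.homMk (𝟙 X.left) (by simp)
  have hcc : ∀ X, c' X ≫ c X = 𝟙 _ := fun X => Over.OverMorphism.ext (Category.comp_id _)
  have hcc' : ∀ X, c X ≫ c' X = 𝟙 _ := fun X => Over.OverMorphism.ext (Category.comp_id _)
  let b : D ⟶ Red.bc ψ (Red.bc g H) := ofBase ψ (ofBase g (c D ≫ toBase (ψ ≫ g) a))
  have hb : ∀ (X : Over W) (x : X ⟶ D),
      toBase g (toBase ψ (x ≫ b)) = c X ≫ toBase (ψ ≫ g) (x ≫ a) := by
    intro X x
    rw [toBase_comp, toBase_comp, toBase_ofBase, toBase_ofBase, toBase_comp]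
    have e : (Over.map g).map ((Over.map ψ).map x) ≫ c D = c X ≫ (Over.map (ψ ≫ g)).map x :=
      Over.OverMorphism.ext ((Category.comp_id _).trans (Category.id_comp _).symm)
    rw [← Category.assoc, e, Category.assoc]
  have hinj : ∀ {X : Over W} {p q : X ⟶ Red.bc ψ (Red.bc g H)},
      toBase g (toBase ψ p) = toBase g (toBase ψ q) → p = q := fun h =>
    toBase_injective ψ (toBase_injective g h)
  haveI : IsMonHom b := isMonHom_of_points _ fun X x y => hinj (by
    rw [toBase_mul, toBase_mul, hb, hb, hb, MonObj.mul_comp _ _ a, toBase_mul, MonObj.comp_mul])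
  obtain ⟨t, ht⟩ := hs _ (ofBase (ψ ≫ g)
    (c' _ ≫ toBase g (toBase ψ (𝟙 (Red.bc ψ (Red.bc g H))))))
  have h1 : t ≫ b = 𝟙 _ := hinj (by
    rw [hb, ht, toBase_ofBase, ← Category.assoc, hcc', Category.id_comp])
  have h2 : b ≫ t = 𝟙 D := by
    rw [← cancel_mono a]
    apply toBase_injective (ψ ≫ g)
    have e := hb D (b ≫ t)
    rw [Category.assoc b t b, h1, Category.comp_id, ← Category.id_comp b, hb] at e
    have e' := congrArg (c' D ≫ ·) e
    simp only [← Category.assoc, hcc, Category.id_comp] at e'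
    exact e'.symm
  haveI : IsIso b := ⟨t, h2, h1⟩
  exact ⟨(Grp.mkIso' (asIso b)).symm⟩

theorem isMultType_bc (g : T ⟶ S) {H : Over S} [GrpObj H] (hH : IsMultType H) :
    IsMultType (Red.bc g H) := by
  obtain ⟨S', f, hf, hs, hqc, hloc⟩ := hH
  refine ⟨pullback f g, pullback.snd f g, inferInstance, inferInstance, fun V hV => ?_, fun s => ?_⟩
  · have hsub : ∀ x : T, x ∈ V → ∃ (W : (pullback f g).Opens) (O : T.Opens), x ∈ O ∧
        IsCompact (W : Set ↥(pullback f g)) ∧ (O : Set T) ⊆ (pullback.snd f g).base '' W ∧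
        (pullback.snd f g).base '' W ⊆ (V : Set T) := by
      intro x hx
      obtain ⟨U, hU, hxU, -⟩ := exists_isAffineOpen_mem_and_subset (x := g x) (U := (⊤ : S.Opens)) trivial
      obtain ⟨O, hO, hxO, hOU⟩ :=
        exists_isAffineOpen_mem_and_subset (x := x) (U := g ⁻¹ᵁ U ⊓ V) ⟨hxU, hx⟩
      obtain ⟨W, hW, hWU⟩ := hqc U hU
      refine ⟨pullback.fst f g ⁻¹ᵁ W ⊓ pullback.snd f g ⁻¹ᵁ O, O, hxO, ?_, ?_, ?_⟩
      · have hr₁ : Set.range (W.ι ≫ f).base ⊆ Set.range U.ι.base := by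
          rintro _ ⟨w, rfl⟩
          have : f w.1 ∈ (U : Set S) := hWU ▸ ⟨w.1, w.2, rfl⟩
          exact ⟨⟨_, this⟩, rfl⟩
        have hr₂ : Set.range (O.ι ≫ g).base ⊆ Set.range U.ι.base := by
          rintro _ ⟨w, rfl⟩
          exact ⟨⟨_, (hOU w.2).1⟩, rfl⟩
        let k₁ := IsOpenImmersion.lift U.ι (W.ι ≫ f) hr₁
        let k₂ := IsOpenImmersion.lift U.ι (O.ι ≫ g) hr₂
        let φ : pullback k₁ k₂ ⟶ pullback f g := pullback.map k₁ k₂ f g W.ι O.ι U.ι
          (IsOpenImmersion.lift_fac _ _ _) (IsOpenImmersion.lift_fac _ _ _)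
        haveI : IsAffine (U : Scheme.{u}) := hU
        haveI : CompactSpace (W : Scheme.{u}) := isCompact_iff_compactSpace.mp hW
        haveI : CompactSpace (O : Scheme.{u}) := isCompact_iff_compactSpace.mp hO.isCompact
        haveI : QuasiCompact k₂ := (quasiCompact_iff_compactSpace k₂).mpr inferInstance
        haveI : CompactSpace (pullback k₁ k₂ : Scheme.{u}) :=
          QuasiCompact.compactSpace_of_compactSpace (pullback.fst k₁ k₂)
        have := isCompact_range φ.continuous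
        rw [Scheme.Pullback.range_map] at this
        simpa [Scheme.Opens.range_ι] using this
      · intro y hy
        obtain ⟨z, hz, hzy⟩ : g y ∈ f.base '' (W : Set S') := hWU ▸ (hOU hy).1
        obtain ⟨p, hp₁, hp₂⟩ := Scheme.Pullback.exists_preimage_pullback (f := f) (g := g) z y hzy
        refine ⟨p, ⟨?_, ?_⟩, hp₂⟩
        · show pullback.fst f g p ∈ W
          rw [hp₁]; exact hz
        · show pullback.snd f g p ∈ O
          rw [hp₂]; exact hy
      · rintro _ ⟨p, ⟨-, hp⟩, rfl⟩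
        exact (hOU hp).2
    choose W O hxO hWc hOW hWV using hsub
    obtain ⟨F, hF⟩ := hV.isCompact.elim_finite_subcover (fun x : V => (O x.1 x.2 : Set T))
      (fun x => (O x.1 x.2).2) fun x hx => Set.mem_iUnion.mpr ⟨⟨x, hx⟩, hxO x hx⟩
    refine ⟨⨆ x ∈ F, W x.1 x.2, ?_, ?_⟩
    · rw [TopologicalSpace.Opens.coe_iSup]
      simp_rw [TopologicalSpace.Opens.coe_iSup]
      exact F.finite_toSet.isCompact_biUnion fun x _ => hWc x.1 x.2
    · simp only [TopologicalSpace.Opens.coe_iSup, Set.image_iUnion]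
      refine Set.Subset.antisymm (Set.iUnion₂_subset fun x _ => hWV x.1 x.2) fun x hx => ?_
      obtain ⟨i, hi, hxi⟩ := Set.mem_iUnion₂.mp (hF hx)
      exact Set.mem_iUnion₂.mpr ⟨i, hi, hOW i.1 i.2 hxi⟩
  · obtain ⟨U, hU, M, hM, ⟨e⟩⟩ := hloc (pullback.fst f g s)
    refine ⟨pullback.fst f g ⁻¹ᵁ U, hU, M, hM, ?_⟩
    obtain ⟨a, ha, hm, hsa⟩ := exists_ds_cover_mono (pullback.fst f g ∣_ U) (U.ι ≫ f)
      (((pullback.fst f g ⁻¹ᵁ U).ι ≫ pullback.snd f g) ≫ g)
      (by rw [morphismRestrict_ι_assoc, pullback.condition, Category.assoc]) e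
    exact exists_grpIso_bc_bc g _ a hsa

theorem isMultTypeFT_bc (g : T ⟶ S) {H : Over S} [GrpObj H] (hH : SGA3x.IsMultTypeFT H) :
    SGA3x.IsMultTypeFT (Red.bc g H) := by
  obtain ⟨S', f, hf, hs, hqc, hloc⟩ := hH
  refine ⟨pullback f g, pullback.snd f g, inferInstance, inferInstance, fun V hV => ?_, fun s => ?_⟩
  · have hsub : ∀ x : T, x ∈ V → ∃ (W : (pullback f g).Opens) (O : T.Opens), x ∈ O ∧
        IsCompact (W : Set ↥(pullback f g)) ∧ (O : Set T) ⊆ (pullback.snd f g).base '' W ∧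
        (pullback.snd f g).base '' W ⊆ (V : Set T) := by
      intro x hx
      obtain ⟨U, hU, hxU, -⟩ := exists_isAffineOpen_mem_and_subset (x := g x) (U := (⊤ : S.Opens)) trivial
      obtain ⟨O, hO, hxO, hOU⟩ :=
        exists_isAffineOpen_mem_and_subset (x := x) (U := g ⁻¹ᵁ U ⊓ V) ⟨hxU, hx⟩
      obtain ⟨W, hW, hWU⟩ := hqc U hU
      refine ⟨pullback.fst f g ⁻¹ᵁ W ⊓ pullback.snd f g ⁻¹ᵁ O, O, hxO, ?_, ?_, ?_⟩
      · have hr₁ : Set.range (W.ι ≫ f).base ⊆ Set.range U.ι.base := by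
          rintro _ ⟨w, rfl⟩
          have : f w.1 ∈ (U : Set S) := hWU ▸ ⟨w.1, w.2, rfl⟩
          exact ⟨⟨_, this⟩, rfl⟩
        have hr₂ : Set.range (O.ι ≫ g).base ⊆ Set.range U.ι.base := by
          rintro _ ⟨w, rfl⟩
          exact ⟨⟨_, (hOU w.2).1⟩, rfl⟩
        let k₁ := IsOpenImmersion.lift U.ι (W.ι ≫ f) hr₁
        let k₂ := IsOpenImmersion.lift U.ι (O.ι ≫ g) hr₂
        let φ : pullback k₁ k₂ ⟶ pullback f g := pullback.map k₁ k₂ f g W.ι O.ι U.ι
          (IsOpenImmersion.lift_fac _ _ _) (IsOpenImmersion.lift_fac _ _ _)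
        haveI : IsAffine (U : Scheme.{u}) := hU
        haveI : CompactSpace (W : Scheme.{u}) := isCompact_iff_compactSpace.mp hW
        haveI : CompactSpace (O : Scheme.{u}) := isCompact_iff_compactSpace.mp hO.isCompact
        haveI : QuasiCompact k₂ := (quasiCompact_iff_compactSpace k₂).mpr inferInstance
        haveI : CompactSpace (pullback k₁ k₂ : Scheme.{u}) :=
          QuasiCompact.compactSpace_of_compactSpace (pullback.fst k₁ k₂)
        have := isCompact_range φ.continuous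
        rw [Scheme.Pullback.range_map] at this
        simpa [Scheme.Opens.range_ι] using this
      · intro y hy
        obtain ⟨z, hz, hzy⟩ : g y ∈ f.base '' (W : Set S') := hWU ▸ (hOU hy).1
        obtain ⟨p, hp₁, hp₂⟩ := Scheme.Pullback.exists_preimage_pullback (f := f) (g := g) z y hzy
        refine ⟨p, ⟨?_, ?_⟩, hp₂⟩
        · show pullback.fst f g p ∈ W
          rw [hp₁]; exact hz
        · show pullback.snd f g p ∈ O
          rw [hp₂]; exact hy
      · rintro _ ⟨p, ⟨-, hp⟩, rfl⟩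
        exact (hOU hp).2
    choose W O hxO hWc hOW hWV using hsub
    obtain ⟨F, hF⟩ := hV.isCompact.elim_finite_subcover (fun x : V => (O x.1 x.2 : Set T))
      (fun x => (O x.1 x.2).2) fun x hx => Set.mem_iUnion.mpr ⟨⟨x, hx⟩, hxO x hx⟩
    refine ⟨⨆ x ∈ F, W x.1 x.2, ?_, ?_⟩
    · rw [TopologicalSpace.Opens.coe_iSup]
      simp_rw [TopologicalSpace.Opens.coe_iSup]
      exact F.finite_toSet.isCompact_biUnion fun x _ => hWc x.1 x.2
    · simp only [TopologicalSpace.Opens.coe_iSup, Set.image_iUnion]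
      refine Set.Subset.antisymm (Set.iUnion₂_subset fun x _ => hWV x.1 x.2) fun x hx => ?_
      obtain ⟨i, hi, hxi⟩ := Set.mem_iUnion₂.mp (hF hx)
      exact Set.mem_iUnion₂.mpr ⟨i, hi, hOW i.1 i.2 hxi⟩
  · obtain ⟨U, hU, M, hM, hFG, ⟨e⟩⟩ := hloc (pullback.fst f g s)
    refine ⟨pullback.fst f g ⁻¹ᵁ U, hU, M, hM, hFG, ?_⟩
    obtain ⟨a, ha, hm, hsa⟩ := exists_ds_cover_mono (pullback.fst f g ∣_ U) (U.ι ≫ f)
      (((pullback.fst f g ⁻¹ᵁ U).ι ≫ pullback.snd f g) ≫ g)
      (by rw [morphismRestrict_ι_assoc, pullback.condition, Category.assoc]) e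
    exact exists_grpIso_bc_bc g _ a hsa

end Groth.Agent.RedPts82
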