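import Groth.Agent.RedPts82.QuotDS
import Groth.Agent.RedPts82.MultBc

/-!
Base change of quotients, and quotients of tori.
-/

universe u

open CategoryTheory MonoidalCategory CartesianMonoidalCategory MonObj GrpObj AlgebraicGeometry
open CategoryTheory.Limits

namespace Groth.Agent.RedPts82

variable {S : Scheme.{u}} {G H Q : Over S} [GrpObj G] [GrpObj H]

/-- Quotients are stable under base change. -/
theorem isQuotient_bc {T : Scheme.{u}} (φ : T ⟶ S) (i : H ⟶ G) [IsMonHom i] [Mono i] (q : G ⟶ Q)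
    (hq : RedSub.IsQuotient i q) :
    RedSub.IsQuotient ((Over.pullback φ).map i) ((Over.pullback φ).map q) := by
  refine ⟨MorphismProperty.of_isPullback (P := @Surjective) (isPullback_bc_map q φ) hq.1,
    MorphismProperty.of_isPullback (P := @Flat) (isPullback_bc_map q φ) hq.2.1,
    MorphismProperty.of_isPullback (P := @LocallyOfFinitePresentation) (isPullback_bc_map q φ) hq.2.2.1, ?_⟩
  let i' := (Over.pullback φ).map i
  let q' := (Over.pullback φ).map q
  have key : ∀ {Z : Over T} (x : Z ⟶ Red.bc φ G) (k : Z ⟶ Red.bc φ H),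
      (x * (k ≫ i')) ≫ q' = x ≫ q' := fun x k => toBase_injective φ (by
    rw [toBase_comp_map, toBase_comp_map, toBase_mul, toBase_comp_map, comp_mul_right hq])
  have key' : ∀ {Z : Over T} (x y : Z ⟶ Red.bc φ G), x ≫ q' = y ≫ q' →
      ∃ k : Z ⟶ Red.bc φ H, y = x * (k ≫ i') := fun x y e => by
    obtain ⟨k, hk⟩ := exists_eq_mul_of_comp_eq hq (g := toBase φ x) (g' := toBase φ y)
      (by rw [← toBase_comp_map, e, toBase_comp_map])
    exact ⟨ofBase φ k, toBase_injective φ (by rw [toBase_mul, toBase_comp_map, toBase_ofBase, hk])⟩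
  have hm : ∀ {Z : Over T} (m : Z ⟶ Red.bc φ G ⊗ Red.bc φ H),
      m ≫ (Red.bc φ G ◁ i') ≫ μ[Red.bc φ G] = (m ≫ fst _ _) * (m ≫ snd _ _ ≫ i') := fun m => by
    rw [Hom.mul_def, ← Category.assoc]
    congr 1
    apply CartesianMonoidalCategory.hom_ext <;> simp
  haveI : Mono i' := inferInstance
  refine ⟨⟨?_⟩, ⟨PullbackCone.IsLimit.mk _
    (fun c => lift c.fst (key' c.fst c.snd c.condition).choose) (fun c => lift_fst _ _)
    (fun c => ?_) (fun c m h₁ h₂ => ?_)⟩⟩
  · have := key (fst (Red.bc φ G) (Red.bc φ H)) (snd _ _)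
    have h := hm (𝟙 (Red.bc φ G ⊗ Red.bc φ H))
    simp only [Category.id_comp] at h
    rw [h]
    exact this.symm
  · rw [hm, lift_fst, lift_snd_assoc]
    exact (key' c.fst c.snd c.condition).choose_spec.symm
  · apply CartesianMonoidalCategory.hom_ext
    · rw [lift_fst, h₁]
    · rw [lift_snd]
      have h3 := (key' c.fst c.snd c.condition).choose_spec
      rw [hm, h₁] at h₂
      rw [← cancel_mono i', Category.assoc]
      exact mul_left_cancel (h₂.trans h3)

/-- On charts of a split torus, a quotient by a subgroup of multiplicative type is split. -/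
theorem exists_quotient_chart [GrpObj Q] {U : Scheme.{u}} (φ : U ⟶ S) {r : ℕ}
    (hG : Red.IsSplitTorusWith (Fin r → ℤ) (Red.bc φ G)) (i : H ⟶ G) [IsMonHom i] [Mono i]
    (hH : SGA3x.IsMultTypeFT H) (q : G ⟶ Q) [IsMonHom q] (hq : RedSub.IsQuotient i q) (x : U) :
    ∃ V : U.Opens, x ∈ V ∧ ∃ r' : ℕ, r' ≤ r ∧
      Red.IsSplitTorusWith (Fin r' → ℤ) (Red.bc (V.ι ≫ φ) Q) := by
  obtain ⟨V, hV, -, r', hr, h⟩ := exists_quotient_split hG ((Over.pullback φ).map i)
    (isMultTypeFT_bc φ hH) ((Over.pullback φ).map q) (isQuotient_bc φ i q hq) x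
  obtain ⟨c, -, hc⟩ := exists_bc_comp_iso φ V.ι
  haveI := (hc Q).1
  exact ⟨V, hV, r', hr, ⟨Grp.mkIso' (c Q) ≪≫ h.some⟩⟩

end Groth.Agent.RedPts82
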