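import Groth.Prelude.Def_Red
import Mathlib.AlgebraicGeometry.AffineScheme
import Mathlib.Algebra.Algebra.Subalgebra.Basic
import Mathlib.RingTheory.Spectrum.Prime.Topology

/-!
Points of a group scheme over an affine base with values in a ring, near a given affine open:
the product of two points congruent to the unit modulo a square-zero ideal is computed by adding
the differences to the unit.
-/

universe u

open CategoryTheory MonoidalCategory CartesianMonoidalCategory MonObj AlgebraicGeometry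

namespace Groth.Agent.RedPts82.Infinitesimal

variable {R : Type u} [CommRing R]

/-- The affine scheme of an algebra, over the base. -/
noncomputable abbrev SpecOver (R C : Type u) [CommRing R] [CommRing C] [Algebra R C] :
    Over (Spec (CommRingCat.of R)) :=
  (Spec (CommRingCat.of C)).asOver (Spec (CommRingCat.of R))

/-- The morphism of affine schemes over the base given by an algebra homomorphism. -/
noncomputable abbrev specHom {C C' : Type u} [CommRing C] [Algebra R C] [CommRing C'] [Algebra R C']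
    (φ : C →ₐ[R] C') : SpecOver R C' ⟶ SpecOver R C :=
  (Spec.map (CommRingCat.ofHom φ.toRingHom)).asOver (Spec (CommRingCat.of R))

theorem specHom_left {C C' : Type u} [CommRing C] [Algebra R C] [CommRing C'] [Algebra R C']
    (φ : C →ₐ[R] C') : (specHom φ).left = Spec.map (CommRingCat.ofHom φ.toRingHom) := rfl

theorem specHom_comp {C C' C'' : Type u} [CommRing C] [Algebra R C] [CommRing C'] [Algebra R C']
    [CommRing C''] [Algebra R C''] (φ : C →ₐ[R] C') (ψ : C' →ₐ[R] C'') :
    specHom ψ ≫ specHom φ = specHom (ψ.comp φ) := by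
  apply Over.OverMorphism.ext
  show Spec.map _ ≫ Spec.map _ = _
  rw [← Spec.map_comp]
  rfl

theorem specHom_injective {C C' : Type u} [CommRing C] [Algebra R C] [CommRing C'] [Algebra R C']
    {φ ψ : C →ₐ[R] C'} (h : specHom φ = specHom ψ) : φ = ψ := by
  have h1 : Spec.map (CommRingCat.ofHom φ.toRingHom) = Spec.map (CommRingCat.ofHom ψ.toRingHom) :=
    congrArg CommaMorphism.left h
  ext a
  exact congr($(Spec.map_injective h1) a)

theorem exists_specHom_eq {C C' : Type u} [CommRing C] [Algebra R C] [CommRing C'] [Algebra R C']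
    (x : SpecOver R C' ⟶ SpecOver R C) : ∃ φ : C →ₐ[R] C', specHom φ = x := by
  refine ⟨⟨(Spec.preimage x.left).hom, ?_⟩, ?_⟩
  · suffices CommRingCat.ofHom (algebraMap R C) ≫ Spec.preimage x.left =
      CommRingCat.ofHom (algebraMap R C') from fun r ↦ congr($this r)
    apply Spec.map_injective
    exact ((Spec.map_comp _ _).trans (congrArg (· ≫ _) (Spec.map_preimage x.left))).trans (Over.w x)
  · apply Over.OverMorphism.ext
    show Spec.map (CommRingCat.ofHom (Spec.preimage x.left).hom) = x.left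
    exact Spec.map_preimage x.left

theorem specHom_surjective_of_ker {C C' : Type u} [CommRing C] [Algebra R C] [CommRing C']
    [Algebra R C'] (π : C →ₐ[R] C') (hπ : Function.Surjective π)
    (hker : ∀ c, π c = 0 → IsNilpotent c) : Function.Surjective (specHom π).left.base := by
  show Function.Surjective (Spec.map (CommRingCat.ofHom π.toRingHom)).base
  intro (p : PrimeSpectrum C)
  have hz : p ∈ PrimeSpectrum.zeroLocus (RingHom.ker π.toRingHom : Set C) := by
    intro c hc
    exact nilradical_le_prime p.asIdeal (mem_nilradical.mpr (hker c hc))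
  rw [← range_comap_of_surjective _ π.toRingHom hπ] at hz
  obtain ⟨q, hq⟩ := hz
  exact ⟨q, hq⟩

variable {X : Over (Spec (CommRingCat.of R))} {B : Type u} [CommRing B] [Algebra R B]
  (j : SpecOver R B ⟶ X) [IsOpenImmersion j.left]

include j in
theorem exists_point {C : Type u} [CommRing C] [Algebra R C] (x : SpecOver R C ⟶ X)
    (hx : Set.range x.left.base ⊆ Set.range j.left.base) :
    ∃ φ : B →ₐ[R] C, x = specHom φ ≫ j := by
  let y : SpecOver R C ⟶ SpecOver R B := Over.homMk (IsOpenImmersion.lift j.left x.left hx) (by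
    rw [← Over.w j, ← Category.assoc, IsOpenImmersion.lift_fac]
    exact Over.w x)
  obtain ⟨φ, hφ⟩ := exists_specHom_eq y
  refine ⟨φ, ?_⟩
  rw [hφ]
  apply Over.OverMorphism.ext
  exact (IsOpenImmersion.lift_fac _ _ hx).symm

omit [IsOpenImmersion j.left] in
theorem point_injective [Mono j] {C : Type u} [CommRing C] [Algebra R C] {φ ψ : B →ₐ[R] C}
    (h : specHom φ ≫ j = specHom ψ ≫ j) : φ = ψ :=
  specHom_injective ((cancel_mono j).mp h)

instance : Mono j := Over.mono_of_mono_left j

/-- If two points are congruent to the unit modulo a square-zero ideal, their product corresponds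
to the sum of their differences with the unit. -/
theorem exists_mul_point [GrpObj X] {C C' : Type u} [CommRing C] [Algebra R C] [CommRing C']
    [Algebra R C'] (π : C →ₐ[R] C')
    (hsq : ∀ a b, π a = 0 → π b = 0 → a * b = 0) (φ₁ φ₂ ε : B →ₐ[R] C)
    (hε : specHom ε ≫ j = 1) (h₁ : ∀ b, π (φ₁ b) = π (ε b)) (h₂ : ∀ b, π (φ₂ b) = π (ε b)) :
    ∃ φ : B →ₐ[R] C, (specHom φ₁ ≫ j) * (specHom φ₂ ≫ j) = specHom φ ≫ j ∧
      ∀ b, φ b = φ₁ b + φ₂ b - ε b := by
  let p₁ : C × C × C →ₐ[R] C := AlgHom.fst R C (C × C)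
  let p₂ : C × C × C →ₐ[R] C := (AlgHom.fst R C C).comp (AlgHom.snd R C (C × C))
  let p₃ : C × C × C →ₐ[R] C := (AlgHom.snd R C C).comp (AlgHom.snd R C (C × C))
  let P : Subalgebra R (C × C × C) :=
    AlgHom.equalizer (π.comp p₁) (π.comp p₂) ⊓ AlgHom.equalizer (π.comp p₃) (π.comp p₂)
  have hmem : ∀ x : C × C × C, x ∈ P ↔ π x.1 = π x.2.1 ∧ π x.2.2 = π x.2.1 := fun x => Iff.rfl
  let q₁ : P →ₐ[R] C := p₁.comp P.val
  let q₂ : P →ₐ[R] C := p₂.comp P.val
  let q₃ : P →ₐ[R] C := p₃.comp P.val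
  let a₁ : B →ₐ[R] P := AlgHom.codRestrict (φ₁.prod (ε.prod ε)) P
    (fun b => (hmem _).mpr ⟨h₁ b, rfl⟩)
  let a₂ : B →ₐ[R] P := AlgHom.codRestrict (ε.prod (ε.prod φ₂)) P
    (fun b => (hmem _).mpr ⟨rfl, h₂ b⟩)
  let z : SpecOver R P ⟶ X := (specHom a₁ ≫ j) * (specHom a₂ ≫ j)
  have hzq : ∀ q : P →ₐ[R] C, specHom q ≫ z =
      (specHom (q.comp a₁) ≫ j) * (specHom (q.comp a₂) ≫ j) := by
    intro q
    show specHom q ≫ (_ * _) = _
    rw [MonObj.comp_mul, ← specHom_comp, ← specHom_comp, Category.assoc, Category.assoc]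
  have hz1 : specHom q₁ ≫ z = specHom φ₁ ≫ j := by
    rw [hzq, show q₁.comp a₁ = φ₁ from rfl, show q₁.comp a₂ = ε from rfl, hε, _root_.mul_one]
  have hz2 : specHom q₂ ≫ z = 1 := by
    rw [hzq, show q₂.comp a₁ = ε from rfl, show q₂.comp a₂ = ε from rfl, hε, _root_.mul_one]
  have hz3 : specHom q₃ ≫ z = specHom φ₂ ≫ j := by
    rw [hzq, show q₃.comp a₁ = ε from rfl, show q₃.comp a₂ = φ₂ from rfl, hε, _root_.one_mul]
  have hsurj : Function.Surjective q₂ := fun c => ⟨⟨(c, c, c), (hmem _).mpr ⟨rfl, rfl⟩⟩, rfl⟩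
  have hnil : ∀ x : P, q₂ x = 0 → IsNilpotent x := by
    intro x hx
    have hx' : (x : C × C × C).2.1 = 0 := hx
    obtain ⟨e₁, e₂⟩ := (hmem _).mp x.2
    rw [hx', map_zero] at e₁ e₂
    refine ⟨2, Subtype.ext ?_⟩
    rw [pow_two]
    exact Prod.ext (hsq _ _ e₁ e₁) (Prod.ext (hsq _ _ (by rw [hx', map_zero]) (by rw [hx', map_zero]))
      (hsq _ _ e₂ e₂))
  have hrange : Set.range z.left.base ⊆ Set.range j.left.base := by
    rintro _ ⟨p, rfl⟩
    obtain ⟨p', rfl⟩ := specHom_surjective_of_ker q₂ hsurj hnil p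
    refine ⟨(specHom ε).left.base p', ?_⟩
    have := congrArg (fun m => m.left.base p') (hz2.trans hε.symm)
    exact this.symm
  obtain ⟨ζ, hζ⟩ := exists_point j z hrange
  have hcomp : ∀ (q : P →ₐ[R] C) (φ : B →ₐ[R] C), specHom q ≫ z = specHom φ ≫ j →
      q.comp ζ = φ := by
    intro q φ h
    rw [hζ, ← Category.assoc, specHom_comp] at h
    exact point_injective j h
  have hc₁ := hcomp q₁ φ₁ hz1
  have hc₂ := hcomp q₂ ε (hz2.trans hε.symm)
  have hc₃ := hcomp q₃ φ₂ hz3
  let s : P →ₐ[R] C :=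
    { toFun := fun x => (x : C × C × C).1 + (x : C × C × C).2.2 - (x : C × C × C).2.1
      map_one' := by simp
      map_zero' := by simp
      map_add' := fun x y => by simp; ring
      map_mul' := fun x y => by
        obtain ⟨⟨a, b, c⟩, hx⟩ := x
        obtain ⟨⟨a', b', c'⟩, hy⟩ := y
        obtain ⟨e₁, e₂⟩ := (hmem _).mp hx
        obtain ⟨f₁, f₂⟩ := (hmem _).mp hy
        show a * a' + c * c' - b * b' = (a + c - b) * (a' + c' - b')
        have k₁ : (a - b) * (c' - b') = 0 :=
          hsq _ _ (by rw [map_sub]; exact sub_eq_zero.mpr e₁)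
            (by rw [map_sub]; exact sub_eq_zero.mpr f₂)
        have k₂ : (c - b) * (a' - b') = 0 :=
          hsq _ _ (by rw [map_sub]; exact sub_eq_zero.mpr e₂)
            (by rw [map_sub]; exact sub_eq_zero.mpr f₁)
        linear_combination -k₁ - k₂
      commutes' := fun r => by simp }
  have hs₁ : s.comp a₁ = φ₁ := AlgHom.ext fun b => by
    show φ₁ b + ε b - ε b = φ₁ b
    ring
  have hs₂ : s.comp a₂ = φ₂ := AlgHom.ext fun b => by
    show ε b + φ₂ b - ε b = φ₂ b
    ring
  refine ⟨s.comp ζ, ?_, fun b => ?_⟩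
  · rw [← specHom_comp ζ s, Category.assoc, ← hζ]
    show _ = specHom s ≫ (_ * _)
    rw [MonObj.comp_mul, ← Category.assoc, specHom_comp, ← Category.assoc, specHom_comp, hs₁, hs₂]
  · show q₁ (ζ b) + q₃ (ζ b) - q₂ (ζ b) = _
    rw [← AlgHom.comp_apply, ← AlgHom.comp_apply, ← AlgHom.comp_apply, hc₁, hc₂, hc₃]

end Groth.Agent.RedPts82.Infinitesimal
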