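import Groth.Agent.Roots36.Basic
import Mathlib.LinearAlgebra.RootSystem.Base

/-!
A root datum which admits a base in the strict sense is reduced.
-/

open Set Function RootPairing

namespace Groth.Agent.RedPts82

variable {idx M N : Type} [AddCommGroup M] [AddCommGroup N] [Finite idx] {P : RootPairing idx ℤ M N}

open scoped Classical in
theorem root_ne_two_smul_of_isPos (b : P.Base) {i : idx} (hi : b.IsPos i) (c : idx) :
    P.root c ≠ (2 : ℤ) • P.root i := by
  have := Roots36.isAddTorsionFree_M P
  have := Roots36.isAddTorsionFree_N P
  induction hN : (b.height i).natAbs using Nat.strong_induction_on generalizing i c with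
  | _ n ih =>
    intro hc
    obtain ⟨j, hj, hj'⟩ := hi.exists_mem_support_pos_pairingIn
    rw [P.zero_lt_pairingIn_iff'] at hj'
    obtain ⟨f, hf₀, hf₁, hf₂⟩ := b.exists_root_eq_sum_int i
    by_cases hsingle : ∀ l ∈ b.support, l ≠ j → f l = 0
    · have hij : P.root i = f j • P.root j := by
        rw [hf₂]
        exact Finset.sum_eq_single j (fun l hl hlj => by rw [hsingle l hl hlj, zero_smul])
          fun h => absurd hj h
      rcases b.eq_one_or_neg_one_of_mem_support_of_smul_mem j hj (2 * f j)
          ⟨c, by rw [hc, hij, smul_smul]⟩ with h | h <;> omega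
    · push Not at hsingle
      obtain ⟨l, hl, hlj, hfl⟩ := hsingle
      have hpos : 0 < f := by
        refine hf₁.resolve_right fun h => ?_
        rw [Base.isPos_iff, Base.height_eq_sum hf₂] at hi
        exact absurd hi (not_lt.mpr (Finset.sum_nonpos fun i _ => h.le i))
      have hr : P.root (P.reflectionPerm j i) = P.root i + (-P.pairingIn ℤ i j) • P.root j := by
        rw [root_reflectionPerm, neg_smul, reflection_apply_root' ℤ, sub_eq_add_neg]
      have hk : P.root (P.reflectionPerm j i) = ∑ k ∈ b.support,
          (f + (Pi.single j (-P.pairingIn ℤ i j) : idx → ℤ)) k • P.root k := by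
        classical
        simp only [Pi.add_apply, add_smul, Finset.sum_add_distrib, ← hf₂, hr]
        congr 1
        rw [Finset.sum_eq_single_of_mem j hj fun k _ hk => by rw [Pi.single_eq_of_ne hk, zero_smul],
          Pi.single_eq_same]
      have hk' : b.IsPos (P.reflectionPerm j i) := by
        classical
        obtain ⟨g, -, hg₁, hg₂⟩ := b.exists_root_eq_sum_int (P.reflectionPerm j i)
        have hgl : g l = f l := by
          have e : ∀ k : b.support, g k = (f + (Pi.single j (-P.pairingIn ℤ i j) : idx → ℤ)) k := fun k =>
            Fintype.linearIndependent_iffₛ.mp (b.linearIndepOn_root.restrict_scalars' ℤ)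
              (g ∘ Subtype.val) ((f + (Pi.single j (-P.pairingIn ℤ i j) : idx → ℤ)) ∘ Subtype.val) (by
                have := hg₂.symm.trans hk
                rw [b.support.sum_subtype (p := (· ∈ b.support)) (by simp) (F := inferInstance),
                  b.support.sum_subtype (p := (· ∈ b.support)) (by simp) (F := inferInstance)] at this
                simpa using this) k
          simpa [Pi.single_eq_of_ne hlj] using e ⟨l, hl⟩
        have hfl' : 0 < f l := lt_of_le_of_ne (hpos.le l) (Ne.symm hfl)
        have hg : 0 < g := hg₁.resolve_right fun h => absurd (h.le l) (by rw [hgl]; simpa using hfl')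
        rw [Base.isPos_iff, Base.height_eq_sum hg₂]
        exact Finset.sum_pos' (fun k _ => hg.le k) ⟨l, hl, by omega⟩
      have hlt : (b.height (P.reflectionPerm j i)).natAbs < n := by
        have h1 := b.height_add_zsmul hr
        rw [Base.height_one_of_mem_support hj, smul_eq_mul, mul_one] at h1
        rw [Base.isPos_iff] at hk' hi
        omega
      refine ih _ hlt hk' (P.reflectionPerm j c) rfl ?_
      rw [root_reflectionPerm, root_reflectionPerm, hc, map_zsmul]

theorem root_ne_two_smul (b : P.Base) (i c : idx) : P.root c ≠ (2 : ℤ) • P.root i := by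
  rcases Base.IsPos.or_neg b i with hi | hi
  · exact root_ne_two_smul_of_isPos b hi c
  · intro hc
    refine root_ne_two_smul_of_isPos b hi (P.reflectionPerm c c) ?_
    show _ = (2 : ℤ) • P.root (P.reflectionPerm i i)
    rw [Roots36.root_neg, Roots36.root_neg, hc, smul_neg]

theorem isReduced_of_base (b : P.Base) : P.IsReduced := by
  refine ⟨fun i j h => ?_⟩
  have hn : ∀ {x y : idx}, P.root x ≠ (-2 : ℤ) • P.root y := fun {x y} he => by
    refine root_ne_two_smul b y (P.reflectionPerm x x) ?_
    rw [Roots36.root_neg, he]
    module
  rcases Roots36.proportional_cases h with h | h | h | h | h | h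
  · exact Or.inl h.symm
  · exact Or.inr (by rw [h, neg_neg])
  · exact absurd h (root_ne_two_smul b i j)
  · exact absurd h hn
  · exact absurd h (root_ne_two_smul b j i)
  · exact absurd h hn

end Groth.Agent.RedPts82
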