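import Groth.Agent.RedPts82.Extension
import Groth.Agent.Unr55.DescProps

/-!
Finiteness of the torsion of extensions of groups of multiplicative type.
-/

set_option autoImplicit false
set_option linter.style.haveILetI false

universe u

open CategoryTheory MonoidalCategory CartesianMonoidalCategory MonObj GrpObj AlgebraicGeometry
open CategoryTheory.Limits

namespace Groth.Agent.RedPts82

variable {S : Scheme.{u}}

theorem toBase_pow {T : Scheme.{u}} (φ : T ⟶ S) {P : Over S} [GrpObj P] {X : Over T}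
    (x : X ⟶ Red.bc φ P) (n : ℕ) : toBase φ (x ^ n) = toBase φ x ^ n := by
  induction n with
  | zero => rw [pow_zero, pow_zero]; exact toBase_one φ
  | succ k ih => rw [pow_succ, pow_succ, toBase_mul, ih]

theorem map_pow_id {T : Scheme.{u}} (φ : T ⟶ S) {P : Over S} [GrpObj P] (n : ℕ) :
    (Over.pullback φ).map ((𝟙 P) ^ n) = (𝟙 (Red.bc φ P)) ^ n := by
  apply toBase_injective φ
  rw [toBase_pow, ← Category.id_comp ((Over.pullback φ).map _), toBase_comp_map, MonObj.comp_pow,
    Category.comp_id]

theorem dsFn_pow_point {M : Type} [AddCommGroup M] {X : Over S} (t : X ⟶ Red.DS S M) (n : ℕ) (m : M) :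
    dsFn (t ^ n) m = dsFn t m ^ n := by
  induction n with
  | zero => rw [pow_zero, pow_zero, dsFn_one]
  | succ k ih => rw [pow_succ, pow_succ, dsFn_mul, ih]

theorem dsFn_nsmul {M : Type} [AddCommGroup M] {X : Over S} (t : X ⟶ Red.DS S M) (n : ℕ) (m : M) :
    dsFn t (n • m) = dsFn t m ^ n := by
  induction n with
  | zero => rw [zero_smul, pow_zero, dsFn_zero]
  | succ k ih => rw [succ_nsmul, pow_succ, dsFn_add, ih]

/-- Maps of diagonalisable groups with finite cokernel on characters are finite. -/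
theorem isFinite_DSmap_nsmul (M : Type) [AddCommGroup M] (hM : AddGroup.FG M) {n : ℕ} (hn : 0 < n) :
    IsFinite (Red.DSmap S (n • AddMonoidHom.id M)).left := by
  let φ := AddMonoidHom.toMultiplicative (n • AddMonoidHom.id M)
  let f := (MonoidAlgebra.mapDomainAlgHom ZU.{u} ZU.{u} φ).toRingHom
  have hint : f.IsIntegral := by
    intro x
    induction x using MonoidAlgebra.induction_linear with
    | zero => exact f.isIntegralElem_zero
    | add a b ha hb => exact RingHom.IsIntegralElem.add f ha hb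
    | single m r =>
      have h1 : MonoidAlgebra.single m r =
          MonoidAlgebra.single (1 : Multiplicative M) r * MonoidAlgebra.single m (1 : ZU.{u}) := by simp
      rw [h1]
      refine RingHom.IsIntegralElem.mul f ?_ ?_
      · have : f (MonoidAlgebra.single (1 : Multiplicative M) r) = MonoidAlgebra.single 1 r := by
          simp [f, MonoidAlgebra.mapDomain_single]
        rw [← this]
        exact f.isIntegralElem_map
      · letI := f.toAlgebra
        have : algebraMap _ (MonoidAlgebra ZU.{u} (Multiplicative M)) (MonoidAlgebra.single m (1 : ZU.{u})) =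
            (MonoidAlgebra.single m (1 : ZU.{u})) ^ n := by
          change f _ = _
          simp only [f, MonoidAlgebra.single_pow, one_pow]
          exact MonoidAlgebra.mapDomain_single
        change IsIntegral _ _
        refine IsIntegral.of_pow hn ?_
        rw [← this]
        exact isIntegral_algebraMap
  have hft : f.FiniteType := by
    haveI : Monoid.FG (Multiplicative M) := by
      haveI : AddMonoid.FG M := AddGroup.fg_iff_addMonoid_fg.mp hM
      infer_instance
    refine RingHom.FiniteType.of_comp_finiteType (f := algebraMap ZU.{u} _) ?_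
    rw [show f.comp (algebraMap ZU.{u} _) = algebraMap ZU.{u} (MonoidAlgebra ZU.{u} (Multiplicative M)) from
      RingHom.ext fun r => (MonoidAlgebra.mapDomainAlgHom ZU.{u} ZU.{u} φ).commutes r]
    exact RingHom.finiteType_algebraMap.mpr inferInstance
  refine MorphismProperty.overPullbackMap (P := @IsFinite) _ _ ?_
  exact (IsFinite.SpecMap_iff (f := CommRingCat.ofHom f)).mpr (hint.to_finite hft)

/-- Powers are finite on groups of multiplicative type. -/
theorem isFinite_pow {H : Over S} [GrpObj H] (hH : SGA3x.IsMultTypeFT H) {n : ℕ} (hn : 0 < n) :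
    IsFinite ((𝟙 H) ^ n : H ⟶ H).left := by
  haveI := Unr55.isFinite.{u}
  obtain ⟨S', f, hf, hs, hqc, hloc⟩ := hH
  refine map_prop_of_fpqc_cover (@IsFinite) ((𝟙 H) ^ n) f hqc fun s' => ?_
  obtain ⟨U, hU, M, _, hM, ⟨e⟩⟩ := hloc s'
  refine ⟨U, hU, ?_⟩
  let a : Red.bc (U.ι ≫ f) H ⟶ Red.DS (U : Scheme.{u}) M := e.hom.hom.hom
  haveI : IsMonHom a := e.hom.hom.isMonHom_hom
  haveI : IsIso a := ((Grp.forget _).mapIso e).isIso_hom
  have h1 : (Over.pullback (U.ι ≫ f)).map ((𝟙 H) ^ n) ≫ a = a ≫ Red.DSmap _ (n • AddMonoidHom.id M) := by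
    rw [map_pow_id]
    refine dsFn_injective fun m => ?_
    rw [dsFn_DSmap, AddMonoidHom.smul_apply, AddMonoidHom.id_apply, dsFn_nsmul, ← dsFn_pow_point]
    congr 1
    exact (@MonObj.pow_comp _ _ _ _ _ _ _ _ _ n a _).trans (congrArg (· ^ n) (Category.id_comp a))
  haveI : IsIso a.left := inferInstanceAs (IsIso ((Over.forget _).map a))
  refine (MorphismProperty.cancel_right_of_respectsIso (P := @IsFinite) _ a.left).mp ?_
  rw [← Over.comp_left, h1, Over.comp_left]
  exact (MorphismProperty.cancel_left_of_respectsIso (P := @IsFinite) _ _).mpr (isFinite_DSmap_nsmul M hM hn)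

/-- The torsion of a commutative extension of groups of multiplicative type is finite. -/
theorem isFinite_torsion_extension {E H K : Over S} [GrpObj E] [GrpObj H] [GrpObj K] {i : H ⟶ E} [IsMonHom i]
    [Mono i] {p : E ⟶ K} [IsMonHom p] (hq : RedSub.IsQuotient i p) [IsAffineHom p.left]
    (hH : SGA3x.IsMultTypeFT H) (hK : SGA3x.IsMultTypeFT K)
    (hcomm : ∀ {X : Over S} (a b : X ⟶ E), a * b = b * a) {n : ℕ} (hn : 0 < n) :
    IsFinite (pullback ((𝟙 E) ^ n : E ⟶ E) η[E]).hom := by
  haveI := Unr55.isFinite.{u}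
  have hpow : ∀ {A : Over S} [GrpObj A] {X : Over S} (x : X ⟶ A), x ≫ ((𝟙 A) ^ n : A ⟶ A) = x ^ n :=
    fun x => by rw [MonObj.comp_pow, Category.comp_id]
  have hη : ∀ {A : Over S} [GrpObj A] {X : Over S} (t : X ⟶ 𝟙_ _), t ≫ η[A] = 1 := fun t => by
    rw [toUnit_unique t (toUnit _), Hom.one_def]
  haveI := isMultTypeFT_isAffineHom hH
  have hHsep : IsClosedImmersion η[H].left := by
    haveI : IsClosedImmersion (η[H].left ≫ H.hom) := by
      rw [Over.w η[H]]; exact inferInstanceAs (IsClosedImmersion (𝟙 S))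
    exact IsClosedImmersion.of_comp η[H].left H.hom
  -- the torsion of the quotient
  let Q := pullback ((𝟙 K) ^ n : K ⟶ K) η[K]
  have hQfin : IsFinite Q.hom := by
    haveI : IsFinite (pullback.snd ((𝟙 K) ^ n : K ⟶ K) η[K]).left :=
      MorphismProperty.of_isPullback (P := @IsFinite)
        ((IsPullback.of_hasPullback ((𝟙 K) ^ n : K ⟶ K) η[K]).map (Over.forget S)) (isFinite_pow hK hn)
    rw [← Over.w (pullback.snd ((𝟙 K) ^ n : K ⟶ K) η[K])]
    exact MorphismProperty.comp_mem (W := @IsFinite) _ _ inferInstance (inferInstanceAs (IsFinite (𝟙 S)))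
  let N := pullback ((𝟙 E) ^ n : E ⟶ E) η[E]
  let qK : Q ⟶ K := pullback.fst _ _
  let nE : N ⟶ E := pullback.fst _ _
  have hN : nE ^ n = 1 := by rw [← hpow nE, pullback.condition, hη]
  have hQ : qK ^ n = 1 := by rw [← hpow qK, pullback.condition, hη]
  let r : N ⟶ Q := pullback.lift (nE ≫ p) (toUnit _) (by
    rw [hpow, ← MonObj.pow_comp, hN, MonObj.one_comp p, hη])
  have hr : r ≫ qK = nE ≫ p := pullback.lift_fst _ _ _
  let P := pullback p qK
  let pE : P ⟶ E := pullback.fst _ _
  let pQ : P ⟶ Q := pullback.snd _ _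
  have hip : ∀ {W : Over S} (k : W ⟶ H), k ≫ i ≫ p = 1 := fun {W} k => by
    have h := comp_mul_right hq (1 : W ⟶ E) k
    rwa [_root_.one_mul, MonObj.one_comp p, Category.assoc] at h
  obtain ⟨u, hu⟩ := exists_eq_mul_of_comp_eq hq (g := (1 : P ⟶ E)) (g' := pE ^ n) (by
    rw [MonObj.one_comp p, MonObj.pow_comp, show pE ≫ p = pQ ≫ qK from pullback.condition, ← MonObj.comp_pow,
      hQ, MonObj.comp_one])
  rw [_root_.one_mul] at hu
  let P' := pullback pQ r
  let a : P' ⟶ P := pullback.fst _ _
  let b : P' ⟶ N := pullback.snd _ _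
  obtain ⟨k, hk⟩ := exists_eq_mul_of_comp_eq hq (g := a ≫ pE) (g' := b ≫ nE) (by
    rw [Category.assoc, show pE ≫ p = pQ ≫ qK from pullback.condition, Category.assoc, ← hr,
      ← Category.assoc, ← Category.assoc, pullback.condition])
  have hmulpow : ∀ {X : Over S} (x : X ⟶ E) (z : X ⟶ H), (x * (z ≫ i)) ^ n = x ^ n * ((z ^ n) ≫ i) := fun x z => by
    rw [(Commute.mul_pow (hcomm x (z ≫ i)) n), ← MonObj.pow_comp]
  have hsq : IsPullback k a ((𝟙 H) ^ n : H ⟶ H) u⁻¹ := by
    have hw : k ≫ ((𝟙 H) ^ n : H ⟶ H) = a ≫ u⁻¹ := by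
      have h1 := congrArg (· ^ n) hk
      simp only [← MonObj.comp_pow, hN, MonObj.comp_one, hmulpow] at h1
      rw [hu, ← Category.assoc, ← MonObj.mul_comp _ _ i] at h1
      rw [hpow, GrpObj.comp_inv, ← cancel_mono i]
      have h2 : (a ≫ u) * k ^ n = 1 := by rw [← cancel_mono i, ← h1, MonObj.one_comp i]
      rw [eq_inv_of_mul_eq_one_right h2]
    have hl : ∀ {X : Over S} (z : X ⟶ H) (y : X ⟶ P), z ≫ ((𝟙 H) ^ n : H ⟶ H) = y ≫ u⁻¹ →
        ∃ L : X ⟶ P', L ≫ k = z ∧ L ≫ a = y := by
      intro X z y h3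
      haveI : Mono η[K] := ⟨fun a b _ => toUnit_unique a b⟩
      rw [hpow, GrpObj.comp_inv] at h3
      let y' : X ⟶ N := pullback.lift ((y ≫ pE) * (z ≫ i)) (toUnit _) (by
        rw [hpow, hmulpow, h3, ← MonObj.comp_pow, hu, ← Category.assoc, ← MonObj.mul_comp _ _ i,
          mul_inv_cancel, MonObj.one_comp i, hη])
      let L : X ⟶ P' := pullback.lift y y' (by
        rw [← cancel_mono qK, Category.assoc, Category.assoc, hr, pullback.lift_fst_assoc,
          MonObj.mul_comp _ _ p, Category.assoc z i p, hip, _root_.mul_one, Category.assoc, ← pullback.condition])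
      have hLa : L ≫ a = y := pullback.lift_fst _ _ _
      have hLb : L ≫ b = y' := pullback.lift_snd _ _ _
      refine ⟨L, ?_, hLa⟩
      have h4 := congrArg (L ≫ ·) hk
      simp only [MonObj.comp_mul, reassoc_of% hLa, reassoc_of% hLb] at h4
      rw [show y' ≫ nE = (y ≫ pE) * (z ≫ i) from pullback.lift_fst _ _ _] at h4
      rw [← cancel_mono i, Category.assoc]
      exact (mul_left_cancel h4).symm
    refine ⟨⟨hw⟩, ⟨PullbackCone.IsLimit.mk _ (fun c => (hl c.fst c.snd c.condition).choose)
      (fun c => (hl c.fst c.snd c.condition).choose_spec.1)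
      (fun c => (hl c.fst c.snd c.condition).choose_spec.2) (fun c m h₁ h₂ => ?_)⟩⟩
    obtain ⟨h5, h6⟩ := (hl c.fst c.snd c.condition).choose_spec
    generalize (hl c.fst c.snd c.condition).choose = L at h5 h6 ⊢
    haveI : Mono η[E] := ⟨fun a b _ => toUnit_unique a b⟩
    apply pullback.hom_ext
    · exact h₂.trans h6.symm
    · haveI : Mono nE := inferInstance
      change m ≫ b = L ≫ b
      rw [← cancel_mono nE, Category.assoc, Category.assoc, hk, MonObj.comp_mul, MonObj.comp_mul,
        reassoc_of% h₂, reassoc_of% h₁, reassoc_of% h5, reassoc_of% h6]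
  have h1 : IsFinite a.left :=
    MorphismProperty.of_isPullback (P := @IsFinite) (hsq.map (Over.forget S)) (isFinite_pow hH hn)
  have hpQ : Cov pQ := Cov.of_isPullback (IsPullback.of_hasPullback p qK) (cov_of_isQuotient hq)
  haveI : IsAffineHom pQ.left := by
    haveI := isAffineHom_isStableUnderBaseChange.{u}
    exact MorphismProperty.of_isPullback (P := @IsAffineHom)
      ((IsPullback.of_hasPullback p qK).map (Over.forget S)) ‹_›
  have h2 : IsFinite r.left :=
    MorphismProperty.of_isPullback_of_descendsAlong (P := @IsFinite) (Q := Unr55.fpqc)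
      ((IsPullback.of_hasPullback pQ r).map (Over.forget S))
      ⟨⟨hpQ.surj, hpQ.flat⟩, (inferInstance : QuasiCompact pQ.left)⟩ h1
  rw [← Over.w r]
  exact MorphismProperty.comp_mem (W := @IsFinite) _ _ h2 hQfin

end Groth.Agent.RedPts82
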