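import Groth.Agent.RedPts82.CommCoord
import Groth.Agent.RedPts82.ExtTorsion
import Groth.Agent.RedPts82.BaseReduced

/-!
A homomorphism from the additive group of the weight of a root is a multiple of the root
homomorphism.
-/

universe u

open CategoryTheory MonoidalCategory CartesianMonoidalCategory MonObj GrpObj AlgebraicGeometry
open CategoryTheory.Limits

namespace Groth.Agent.RedPts82

variable {S : Scheme.{u}} {G : Over S} [GrpObj G] {D : Red.SplitRed G}

theorem exists_coord_of_weight (b : D.P.Base) (d : D.idx) (v : Red.Ga S ⟶ G) [IsMonHom v]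
    (hw : ∀ (X : Over S) (t : X ⟶ Red.DS S D.M) (r : Γ(X.left, ⊤)),
      (t ≫ D.split.inv.hom.hom ≫ D.i) * (gaPt r ≫ v) * (t ≫ D.split.inv.hom.hom ≫ D.i)⁻¹ =
        gaPt (dsFn t (D.P.root d) * r) ≫ v) :
    ∃ c : Γ(S, ⊤), ∀ (X : Over S) (x : Γ(X.left, ⊤)),
      gaPt x ≫ v = gaPt (X.hom.appTop c * x) ≫ D.u d := by
  classical
  obtain ⟨l, hne, hl, hl'⟩ := exists_regular_functional (P := D.P) (D.P.RootForm.flip (D.P.root d)).toAddMonoidHom
  have hld : 0 < l (D.P.root d) := hl' d (by simpa using rootForm_self_pos (P := D.P) d)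
  let ep : Fin (Fintype.card {c // 0 < l (D.P.root c)}) → D.idx := fun k =>
    ((Fintype.equivFin {c // 0 < l (D.P.root c)}).symm k).1
  let en : Fin (Fintype.card {c // ¬ 0 < l (D.P.root c)}) → D.idx := fun k =>
    ((Fintype.equivFin {c // ¬ 0 < l (D.P.root c)}).symm k).1
  have hep : Function.Injective ep := Subtype.val_injective.comp (Equiv.injective _)
  have hen : Function.Injective en := Subtype.val_injective.comp (Equiv.injective _)
  have C := cellData_of_regular D l hl en ep hen hep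
    (fun k => lt_of_le_of_ne (not_lt.mp ((Fintype.equivFin {c // ¬ 0 < l (D.P.root c)}).symm k).2) (hne _))
    (fun k => ((Fintype.equivFin {c // 0 < l (D.P.root c)}).symm k).2)
  have : Mono (RedSub.cellMap D en ep) := C.mono_cell
  have : IsOpenImmersion (cellS D.i (fun k => D.u (en k)) fun k => D.u (ep k)).left :=
    cellMap_open_of_mono D en ep (by
      rw [Fintype.card_subtype_compl, Nat.sub_add_cancel (Fintype.card_subtype_le _)])
  have hν : IsMonHom (cochar D l) := by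
    have := D.maximalTorus.1
    have : IsMonHom D.split.inv.hom.hom := D.split.inv.hom.isMonHom_hom
    unfold cochar
    infer_instance
  let π := RedSub.prodMap (Red.Ga S) _ fun k => D.u (ep k)
  have : IsClosedImmersion π.left := C.pos.isClosedImmersion C.hG
  have : Mono π := Over.mono_of_mono_left _
  let P₀ := powProj (Red.Ga S) 1 0
  have hv0 : ∀ {X : Over S}, gaPt (X := X) 0 ≫ v = 1 := fun {X} => by rw [gaPt_zero, MonObj.one_comp]
  have hcontr : Contr (cochar D l) (P₀ ≫ v) 1 := by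
    refine ⟨gaPt (Red.gaFn (snd (RedSub.pow (Red.Ga S) 1) (Red.Ga S)) ^ (l (D.P.root d)).toNat *
      Red.gaFn (fst (RedSub.pow (Red.Ga S) 1) (Red.Ga S) ≫ P₀)) ≫ v, fun Z z t => ?_, fun Z z => ?_⟩
    · have h := hw Z (t ≫ Red.DSmap S l) (Red.gaFn (z ≫ P₀))
      simp only [Category.assoc] at h
      rw [gaPt_gaFn, dsFn_DSmap] at h
      rw [← Category.assoc z P₀ v]
      show _ = (t ≫ Red.DSmap S l ≫ D.split.inv.hom.hom ≫ D.i) * _ * (t ≫ Red.DSmap S l ≫ D.split.inv.hom.hom ≫ D.i)⁻¹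
      rw [h, ← Category.assoc, comp_gaPt]
      congr 2
      rw [map_mul, map_pow, ← gaFn_comp, ← gaFn_comp, lift_snd, lift_fst_assoc, gaFn_gaPt]
      congr 1
      obtain ⟨k, hk⟩ := Int.eq_ofNat_of_zero_le hld.le
      rw [hk, Int.toNat_natCast, gmFn_eq, ← dsFn_nsmul, nsmul_eq_mul, _root_.mul_one]
    · rw [← Category.assoc, comp_gaPt, map_mul, map_pow, ← gaFn_comp, lift_snd, gaFn_gaPt,
        zero_pow (by omega), zero_mul, hv0, MonObj.comp_one]
  obtain ⟨p, hp⟩ := C.exists_pos hν hcontr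
  have hpt : ∀ {Z : Over S} (w : Z ⟶ RedSub.pow (Red.Ga S) 1), (w ≫ p) ≫ π = (w ≫ P₀) ≫ v := by
    intro Z w
    rw [Category.assoc, hp, Category.assoc]
  have hweight : ∀ k (Z : Over S) (t : Z ⟶ Red.DS S D.M) (w w' : Z ⟶ RedSub.pow (Red.Ga S) 1),
      (∀ j, Red.gaFn (w' ≫ powProj (Red.Ga S) 1 j) =
        dsFn t (![D.P.root d] j) * Red.gaFn (w ≫ powProj (Red.Ga S) 1 j)) →
      Red.gaFn (w' ≫ p ≫ powProj (Red.Ga S) _ k) =
        dsFn t (D.P.root (ep k)) * Red.gaFn (w ≫ p ≫ powProj (Red.Ga S) _ k) := by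
    intro k Z t w w' hw'
    have hw0 : w' ≫ P₀ = gaPt (dsFn t (D.P.root d) * Red.gaFn (w ≫ P₀)) :=
      gaFn_injective (by rw [gaFn_gaPt]; exact hw' 0)
    let w'' := powTuple fun k =>
      gaPt (dsFn t (D.P.root (ep k)) * Red.gaFn ((w ≫ p) ≫ powProj (Red.Ga S) _ k))
    have h1 : w'' ≫ π = (w' ≫ p) ≫ π := by
      have e : (t ≫ D.split.inv.hom.hom ≫ D.i) * ((w ≫ p) ≫ π) *
          (t ≫ D.split.inv.hom.hom ≫ D.i)⁻¹ = w'' ≫ π := by
        simp only [π, prodMap_pt, conj_list_prod, w'', powTuple_proj, splitRed_conj]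
      rw [← e, hpt, hpt, hw0, ← hw Z t (Red.gaFn (w ≫ P₀)), gaPt_gaFn]
    have h2 := congrArg (fun q => Red.gaFn (q ≫ powProj (Red.Ga S) _ k)) ((cancel_mono π).mp h1)
    simp only [w'', powTuple_proj, gaFn_gaPt, Category.assoc] at h2
    exact h2.symm
  have hvan : ∀ k (Z : Over S) (w : Z ⟶ RedSub.pow (Red.Ga S) 1) (j : Fin 1),
      Red.gaFn (w ≫ powProj (Red.Ga S) 1 j) = 0 → Red.gaFn (w ≫ p ≫ powProj (Red.Ga S) _ k) = 0 := by
    intro k Z w j hj
    have h1 : (w ≫ p) ≫ π = 1 := by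
      rw [hpt, show w ≫ P₀ = gaPt 0 from gaFn_injective (by rw [gaFn_gaPt]; fin_cases j; exact hj), hv0]
    have h2 : w ≫ p = powTuple fun _ => gaPt 0 := by
      refine (cancel_mono π).mp (h1.trans ?_)
      symm
      rw [prodMap_pt, List.prod_eq_one]
      intro g hg
      obtain ⟨k, rfl⟩ := (List.mem_ofFn' _ _).mp hg
      simp only [powTuple_proj, rootHom_gaPt_zero]
    rw [← Category.assoc, h2, powTuple_proj, gaFn_gaPt]
  have hwt : ∀ (f : Fin 1 →₀ ℕ), Finsupp.weight ![D.P.root d] f = (f 0 : ℤ) • D.P.root d := fun f => by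
    rw [Finsupp.weight_apply, Finsupp.sum_fintype, Fin.sum_univ_one]
    · simp [natCast_zsmul]
    · simp
  have huniq : ∀ (k) (f : Fin 1 →₀ ℕ), (∀ j, 0 < f j) → Finsupp.weight ![D.P.root d] f = D.P.root (ep k) →
      ep k = d ∧ f = Finsupp.single 0 1 := by
    intro k f hf heq
    rw [hwt] at heq
    have hdvd := Int.le_of_dvd (by norm_num) (root_mult_dvd_two D.P (f 0 : ℤ) heq.symm)
    have := hf 0
    obtain h1 | h2 : f 0 = 1 ∨ f 0 = 2 := by omega
    · refine ⟨D.P.root.injective ?_, ?_⟩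
      · rw [← heq, h1, Nat.cast_one, one_smul]
      · refine Finsupp.ext fun j => ?_
        rw [show j = 0 from Subsingleton.elim _ _, h1, Finsupp.single_eq_same]
    · exact absurd (by rw [← heq, h2]; norm_num) (root_ne_two_smul b d (ep k))
  obtain ⟨k₀, hk₀⟩ : ∃ k, ep k = d :=
    ⟨Fintype.equivFin {c // 0 < l (D.P.root c)} ⟨d, hld⟩, by simp [ep]⟩
  obtain ⟨c, hc⟩ := exists_coeff_of_weights (p ≫ powProj (Red.Ga S) _ k₀) ![D.P.root d]
    (D.P.root (ep k₀)) (hweight k₀) (hvan k₀) (Finsupp.single 0 1) fun f hf he => (huniq k₀ f hf he).2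
  refine ⟨c, fun X x => ?_⟩
  let w : X ⟶ RedSub.pow (Red.Ga S) 1 := powTuple ![gaPt x]
  have hwP : w ≫ P₀ = gaPt x := powTuple_proj _ _
  have h := hpt w
  rw [prodMap_pt, hwP] at h
  rw [← h, list_prod_single _ k₀]
  · congr 1
    · apply gaFn_injective
      rw [Category.assoc, hc, gaFn_gaPt, Fin.prod_univ_one, Finsupp.single_eq_same, pow_one]
      congr 1
      rw [show w ≫ powProj (Red.Ga S) 1 0 = gaPt x from hwP, gaFn_gaPt]
    · rw [hk₀]
  · intro k hk
    have : p ≫ powProj (Red.Ga S) _ k = gaPt 0 :=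
      eq_zero_of_weights _ _ _ (hweight k) (hvan k) fun f hf heq => hk (hep ((huniq k f hf heq).1.trans hk₀.symm))
    rw [Category.assoc w p, this, comp_gaPt, map_zero, rootHom_gaPt_zero]

end Groth.Agent.RedPts82
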