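import Groth.Agent.RedPts82.BruhatRankOne

/-!
Every root group on a wall of a split group has a dual: the commutation rule with a unit coefficient.
-/

universe u

open CategoryTheory MonoidalCategory CartesianMonoidalCategory MonObj GrpObj AlgebraicGeometry
open CategoryTheory.Limits

namespace Groth.Agent.RedPts82

variable {S : Scheme.{u}} {G : Over S} [GrpObj G] {D : Red.SplitRed G} {l : D.M →+ ℤ} {a : D.idx}

theorem hpt_conj_self (a : D.idx) {X : Over S} (z : Γ(X.left, ⊤)ˣ) (r : Γ(X.left, ⊤)) :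
    hpt D a z * rp D a r * (hpt D a z)⁻¹ = rp D a ((z : Γ(X.left, ⊤)) * (z : Γ(X.left, ⊤)) * r) := by
  have h := hpt_conj D a a z r
  rw [RootPairing.pairing_same, zpow_two, Units.val_mul] at h
  exact h

theorem hpt_conj_negIdx (a : D.idx) {X : Over S} (z : Γ(X.left, ⊤)ˣ) (r : Γ(X.left, ⊤)) :
    hpt D a z * rp D (negIdx D a) r * (hpt D a z)⁻¹ =
      rp D (negIdx D a) (((z⁻¹ : Γ(X.left, ⊤)ˣ) : Γ(X.left, ⊤)) * ((z⁻¹ : Γ(X.left, ⊤)ˣ) : Γ(X.left, ⊤)) * r) := by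
  have h := hpt_conj D a (negIdx D a) z r
  have hp : D.P.pairing (negIdx D a) a = -2 := by
    rw [← pairing_eq_coroot, root_negIdx, map_neg, pairing_eq_coroot, RootPairing.pairing_same]
  rw [hp, zpow_neg, zpow_two, _root_.mul_inv_rev, Units.val_mul] at h
  exact h

theorem cst_appTop {X X' : Over S} (f : X' ⟶ X) (r : Γ(S, ⊤)) : f.left.appTop (cst X r) = cst X' r := by
  rw [cst, cst, ← Over.w f, Scheme.Hom.comp_appTop]
  rfl

variable (b : D.P.Base) {n : 𝟙_ (Over S) ⟶ G} (hn : Acts D n (RootPairing.Equiv.reflection D.P a))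
include b hn

/-- The commutation rule for a unit coordinate on the opposite side. -/
theorem Wall.exists_rel_unit (h : Wall D l a) :
    ∃ (e : Γ(S, ⊤)ˣ) (c : Γ(S, ⊤)), ∀ (X : Over S) (x : Γ(X.left, ⊤)) (y z : Γ(X.left, ⊤)ˣ),
      (z : Γ(X.left, ⊤)) = 1 + cst X (e : Γ(S, ⊤)) * x * (y : Γ(X.left, ⊤)) →
      rp D a x * rp D (negIdx D a) (y : Γ(X.left, ⊤)) =
        rp D (negIdx D a) ((y : Γ(X.left, ⊤)) * ((z⁻¹ : Γ(X.left, ⊤)ˣ) : Γ(X.left, ⊤))) * hpt D a z *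
          rp D a (cst X c * x * ((z⁻¹ : Γ(X.left, ⊤)ˣ) : Γ(X.left, ⊤))) := by
  obtain ⟨K, hK⟩ := hn.exists_moves_unit b (negIdx D a)
  obtain ⟨p, τ, q, hp, hf⟩ := h.exists_form b hn
  let e : Γ(S, ⊤)ˣ := (K * hp.unit)⁻¹
  let α : Γ(S, ⊤) := dsFn τ (D.P.root a)
  refine ⟨e, -(α * q * p * (e : Γ(S, ⊤))), fun X x y z hz => ?_⟩
  let ι₀ : Γ(S, ⊤)ˣ →* Γ(X.left, ⊤)ˣ := Units.map X.hom.appTop.hom.toMonoidHom
  obtain ⟨w, hwp, hwy⟩ : ∃ w : Γ(X.left, ⊤)ˣ,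
      ((w⁻¹ : Γ(X.left, ⊤)ˣ) : Γ(X.left, ⊤)) * cst X p = (y : Γ(X.left, ⊤)) ∧
        (w : Γ(X.left, ⊤)) * (y : Γ(X.left, ⊤)) = cst X p := by
    refine ⟨ι₀ hp.unit * y⁻¹, ?_, ?_⟩
    · rw [show cst X p = ((ι₀ hp.unit : Γ(X.left, ⊤)ˣ) : Γ(X.left, ⊤)) from rfl, ← Units.val_mul]
      congr 1
      rw [_root_.mul_inv_rev, _root_.inv_inv, inv_mul_cancel_right]
    · rw [← Units.val_mul, inv_mul_cancel_right]
      rfl
  have hKpe : cst X (K : Γ(S, ⊤)) * cst X p * cst X (e : Γ(S, ⊤)) = 1 := by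
    rw [cst, cst, cst, ← map_mul, ← map_mul, show (K : Γ(S, ⊤)) * p * (e : Γ(S, ⊤)) =
      ((K * hp.unit * e : Γ(S, ⊤)ˣ) : Γ(S, ⊤)) from rfl, mul_inv_cancel, Units.val_one, map_one]
  have hα : dsFn (toUnit X ≫ τ) (D.P.root a) = cst X α := by
    rw [dsFn_comp]
    rfl
  have hrefl : RootPairing.Equiv.reflection D.P a • negIdx D a = a := D.P.reflectionPerm_self a a
  have hswap : ∀ v : Γ(X.left, ⊤), np n X * rp D (negIdx D a) v = rp D a (cst X (K : Γ(S, ⊤)) * v) * np n X := by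
    intro v
    have e1 := hK.conj (X := X) v
    rw [hrefl] at e1
    rw [← e1, inv_mul_cancel_right]
  have h1 := scale_form hn (hf X) w
  rw [_root_.mul_one, hwp, hswap] at h1
  have h2 := scale_form hn (hf X) (w * z)
  rw [_root_.mul_one, _root_.mul_inv_rev, Units.val_mul z⁻¹ w⁻¹, Units.val_mul w z,
    _root_.mul_assoc ((z⁻¹ : Γ(X.left, ⊤)ˣ) : Γ(X.left, ⊤)), hwp, hswap] at h2
  have hK' : cst X (K : Γ(S, ⊤)) * ((w : Γ(X.left, ⊤)) * (z : Γ(X.left, ⊤))) =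
      x + cst X (K : Γ(S, ⊤)) * (w : Γ(X.left, ⊤)) := by
    linear_combination (cst X (K : Γ(S, ⊤)) * (w : Γ(X.left, ⊤))) * hz + x * hKpe +
      cst X (K : Γ(S, ⊤)) * cst X (e : Γ(S, ⊤)) * x * hwy
  rw [hK', rp_add, mul_comm w z, hpt_mul] at h2
  rw [mul_comm (y : Γ(X.left, ⊤))]
  generalize toUnit X ≫ τ = T at h1 h2 hα
  have hcoef : cst X (-(α * q * p * (e : Γ(S, ⊤)))) * x * ((z⁻¹ : Γ(X.left, ⊤)ˣ) : Γ(X.left, ⊤)) =
      (w : Γ(X.left, ⊤)) * (w : Γ(X.left, ⊤)) * (dsFn T (D.P.root a) *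
        (((z⁻¹ : Γ(X.left, ⊤)ˣ) : Γ(X.left, ⊤)) * ((w⁻¹ : Γ(X.left, ⊤)ˣ) : Γ(X.left, ⊤)) * cst X q +
          -(((w⁻¹ : Γ(X.left, ⊤)ˣ) : Γ(X.left, ⊤)) * cst X q))) := by
    rw [hα]
    simp only [cst, map_neg, map_mul]
    have hzi : (z : Γ(X.left, ⊤)) * ((z⁻¹ : Γ(X.left, ⊤)ˣ) : Γ(X.left, ⊤)) = 1 := Units.mul_inv _
    have hwi : (w : Γ(X.left, ⊤)) * ((w⁻¹ : Γ(X.left, ⊤)ˣ) : Γ(X.left, ⊤)) = 1 := Units.mul_inv _
    simp only [cst] at hz hwy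
    linear_combination (X.hom.appTop α * X.hom.appTop q * (w : Γ(X.left, ⊤))) *
        ((-1 : Γ(X.left, ⊤)) * hzi + ((z⁻¹ : Γ(X.left, ⊤)ˣ) : Γ(X.left, ⊤)) * hz) +
      (X.hom.appTop α * X.hom.appTop q * X.hom.appTop (e : Γ(S, ⊤)) * x * ((z⁻¹ : Γ(X.left, ⊤)ˣ) : Γ(X.left, ⊤))) * hwy -
      (X.hom.appTop α * X.hom.appTop q * (w : Γ(X.left, ⊤)) * (((z⁻¹ : Γ(X.left, ⊤)ˣ) : Γ(X.left, ⊤)) - 1)) * hwi
  rw [hcoef, ← hpt_conj_self, ← tpt_conj_rp, rp_add, rp_neg]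
  generalize rp D (negIdx D a) (((z⁻¹ : Γ(X.left, ⊤)ˣ) : Γ(X.left, ⊤)) * (y : Γ(X.left, ⊤))) = M2 at h2 ⊢
  generalize rp D (negIdx D a) (y : Γ(X.left, ⊤)) = M1 at h1 ⊢
  generalize rp D a (((z⁻¹ : Γ(X.left, ⊤)ˣ) : Γ(X.left, ⊤)) * ((w⁻¹ : Γ(X.left, ⊤)ˣ) : Γ(X.left, ⊤)) * cst X q) = Q2 at h2 ⊢
  generalize rp D a (((w⁻¹ : Γ(X.left, ⊤)ˣ) : Γ(X.left, ⊤)) * cst X q) = Q1 at h1 ⊢
  generalize rp D a (cst X (K : Γ(S, ⊤)) * (w : Γ(X.left, ⊤))) = R at h1 h2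
  generalize rp D a x = Px at h2 ⊢
  calc Px * M1 = Px * (R * np n X) * Q1⁻¹ * (hpt D a w * tpt D T)⁻¹ := by rw [h1]; group
    _ = M2 * (hpt D a z * hpt D a w * tpt D T) * Q2 * Q1⁻¹ * (hpt D a w * tpt D T)⁻¹ := by
      rw [← _root_.mul_assoc Px, h2]
    _ = _ := by group

/-- Every root of a wall has a dual: a multiple of the opposite root homomorphism. -/
theorem Wall.exists_dual (h : Wall D l a) :
    ∃ e : Γ(S, ⊤)ˣ, ∀ (X : Over S) (x y : Γ(X.left, ⊤)) (z : Γ(X.left, ⊤)ˣ),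
      (z : Γ(X.left, ⊤)) = 1 + cst X (e : Γ(S, ⊤)) * x * y →
      rp D a x * rp D (negIdx D a) y =
        rp D (negIdx D a) (y * ((z⁻¹ : Γ(X.left, ⊤)ˣ) : Γ(X.left, ⊤))) * hpt D a z *
          rp D a (x * ((z⁻¹ : Γ(X.left, ⊤)ˣ) : Γ(X.left, ⊤))) := by
  obtain ⟨e, c, hrel⟩ := h.exists_rel_unit b hn
  have hstep : ∀ (X : Over S) (x : Γ(X.left, ⊤)) (y1 y2 z1 z2 : Γ(X.left, ⊤)ˣ),
      (z1 : Γ(X.left, ⊤)) = 1 + cst X (e : Γ(S, ⊤)) * x * (y1 : Γ(X.left, ⊤)) →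
      (z2 : Γ(X.left, ⊤)) =
        1 + cst X (e : Γ(S, ⊤)) * (cst X c * x * ((z1⁻¹ : Γ(X.left, ⊤)ˣ) : Γ(X.left, ⊤))) * (y2 : Γ(X.left, ⊤)) →
      rp D a x * rp D (negIdx D a) ((y1 : Γ(X.left, ⊤)) + (y2 : Γ(X.left, ⊤))) =
        rp D (negIdx D a) ((y1 : Γ(X.left, ⊤)) * ((z1⁻¹ : Γ(X.left, ⊤)ˣ) : Γ(X.left, ⊤)) +
            ((z1⁻¹ : Γ(X.left, ⊤)ˣ) : Γ(X.left, ⊤)) * ((z1⁻¹ : Γ(X.left, ⊤)ˣ) : Γ(X.left, ⊤)) *
              ((y2 : Γ(X.left, ⊤)) * ((z2⁻¹ : Γ(X.left, ⊤)ˣ) : Γ(X.left, ⊤)))) * hpt D a (z1 * z2) *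
          rp D a (cst X c * (cst X c * x * ((z1⁻¹ : Γ(X.left, ⊤)ˣ) : Γ(X.left, ⊤))) *
            ((z2⁻¹ : Γ(X.left, ⊤)ˣ) : Γ(X.left, ⊤))) := by
    intro X x y1 y2 z1 z2 h1 h2
    rw [rp_add, rp_add, ← hpt_conj_negIdx, ← _root_.mul_assoc (rp D a x), hrel X x y1 z1 h1, hpt_mul,
      _root_.mul_assoc _ (rp D a _) (rp D (negIdx D a) (y2 : Γ(X.left, ⊤))), hrel X _ y2 z2 h2]
    group
  have hc : c = 1 := by
    refine (cst_one c).symm.trans ((gaPt_injective (S := S) ?_).trans (cst_one (1 : Γ(S, ⊤))))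
    refine hom_ext_affine fun Y hY k => ?_
    rw [comp_gaPt, comp_gaPt, cst_appTop, cst_appTop]
    let E : Γ(Y.left, ⊤) := cst Y (e : Γ(S, ⊤))
    let C : Γ(Y.left, ⊤) := cst Y c
    obtain ⟨Z, q, r, -, hf, hs, hr⟩ := exists_avoid Y
      (Polynomial.X * (Polynomial.X + 1) * (Polynomial.C E * Polynomial.X + 1) *
        (Polynomial.C E * Polynomial.X + Polynomial.C (1 + E * C)) *
        (Polynomial.C E * Polynomial.X + Polynomial.C (1 + E))) fun F _ _ W _ eF y => by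
      classical
      have hu : IsUnit (y.left.appTop E) := ((e.isUnit.map Y.hom.appTop.hom).map y.left.appTop.hom)
      let ev : Γ(W.left, ⊤) → F := eF.symm
      let e0 := ev (y.left.appTop E)
      have he0 : e0 ≠ 0 := (hu.map eF.symm).ne_zero
      obtain ⟨v, hv⟩ := Infinite.exists_notMem_finset
        ({0, -1, -1 / e0, -(1 + e0 * ev (y.left.appTop C)) / e0, -(1 + e0) / e0} : Finset F)
      simp only [Finset.mem_insert, Finset.mem_singleton, not_or] at hv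
      obtain ⟨v1, v2, v3, v4, v5⟩ := hv
      refine ⟨eF v, ?_⟩
      simp only [Polynomial.eval₂_mul, Polynomial.eval₂_add, Polynomial.eval₂_C, Polynomial.eval₂_one,
        Polynomial.eval₂_X, map_add, map_mul, map_one]
      rw [show y.left.appTop.hom E = eF e0 from (eF.apply_symm_apply _).symm,
        show y.left.appTop.hom C = eF (ev (y.left.appTop C)) from (eF.apply_symm_apply _).symm]
      simp only [← map_one eF, ← map_mul, ← map_add]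
      refine IsUnit.map eF (Ne.isUnit ?_)
      refine mul_ne_zero (mul_ne_zero (mul_ne_zero (mul_ne_zero v1 ?_) ?_) ?_) ?_
      · exact fun hh => v2 (eq_neg_of_add_eq_zero_left hh)
      · exact fun hh => v3 (by field_simp; linear_combination hh)
      · exact fun hh => v4 (by field_simp; linear_combination hh)
      · exact fun hh => v5 (by field_simp; linear_combination hh)
    have := epi_of_flat_surjective q hf hs
    refine (cancel_epi q).mp ?_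
    rw [comp_gaPt, comp_gaPt, cst_appTop, cst_appTop]
    simp only [Polynomial.eval₂_mul, Polynomial.eval₂_add, Polynomial.eval₂_C, Polynomial.eval₂_one,
      Polynomial.eval₂_X, map_add, map_mul, map_one, IsUnit.mul_iff] at hr
    obtain ⟨⟨⟨⟨r1, r2⟩, r3⟩, r4⟩, r5⟩ := hr
    simp only [E, C, show q.left.appTop.hom (cst Y (e : Γ(S, ⊤))) = cst Z (e : Γ(S, ⊤)) from cst_appTop q _,
      show q.left.appTop.hom (cst Y c) = cst Z c from cst_appTop q _] at r3 r4 r5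
    let y2 : Γ(Z.left, ⊤)ˣ := 1
    let z1 := r3.unit
    have hz2 : IsUnit (1 + cst Z (e : Γ(S, ⊤)) * (cst Z c * 1 * ((z1⁻¹ : Γ(Z.left, ⊤)ˣ) : Γ(Z.left, ⊤))) * (y2 : Γ(Z.left, ⊤))) := by
      refine isUnit_of_mul_isUnit_right (x := cst Z (e : Γ(S, ⊤)) * r + 1) ?_
      convert r4 using 1
      have hzi : (cst Z (e : Γ(S, ⊤)) * r + 1) * ((z1⁻¹ : Γ(Z.left, ⊤)ˣ) : Γ(Z.left, ⊤)) = 1 := r3.mul_val_inv
      simp only [y2, Units.val_one]
      linear_combination (cst Z (e : Γ(S, ⊤)) * cst Z c) * hzi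
    have h3 := hstep Z 1 r1.unit y2 z1 hz2.unit (by simp only [z1, IsUnit.unit_spec]; ring) (by rw [IsUnit.unit_spec])
    have h4 := hrel Z 1 r2.unit r5.unit (by simp only [IsUnit.unit_spec]; ring)
    simp only [IsUnit.unit_spec, y2, Units.val_one] at h3 h4
    rw [h4] at h3
    have hneg : ∀ v : Γ(Z.left, ⊤), rp D (negIdx D a) v ∈ Up D (-l) Z := fun v => rp_mem_up (by
      rw [root_negIdx, AddMonoidHom.neg_apply, map_neg, _root_.neg_neg]; exact h.pos) v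
    have h5 := rootHom_gaPt_injective (D := D) (negIdx D a) (split_unique (hneg _) (hneg _)
      (by rw [hpt_eq_tpt]; exact tpt_mem_fixed _) (by rw [hpt_eq_tpt]; exact tpt_mem_fixed _)
      (rp_mem_up h.pos _) (rp_mem_up h.pos _) h3).1
    have k1 : (cst Z (e : Γ(S, ⊤)) * r + 1) * ((z1⁻¹ : Γ(Z.left, ⊤)ˣ) : Γ(Z.left, ⊤)) = 1 := r3.mul_val_inv
    have k2 : (1 + cst Z (e : Γ(S, ⊤)) * (cst Z c * 1 * ((z1⁻¹ : Γ(Z.left, ⊤)ˣ) : Γ(Z.left, ⊤))) * (1 : Γ(Z.left, ⊤))) *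
        ((hz2.unit⁻¹ : Γ(Z.left, ⊤)ˣ) : Γ(Z.left, ⊤)) = 1 := hz2.mul_val_inv
    have k5 : (cst Z (e : Γ(S, ⊤)) * r + (1 + cst Z (e : Γ(S, ⊤)))) *
        ((r5.unit⁻¹ : Γ(Z.left, ⊤)ˣ) : Γ(Z.left, ⊤)) = 1 := r5.mul_val_inv
    congr 1
    have hcore : cst Z (e : Γ(S, ⊤)) * (cst Z c - 1) = 0 := by
      generalize ((hz2.unit⁻¹ : Γ(Z.left, ⊤)ˣ) : Γ(Z.left, ⊤)) = I2 at h5 k2
      generalize ((z1⁻¹ : Γ(Z.left, ⊤)ˣ) : Γ(Z.left, ⊤)) = I1 at h5 k1 k2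
      generalize ((r5.unit⁻¹ : Γ(Z.left, ⊤)ˣ) : Γ(Z.left, ⊤)) = I5 at h5 k5
      generalize cst Z (e : Γ(S, ⊤)) = E at h5 k1 k2 k5 ⊢
      generalize cst Z c = C at h5 k2 ⊢
      have hA : (E * r + 1 + E * C) * (I1 * I2) = 1 := by
        linear_combination k2 + I2 * k1
      linear_combination ((E * r + (1 + E)) * ((E * r + 1) * (E * r + 1 + E * C))) * h5 -
        ((r + 1) * ((E * r + 1) * (E * r + 1 + E * C))) * k5 +
        ((E * r + (1 + E)) * (E * r + 1 + E * C) * r) * k1 +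
        ((E * r + (1 + E)) * (E * r + 1) * I1) * hA + (E * r + (1 + E)) * k1
    exact sub_eq_zero.mp ((e.isUnit.map Z.hom.appTop.hom).mul_right_eq_zero.mp hcore) |>.trans
      (by rw [cst, map_one])
  refine ⟨e, fun X x y z hz => hom_ext_affine fun Y hY k => ?_⟩
  simp only [MonObj.comp_mul, comp_rp, hpt_eq_tpt, comp_tpt, map_mul]
  rw [show k ≫ gmPt z ≫ Red.DSmap S (D.P.coroot a).toAddMonoidHom =
      gmPt (Units.map k.left.appTop.hom.toMonoidHom z) ≫ Red.DSmap S (D.P.coroot a).toAddMonoidHom by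
    rw [← Category.assoc]
    congr 1
    refine gmFn_injective ?_
    rw [gmFn_comp, gmFn_gmPt, gmFn_gmPt]
    rfl, ← hpt_eq_tpt,
    show k.left.appTop ((z⁻¹ : Γ(X.left, ⊤)ˣ) : Γ(X.left, ⊤)) =
      (((Units.map k.left.appTop.hom.toMonoidHom z)⁻¹ : Γ(Y.left, ⊤)ˣ) : Γ(Y.left, ⊤)) from rfl]
  have hzY : ((Units.map k.left.appTop.hom.toMonoidHom z : Γ(Y.left, ⊤)ˣ) : Γ(Y.left, ⊤)) =
      1 + cst Y (e : Γ(S, ⊤)) * k.left.appTop x * k.left.appTop y := by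
    have := congrArg k.left.appTop hz
    rw [map_add, map_one, map_mul, map_mul, cst_appTop] at this
    exact this
  generalize Units.map k.left.appTop.hom.toMonoidHom z = z' at hzY ⊢
  generalize k.left.appTop x = x' at hzY ⊢
  generalize k.left.appTop y = y' at hzY ⊢
  obtain ⟨Z, q, r, -, hf, hs, hr⟩ := exists_avoid Y
    (Polynomial.X * (Polynomial.C y' + -Polynomial.X) *
      (Polynomial.C (cst Y (e : Γ(S, ⊤)) * x') * Polynomial.X + 1)) fun F _ _ W _ eF w => by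
    classical
    let ev : Γ(W.left, ⊤) → F := eF.symm
    let p0 := ev (w.left.appTop (cst Y (e : Γ(S, ⊤)) * x'))
    obtain ⟨v, hv⟩ := Infinite.exists_notMem_finset ({0, ev (w.left.appTop y'), -1 / p0} : Finset F)
    simp only [Finset.mem_insert, Finset.mem_singleton, not_or] at hv
    obtain ⟨v1, v2, v3⟩ := hv
    refine ⟨eF v, ?_⟩
    simp only [Polynomial.eval₂_mul, Polynomial.eval₂_add, Polynomial.eval₂_neg, Polynomial.eval₂_C,
      Polynomial.eval₂_one, Polynomial.eval₂_X]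
    rw [show w.left.appTop.hom (cst Y (e : Γ(S, ⊤)) * x') = eF p0 from (eF.apply_symm_apply _).symm,
      show w.left.appTop.hom y' = eF (ev (w.left.appTop y')) from (eF.apply_symm_apply _).symm]
    simp only [← map_one eF, ← map_mul, ← map_add, ← map_neg]
    refine IsUnit.map eF (Ne.isUnit (mul_ne_zero (mul_ne_zero v1 ?_) ?_))
    · exact fun hh => v2 (by linear_combination (-1 : F) * hh)
    · intro hh
      by_cases hp0 : p0 = 0
      · rw [hp0, zero_mul, zero_add] at hh; exact one_ne_zero hh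
      · exact v3 (by field_simp; linear_combination hh)
  have := epi_of_flat_surjective q hf hs
  refine (cancel_epi q).mp ?_
  simp only [MonObj.comp_mul, comp_rp, hpt_eq_tpt, comp_tpt, map_mul]
  rw [show q ≫ gmPt z' ≫ Red.DSmap S (D.P.coroot a).toAddMonoidHom =
      gmPt (Units.map q.left.appTop.hom.toMonoidHom z') ≫ Red.DSmap S (D.P.coroot a).toAddMonoidHom by
    rw [← Category.assoc]
    congr 1
    refine gmFn_injective ?_
    rw [gmFn_comp, gmFn_gmPt, gmFn_gmPt]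
    rfl, ← hpt_eq_tpt,
    show q.left.appTop ((z'⁻¹ : Γ(Y.left, ⊤)ˣ) : Γ(Y.left, ⊤)) =
      (((Units.map q.left.appTop.hom.toMonoidHom z')⁻¹ : Γ(Z.left, ⊤)ˣ) : Γ(Z.left, ⊤)) from rfl]
  have hzZ : ((Units.map q.left.appTop.hom.toMonoidHom z' : Γ(Z.left, ⊤)ˣ) : Γ(Z.left, ⊤)) =
      1 + cst Z (e : Γ(S, ⊤)) * q.left.appTop x' * q.left.appTop y' := by
    have := congrArg q.left.appTop hzY
    rw [map_add, map_one, map_mul, map_mul, cst_appTop] at this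
    exact this
  simp only [Polynomial.eval₂_mul, Polynomial.eval₂_add, Polynomial.eval₂_neg, Polynomial.eval₂_C,
    Polynomial.eval₂_one, Polynomial.eval₂_X, map_mul, IsUnit.mul_iff] at hr
  rw [show q.left.appTop.hom (cst Y (e : Γ(S, ⊤))) = cst Z (e : Γ(S, ⊤)) from cst_appTop q _] at hr
  obtain ⟨⟨r1, r2⟩, r3⟩ := hr
  generalize Units.map q.left.appTop.hom.toMonoidHom z' = Z0 at hzZ ⊢
  generalize q.left.appTop x' = X0 at hzZ r3 ⊢
  generalize q.left.appTop y' = Y0 at hzZ r2 ⊢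
  subst hc
  have hone : cst Z (1 : Γ(S, ⊤)) = 1 := by rw [cst, map_one]
  have hz3 : (r3.unit : Γ(Z.left, ⊤)) = cst Z (e : Γ(S, ⊤)) * X0 * r + 1 := r3.unit_spec
  have k1 : (cst Z (e : Γ(S, ⊤)) * X0 * r + 1) * ((r3.unit⁻¹ : Γ(Z.left, ⊤)ˣ) : Γ(Z.left, ⊤)) = 1 := r3.mul_val_inv
  have h3 := hstep Z X0 r1.unit r2.unit r3.unit (Z0 * r3.unit⁻¹) (by rw [hz3, IsUnit.unit_spec]; ring) (by
    rw [hone, _root_.one_mul, Units.val_mul, IsUnit.unit_spec, hzZ]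
    linear_combination k1)
  rw [mul_inv_cancel_comm_assoc, _root_.mul_inv_rev, _root_.inv_inv, Units.val_mul, hone, _root_.one_mul,
    _root_.one_mul, IsUnit.unit_spec, IsUnit.unit_spec, hz3, add_add_neg_cancel'_right] at h3
  rw [h3]
  have k0 : (1 + cst Z (e : Γ(S, ⊤)) * X0 * Y0) * ((Z0⁻¹ : Γ(Z.left, ⊤)ˣ) : Γ(Z.left, ⊤)) = 1 := by
    rw [← hzZ]; exact Units.mul_inv _
  congr 1
  · congr 2
    linear_combination (-r * ((r3.unit⁻¹ : Γ(Z.left, ⊤)ˣ) : Γ(Z.left, ⊤))) * k0 +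
      ((Y0 - r) * ((Z0⁻¹ : Γ(Z.left, ⊤)ˣ) : Γ(Z.left, ⊤)) * ((r3.unit⁻¹ : Γ(Z.left, ⊤)ˣ) : Γ(Z.left, ⊤))) * k1 +
      (Y0 * ((Z0⁻¹ : Γ(Z.left, ⊤)ˣ) : Γ(Z.left, ⊤))) * k1
  · congr 1
    linear_combination (X0 * ((Z0⁻¹ : Γ(Z.left, ⊤)ˣ) : Γ(Z.left, ⊤))) * k1

end Groth.Agent.RedPts82
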