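import Groth.Agent.RedPts82.MonoOpen

/-!
Homomorphisms from a diagonalisable group to one of finite type are locally given by homomorphisms
of the character groups.
-/

universe u

open CategoryTheory MonoidalCategory CartesianMonoidalCategory MonObj GrpObj AlgebraicGeometry
open CategoryTheory.Limits

namespace Groth.Agent.RedPts82

variable {W : Scheme.{u}}

/-- Two morphisms between diagonalisable groups over an open set. -/
def AgreeOn {M N : Type} [AddCommGroup M] [AddCommGroup N] (D : W.Opens)
    (q q' : Red.DS W M ⟶ Red.DS W N) : Prop :=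
  ∀ (X : Over W), (∀ x : X.left, X.hom x ∈ D) → ∀ t : X ⟶ Red.DS W M, t ≫ q = t ≫ q'

set_option maxHeartbeats 1000000 in
theorem exists_ds_hom_loc [IsAffine W] {M N : Type} [AddCommGroup M] [AddCommGroup N]
    (hN : AddGroup.FG N) (q : Red.DS W M ⟶ Red.DS W N) [IsMonHom q] (w : W) :
    ∃ (D : W.Opens) (φ : N →+ M), w ∈ D ∧ AgreeOn D q (Red.DSmap W φ) := by
  classical
  haveI : IsAffine (𝟙_ (Over W)).left := inferInstanceAs (IsAffine W)
  let Y := 𝟙_ (Over W)
  let f : Y ⊗ Red.DS W M ⟶ Red.DS W N := CartesianMonoidalCategory.snd _ _ ≫ q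
  have hf : IsRelHom f := fun Z z t t' => by
    simp only [f, CartesianMonoidalCategory.lift_snd_assoc]
    exact MonObj.mul_comp _ _ q
  have hu : ∀ n : N, ∃ u : DSRing Y M, IsGL u ∧ ∀ (X : Over W) (t : X ⟶ Red.DS W M),
      dsFn (t ≫ q) n = evalDS (toUnit X) t u := fun n => by
    obtain ⟨u, hu, hu'⟩ := exists_fn_of_relHom hf n
    refine ⟨u, hu, fun X t => ?_⟩
    rw [← hu']
    simp only [f, CartesianMonoidalCategory.lift_snd_assoc]
  choose u hu hu' using hu
  let σ := evalAt W w
  -- the character at `w`
  have hm : ∀ n, ∃ m, σ ((u n).coeff (Multiplicative.ofAdd m)) ≠ 0 := fun n => by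
    by_contra hall
    push Not at hall
    have h1 := congrArg σ (hu n).coeff_sum
    rw [map_finsuppSum, map_one] at h1
    exact zero_ne_one ((Finset.sum_eq_zero fun g _ => hall (Multiplicative.toAdd g)).symm.trans h1)
  choose m hm using hm
  -- on the basic open set of the coefficient, the function is the character
  have hloc : ∀ n (X : Over W), (∀ x : X.left, X.hom x ∈ W.basicOpen ((u n).coeff
      (Multiplicative.ofAdd (m n)))) → ∀ t : X ⟶ Red.DS W M, dsFn (t ≫ q) n = dsFn t (m n) := by
    intro n X hX t
    let a := (u n).coeff (Multiplicative.ofAdd (m n))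
    have hz : (toUnit X).left = X.hom :=
      (Category.comp_id _).symm.trans (Over.w (toUnit X))
    have hunit : IsUnit ((toUnit X).left.appTop a) := by
      refine X.left.toRingedSpace.isUnit_of_isUnit_germ ⊤ _ fun x hx => ?_
      have : x ∈ (toUnit X).left ⁻¹ᵁ W.basicOpen a := by
        show (toUnit X).left x ∈ W.basicOpen a
        rw [hz]
        exact hX x
      exact (X.left.mem_basicOpen_top _ x).mp
        ((Scheme.preimage_basicOpen_top (toUnit X).left a).le this)
    have hidem : (toUnit X).left.appTop a * (toUnit X).left.appTop a = (toUnit X).left.appTop a := by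
      rw [← map_mul]
      refine congrArg _ ?_
      rw [(hu n).coeff_mul, if_pos rfl]
    have h1 : (toUnit X).left.appTop a = 1 := hunit.mul_eq_left.mp hidem
    rw [hu', evalDS_eq_sum, Finsupp.sum, Finset.sum_eq_single (Multiplicative.ofAdd (m n))
      (fun g _ hg => ?_) (fun h => ?_)]
    · show (toUnit X).left.appTop a * _ = _
      rw [h1, _root_.one_mul]
      rfl
    · have h2 : (toUnit X).left.appTop ((u n).coeff g) * (toUnit X).left.appTop a = 0 := by
        rw [← map_mul, (hu n).coeff_mul, if_neg hg, map_zero]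
      rw [h1, _root_.mul_one] at h2
      rw [h2, zero_mul]
    · have : a = 0 := Finsupp.notMem_support_iff.mp h
      rw [show ((toUnit X).left.appTop a) = 0 by rw [this, map_zero]] at h1 ⊢
      rw [zero_mul]
  -- the characters form a homomorphism
  have hadd : ∀ a b, m (a + b) = m a + m b := by
    intro a b
    let R := MonoidAlgebra (W.residueField w) (Multiplicative M)
    obtain ⟨X, hXa, p, τ, hpt⟩ := exists_pt (M := M) (B := R) w MonoidAlgebra.singleOneRingHom
    obtain ⟨t, ht, -⟩ := hpt (RingHom.id R) fun _ => rfl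
    have hX : ∀ n (x : X.left), X.hom x ∈ W.basicOpen ((u n).coeff (Multiplicative.ofAdd (m n))) := by
      intro n x
      have : X.hom x = w := by
        rw [← Over.w p]
        exact Scheme.fromSpecResidueField_apply w (p.left x)
      rw [this]
      exact (Scheme.evaluation_ne_zero_iff_mem_basicOpen (U := ⊤) W w trivial _).mp (hm n)
    have h1 := hloc (a + b) X (hX _) t
    rw [dsFn_add, hloc a X (hX _) t, hloc b X (hX _) t, ← dsFn_add, ht, ht] at h1
    have h2 := τ.injective h1
    rcases MonoidAlgebra.single_inj.mp h2 with ⟨h3, -⟩ | ⟨h3, -⟩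
    · exact (Multiplicative.ofAdd.injective h3).symm
    · exact absurd h3 one_ne_zero
  let φ : N →+ M := AddMonoidHom.mk' m hadd
  obtain ⟨gens, hgens⟩ : ∃ s : Finset N, AddSubgroup.closure (s : Set N) = ⊤ := hN.out
  refine ⟨gens.inf fun n => W.basicOpen ((u n).coeff (Multiplicative.ofAdd (m n))), φ, ?_,
    fun X hX t => dsFn_injective fun n => ?_⟩
  · rw [← SetLike.mem_coe, TopologicalSpace.Opens.coe_finset_inf]
    simp only [Finset.inf_set_eq_iInter, Set.mem_iInter, Function.comp_apply, SetLike.mem_coe]
    exact fun n _ => (Scheme.evaluation_ne_zero_iff_mem_basicOpen (U := ⊤) W w trivial _).mp (hm n)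
  rw [dsFn_DSmap]
  have hunit : ∀ s : X ⟶ Red.DS W N, ∀ k, dsFn s k * dsFn s (-k) = 1 := fun s k => by
    rw [← dsFn_add, add_neg_cancel, dsFn_zero]
  let K : AddSubgroup N :=
    { carrier := {n | dsFn (t ≫ q) n = dsFn t (φ n)}
      zero_mem' := by
        show _ = _
        rw [map_zero, dsFn_zero, dsFn_zero]
      add_mem' := fun {a b} ha hb => by
        show _ = _
        rw [dsFn_add, (ha : dsFn (t ≫ q) a = _), (hb : dsFn (t ≫ q) b = _), map_add, dsFn_add]
      neg_mem' := fun {a} ha => by
        show _ = _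
        have h1 : dsFn t (φ a) * dsFn (t ≫ q) (-a) = dsFn t (φ a) * dsFn t (φ (-a)) := by
          conv_lhs => rw [← (ha : dsFn (t ≫ q) a = _)]
          rw [hunit, ← dsFn_add, ← map_add, add_neg_cancel, map_zero, dsFn_zero]
        exact (dsFn_isUnit t (φ a)).mul_left_cancel h1 }
  have hK : K = ⊤ := by
    rw [eq_top_iff, ← hgens, AddSubgroup.closure_le]
    intro n hn
    refine hloc n X (fun x => ?_) t
    have h := Finset.inf_le (f := fun k => W.basicOpen ((u k).coeff (Multiplicative.ofAdd (m k)))) hn
    exact h (hX x)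
  exact (show n ∈ K from hK ▸ AddSubgroup.mem_top n)

end Groth.Agent.RedPts82
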