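import Groth.Agent.RedPts82.ChevPairs

/-!
A Chevalley system given by families of homomorphisms, as a system on a splitting.
-/

universe u

open CategoryTheory MonoidalCategory CartesianMonoidalCategory MonObj GrpObj AlgebraicGeometry
open CategoryTheory.Limits

namespace Groth.Agent.RedPts82

variable {S : Scheme.{u}} {G : Over S} [GrpObj G] (D : Red.SplitRed G) (v vd : D.idx → (Red.Ga S ⟶ G))
  (hv : ∀ c, Red.IsRootHom D.i (D.split.hom.hom.hom ≫ Red.chi S (D.P.root c)) (v c))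

/-- The splitting with other root homomorphisms. -/
def replaceU : Red.SplitRed G := { D with u := v, rootHom := hv }

theorem chev_of (e₁ : 𝟙_ (Over S) ⟶ Red.Ga S) (he₁ : Red.gaFn e₁ = 1)
    (avc : D.idx → (Red.Gm S ⟶ D.T))
    (havc : ∀ a, avc a = Red.DSmap S (D.P.coroot a).toAddMonoidHom ≫ D.split.inv.hom.hom)
    (hvd : ∀ c, IsMonHom (vd c) ∧ ∀ (X : Over S) (x y : X ⟶ Red.Ga S), IsUnit (1 + Red.gaFn x * Red.gaFn y) →
        ∃ (x' y' : X ⟶ Red.Ga S) (z : X ⟶ Red.Gm S), Red.gmFn z = 1 + Red.gaFn x * Red.gaFn y ∧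
          Red.gaFn x' * Red.gmFn z = Red.gaFn x ∧ Red.gaFn y' * Red.gmFn z = Red.gaFn y ∧
          (x ≫ v c) * (y ≫ vd c) = (y' ≫ vd c) * (z ≫ avc c ≫ D.i) * (x' ≫ v c))
    (n : D.idx → (𝟙_ (Over S) ⟶ G)) (hn : ∀ c, n c = (e₁ ≫ v c) * (e₁ ≫ vd c)⁻¹ * (e₁ ≫ v c))
    (hSC : ∀ c b, ∃ ε : ℤ, (ε = 1 ∨ ε = -1) ∧ ∀ (X : Over S) (x y : X ⟶ Red.Ga S),
      Red.gaFn y = (ε : Γ(X.left, ⊤)) * Red.gaFn x →
        (toUnit X ≫ n c) * (x ≫ v b) * (toUnit X ≫ n c)⁻¹ = y ≫ v (D.P.reflectionPerm c b)) :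
    Chev (replaceU D v hv) vd := by
  refine ⟨fun c => ⟨(hvd c).1, fun X x y hxy => ?_⟩, fun c b => ?_⟩
  · obtain ⟨x', y', z, h1, h2, h3, h4⟩ := (hvd c).2 X x y hxy
    exact ⟨x', y', z, h1, h2, h3, h4.trans (by rw [havc]; rfl)⟩
  · obtain ⟨s, hs, h⟩ := hSC c b
    refine ⟨s, hs, fun X r => ?_⟩
    have e1 : toUnit X ≫ e₁ = gaPt 1 := gaFn_injective (by rw [gaFn_comp, he₁, map_one, gaFn_gaPt])
    have e : toUnit X ≫ n c = npt (replaceU D v hv) c (vd c) X := by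
      rw [hn, MonObj.comp_mul, MonObj.comp_mul, GrpObj.comp_inv, ← Category.assoc, ← Category.assoc, e1]
      rfl
    rw [← e]
    exact h X (gaPt r) (gaPt ((s : Γ(X.left, ⊤)) * r)) (by rw [gaFn_gaPt, gaFn_gaPt])

theorem IsSgn.exists_eq {r : Γ(S, ⊤)} {k : ℤ} (h : IsSgn r k) :
    ∃ s : ℤ, (s = 1 ∨ s = -1) ∧ ∀ X : Over S, cst X r = (s : Γ(X.left, ⊤)) * (k : Γ(X.left, ⊤)) := by
  obtain ⟨s, hs, rfl⟩ := h
  exact ⟨s, hs, fun X => by rw [cst, map_intCast, Int.cast_mul]⟩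

end Groth.Agent.RedPts82
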