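import Groth.Agent.RedPts82.DSCoord
import Mathlib.Algebra.Polynomial.AlgebraMap

/-!
The additive group over an affine object of `Over S` as the spectrum of a polynomial ring, and
tests of equality of morphisms on affine objects.
-/

universe u

open CategoryTheory MonoidalCategory CartesianMonoidalCategory MonObj GrpObj AlgebraicGeometry
open CategoryTheory.Limits Polynomial

namespace Groth.Agent.RedPts82

variable {S : Scheme.{u}}

/-- Two morphisms over the base agree when they agree on all points with affine source. -/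
theorem hom_ext_affine {X P : Over S} {f g : X ⟶ P}
    (h : ∀ (Z : Over S), IsAffine Z.left → ∀ x : Z ⟶ X, x ≫ f = x ≫ g) : f = g := by
  apply Over.OverMorphism.ext
  refine X.left.affineCover.hom_ext _ _ fun j => ?_
  exact congrArg CommaMorphism.left
    (h (Over.mk (X.left.affineCover.f j ≫ X.hom)) (inferInstanceAs (IsAffine (X.left.affineCover.X j)))
      (Over.homMk (X.left.affineCover.f j) rfl))

variable (Y : Over S) [IsAffine Y.left]

/-- The additive group over an affine object, as a spectrum. -/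
noncomputable def polyGa : Over S :=
  Over.mk ((Spec.map (CommRingCat.ofHom (Polynomial.C : Gam Y →+* (Gam Y)[X])) ≫
    Y.left.isoSpec.inv) ≫ Y.hom)

/-- Its projection to the affine object. -/
noncomputable def gaProj : polyGa Y ⟶ Y :=
  Over.homMk (Spec.map (CommRingCat.ofHom (Polynomial.C : Gam Y →+* (Gam Y)[X])) ≫
    Y.left.isoSpec.inv) rfl

instance : IsAffine (polyGa Y).left :=
  inferInstanceAs (IsAffine (Spec (CommRingCat.of (Gam Y)[X])))

/-- The identification of its global sections with the polynomial ring. -/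
noncomputable def gaCoordHom : (Gam Y)[X] →+* Γ((polyGa Y).left, ⊤) :=
  (Scheme.ΓSpecIso (CommRingCat.of (Gam Y)[X])).inv.hom

theorem gaCoordHom_bijective : Function.Bijective (gaCoordHom Y) :=
  (Scheme.ΓSpecIso (CommRingCat.of (Gam Y)[X])).commRingCatIsoToRingEquiv.symm.bijective

theorem gaProj_appTop (a : Gam Y) :
    (gaProj Y).left.appTop a = gaCoordHom Y (C a) := by
  show (Spec.map (CommRingCat.ofHom (Polynomial.C : Gam Y →+* (Gam Y)[X])) ≫
    Y.left.isoSpec.inv).appTop a = _
  rw [Scheme.Hom.comp_appTop, isoSpec_inv_appTop, ← Scheme.ΓSpecIso_inv_naturality]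
  rfl

/-- The universal point. -/
noncomputable def gaTu : polyGa Y ⟶ Red.Ga S := (gaFn_surjective (gaCoordHom Y Polynomial.X)).choose

theorem gaFn_gaTu : Red.gaFn (gaTu Y) = gaCoordHom Y Polynomial.X :=
  (gaFn_surjective (gaCoordHom Y Polynomial.X)).choose_spec

variable {Y} {Z : Over S}

/-- Evaluation of a polynomial at a pair of points. -/
noncomputable def evalGa (z : Z ⟶ Y) (x : Z ⟶ Red.Ga S) : (Gam Y)[X] →+* Γ(Z.left, ⊤) :=
  eval₂RingHom z.left.appTop.hom (Red.gaFn x)

omit [IsAffine Y.left] in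
theorem evalGa_C (z : Z ⟶ Y) (x : Z ⟶ Red.Ga S) (a : Gam Y) :
    evalGa z x (C a) = z.left.appTop a := eval₂_C _ _

omit [IsAffine Y.left] in
theorem evalGa_X (z : Z ⟶ Y) (x : Z ⟶ Red.Ga S) :
    evalGa z x Polynomial.X = Red.gaFn x := eval₂_X _ _

theorem polyGa_hom_ext {w w' : Z ⟶ polyGa Y} (h₁ : w ≫ gaProj Y = w' ≫ gaProj Y)
    (h₂ : w ≫ gaTu Y = w' ≫ gaTu Y) : w = w' := by
  apply Over.OverMorphism.ext
  apply ext_of_isAffine
  have : w.left.appTop.hom.comp (gaCoordHom Y) = w'.left.appTop.hom.comp (gaCoordHom Y) := by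
    refine Polynomial.ringHom_ext (fun a => ?_) ?_
    · simp only [RingHom.comp_apply, ← gaProj_appTop]
      exact congrArg (fun k => k.left.appTop a) h₁
    · have e := congrArg (fun k => Red.gaFn k) h₂
      simp only [gaFn_comp, gaFn_gaTu] at e
      exact e
  refine CommRingCat.hom_ext (RingHom.ext fun x => ?_)
  obtain ⟨c, rfl⟩ := (gaCoordHom_bijective Y).2 x
  exact congr($this c)

theorem exists_gaLift (z : Z ⟶ Y) (x : Z ⟶ Red.Ga S) :
    ∃ w : Z ⟶ polyGa Y, w ≫ gaProj Y = z ∧ w ≫ gaTu Y = x ∧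
      ∀ c, w.left.appTop (gaCoordHom Y c) = evalGa z x c := by
  let l : Z.left ⟶ (polyGa Y).left :=
    Z.left.toSpecΓ ≫ Spec.map (CommRingCat.ofHom (evalGa z x))
  have hl : ∀ c, l.appTop (gaCoordHom Y c) = evalGa z x c := by
    intro c
    show (Z.left.toSpecΓ ≫ Spec.map (CommRingCat.ofHom (evalGa z x))).appTop (gaCoordHom Y c) = _
    have e : (Scheme.ΓSpecIso (CommRingCat.of (Gam Y)[X])).inv ≫
        (Z.left.toSpecΓ ≫ Spec.map (CommRingCat.ofHom (evalGa z x))).appTop =
          CommRingCat.ofHom (evalGa z x) := by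
      rw [Scheme.Hom.comp_appTop, ← Scheme.ΓSpecIso_inv_naturality_assoc, Scheme.toSpecΓ_appTop,
        Iso.inv_hom_id]
      exact Category.comp_id _
    exact congr($e c)
  have hz : l ≫ (gaProj Y).left = z.left := by
    apply ext_of_isAffine
    refine CommRingCat.hom_ext (RingHom.ext fun a => ?_)
    show l.appTop ((gaProj Y).left.appTop a) = _
    rw [gaProj_appTop, hl]
    exact evalGa_C z x a
  refine ⟨Over.homMk l ?_, ?_, ?_, hl⟩
  · show l ≫ (gaProj Y).left ≫ Y.hom = Z.hom
    rw [← Category.assoc, hz]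
    exact Over.w z
  · exact Over.OverMorphism.ext hz
  · apply gaFn_injective
    rw [gaFn_comp, gaFn_gaTu]
    exact (hl _).trans (evalGa_X z x)

/-- The object `polyGa Y` is the product of `Y` and the additive group. -/
noncomputable def gaIso (Y : Over S) [IsAffine Y.left] : polyGa Y ≅ Y ⊗ Red.Ga S where
  hom := lift (gaProj Y) (gaTu Y)
  inv := (exists_gaLift (fst Y (Red.Ga S)) (snd _ _)).choose
  hom_inv_id := by
    obtain ⟨h₁, h₂, -⟩ := (exists_gaLift (fst Y (Red.Ga S)) (snd _ _)).choose_spec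
    refine polyGa_hom_ext ?_ ?_
    · rw [Category.assoc, h₁, lift_fst, Category.id_comp]
    · rw [Category.assoc, h₂, lift_snd, Category.id_comp]
  inv_hom_id := by
    obtain ⟨h₁, h₂, -⟩ := (exists_gaLift (fst Y (Red.Ga S)) (snd _ _)).choose_spec
    ext1
    · rw [Category.assoc, lift_fst, h₁, Category.id_comp]
    · rw [Category.assoc, lift_snd, h₂, Category.id_comp]

/-- An endomorphism of the additive group is given over an affine object by a polynomial. -/
theorem exists_poly (Y : Over S) [IsAffine Y.left] (ψ : Red.Ga S ⟶ Red.Ga S) :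
    ∃ p : (Gam Y)[X], ∀ (Z : Over S) (z : Z ⟶ Y) (x : Z ⟶ Red.Ga S),
      Red.gaFn (x ≫ ψ) = evalGa z x p := by
  obtain ⟨p, hp⟩ := (gaCoordHom_bijective Y).2 (Red.gaFn (gaTu Y ≫ ψ))
  refine ⟨p, fun Z z x => ?_⟩
  obtain ⟨w, -, hw₂, hw₃⟩ := exists_gaLift z x
  rw [← hw₃, hp, ← hw₂, Category.assoc, gaFn_comp w]

end Groth.Agent.RedPts82
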