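import Mathlib.AlgebraicGeometry.AlgClosed.Basic
import Mathlib.AlgebraicGeometry.Noetherian
import Mathlib.CategoryTheory.Monoidal.Cartesian.Over
import Mathlib.CategoryTheory.Monoidal.Cartesian.Grp

/-!
A connected group scheme of finite type over an algebraically closed field is irreducible.
-/

universe u

open CategoryTheory MonoidalCategory CartesianMonoidalCategory MonObj GrpObj AlgebraicGeometry
open CategoryTheory.Limits TopologicalSpace

namespace Groth.Agent.RedPts82

theorem irreducibleSpace_of_connected_grp {K : Type u} [Field K] [IsAlgClosed K]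
    (G : Over (Spec (CommRingCat.of K))) [GrpObj G] [LocallyOfFiniteType G.hom] [CompactSpace G.left]
    [hconn : ConnectedSpace G.left] : IrreducibleSpace G.left := by
  have : IsLocallyNoetherian G.left := LocallyOfFiniteType.isLocallyNoetherian G.hom
  have : IsNoetherian G.left := {}
  have : JacobsonSpace G.left := LocallyOfFiniteType.jacobsonSpace G.hom
  have hfin : (irreducibleComponents G.left).Finite := NoetherianSpace.finite_irreducibleComponents
  -- rational points over closed points
  let pt : ∀ x : G.left, IsClosed ({x} : Set G.left) → (𝟙_ (Over (Spec (CommRingCat.of K))) ⟶ G) :=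
    fun x hx => Over.homMk (pointOfClosedPoint G.hom x hx) (pointOfClosedPoint_comp G.hom x hx)
  -- translations
  let L : (𝟙_ (Over (Spec (CommRingCat.of K))) ⟶ G) → (G ⟶ G) :=
    fun g => (toUnit G ≫ g) * 𝟙 G
  have hL : ∀ g h, g ≫ L h = h * g := fun g h => by
    show g ≫ (_ * _) = _
    rw [MonObj.comp_mul, ← Category.assoc, Category.comp_id,
      toUnit_unique (g ≫ toUnit G) (𝟙 _), Category.id_comp]
  have hLL : ∀ g h, L g ≫ L h = L (h * g) := fun g h => by
    show L g ≫ (_ * _) = _
    rw [MonObj.comp_mul, ← Category.assoc, toUnit_unique (L g ≫ toUnit G) (toUnit G),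
      Category.comp_id]
    show (toUnit G ≫ h) * ((toUnit G ≫ g) * 𝟙 G) = (toUnit G ≫ (h * g)) * 𝟙 G
    rw [MonObj.comp_mul, _root_.mul_assoc]
  have hL1 : L 1 = 𝟙 G := by
    show (toUnit G ≫ 1) * 𝟙 G = 𝟙 G
    rw [MonObj.comp_one, _root_.one_mul]
  let Liso : (𝟙_ (Over (Spec (CommRingCat.of K))) ⟶ G) → (G ≅ G) := fun g =>
    ⟨L g, L g⁻¹, by rw [hLL, inv_mul_cancel, hL1], by rw [hLL, mul_inv_cancel, hL1]⟩
  let φ : (𝟙_ (Over (Spec (CommRingCat.of K))) ⟶ G) → (G.left ≃ₜ G.left) := fun g =>
    Scheme.homeoOfIso ((Over.forget _).mapIso (Liso g))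
  -- one closed point lying on a single component
  obtain ⟨Z, hZ⟩ : (irreducibleComponents G.left).Nonempty :=
    ⟨_, irreducibleComponent_mem_irreducibleComponents (Classical.arbitrary G.left)⟩
  have hU : (⋃ W ∈ irreducibleComponents G.left \ {Z}, W)ᶜ.Nonempty := by
    by_contra hne
    rw [Set.not_nonempty_iff_eq_empty, Set.compl_empty_iff] at hne
    obtain ⟨z, hz⟩ := hZ.1.1
    have hsub : Z ⊆ ⋃₀ (irreducibleComponents G.left \ {Z}) := by
      rw [Set.sUnion_eq_biUnion, hne]
      exact Set.subset_univ _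
    obtain ⟨W, hW, hZW⟩ := isIrreducible_iff_sUnion_isClosed.mp hZ.1
      (hfin.sdiff).toFinset (fun W hW => isClosed_of_mem_irreducibleComponents W
        (((hfin.sdiff).mem_toFinset).mp hW).1) (by rwa [Set.Finite.coe_toFinset])
    have hW' := ((hfin.sdiff).mem_toFinset).mp hW
    exact hW'.2 ((hZ.eq_of_le hW'.1.1 hZW).symm)
  have hopen : IsOpen (⋃ W ∈ irreducibleComponents G.left \ {Z}, W)ᶜ :=
    ((hfin.sdiff).isClosed_biUnion fun W hW => isClosed_of_mem_irreducibleComponents W hW.1).isOpen_compl
  obtain ⟨x₀, hx₀U, hx₀⟩ := nonempty_inter_closedPoints hU hopen.isLocallyClosed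
  have huniq : ∀ W ∈ irreducibleComponents G.left, x₀ ∈ W → W = Z := fun W hW hxW => by
    by_contra hWZ
    exact hx₀U (Set.mem_biUnion (x := W) ⟨hW, hWZ⟩ hxW)
  -- every closed point lies on a single component
  have hall : ∀ x, x ∈ closedPoints G.left → ∀ W ∈ irreducibleComponents G.left, x ∈ W →
      ∀ W' ∈ irreducibleComponents G.left, x ∈ W' → W = W' := by
    intro x hx W hW hxW W' hW' hxW'
    let g := pt x₀ hx₀ * (pt x hx)⁻¹
    have hgx : φ g x = x₀ := by
      have h1 : pt x hx ≫ L g = pt x₀ hx₀ := by rw [hL, inv_mul_cancel_right]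
      have h2 := congrArg (fun k => k.left (IsLocalRing.closedPoint K)) h1
      have ex : (pt x hx).left (IsLocalRing.closedPoint K) = x := pointOfClosedPoint_apply _ _ _ _
      have e0 : (pt x₀ hx₀).left (IsLocalRing.closedPoint K) = x₀ := pointOfClosedPoint_apply _ _ _ _
      exact (congrArg (L g).left ex).symm.trans (h2.trans e0)
    have himg : ∀ V ∈ irreducibleComponents G.left, φ g '' V ∈ irreducibleComponents G.left := by
      intro V hV
      refine ⟨hV.1.image _ (φ g).continuous.continuousOn, fun T hT hsub => ?_⟩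
      have h1 : IsIrreducible ((φ g).symm '' T) := hT.image _ (φ g).symm.continuous.continuousOn
      have h2 := hV.2 h1 fun v hv => ⟨φ g v, hsub ⟨v, hv, rfl⟩, (φ g).symm_apply_apply v⟩
      intro t ht
      exact ⟨(φ g).symm t, h2 ⟨t, ht, rfl⟩, (φ g).apply_symm_apply t⟩
    have e1 := huniq _ (himg W hW) ⟨x, hxW, hgx⟩
    have e2 := huniq _ (himg W' hW') ⟨x, hxW', hgx⟩
    exact Set.image_injective.mpr (φ g).injective (e1.trans e2.symm)
  -- components are disjoint
  have hdisj : ∀ W ∈ irreducibleComponents G.left, ∀ W' ∈ irreducibleComponents G.left,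
      (W ∩ W').Nonempty → W = W' := by
    intro W hW W' hW' hne
    obtain ⟨x, hx, hxc⟩ := nonempty_inter_closedPoints hne
      ((isClosed_of_mem_irreducibleComponents W hW).inter
        (isClosed_of_mem_irreducibleComponents W' hW')).isLocallyClosed
    exact hall x hxc W hW hx.1 W' hW' hx.2
  have hclopen : IsClopen Z := by
    refine ⟨isClosed_of_mem_irreducibleComponents Z hZ, ?_⟩
    have : Z = (⋃ W ∈ irreducibleComponents G.left \ {Z}, W)ᶜ := by
      refine Set.Subset.antisymm (fun z hz => ?_) fun z hz => ?_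
      · simp only [Set.mem_compl_iff, Set.mem_iUnion, not_exists]
        rintro W ⟨hW, hWZ⟩ hzW
        exact hWZ (hdisj W hW Z hZ ⟨z, hzW, hz⟩)
      · by_contra hzZ
        refine hz (Set.mem_biUnion (x := irreducibleComponent z)
          ⟨irreducibleComponent_mem_irreducibleComponents z, fun h => hzZ ?_⟩ mem_irreducibleComponent)
        exact (Set.mem_singleton_iff.mp h) ▸ mem_irreducibleComponent
    rw [this]
    exact hopen
  have huniv : Z = Set.univ := (isClopen_iff.mp hclopen).resolve_left hZ.1.nonempty.ne_empty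
  have hirr := hZ.1
  rw [huniv] at hirr
  exact (irreducibleSpace_def _).mpr hirr

end Groth.Agent.RedPts82
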