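import Groth.Agent.RedPts82.BigCell
import Groth.Agent.RedPts82.GrpIrred
import Groth.Agent.Grp57.Shear
import Mathlib.AlgebraicGeometry.Morphisms.Smooth
import Mathlib.AlgebraicGeometry.Morphisms.UniversallyOpen

/-!
An open subobject of a reductive group containing the unit section generates it: quotients of two
of its points exhaust the group after a smooth surjective extension.
-/

universe u

open CategoryTheory MonoidalCategory CartesianMonoidalCategory MonObj GrpObj AlgebraicGeometry
open CategoryTheory.Limits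

namespace Groth.Agent.RedPts82

variable {S : Scheme.{u}} {G A : Over S} [GrpObj G]

theorem openImmersion_whiskerLeft (W : Over S) {B C : Over S} (f : B ⟶ C) [IsOpenImmersion f.left] :
    IsOpenImmersion (W ◁ f).left := by
  rw [Over.whiskerLeft_left]
  exact MorphismProperty.pullbackMap (P := @IsOpenImmersion) (f := W.hom) (g := B.hom)
    (i₁ := 𝟙 W.left) (i₂ := f.left) inferInstance inferInstance (Category.id_comp _).symm (Over.w f).symm

/-- The quotient map on pairs of points of an open subobject. -/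
noncomputable def divMap (j : A ⟶ G) : A ⊗ A ⟶ G :=
  (A ◁ (j ≫ ι[G])) ≫ (j ▷ G ≫ μ[G])

theorem divMap_pt (j : A ⟶ G) {X : Over S} (a b : X ⟶ A) :
    lift a b ≫ divMap j = (a ≫ j) * (b ≫ j)⁻¹ := by
  rw [divMap, Hom.mul_def, Hom.inv_def]
  simp

theorem smooth_divMap (hG : Smooth G.hom) (j : A ⟶ G) [IsOpenImmersion j.left] :
    Smooth (divMap j).left := by
  have : Smooth A.hom := by rw [← Over.w j]; infer_instance
  have h1 : Smooth (j ▷ G ≫ μ[G]).left := Groth.Agent.Grp57.translate_prop @Smooth j this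
  have : IsIso ι[G].left :=
    ((Over.forget S).mapIso ⟨ι[G], ι[G], by simp, by simp⟩).isIso_hom
  have : IsOpenImmersion (j ≫ ι[G]).left := by rw [Over.comp_left]; infer_instance
  have := openImmersion_whiskerLeft A (j ≫ ι[G])
  rw [divMap, Over.comp_left]
  infer_instance

theorem surjective_divMap (hG : Red.IsReductive G) (j : A ⟶ G) [IsOpenImmersion j.left]
    (h1 : ∀ X : Over S, Set.range (1 : X ⟶ G).left.base ⊆ Set.range j.left.base) :
    Surjective (divMap j).left := by
  have := smooth_divMap hG.2.1 j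
  have hO : IsOpen (Set.range (divMap j).left.base) := (divMap j).left.isOpenMap.isOpen_range
  refine ⟨fun p => ?_⟩
  let s : S := G.hom p
  let K := AlgebraicClosure (S.residueField s)
  let G₀ := Red.geomFibre s G
  obtain ⟨haff, hsm, hconn, -⟩ := hG.2.2 s
  have : Smooth G₀.hom := hsm
  have : IsAffine G₀.left := haff
  have : ConnectedSpace G₀.left := hconn
  have : IrreducibleSpace G₀.left := irreducibleSpace_of_connected_grp G₀
  have : JacobsonSpace G₀.left := LocallyOfFiniteType.jacobsonSpace G₀.hom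
  let pr : G₀.left ⟶ G.left := pullback.fst G.hom (Red.geomPt s)
  have hprw : pr ≫ G.hom = G₀.hom ≫ Red.geomPt s := pullback.condition
  let q : Spec (CommRingCat.of K) := IsLocalRing.closedPoint K
  let W₀ : Over S := Over.mk (Red.geomPt s)
  -- rational points of the fibre
  have hrat : ∀ x : G₀.left, IsClosed ({x} : Set G₀.left) → ∃ g : W₀ ⟶ G, g.left q = pr x ∧
      ∃ g' : W₀ ⟶ Over.mk (pr ≫ G.hom), g'.left q = x ∧ g'.left ≫ G₀.hom = 𝟙 _ ∧
        g' ≫ Over.homMk pr rfl = g := by
    intro x hx
    let l := pointOfClosedPoint G₀.hom x hx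
    have hl : l ≫ pr ≫ G.hom = Red.geomPt s := by
      rw [hprw, pointOfClosedPoint_comp_assoc]
    refine ⟨Over.homMk (l ≫ pr) (by rw [Category.assoc]; exact hl), ?_,
      Over.homMk l hl, pointOfClosedPoint_apply _ _ _ _, pointOfClosedPoint_comp _ _ _,
      Over.OverMorphism.ext rfl⟩
    show pr (l q) = pr x
    rw [show l q = x from pointOfClosedPoint_apply _ _ _ _]
  -- every closed point of the fibre is a quotient
  have hclosed : ∀ x : G₀.left, IsClosed ({x} : Set G₀.left) →
      pr x ∈ Set.range (divMap j).left.base := by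
    intro x hx
    obtain ⟨g, hg, -⟩ := hrat x hx
    let V : Over S := Over.mk (pr ≫ G.hom)
    let π : V ⟶ W₀ := Over.homMk G₀.hom hprw.symm
    let L : V ⟶ G := (π ≫ g) * Over.homMk pr rfl
    -- a rational point over the inverse of g
    let g₂ : W₀ ⟶ V := Over.homMk (pullback.lift (g⁻¹).left (𝟙 _) (by
        rw [Category.id_comp]; exact Over.w g⁻¹)) (by
      show _ ≫ pr ≫ G.hom = Red.geomPt s
      rw [pullback.lift_fst_assoc]
      exact Over.w g⁻¹)
    have hg₂ : g₂ ≫ Over.homMk pr rfl = g⁻¹ := Over.OverMorphism.ext (pullback.lift_fst _ _ _)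
    have hg₂π : g₂ ≫ π = 𝟙 W₀ := Over.OverMorphism.ext (pullback.lift_snd _ _ _)
    have hg₂L : g₂ ≫ L = 1 := by
      show g₂ ≫ (_ * _) = _
      rw [MonObj.comp_mul, ← Category.assoc, hg₂π, Category.id_comp, hg₂, mul_inv_cancel]
    let e : W₀ ⟶ V := Over.homMk (pullback.lift (1 : W₀ ⟶ G).left (𝟙 _) (by
        rw [Category.id_comp]; exact Over.w (1 : W₀ ⟶ G))) (by
      show _ ≫ pr ≫ G.hom = Red.geomPt s
      rw [pullback.lift_fst_assoc]
      exact Over.w (1 : W₀ ⟶ G))
    let U₁ : Set G₀.left := pr.base ⁻¹' Set.range j.left.base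
    let U₂ : Set G₀.left := L.left.base ⁻¹' Set.range j.left.base
    have hU₁ : IsOpen U₁ := j.left.isOpenEmbedding.isOpen_range.preimage pr.continuous
    have hU₂ : IsOpen U₂ := j.left.isOpenEmbedding.isOpen_range.preimage L.left.continuous
    have he₁ : U₁.Nonempty := by
      refine ⟨e.left q, h1 W₀ ⟨q, ?_⟩⟩
      exact congrArg (fun (k : Spec (CommRingCat.of K) ⟶ G.left) => k q)
        (pullback.lift_fst (f := G.hom) (g := Red.geomPt s) (1 : W₀ ⟶ G).left (𝟙 _)
          (by rw [Category.id_comp]; exact Over.w (1 : W₀ ⟶ G))).symm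
    have he₂ : U₂.Nonempty := by
      refine ⟨g₂.left q, h1 W₀ ⟨q, ?_⟩⟩
      exact congrArg (fun k => k.left q) hg₂L.symm
    obtain ⟨y, hy⟩ := nonempty_preirreducible_inter hU₁ hU₂ he₁ he₂
    obtain ⟨z, hz, hzc⟩ := nonempty_inter_closedPoints ⟨y, hy⟩ (hU₁.inter hU₂).isLocallyClosed
    obtain ⟨h, hh, h', hh'z, hh'w, hh'pr⟩ := hrat z hzc
    have hhπ : h' ≫ π = 𝟙 W₀ := by
      apply Over.OverMorphism.ext
      show h'.left ≫ G₀.hom = 𝟙 _
      exact hh'w
    have hgh : h' ≫ L = g * h := by
      show h' ≫ (_ * _) = _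
      rw [MonObj.comp_mul, ← Category.assoc, hhπ, Category.id_comp, hh'pr]
    have hin : ∀ (k : W₀ ⟶ G), k.left q ∈ Set.range j.left.base → ∃ a : W₀ ⟶ A, a ≫ j = k := by
      intro k hk
      have hk' : Set.range k.left.base ⊆ Set.range j.left.base := by
        rintro _ ⟨q', rfl⟩
        rwa [show q' = q from Subsingleton.elim (α := Spec (CommRingCat.of K)) _ _]
      refine ⟨Over.homMk (IsOpenImmersion.lift j.left k.left hk') (by
        rw [← Over.w j, ← Category.assoc, IsOpenImmersion.lift_fac]; exact Over.w k),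
        Over.OverMorphism.ext (IsOpenImmersion.lift_fac _ _ _)⟩
    obtain ⟨a, ha⟩ := hin (g * h) (by rw [← hgh]; show L.left (h'.left q) ∈ _; rw [hh'z]; exact hz.2)
    obtain ⟨b, hb⟩ := hin h (by rw [hh]; exact hz.1)
    refine ⟨(lift a b).left q, ?_⟩
    rw [← hg]
    show ((lift a b) ≫ divMap j).left q = g.left q
    rw [divMap_pt, ha, hb, mul_inv_cancel_right]
  -- hence every point of the fibre
  obtain ⟨x, hx⟩ : ∃ x : G₀.left, pr x = p := by
    obtain ⟨x, hx, -⟩ := Scheme.Pullback.exists_preimage_pullback (f := G.hom) (g := Red.geomPt s)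
      p q (by rw [Scheme.Hom.comp_apply, Scheme.fromSpecResidueField_apply])
    exact ⟨x, hx⟩
  by_contra hne
  let Z : Set G₀.left := (pr.base ⁻¹' Set.range (divMap j).left.base)ᶜ
  have hZ : IsClosed Z := (hO.preimage pr.continuous).isClosed_compl
  obtain ⟨z, hzZ, hzc⟩ := nonempty_inter_closedPoints (Z := Z) ⟨x, fun h => hne (hx ▸ h)⟩
    hZ.isLocallyClosed
  exact hzZ (hclosed z hzc)

/-- Every point is, after a flat surjective extension, a quotient of two points of the open
subobject. -/
theorem exists_div (hG : Red.IsReductive G) (j : A ⟶ G) [IsOpenImmersion j.left]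
    (h1 : ∀ X : Over S, Set.range (1 : X ⟶ G).left.base ⊆ Set.range j.left.base)
    {X : Over S} (g : X ⟶ G) :
    ∃ (X' : Over S) (k : X' ⟶ X) (a b : X' ⟶ A), Flat k.left ∧ Surjective k.left ∧
      k ≫ g = (a ≫ j) * (b ≫ j)⁻¹ := by
  have := smooth_divMap hG.2.1 j
  have hs := surjective_divMap hG j h1
  let X' : Over S := Over.mk (pullback.fst g.left (divMap j).left ≫ X.hom)
  let c : X' ⟶ A ⊗ A := Over.homMk (pullback.snd g.left (divMap j).left) (by
    show _ = pullback.fst g.left (divMap j).left ≫ X.hom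
    rw [← Over.w g, ← Over.w (divMap j), pullback.condition_assoc])
  refine ⟨X', Over.homMk (pullback.fst g.left (divMap j).left) rfl, c ≫ fst _ _, c ≫ snd _ _,
    MorphismProperty.pullback_fst (P := @Flat) _ _ inferInstance,
    MorphismProperty.pullback_fst (P := @Surjective) _ _ hs, ?_⟩
  rw [← divMap_pt, show lift (c ≫ fst A A) (c ≫ snd A A) = c by ext <;> simp]
  exact Over.OverMorphism.ext pullback.condition

theorem epi_of_flat_surjective {X Y : Over S} (k : Y ⟶ X) (hf : Flat k.left) (hs : Surjective k.left) :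
    Epi k := by
  have : Epi k.left := Flat.epi_of_flat_of_surjective _
  exact (Over.forget S).epi_of_epi_map (f := k) this

/-- Two homomorphisms which agree on the open subobject are equal. -/
theorem hom_ext_of_open (hG : Red.IsReductive G) (j : A ⟶ G) [IsOpenImmersion j.left]
    (h1 : ∀ X : Over S, Set.range (1 : X ⟶ G).left.base ⊆ Set.range j.left.base)
    {H : Over S} [GrpObj H] (f f' : G ⟶ H) [IsMonHom f] [IsMonHom f'] (h : j ≫ f = j ≫ f') :
    f = f' := by
  obtain ⟨X', k, a, b, hf, hs, e⟩ := exists_div hG j h1 (𝟙 G)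
  have := epi_of_flat_surjective k hf hs
  rw [← cancel_epi k, ← Category.comp_id k, e, MonObj.mul_comp _ _ f, MonObj.mul_comp _ _ f',
    GrpObj.inv_comp, GrpObj.inv_comp, Category.assoc, Category.assoc, Category.assoc,
    Category.assoc, h]

end Groth.Agent.RedPts82
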