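import Groth.Agent.RedPts82.ChevLin
import Groth.Agent.RedPts82.CommTools
import Groth.Agent.RedPts82.CellGen

/-!
Dual root homomorphisms and the conjugation by a coroot.
-/

universe u

open CategoryTheory MonoidalCategory CartesianMonoidalCategory MonObj GrpObj AlgebraicGeometry
open CategoryTheory.Limits

namespace Groth.Agent.RedPts82

variable {S : Scheme.{u}} {G : Over S} [GrpObj G] (D : Red.SplitRed G)

/-- A point of the coroot of `a`. -/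
noncomputable def hpt (a : D.idx) {X : Over S} (z : Γ(X.left, ⊤)ˣ) : X ⟶ G :=
  gmPt z ≫ (Red.DSmap S (D.P.coroot a).toAddMonoidHom ≫ D.split.inv.hom.hom) ≫ D.i

theorem dsFn_int {X : Over S} (z : X ⟶ Red.Gm S) (k : ℤ) :
    dsFn z k = ((gmU z ^ k : Γ(X.left, ⊤)ˣ) : Γ(X.left, ⊤)) := by
  induction k using Int.induction_on with
  | zero => simp [dsFn_zero]
  | succ n ih => rw [dsFn_add, ih, ← gmFn_eq, ← val_gmU, ← Units.val_mul, zpow_add_one]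
  | pred n ih =>
    have h : dsFn z (-(n : ℤ) - 1) * Red.gmFn z =
        ((gmU z ^ (-(n : ℤ) - 1) : Γ(X.left, ⊤)ˣ) : Γ(X.left, ⊤)) * Red.gmFn z := by
      rw [gmFn_eq, ← dsFn_add, sub_add_cancel, ih, ← gmFn_eq, ← val_gmU, ← Units.val_mul,
        ← zpow_add_one, sub_add_cancel]
    exact (gmFn_isUnit z).mul_right_cancel h

theorem pairing_eq_coroot (a b : D.idx) : D.P.coroot a (D.P.root b) = D.P.pairing b a := by
  have := congrArg (fun f => f (D.P.root b) (D.P.coroot a)) D.pairing_eq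
  simpa using this.symm

/-- The coroot of `a` acts on the root group of `b` through the pairing. -/
theorem hpt_conj (a b : D.idx) {X : Over S} (z : Γ(X.left, ⊤)ˣ) (r : Γ(X.left, ⊤)) :
    hpt D a z * (gaPt r ≫ D.u b) * (hpt D a z)⁻¹ =
      gaPt (((z ^ D.P.pairing b a : Γ(X.left, ⊤)ˣ) : Γ(X.left, ⊤)) * r) ≫ D.u b := by
  have h := splitRed_conj D b (gmPt z ≫ Red.DSmap S (D.P.coroot a).toAddMonoidHom) (gaPt r)
  simp only [Category.assoc] at h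
  simp only [hpt, Category.assoc]
  rw [h, gaFn_gaPt, dsFn_DSmap, LinearMap.toAddMonoidHom_coe, pairing_eq_coroot, dsFn_int,
    show gmU (gmPt z) = z from Units.ext (gmFn_gmPt z)]

theorem cochar_pt_mul (l : D.M →+ ℤ) {X : Over S} (z z' : X ⟶ Red.Gm S) :
    (z * z') ≫ cochar D l = (z ≫ cochar D l) * (z' ≫ cochar D l) := by
  have := D.maximalTorus.1
  have : IsMonHom D.split.inv.hom.hom := D.split.inv.hom.isMonHom_hom
  have : IsMonHom (cochar D l) := by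
    unfold cochar
    infer_instance
  rw [MonObj.mul_comp]

theorem hpt_mul (a : D.idx) {X : Over S} (z z' : Γ(X.left, ⊤)ˣ) :
    hpt D a (z * z') = hpt D a z * hpt D a z' := by
  have h := cochar_pt_mul D (D.P.coroot a).toAddMonoidHom (gmPt z) (gmPt z')
  rw [(show gmPt (z * z') = gmPt z * gmPt z' from
    gmFn_injective (by rw [gmFn_mul, gmFn_gmPt, gmFn_gmPt, gmFn_gmPt, Units.val_mul])).symm] at h
  simpa only [hpt, cochar, Category.assoc] using h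

theorem hpt_inv (a : D.idx) {X : Over S} (z : Γ(X.left, ⊤)ˣ) : hpt D a z⁻¹ = (hpt D a z)⁻¹ := by
  refine eq_inv_of_mul_eq_one_left ?_
  rw [← hpt_mul, inv_mul_cancel]
  have h := hpt_mul D a (1 : Γ(X.left, ⊤)ˣ) 1
  rw [_root_.one_mul] at h
  exact left_eq_mul.mp h

/-- `vd` is dual to the root homomorphism of `a`. -/
def IsDual (a : D.idx) (vd : Red.Ga S ⟶ G) : Prop :=
  IsMonHom vd ∧ ∀ (X : Over S) (x y : X ⟶ Red.Ga S), IsUnit (1 + Red.gaFn x * Red.gaFn y) →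
    ∃ (x' y' : X ⟶ Red.Ga S) (z : X ⟶ Red.Gm S), Red.gmFn z = 1 + Red.gaFn x * Red.gaFn y ∧
      Red.gaFn x' * Red.gmFn z = Red.gaFn x ∧ Red.gaFn y' * Red.gmFn z = Red.gaFn y ∧
      (x ≫ D.u a) * (y ≫ vd) = (y' ≫ vd) *
        (z ≫ (Red.DSmap S (D.P.coroot a).toAddMonoidHom ≫ D.split.inv.hom.hom) ≫ D.i) * (x' ≫ D.u a)

theorem IsDual.rel {a : D.idx} {vd : Red.Ga S ⟶ G} (H : IsDual D a vd) {X : Over S}
    (x y : Γ(X.left, ⊤)) (z : Γ(X.left, ⊤)ˣ) (hz : (z : Γ(X.left, ⊤)) = 1 + x * y) :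
    (gaPt x ≫ D.u a) * (gaPt y ≫ vd) = (gaPt (y * ((z⁻¹ : Γ(X.left, ⊤)ˣ) : Γ(X.left, ⊤))) ≫ vd) * hpt D a z *
      (gaPt (x * ((z⁻¹ : Γ(X.left, ⊤)ˣ) : Γ(X.left, ⊤))) ≫ D.u a) := by
  obtain ⟨x', y', z', h1, h2, h3, h4⟩ := H.2 X (gaPt x) (gaPt y) (by
    rw [gaFn_gaPt, gaFn_gaPt, ← hz]; exact z.isUnit)
  rw [gaFn_gaPt, gaFn_gaPt, ← hz] at h1
  rw [gaFn_gaPt, h1] at h2 h3
  rw [h4, hpt, show z' = gmPt z from gmFn_injective (by rw [gmFn_gmPt]; exact h1),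
    show x' = gaPt (x * ((z⁻¹ : Γ(X.left, ⊤)ˣ) : Γ(X.left, ⊤))) from gaFn_injective (by
      rw [gaFn_gaPt, ← h2, _root_.mul_assoc, Units.mul_inv, _root_.mul_one]),
    show y' = gaPt (y * ((z⁻¹ : Γ(X.left, ⊤)ˣ) : Γ(X.left, ⊤))) from gaFn_injective (by
      rw [gaFn_gaPt, ← h3, _root_.mul_assoc, Units.mul_inv, _root_.mul_one])]

theorem IsDual.gaPt_add {a : D.idx} {vd : Red.Ga S ⟶ G} (H : IsDual D a vd) {X : Over S}
    (r s : Γ(X.left, ⊤)) : gaPt (r + s) ≫ vd = (gaPt r ≫ vd) * (gaPt s ≫ vd) := by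
  have := H.1
  rw [RedPts82.gaPt_add, MonObj.mul_comp]

theorem IsDual.gaPt_neg {a : D.idx} {vd : Red.Ga S ⟶ G} (H : IsDual D a vd) {X : Over S}
    (r : Γ(X.left, ⊤)) : gaPt (-r) ≫ vd = (gaPt r ≫ vd)⁻¹ := by
  refine eq_inv_of_mul_eq_one_left ?_
  have := H.1
  rw [← H.gaPt_add, neg_add_cancel, gaPt_zero, MonObj.one_comp]

theorem rootHom_gaPt_neg (c : D.idx) {X : Over S} (r : Γ(X.left, ⊤)) :
    gaPt (-r) ≫ D.u c = (gaPt r ≫ D.u c)⁻¹ := by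
  refine eq_inv_of_mul_eq_one_left ?_
  rw [← rootHom_gaPt_add, neg_add_cancel, rootHom_gaPt_zero]

/-- The element `u(1) vd(1)⁻¹ u(1)`. -/
noncomputable def npt (a : D.idx) (vd : Red.Ga S ⟶ G) (X : Over S) : X ⟶ G :=
  (gaPt 1 ≫ D.u a) * (gaPt 1 ≫ vd)⁻¹ * (gaPt 1 ≫ D.u a)

/-- Conjugation by the element of a dual pair sends the root group to the dual, on an open piece. -/
theorem IsDual.npt_conj_self {a : D.idx} {vd : Red.Ga S ⟶ G} (H : IsDual D a vd) {X : Over S}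
    (x : Γ(X.left, ⊤)) (hx : IsUnit (1 + x)) :
    npt D a vd X * (gaPt x ≫ D.u a) * (npt D a vd X)⁻¹ = gaPt (-x) ≫ vd := by
  obtain ⟨z, hz⟩ := hx
  have r1 := H.rel D x 1 z (by rw [_root_.mul_one]; exact hz)
  have hzi : (z : Γ(X.left, ⊤)) * ((z⁻¹ : Γ(X.left, ⊤)ˣ) : Γ(X.left, ⊤)) = 1 := Units.mul_inv _
  have r2 := H.rel D 1 (-(x * ((z⁻¹ : Γ(X.left, ⊤)ˣ) : Γ(X.left, ⊤)))) z⁻¹ (by linear_combination hzi - ((z⁻¹ : Γ(X.left, ⊤)ˣ) : Γ(X.left, ⊤)) * hz)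
  rw [_root_.inv_inv, _root_.one_mul, hpt_inv] at r2
  rw [_root_.one_mul] at r1
  have c := hpt_conj D a a z ((z⁻¹ : Γ(X.left, ⊤)ˣ) : Γ(X.left, ⊤))
  rw [RootPairing.pairing_same,
    show ((z ^ (2 : ℤ) : Γ(X.left, ⊤)ˣ) : Γ(X.left, ⊤)) * ((z⁻¹ : Γ(X.left, ⊤)ˣ) : Γ(X.left, ⊤)) = (z : Γ(X.left, ⊤)) by
      rw [zpow_two, Units.val_mul, _root_.mul_assoc, hzi, _root_.mul_one]] at c
  rw [show -(x * ((z⁻¹ : Γ(X.left, ⊤)ˣ) : Γ(X.left, ⊤))) * (z : Γ(X.left, ⊤)) = -x by linear_combination (-x) * hzi] at r2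
  have e1 : (gaPt (-(x * ((z⁻¹ : Γ(X.left, ⊤)ˣ) : Γ(X.left, ⊤)))) : X ⟶ Red.Ga S) ≫ vd = (gaPt (1 : Γ(X.left, ⊤)) ≫ vd)⁻¹ * (gaPt ((z⁻¹ : Γ(X.left, ⊤)ˣ) : Γ(X.left, ⊤)) ≫ vd) := by
    rw [← H.gaPt_neg, ← H.gaPt_add]
    congr 2
    linear_combination ((z⁻¹ : Γ(X.left, ⊤)ˣ) : Γ(X.left, ⊤)) * hz - hzi
  have e2 : gaPt (x * ((z⁻¹ : Γ(X.left, ⊤)ˣ) : Γ(X.left, ⊤))) ≫ D.u a = (gaPt ((z⁻¹ : Γ(X.left, ⊤)ˣ) : Γ(X.left, ⊤)) ≫ D.u a)⁻¹ * (gaPt (1 : Γ(X.left, ⊤)) ≫ D.u a) := by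
    rw [← rootHom_gaPt_neg, ← rootHom_gaPt_add]
    congr 2
    linear_combination hzi - ((z⁻¹ : Γ(X.left, ⊤)ˣ) : Γ(X.left, ⊤)) * hz
  rw [e2] at r1
  rw [e1] at r2
  simp only [npt]
  have hcomm : (gaPt (1 : Γ(X.left, ⊤)) ≫ D.u a) * (gaPt x ≫ D.u a) =
      (gaPt x ≫ D.u a) * (gaPt 1 ≫ D.u a) := by
    rw [← rootHom_gaPt_add, ← rootHom_gaPt_add, add_comm]
  generalize gaPt (1 : Γ(X.left, ⊤)) ≫ D.u a = P1 at *
  generalize gaPt (1 : Γ(X.left, ⊤)) ≫ vd = M1 at *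
  generalize gaPt ((z⁻¹ : Γ(X.left, ⊤)ˣ) : Γ(X.left, ⊤)) ≫ D.u a = Pi at *
  generalize gaPt ((z⁻¹ : Γ(X.left, ⊤)ˣ) : Γ(X.left, ⊤)) ≫ vd = Mi at *
  generalize gaPt (-x) ≫ vd = Mx at *
  generalize gaPt x ≫ D.u a = Px at *
  generalize gaPt (z : Γ(X.left, ⊤)) ≫ D.u a = Pz at *
  generalize hpt D a z = h at *
  subst c
  calc P1 * M1⁻¹ * P1 * Px * (P1 * M1⁻¹ * P1)⁻¹
      = P1 * M1⁻¹ * (P1 * Px) * P1⁻¹ * M1 * P1⁻¹ := by group
    _ = P1 * M1⁻¹ * (Px * M1) * P1⁻¹ := by rw [hcomm]; group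
    _ = (P1 * (M1⁻¹ * Mi)) * h * Pi⁻¹ := by rw [r1]; group
    _ = Mx := by rw [r2]; group

/-- The opposite root. -/
abbrev negIdx (a : D.idx) : D.idx := D.P.reflectionPerm a a

/-- A dual which is carried onto the opposite root group up to sign is that root group up to sign. -/
theorem IsDual.eq_neg {a : D.idx} {vd : Red.Ga S ⟶ G} (H : IsDual D a vd) (s : ℤ)
    (hn : ∀ (X : Over S) (r : Γ(X.left, ⊤)),
      npt D a vd X * (gaPt r ≫ D.u a) * (npt D a vd X)⁻¹ = gaPt ((s : Γ(X.left, ⊤)) * r) ≫ D.u (negIdx D a))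
    {X : Over S} (r : Γ(X.left, ⊤)) :
    gaPt r ≫ vd = gaPt (((-s : ℤ) : Γ(X.left, ⊤)) * r) ≫ D.u (negIdx D a) := by
  have hsmall : ∀ (Z : Over S) (r : Γ(Z.left, ⊤)), IsUnit (1 - r) →
      gaPt r ≫ vd = gaPt (((-s : ℤ) : Γ(Z.left, ⊤)) * r) ≫ D.u (negIdx D a) := by
    intro Z r hr
    have h := H.npt_conj_self D (-r) (by rwa [← sub_eq_add_neg])
    rw [hn, neg_neg, mul_neg] at h
    rw [← h, Int.cast_neg, neg_mul]
  refine hom_ext_affine fun Y hY k => ?_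
  rw [← Category.assoc k (gaPt r), ← Category.assoc k (gaPt _), comp_gaPt, comp_gaPt, map_mul, map_intCast]
  generalize k.left.appTop r = r'
  obtain ⟨Z, c, b, -, hf, hs, hb⟩ := exists_avoid Y
    ((Polynomial.C (1 - r') - Polynomial.X) * (1 + Polynomial.X)) fun K _ _ W _ e y => by
    classical
    obtain ⟨b, hb⟩ := Infinite.exists_notMem_finset
      ({e.symm (1 - y.left.appTop r'), -1} : Finset K)
    simp only [Finset.mem_insert, Finset.mem_singleton, not_or] at hb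
    refine ⟨e b, ?_⟩
    simp only [Polynomial.eval₂_mul, Polynomial.eval₂_sub, Polynomial.eval₂_add, Polynomial.eval₂_C,
      Polynomial.eval₂_one, Polynomial.eval₂_X, map_sub, map_one]
    refine IsUnit.mul ?_ ?_
    · rw [← e.apply_symm_apply (1 - _ - _)]
      refine (Ne.isUnit fun h => hb.1 ?_).map e
      rw [map_sub, e.symm_apply_apply, sub_eq_zero] at h
      exact h.symm
    · rw [← map_one e, ← map_add]
      exact (Ne.isUnit fun h => hb.2 (eq_neg_of_add_eq_zero_right h)).map e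
  simp only [Polynomial.eval₂_mul, Polynomial.eval₂_sub, Polynomial.eval₂_add, Polynomial.eval₂_C,
    Polynomial.eval₂_one, Polynomial.eval₂_X, map_sub, map_one, IsUnit.mul_iff] at hb
  have := epi_of_flat_surjective c hf hs
  rw [← cancel_epi c, ← Category.assoc c (gaPt r'), ← Category.assoc c (gaPt _), comp_gaPt, comp_gaPt,
    map_mul, map_intCast]
  have h1 : IsUnit (1 - (c.left.appTop r' + b)) := by
    rw [← sub_sub]
    exact hb.1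
  have h2 : IsUnit (1 - (-b)) := by
    rw [sub_neg_eq_add]
    exact hb.2
  have hsplit : c.left.appTop r' = (c.left.appTop r' + b) + -b := (add_neg_cancel_right _ _).symm
  conv_lhs => rw [hsplit]
  conv_rhs => rw [hsplit]
  rw [H.gaPt_add, mul_add, rootHom_gaPt_add, hsmall Z _ h1, hsmall Z _ h2]

end Groth.Agent.RedPts82
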