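import Groth.Agent.RedPts82.RankOneHom
import Groth.Agent.FBase64.Geometric
import Mathlib.AlgebraicGeometry.Sites.Fpqc
import Mathlib.AlgebraicGeometry.Geometrically.Irreducible

/-!
A partially defined multiplicative morphism on an open subobject of a reductive group extends to a
homomorphism.
-/

universe u

open CategoryTheory MonoidalCategory CartesianMonoidalCategory MonObj GrpObj AlgebraicGeometry
open CategoryTheory.Limits

namespace Groth.Agent.RedPts82

variable {S : Scheme.{u}} {G A : Over S} [GrpObj G]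

/-- The fibres of a reductive group are geometrically irreducible. -/
theorem geometricallyIrreducible_of_reductive (hG : Red.IsReductive G) :
    GeometricallyIrreducible G.hom := by
  rw [GeometricallyIrreducible.iff_geometricallyIrreducible_fiber]
  intro s
  obtain ⟨haff, hsm, hconn, -⟩ := hG.2.2 s
  have : Smooth (Red.geomFibre s G).hom := hsm
  have : IsAffine (Red.geomFibre s G).left := haff
  have : ConnectedSpace (Red.geomFibre s G).left := hconn
  have : IrreducibleSpace (Red.geomFibre s G).left := irreducibleSpace_of_connected_grp _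
  let σ := algebraMap (S.residueField s) (AlgebraicClosure (S.residueField s))
  have : IrreducibleSpace ↥(pullback (G.hom.fiberToSpecResidueField s)
      (Spec.map (CommRingCat.ofHom σ))) := by
    exact (Scheme.Hom.homeomorph ((pullbackLeftPullbackSndIso G.hom (S.fromSpecResidueField s)
      (Spec.map (CommRingCat.ofHom σ))).hom)).irreducibleSpace_iff.mpr ‹_›
  exact @FBase64.geometricallyIrreducible_of_sepClosed _ _ _ (G.hom.fiberToSpecResidueField s) _ _ σ _ this

/-- After a flat surjective extension there is a point all of whose given translates lie in the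
open subobject. -/
theorem exists_translate (hG : Red.IsReductive G) (j : A ⟶ G) [IsOpenImmersion j.left]
    (h1 : ∀ X : Over S, Set.range (1 : X ⟶ G).left.base ⊆ Set.range j.left.base)
    {X : Over S} {n : ℕ} (z : Fin n → (X ⟶ G)) :
    ∃ (X' : Over S) (k : X' ⟶ X) (h : X' ⟶ G) (a : Fin n → (X' ⟶ A)), Flat k.left ∧
      Surjective k.left ∧ ∀ m, a m ≫ j = (k ≫ z m) * h := by
  classical
  have := geometricallyIrreducible_of_reductive hG
  have := hG.2.1
  let q : X ⊗ G ⟶ X := fst X G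
  let L : Fin n → (X ⊗ G ⟶ G) := fun m => (fst X G ≫ z m) * snd X G
  let U : Fin n → (X ⊗ G).left.Opens := fun m => (L m).left ⁻¹ᵁ j.left.opensRange
  let W : (X ⊗ G).left.Opens :=
    ⟨⋂ m, (U m : Set (X ⊗ G).left), isOpen_iInter_of_finite fun m => (U m).isOpen⟩
  have hW : (W : Set (X ⊗ G).left) = ⋂ m, (U m : Set (X ⊗ G).left) := rfl
  have hgi : GeometricallyIrreducible q.left :=
    inferInstanceAs (GeometricallyIrreducible (pullback.fst X.hom G.hom))
  have hsm : Smooth q.left := inferInstanceAs (Smooth (pullback.fst X.hom G.hom))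
  have hsurj : Surjective (W.ι ≫ q.left) := by
    refine ⟨fun x => ?_⟩
    have hirr := q.left.isIrreducible_preimage q.left.isOpenMap (isIrreducible_singleton (x := x))
    obtain ⟨p, hp, hp'⟩ := isIrreducible_iff_sInter.mp hirr
      (Finset.univ.image fun m => (U m : Set (X ⊗ G).left))
      (fun u hu => by
        obtain ⟨m, -, rfl⟩ := Finset.mem_image.mp hu
        exact (U m).isOpen)
      (fun u hu => by
        obtain ⟨m, -, rfl⟩ := Finset.mem_image.mp hu
        obtain ⟨K, _, _, V, _, _, v, w, rfl⟩ := exists_field_point x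
        refine ⟨(lift v (v ≫ z m)⁻¹).left w, ?_, ?_⟩
        · show (lift v (v ≫ z m)⁻¹ ≫ fst X G).left w = v.left w
          rw [lift_fst]
        · show (L m).left ((lift v (v ≫ z m)⁻¹).left w) ∈ Set.range j.left.base
          refine h1 V ⟨w, ?_⟩
          have e : lift v (v ≫ z m)⁻¹ ≫ L m = 1 := by
            simp only [L, MonObj.comp_mul, lift_fst_assoc, lift_snd, mul_inv_cancel]
          exact (congrArg (fun k => k.left w) e).symm)
    have hpW : p ∈ W := by
      show p ∈ (W : Set (X ⊗ G).left)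
      rw [hW, Set.mem_iInter]
      exact fun m => hp' _ (by simp)
    exact ⟨⟨p, hpW⟩, hp⟩
  let X' : Over S := Over.mk (W.ι ≫ (X ⊗ G).hom)
  let ι' : X' ⟶ X ⊗ G := Over.homMk W.ι rfl
  have hin : ∀ m, Set.range (ι' ≫ L m).left.base ⊆ Set.range j.left.base := by
    rintro m _ ⟨w, rfl⟩
    have : W.ι w ∈ (W : Set (X ⊗ G).left) := w.2
    rw [hW, Set.mem_iInter] at this
    exact this m
  refine ⟨X', ι' ≫ q, ι' ≫ snd X G, fun m => Over.homMk (IsOpenImmersion.lift j.left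
    (ι' ≫ L m).left (hin m)) (by
      rw [← Over.w j, ← Category.assoc, IsOpenImmersion.lift_fac]; exact Over.w (ι' ≫ L m)), ?_, ?_,
    fun m => ?_⟩
  · exact inferInstanceAs (Flat (W.ι ≫ q.left))
  · exact hsurj
  · refine (Over.OverMorphism.ext (IsOpenImmersion.lift_fac _ _ _)).trans ?_
    show ι' ≫ L m = _
    simp only [L, MonObj.comp_mul, Category.assoc]
    rfl

theorem epi_desc {X Y : Over S} (k : X ⟶ Y) [Flat k.left] [Surjective k.left] [QuasiCompact k.left]
    {H : Over S} (F : X ⟶ H)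
    (hF : ∀ (W : Over S) (p p' : W ⟶ X), p ≫ k = p' ≫ k → p ≫ F = p' ≫ F) :
    ∃ g : Y ⟶ H, k ≫ g = F := by
  have hF' : ∀ {Z : Scheme.{u}} (g₁ g₂ : Z ⟶ X.left), g₁ ≫ k.left = g₂ ≫ k.left →
      g₁ ≫ F.left = g₂ ≫ F.left := by
    intro Z g₁ g₂ e
    have hw : g₂ ≫ X.hom = g₁ ≫ X.hom := by
      rw [← Over.w k, ← Category.assoc, ← e, Category.assoc]
    exact congrArg (fun k => k.left) (hF (Over.mk (g₁ ≫ X.hom)) (Over.homMk g₁ rfl)
      (Over.homMk g₂ hw) (Over.OverMorphism.ext e))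
  let g := EffectiveEpi.desc k.left F.left hF'
  have hg : k.left ≫ g = F.left := EffectiveEpi.fac _ _ _
  have : Epi k.left := Flat.epi_of_flat_of_surjective _
  refine ⟨Over.homMk g ?_, Over.OverMorphism.ext hg⟩
  rw [← cancel_epi k.left, ← Category.assoc, hg, Over.w, Over.w]

/-- A partially defined multiplicative morphism extends to a homomorphism. -/
theorem exists_extend (hG : Red.IsReductive G) (hA : IsAffineHom A.hom) (j : A ⟶ G)
    [IsOpenImmersion j.left]
    (h1 : ∀ X : Over S, Set.range (1 : X ⟶ G).left.base ⊆ Set.range j.left.base)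
    {H : Over S} [GrpObj H] (φ : A ⟶ H)
    (hφ : ∀ (X : Over S) (a b c : X ⟶ A), c ≫ j = (a ≫ j) * (b ≫ j) →
      c ≫ φ = (a ≫ φ) * (b ≫ φ)) :
    ∃! g : G ⟶ H, IsMonHom g ∧ j ≫ g = φ := by
  have := smooth_divMap hG.2.1 j
  have := surjective_divMap hG j h1
  have : IsAffineHom (divMap j).left := affineHom_left _ (affineHom_tensor hA hA) hG.1
  let F : A ⊗ A ⟶ H := (fst A A ≫ φ) * (snd A A ≫ φ)⁻¹
  have hFpt : ∀ {W : Over S} (p : W ⟶ A ⊗ A),
      p ≫ F = ((p ≫ fst _ _) ≫ φ) * ((p ≫ snd _ _) ≫ φ)⁻¹ := by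
    intro W p
    simp only [F, MonObj.comp_mul, GrpObj.comp_inv, Category.assoc]
  have hπpt : ∀ {W : Over S} (p : W ⟶ A ⊗ A),
      p ≫ divMap j = ((p ≫ fst _ _) ≫ j) * ((p ≫ snd _ _) ≫ j)⁻¹ := by
    intro W p
    conv_lhs => rw [show p = lift (p ≫ fst A A) (p ≫ snd A A) by ext <;> simp, divMap_pt]
  obtain ⟨g, hg⟩ := epi_desc (divMap j) F fun W p p' e => by
    rw [hπpt, hπpt] at e
    rw [hFpt, hFpt]
    generalize p ≫ fst _ _ = a₁ at *
    generalize p ≫ snd _ _ = b₁ at *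
    generalize p' ≫ fst _ _ = a₂ at *
    generalize p' ≫ snd _ _ = b₂ at *
    obtain ⟨W', k, h, c, hf, hs, hc⟩ := exists_translate hG j h1
      ![1, (b₁ ≫ j)⁻¹, (b₂ ≫ j)⁻¹, (a₁ ≫ j) * (b₁ ≫ j)⁻¹]
    have := epi_of_flat_surjective k hf hs
    rw [← cancel_epi k]
    have e0 : c 0 ≫ j = h := by simpa using hc 0
    have e1 : c 1 ≫ j = ((k ≫ b₁) ≫ j)⁻¹ * h := by simpa [GrpObj.comp_inv] using hc 1
    have e2 : c 2 ≫ j = ((k ≫ b₂) ≫ j)⁻¹ * h := by simpa [GrpObj.comp_inv] using hc 2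
    have e3 : c 3 ≫ j = ((k ≫ a₁) ≫ j) * ((k ≫ b₁) ≫ j)⁻¹ * h := by
      simpa [MonObj.comp_mul, GrpObj.comp_inv] using hc 3
    have ek : ((k ≫ a₁) ≫ j) * ((k ≫ b₁) ≫ j)⁻¹ = ((k ≫ a₂) ≫ j) * ((k ≫ b₂) ≫ j)⁻¹ := by
      have := congrArg (k ≫ ·) e
      simpa only [MonObj.comp_mul, GrpObj.comp_inv, Category.assoc] using this
    have f1 : c 0 ≫ φ = ((k ≫ b₁) ≫ φ) * (c 1 ≫ φ) :=
      hφ W' _ _ _ (by rw [e1, e0]; group)
    have f2 : c 0 ≫ φ = ((k ≫ b₂) ≫ φ) * (c 2 ≫ φ) :=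
      hφ W' _ _ _ (by rw [e2, e0]; group)
    have f3 : c 3 ≫ φ = ((k ≫ a₁) ≫ φ) * (c 1 ≫ φ) :=
      hφ W' _ _ _ (by rw [e3, e1]; group)
    have f4 : c 3 ≫ φ = ((k ≫ a₂) ≫ φ) * (c 2 ≫ φ) :=
      hφ W' _ _ _ (by rw [e3, e2, ek]; group)
    simp only [MonObj.comp_mul, GrpObj.comp_inv, ← Category.assoc]
    calc ((k ≫ a₁) ≫ φ) * ((k ≫ b₁) ≫ φ)⁻¹
        = ((k ≫ a₁) ≫ φ) * (c 1 ≫ φ) * (((k ≫ b₁) ≫ φ) * (c 1 ≫ φ))⁻¹ := by group
      _ = ((k ≫ a₂) ≫ φ) * (c 2 ≫ φ) * (((k ≫ b₂) ≫ φ) * (c 2 ≫ φ))⁻¹ := by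
          rw [← f1, ← f2, ← f3, ← f4]
      _ = _ := by group
  have hrep : ∀ {W : Over S} (z : W ⟶ G) (a b : W ⟶ A), a ≫ j = z * (b ≫ j) →
      z ≫ g = (a ≫ φ) * (b ≫ φ)⁻¹ := by
    intro W z a b e
    have hz : z = lift a b ≫ divMap j := by rw [divMap_pt, e, mul_inv_cancel_right]
    rw [hz, Category.assoc, hg, hFpt, lift_fst, lift_snd]
  have hgm : IsMonHom g := isMonHom_of_points g fun W x y => by
    obtain ⟨W', k, h, c, hf, hs, hc⟩ := exists_translate hG j h1 ![1, y, x * y]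
    have := epi_of_flat_surjective k hf hs
    rw [← cancel_epi k, MonObj.comp_mul, ← Category.assoc, ← Category.assoc, ← Category.assoc,
      MonObj.comp_mul]
    have e0 : c 0 ≫ j = h := by simpa using hc 0
    have e1 : c 1 ≫ j = (k ≫ y) * h := by simpa using hc 1
    have e2 : c 2 ≫ j = (k ≫ x) * (k ≫ y) * h := by simpa [MonObj.comp_mul] using hc 2
    rw [hrep ((k ≫ x) * (k ≫ y)) (c 2) (c 0) (by rw [e2, e0]),
      hrep (k ≫ x) (c 2) (c 1) (by rw [e2, e1, _root_.mul_assoc]),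
      hrep (k ≫ y) (c 1) (c 0) (by rw [e1, e0])]
    group
  have hgj : j ≫ g = φ := by
    obtain ⟨W', k, h, c, hf, hs, hc⟩ := exists_translate hG j h1 ![1, j]
    have := epi_of_flat_surjective k hf hs
    rw [← cancel_epi k, ← Category.assoc]
    have e0 : c 0 ≫ j = h := by simpa using hc 0
    have e1 : c 1 ≫ j = (k ≫ j) * h := by simpa using hc 1
    rw [hrep (k ≫ j) (c 1) (c 0) (by rw [e1, e0]), hφ W' k (c 0) (c 1) (by rw [e1, e0]),
      mul_inv_cancel_right]
  refine ⟨g, ⟨hgm, hgj⟩, ?_⟩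
  rintro g' ⟨hg'm, hg'j⟩
  exact hom_ext_of_open hG j h1 g' g (hg'j.trans hgj.symm)

end Groth.Agent.RedPts82
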