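import Groth.Agent.RedPts82.SplitOrder

/-!
The big cell meets the normaliser of the torus in the torus.
-/

universe u

open CategoryTheory MonoidalCategory CartesianMonoidalCategory MonObj GrpObj AlgebraicGeometry
open CategoryTheory.Limits

namespace Groth.Agent.RedPts82

variable {S : Scheme.{u}} {G : Over S} [GrpObj G] (D : Red.SplitRed G)

theorem splitRed_torus_comm {X : Over S} (t s : X ⟶ D.T) : t * s = s * t := by
  have hm : Mono D.split.hom.hom.hom := by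
    have : IsIso ((Grp.forget _).map D.split.hom) := inferInstance
    exact @IsIso.mono_of_iso _ _ _ _ _ this
  have := hm
  rw [← cancel_mono D.split.hom.hom.hom]
  simp only [MonObj.mul_comp]
  exact ds_comm _ _

theorem splitRed_conj_prod {m : ℕ} (e : Fin m → D.idx) {X : Over S} (t : X ⟶ D.T)
    (x : X ⟶ RedSub.pow (Red.Ga S) m) :
    ∃ x', x' ≫ RedSub.prodMap (Red.Ga S) m (fun k => D.u (e k)) =
      (t ≫ D.i) * (x ≫ RedSub.prodMap (Red.Ga S) m fun k => D.u (e k)) * (t ≫ D.i)⁻¹ := by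
  choose y hy using fun k => (D.rootHom (e k)).2.2 X t (x ≫ powProj (Red.Ga S) m k)
  refine ⟨powTuple y, ?_⟩
  rw [prodMap_pt, prodMap_pt, conj_list_prod]
  congr 2
  funext k
  rw [powTuple_proj, (hy k).1]

variable (b : D.P.Base) {n m : ℕ} (eneg : Fin n → D.idx) (epos : Fin m → D.idx)
  (hneg : RedSub.Enumerates (RedSub.negRoots D.P b) eneg)
  (hpos : RedSub.Enumerates (RedSub.posRoots D.P b) epos)

include hneg hpos

theorem cell_normalizer (X : Over S)
    (x : X ⟶ RedSub.pow (Red.Ga S) n ⊗ (D.T ⊗ RedSub.pow (Red.Ga S) m))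
    (hnorm : ∀ (X' : Over S) (y : X' ⟶ X) (t : X' ⟶ D.T), ∃ t' : X' ⟶ D.T,
      (y ≫ x ≫ RedSub.cellMap D eneg epos) * (t ≫ D.i) * (y ≫ x ≫ RedSub.cellMap D eneg epos)⁻¹ =
        t' ≫ D.i) :
    x ≫ RedSub.cellMap D eneg epos = (x ≫ snd _ _ ≫ fst _ _) ≫ D.i := by
  obtain ⟨l, hp, hn, hl⟩ := exists_sep_functional D.P b
  have C := cellData_of_functional D b l hp hn hl eneg epos hneg hpos
  have := D.maximalTorus.1
  have := C.mono
  have hcm : Mono (cellS D.i (fun k => D.u (eneg k)) fun k => D.u (epos k)) := C.mono_cell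
  change x ≫ cellS _ _ _ = _
  rw [cellS_pt]
  set Y := (x ≫ fst _ _) ≫ RedSub.prodMap (Red.Ga S) n (fun k => D.u (eneg k))
  set s := x ≫ snd _ _ ≫ fst _ _
  set R := (x ≫ snd _ _ ≫ snd _ _) ≫ RedSub.prodMap (Red.Ga S) m (fun k => D.u (epos k))
  have key : ∀ (X' : Over S) (y : X' ⟶ X) (t : X' ⟶ D.T),
      (t ≫ D.i) * (y ≫ Y) = (y ≫ Y) * (t ≫ D.i) ∧ (t ≫ D.i) * (y ≫ R) = (y ≫ R) * (t ≫ D.i) := by
    intro X' y t
    obtain ⟨t', ht'⟩ := hnorm X' y t
    change (y ≫ x ≫ cellS _ _ _) * _ * (y ≫ x ≫ cellS _ _ _)⁻¹ = _ at ht'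
    rw [cellS_pt, MonObj.comp_mul, MonObj.comp_mul, ← Category.assoc y s] at ht'
    obtain ⟨a, ha⟩ := splitRed_conj_prod D eneg t' (y ≫ x ≫ fst _ _)
    obtain ⟨c, hc⟩ := splitRed_conj_prod D epos t⁻¹ (y ≫ x ≫ snd _ _ ≫ snd _ _)
    have hY : (y ≫ x ≫ fst _ _) ≫ RedSub.prodMap (Red.Ga S) n (fun k => D.u (eneg k)) = y ≫ Y :=
      Category.assoc _ _ _
    have hR : (y ≫ x ≫ snd _ _ ≫ snd _ _) ≫ RedSub.prodMap (Red.Ga S) m (fun k => D.u (epos k)) = y ≫ R :=
      Category.assoc _ _ _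
    have hinv : t⁻¹ ≫ D.i = (t ≫ D.i)⁻¹ := by
      refine (inv_eq_of_mul_eq_one_right ?_).symm
      rw [← MonObj.mul_comp t t⁻¹ D.i, mul_inv_cancel, MonObj.one_comp]
    rw [hY] at ha
    rw [hR, hinv] at hc
    have e : lift a (lift (t' * (y ≫ s)) (y ≫ x ≫ snd _ _ ≫ snd _ _)) ≫
          cellS D.i (fun k => D.u (eneg k)) (fun k => D.u (epos k)) =
        lift (y ≫ x ≫ fst _ _) (lift ((y ≫ s) * t) c) ≫
          cellS D.i (fun k => D.u (eneg k)) (fun k => D.u (epos k)) := by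
      rw [cellS_lift, cellS_lift, ha, hc, hY, hR, MonObj.mul_comp, MonObj.mul_comp]
      generalize y ≫ Y = Y' at ht' ⊢
      generalize y ≫ R = R' at ht' ⊢
      generalize (y ≫ s) ≫ D.i = s' at ht' ⊢
      rw [← ht']
      group
    have h0 := (cancel_mono (cellS D.i (fun k => D.u (eneg k)) fun k => D.u (epos k))).mp e
    have h1 : a = y ≫ x ≫ fst _ _ := by simpa using congrArg (· ≫ fst _ _) h0
    have h2 : t' * (y ≫ s) = (y ≫ s) * t := by simpa using congrArg (· ≫ snd _ _ ≫ fst _ _) h0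
    have h3 : y ≫ x ≫ snd _ _ ≫ snd _ _ = c := by simpa using congrArg (· ≫ snd _ _ ≫ snd _ _) h0
    rw [splitRed_torus_comm D (y ≫ s) t] at h2
    obtain rfl := mul_right_cancel h2
    rw [h1, hY] at ha
    rw [← h3, hR, inv_inv_pt] at hc
    refine ⟨?_, ?_⟩
    · conv_rhs => rw [ha]
      group
    · conv_lhs => rw [hc]
      group
  have hfix : ∀ {g : X ⟶ G}, (∀ (X' : Over S) (y : X' ⟶ X) (t : X' ⟶ D.T),
      (t ≫ D.i) * (y ≫ g) = (y ≫ g) * (t ≫ D.i)) →
      ∀ (Z : Over S) (z : Z ⟶ X) (t : Z ⟶ Red.Gm S),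
        (t ≫ cochar D l) * (z ≫ g) = (z ≫ g) * (t ≫ cochar D l) := fun h Z z t => by
    have := h Z z (t ≫ Red.DSmap S l ≫ D.split.inv.hom.hom)
    simp only [Category.assoc] at this
    exact this
  have hR1 : R = 1 :=
    (Contr.of_comm (hfix fun X' y t => (key X' y t).2)).limit_unique C.hG (C.pos.contr_prod _)
  have hY1 : Y = 1 := by
    have h := hfix fun X' y t => (key X' y t).1
    refine Contr.limit_unique C.hG (Contr.of_comm (ν := negCochar (cochar D l)) fun Z z t => ?_)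
      (C.neg.contr_prod _)
    rw [pt_negCochar]
    exact h Z z t⁻¹
  rw [hR1, hY1, _root_.one_mul, _root_.mul_one]

end Groth.Agent.RedPts82
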