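import Groth.Agent.RedPts82.PinnedWeyl
import Groth.Agent.RedPts82.CellGen
import Groth.Agent.RedPts82.Extend
import Groth.Agent.RedPts82.SplitNorm

/-!
Homomorphisms out of a split group are determined on the torus and the root groups; for a pinning, on
the torus, the simple root groups and the Weyl elements.
-/

universe u

open CategoryTheory MonoidalCategory CartesianMonoidalCategory MonObj GrpObj AlgebraicGeometry
open CategoryTheory.Limits

namespace Groth.Agent.RedPts82

variable {S : Scheme.{u}} {G H : Over S} [GrpObj G] [GrpObj H] {D : Red.SplitRed G}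

theorem list_prod_comp {X : Over S} (f : G ⟶ H) [IsMonHom f] {n : ℕ} (g : Fin n → (X ⟶ G)) :
    (List.ofFn g).prod ≫ f = (List.ofFn fun k => g k ≫ f).prod := by
  induction n with
  | zero => simp [MonObj.one_comp]
  | succ n ih => rw [List.ofFn_succ, List.ofFn_succ, List.prod_cons, List.prod_cons, MonObj.mul_comp, ih]

theorem hom_ext_of_roots (f g : G ⟶ H) [IsMonHom f] [IsMonHom g] (hT : D.i ≫ f = D.i ≫ g)
    (hU : ∀ c, D.u c ≫ f = D.u c ≫ g) : f = g := by
  classical
  obtain ⟨l, hne, hl, -⟩ := exists_regular_functional (P := D.P) (0 : D.M →+ ℤ)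
  let ep : Fin (Fintype.card {c // 0 < l (D.P.root c)}) → D.idx := fun k =>
    ((Fintype.equivFin {c // 0 < l (D.P.root c)}).symm k).1
  let en : Fin (Fintype.card {c // ¬ 0 < l (D.P.root c)}) → D.idx := fun k =>
    ((Fintype.equivFin {c // ¬ 0 < l (D.P.root c)}).symm k).1
  have C := cellData_of_regular D l hl en ep (Subtype.val_injective.comp (Equiv.injective _))
    (Subtype.val_injective.comp (Equiv.injective _))
    (fun k => lt_of_le_of_ne (not_lt.mp ((Fintype.equivFin {c // ¬ 0 < l (D.P.root c)}).symm k).2) (hne _))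
    (fun k => ((Fintype.equivFin {c // 0 < l (D.P.root c)}).symm k).2)
  have : Mono (RedSub.cellMap D en ep) := C.mono_cell
  have : IsOpenImmersion (cellS D.i (fun k => D.u (en k)) fun k => D.u (ep k)).left :=
    cellMap_open_of_mono D en ep (by
      rw [Fintype.card_subtype_compl, Nat.sub_add_cancel (Fintype.card_subtype_le _)])
  have := D.maximalTorus.1
  have h1 : ∀ X : Over S, Set.range (1 : X ⟶ G).left.base ⊆
      Set.range (cellS D.i (fun k => D.u (en k)) fun k => D.u (ep k)).left.base := fun X =>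
    one_range_cell (fun k => rootHom_gaPt_zero D (en k)) (fun k => rootHom_gaPt_zero D (ep k))
      D.maximalTorus.1
  refine hom_ext_of_open D.reductive (cellS D.i (fun k => D.u (en k)) fun k => D.u (ep k)) h1 f g ?_
  have key : ∀ {Z : Over S} (w : Z ⟶ _),
      w ≫ cellS D.i (fun k => D.u (en k)) (fun k => D.u (ep k)) ≫ f =
        w ≫ cellS D.i (fun k => D.u (en k)) (fun k => D.u (ep k)) ≫ g := by
    intro Z w
    rw [← Category.assoc, ← Category.assoc, cellS_pt, prodMap_pt, prodMap_pt]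
    simp only [MonObj.mul_comp, list_prod_comp, Category.assoc, hT, hU]
  simpa only [Category.id_comp] using key (𝟙 _)

/-- A homomorphism which agrees on the torus, on the simple root groups and on the Weyl elements
agrees on every root group. -/
theorem eq_on_roots (b : D.P.Base) (hdual : ∀ a ∈ b.support, IsDual D a (D.u (negIdx D a)))
    (f g : G ⟶ H) [IsMonHom f] [IsMonHom g] (hU : ∀ a ∈ b.support, D.u a ≫ f = D.u a ≫ g)
    (hW : ∀ a ∈ b.support, wpt D a (𝟙_ (Over S)) ≫ f = wpt D a (𝟙_ (Over S)) ≫ g) (c : D.idx) :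
    D.u c ≫ f = D.u c ≫ g := by
  have := isReduced_of_base b
  have hW' : ∀ a ∈ b.support, ∀ X : Over S, wpt D a X ≫ f = wpt D a X ≫ g := fun a ha X => by
    rw [← comp_wpt (toUnit X), Category.assoc, Category.assoc, hW a ha]
  have hmove : ∀ j ∈ b.support, ∀ c, D.u c ≫ f = D.u c ≫ g →
      D.u (D.P.reflectionPerm j c) ≫ f = D.u (D.P.reflectionPerm j c) ≫ g := by
    intro j hj c hc
    obtain ⟨k, hk⟩ := exists_wpt_conj_unit (hdual j hj) b c
    refine hom_ext_affine fun Y hY x => ?_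
    have h := hk Y (cst Y ((k⁻¹ : Γ(S, ⊤)ˣ) : Γ(S, ⊤)) * Red.gaFn x)
    rw [← _root_.mul_assoc, cst, cst, ← map_mul, Units.mul_inv, map_one, _root_.one_mul, gaPt_gaFn] at h
    rw [← Category.assoc x, ← Category.assoc x, ← h]
    simp only [MonObj.mul_comp, GrpObj.inv_comp, Category.assoc, hc, hW' j hj Y]
  refine (b.induction_reflect c (p := fun c => D.u c ≫ f = D.u c ≫ g ∧
    D.u (negIdx D c) ≫ f = D.u (negIdx D c) ≫ g) (fun i hi => ?_) (fun i hi => ?_) (fun i j hi hj => ?_)).1
  · refine ⟨hi.2, ?_⟩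
    rw [show negIdx D (negIdx D i) = i from D.P.root.injective (by
      rw [Roots36.root_neg, Roots36.root_neg, neg_neg])]
    exact hi.1
  · exact ⟨hU i hi, hmove i hi i (hU i hi)⟩
  · refine ⟨hmove j hj i hi.1, ?_⟩
    rw [show negIdx D (D.P.reflectionPerm j i) = D.P.reflectionPerm j (negIdx D i) from
      D.P.root.injective (by
        rw [Roots36.root_neg, RootPairing.root_reflectionPerm, RootPairing.root_reflectionPerm,
          Roots36.root_neg, map_neg])]
    exact hmove j hj _ hi.2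

theorem isDual_of_hpair (D : Red.Pinning G) (avc : D.idx → (Red.Gm S ⟶ D.T))
    (havc : ∀ a, avc a = Red.DSmap S (D.P.coroot a).toAddMonoidHom ≫ D.split.inv.hom.hom)
    (hpair : ∀ a ∈ D.base.support, ∀ (X : Over S) (x y : X ⟶ Red.Ga S), IsUnit (1 + Red.gaFn x * Red.gaFn y) →
        ∃ (x' y' : X ⟶ Red.Ga S) (z : X ⟶ Red.Gm S), Red.gmFn z = 1 + Red.gaFn x * Red.gaFn y ∧
          Red.gaFn x' * Red.gmFn z = Red.gaFn x ∧ Red.gaFn y' * Red.gmFn z = Red.gaFn y ∧
          (x ≫ D.u a) * (y ≫ D.u (D.P.reflectionPerm a a)) = (y' ≫ D.u (D.P.reflectionPerm a a)) * (z ≫ avc a ≫ D.i) * (x' ≫ D.u a))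
    (a : D.idx) (ha : a ∈ D.base.support) :
    IsDual D.toSplitRed a (D.u (negIdx D.toSplitRed a)) := by
  refine ⟨(D.rootHom _).1, fun X x y hxy => ?_⟩
  obtain ⟨x', y', z, h1, h2, h3, h4⟩ := hpair a ha X x y hxy
  exact ⟨x', y', z, h1, h2, h3, h4.trans (by rw [havc])⟩

theorem wpt_of_def (D : Red.Pinning G) (e₁ : 𝟙_ (Over S) ⟶ Red.Ga S) (he₁ : Red.gaFn e₁ = 1)
    (w : D.idx → (𝟙_ (Over S) ⟶ G))
    (hw : ∀ a, w a = (e₁ ≫ D.u a) * (e₁ ≫ D.u (D.P.reflectionPerm a a))⁻¹ * (e₁ ≫ D.u a)) (a : D.idx) :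
    w a = wpt D.toSplitRed a (𝟙_ (Over S)) := by
  rw [hw, show e₁ = gaPt 1 from gaFn_injective (by rw [he₁, gaFn_gaPt])]
  rfl

end Groth.Agent.RedPts82
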