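import Groth.Agent.RedPts82.CommCoord
import Groth.Agent.Roots36.Form

/-!
Points of root groups with parameters in an ideal of square zero, and conjugation on a root string.
-/

universe u

open CategoryTheory MonoidalCategory CartesianMonoidalCategory MonObj GrpObj AlgebraicGeometry
open CategoryTheory.Limits

namespace Groth.Agent.RedPts82

section Functional

variable {idx M N : Type} [AddCommGroup M] [AddCommGroup N] [Fintype idx] {P : RootPairing idx ℤ M N}

/-- A regular functional positive on two roots which are not proportional. -/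
theorem exists_functional_indep [Module.Finite ℤ M] [Module.Free ℤ M] {a b : idx}
    (h4 : P.pairingIn ℤ a b * P.pairingIn ℤ b a < 4) :
    ∃ l : M →+ ℤ, (∀ c, l (P.root c) ≠ 0) ∧ (Function.Injective fun c => l (P.root c)) ∧
      0 < l (P.root a) ∧ 0 < l (P.root b) := by
  have hA := Roots36.two_mul_bz (P := P) a b
  have hB := Roots36.two_mul_bz (P := P) b a
  have hs := Roots36.bz_comm (P := P) b a
  have ha := Roots36.len_pos' (P := P) a
  have hb := Roots36.len_pos' (P := P) b
  let μf : M →+ ℤ := ((Roots36.len P b - Roots36.bz P a b) • P.RootForm.flip (P.root a) +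
    (Roots36.len P a - Roots36.bz P a b) • P.RootForm.flip (P.root b)).toAddMonoidHom
  have hdet : 0 < Roots36.len P a * Roots36.len P b - Roots36.bz P a b * Roots36.bz P a b := by
    have h1 : 4 * (Roots36.bz P a b * Roots36.bz P a b) =
        (Roots36.len P a * Roots36.len P b) * (P.pairingIn ℤ a b * P.pairingIn ℤ b a) := by
      rw [hs] at hB
      linear_combination (2 * Roots36.bz P a b) * hA + (Roots36.len P b * P.pairingIn ℤ a b) * hB
    nlinarith [mul_pos ha hb]
  have hμa : 0 < μf (P.root a) := by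
    simp only [μf, LinearMap.toAddMonoidHom_coe, LinearMap.add_apply, LinearMap.smul_apply,
      LinearMap.BilinForm.flip_apply, smul_eq_mul]
    rw [show P.RootForm (P.root a) (P.root a) = Roots36.len P a from (Roots36.cast_len a).symm,
      show P.RootForm (P.root a) (P.root b) = Roots36.bz P a b from (Roots36.cast_bz a b).symm]
    linarith
  have hμb : 0 < μf (P.root b) := by
    simp only [μf, LinearMap.toAddMonoidHom_coe, LinearMap.add_apply, LinearMap.smul_apply,
      LinearMap.BilinForm.flip_apply, smul_eq_mul]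
    rw [show P.RootForm (P.root b) (P.root b) = Roots36.len P b from (Roots36.cast_len b).symm,
      show P.RootForm (P.root b) (P.root a) = Roots36.bz P a b from by rw [← hs]; exact (Roots36.cast_bz b a).symm]
    linarith
  obtain ⟨l, h1, h2, h3⟩ := exists_regular_functional (P := P) μf
  exact ⟨l, h1, h2, h3 a hμa, h3 b hμb⟩

end Functional

variable {S : Scheme.{u}}

/-- A global function, as a function on an `S`-scheme. -/
abbrev cst (X : Over S) (C : Γ(S, ⊤)) : Γ(X.left, ⊤) := X.hom.appTop C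

variable {G : Over S} [GrpObj G] (D : Red.SplitRed G)

/-- The commutator formula with all roots of the positive quadrant. -/
theorem exists_comm_full {l : D.M →+ ℤ} (hl : Function.Injective fun c => l (D.P.root c))
    (hne : ∀ c, l (D.P.root c) ≠ 0) {α β : D.idx} (hla : 0 < l (D.P.root α)) (hlb : 0 < l (D.P.root β)) :
    ∃ (m : ℕ) (e : Fin m → D.idx) (i j : Fin m → ℕ) (C : Fin m → Γ(S, ⊤)),
      Function.Injective e ∧
      (∀ (c : D.idx) (p q : ℕ), 1 ≤ p → 1 ≤ q →
        D.P.root c = (p : ℤ) • D.P.root α + (q : ℤ) • D.P.root β → c ∈ Set.range e) ∧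
      (∀ k, 1 ≤ i k ∧ 1 ≤ j k ∧
        D.P.root (e k) = (i k : ℤ) • D.P.root α + (j k : ℤ) • D.P.root β) ∧
      ∀ (X : Over S) (x y : Γ(X.left, ⊤)),
        (gaPt x ≫ D.u α) * (gaPt y ≫ D.u β) * (gaPt x ≫ D.u α)⁻¹ = (gaPt y ≫ D.u β) *
          (List.ofFn fun k => gaPt (cst X (C k) * x ^ i k * y ^ j k) ≫ D.u (e k)).prod := by
  classical
  let Q := {c : D.idx // ∃ p q : ℕ, 1 ≤ p ∧ 1 ≤ q ∧
    D.P.root c = (p : ℤ) • D.P.root α + (q : ℤ) • D.P.root β}
  let e : Fin (Fintype.card Q) → D.idx := fun k => ((Fintype.equivFin Q).symm k).1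
  choose i j hi hj hij using fun k : Fin (Fintype.card Q) => ((Fintype.equivFin Q).symm k).2
  obtain ⟨C, hC, -⟩ := comm_formula D l hl hne hla hlb e i j
    (Subtype.val_injective.comp (Equiv.injective _)) (fun k => ⟨hi k, hj k, hij k⟩)
    (fun c p q hp hq hc => ⟨Fintype.equivFin Q ⟨c, p, q, hp, hq, hc⟩, by simp [e]⟩)
  refine ⟨_, e, i, j, C, Subtype.val_injective.comp (Equiv.injective _), fun c p q hp hq hc =>
    ⟨Fintype.equivFin Q ⟨c, p, q, hp, hq, hc⟩, by simp [e]⟩, fun k => ⟨hi k, hj k, hij k⟩, fun X x y => ?_⟩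
  exact hC X (gaPt x) (gaPt y) _ fun k => by simp only [gaFn_gaPt]

theorem list_prod_one {H : Type*} [Monoid H] {m : ℕ} {f : Fin m → H} (h : ∀ k, f k = 1) :
    (List.ofFn f).prod = 1 :=
  List.prod_eq_one fun g hg => by
    obtain ⟨k, rfl⟩ := (List.mem_ofFn' _ _).mp hg
    exact h k

/-- Points with parameters of zero product in positive root groups commute. -/
theorem comm_of_mul_zero {l : D.M →+ ℤ} (hl : Function.Injective fun c => l (D.P.root c))
    (hne : ∀ c, l (D.P.root c) ≠ 0) {α β : D.idx} (hla : 0 < l (D.P.root α)) (hlb : 0 < l (D.P.root β))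
    {X : Over S} {x y : Γ(X.left, ⊤)} (h : x * y = 0) :
    (gaPt x ≫ D.u α) * (gaPt y ≫ D.u β) = (gaPt y ≫ D.u β) * (gaPt x ≫ D.u α) := by
  obtain ⟨m, e, i, j, C, -, -, hij, hC⟩ := exists_comm_full D hl hne hla hlb
  have h1 := hC X x y
  rw [list_prod_one fun k => ?_, _root_.mul_one, mul_inv_eq_iff_eq_mul] at h1
  · exact h1
  · obtain ⟨i', hi'⟩ := Nat.exists_eq_add_of_le (hij k).1
    obtain ⟨j', hj'⟩ := Nat.exists_eq_add_of_le (hij k).2.1
    rw [hi', hj', pow_add, pow_add, pow_one, pow_one,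
      show cst X (C k) * (x * x ^ i') * (y * y ^ j') = cst X (C k) * x ^ i' * y ^ j' * (x * y) by ring,
      h, mul_zero, rootHom_gaPt_zero]

theorem rootHom_gaPt_add (c : D.idx) {X : Over S} (r s : Γ(X.left, ⊤)) :
    gaPt (r + s) ≫ D.u c = (gaPt r ≫ D.u c) * (gaPt s ≫ D.u c) := by
  have := (D.rootHom c).1
  rw [gaPt_add, MonObj.mul_comp]

/-- The product of points of root groups with parameters multiples of `δ`. -/
noncomputable def lp {X : Over S} (δ : Γ(X.left, ⊤)) {m : ℕ} (e : Fin m → D.idx)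
    (z : Fin m → Γ(X.left, ⊤)) : X ⟶ G :=
  (List.ofFn fun k => gaPt (δ * z k) ≫ D.u (e k)).prod

theorem lp_zero {X : Over S} (δ : Γ(X.left, ⊤)) {m : ℕ} (e : Fin m → D.idx) : lp D δ e 0 = 1 :=
  list_prod_one fun k => by rw [Pi.zero_apply, mul_zero, rootHom_gaPt_zero]

theorem lp_single {X : Over S} (δ : Γ(X.left, ⊤)) {m : ℕ} (e : Fin m → D.idx) (i : Fin m)
    (r : Γ(X.left, ⊤)) : lp D δ e (Pi.single i r) = gaPt (δ * r) ≫ D.u (e i) := by
  induction m with
  | zero => exact i.elim0
  | succ m ih =>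
    rw [lp, List.ofFn_succ, List.prod_cons]
    refine Fin.cases ?_ (fun i' => ?_) i
    · rw [Pi.single_eq_same, list_prod_one fun k => ?_, _root_.mul_one]
      rw [Pi.single_eq_of_ne (Fin.succ_ne_zero k), mul_zero, rootHom_gaPt_zero]
    · rw [Pi.single_eq_of_ne (Fin.succ_ne_zero i').symm, mul_zero, rootHom_gaPt_zero, _root_.one_mul]
      refine Eq.trans ?_ (ih (fun k => e k.succ) i')
      rw [lp]
      congr 2
      funext k
      congr 3
      simp [Pi.single_apply]

/-- A system of roots positive for a regular functional. -/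
structure PosSys {m : ℕ} (e : Fin m → D.idx) (l : D.M →+ ℤ) : Prop where
  hl : Function.Injective fun c => l (D.P.root c)
  hne : ∀ c, l (D.P.root c) ≠ 0
  he : Function.Injective e
  hpos : ∀ k, 0 < l (D.P.root (e k))

variable {m : ℕ} {e : Fin m → D.idx} {l : D.M →+ ℤ} (H : PosSys D e l)
include H

theorem PosSys.lp_comm {X : Over S} {δ : Γ(X.left, ⊤)} (hη : δ * δ = 0) (z : Fin m → Γ(X.left, ⊤))
    (c : D.idx) (hc : 0 < l (D.P.root c)) (r : Γ(X.left, ⊤)) :
    Commute (gaPt (δ * r) ≫ D.u c) (lp D δ e z) := by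
  refine Commute.list_prod_right _ _ fun g hg => ?_
  obtain ⟨k, rfl⟩ := (List.mem_ofFn' _ _).mp hg
  exact comm_of_mul_zero D H.hl H.hne hc (H.hpos k)
    (by rw [_root_.mul_mul_mul_comm, hη, zero_mul])

theorem PosSys.lp_add {X : Over S} {δ : Γ(X.left, ⊤)} (hη : δ * δ = 0)
    (z z' : Fin m → Γ(X.left, ⊤)) : lp D δ e (z + z') = lp D δ e z * lp D δ e z' := by
  induction m with
  | zero => simp [lp]
  | succ m ih =>
    have H' : PosSys D (fun k => e k.succ) l :=
      ⟨H.hl, H.hne, H.he.comp (Fin.succ_injective _), fun k => H.hpos _⟩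
    have hc := H'.lp_comm D hη (fun k => z k.succ) (e 0) (H.hpos 0) (z' 0)
    simp only [lp, List.ofFn_succ, List.prod_cons, Pi.add_apply, mul_add, rootHom_gaPt_add] at hc ⊢
    have := ih H' (fun k => z k.succ) (fun k => z' k.succ)
    simp only [lp, Pi.add_apply, mul_add, rootHom_gaPt_add] at this
    rw [this]
    simp only [Commute, SemiconjBy] at hc
    simp only [_root_.mul_assoc]
    congr 1
    rw [← _root_.mul_assoc, hc, _root_.mul_assoc]

theorem PosSys.lp_sum {X : Over S} {δ : Γ(X.left, ⊤)} (hη : δ * δ = 0) {m' : ℕ}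
    (v : Fin m' → Fin m → Γ(X.left, ⊤)) :
    lp D δ e (∑ k, v k) = (List.ofFn fun k => lp D δ e (v k)).prod := by
  induction m' with
  | zero => simp [lp_zero]
  | succ m' ih => rw [Fin.sum_univ_succ, List.ofFn_succ, List.prod_cons, H.lp_add D hη, ih]

theorem PosSys.lp_injective {X : Over S} (δ : Γ(X.left, ⊤)) {z z' : Fin m → Γ(X.left, ⊤)}
    (h : lp D δ e z = lp D δ e z') : ∀ k, δ * z k = δ * z' k := by
  have C := cellData_of_regular D l H.hl (Fin.elim0 : Fin 0 → D.idx) e (fun i => i.elim0) H.he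
    (fun k => k.elim0) H.hpos
  have : IsClosedImmersion (RedSub.prodMap (Red.Ga S) m fun k => D.u (e k)).left :=
    C.pos.isClosedImmersion C.hG
  have : Mono (RedSub.prodMap (Red.Ga S) m fun k => D.u (e k)) := Over.mono_of_mono_left _
  have h1 : powTuple (fun k => gaPt (δ * z k)) ≫ RedSub.prodMap (Red.Ga S) m (fun k => D.u (e k)) =
      powTuple (fun k => gaPt (δ * z' k)) ≫ RedSub.prodMap (Red.Ga S) m (fun k => D.u (e k)) := by
    rw [prodMap_pt, prodMap_pt]
    simp only [powTuple_proj]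
    exact h
  intro k
  have := congrArg (fun w => Red.gaFn (w ≫ powProj (Red.Ga S) m k)) ((cancel_mono _).mp h1)
  simpa only [powTuple_proj, gaFn_gaPt] using this

omit H

/-- The roots `root (f 0) + k • root a`, a full upper string. -/
structure UpString {n : ℕ} (a : D.idx) (f : Fin (n + 1) → D.idx) : Prop where
  hf : ∀ k, D.P.root (f k) = D.P.root (f 0) + ((k : ℕ) : ℤ) • D.P.root a
  htop : ∀ p : ℕ, n < p → D.P.root (f 0) + (p : ℤ) • D.P.root a ∉ Set.range D.P.root

theorem UpString.injective {n : ℕ} {a : D.idx} {f : Fin (n + 1) → D.idx} (U : UpString D a f)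
    (ha : 0 < l (D.P.root a)) : Function.Injective f := by
  intro i j h
  have h2 := congrArg (fun c => l (D.P.root c)) h
  simp only [U.hf i, U.hf j, map_add, map_zsmul, smul_eq_mul, add_right_inj] at h2
  have := mul_right_cancel₀ ha.ne' h2
  exact Fin.ext (by exact_mod_cast this)

theorem UpString.posSys {n : ℕ} {a : D.idx} {f : Fin (n + 1) → D.idx} (U : UpString D a f)
    (hl : Function.Injective fun c => l (D.P.root c)) (hne : ∀ c, l (D.P.root c) ≠ 0)
    (ha : 0 < l (D.P.root a)) (h0 : 0 < l (D.P.root (f 0))) : PosSys D f l := by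
  refine ⟨hl, hne, U.injective D ha, fun k => ?_⟩
  rw [U.hf, map_add, map_zsmul, smul_eq_mul]
  positivity

/-- Conjugation by the root group of `a` acts linearly on the string. -/
theorem exists_conj_lin {n : ℕ} {a : D.idx} {f : Fin (n + 1) → D.idx} (U : UpString D a f)
    (hl : Function.Injective fun c => l (D.P.root c)) (hne : ∀ c, l (D.P.root c) ≠ 0)
    (ha : 0 < l (D.P.root a)) (h0 : 0 < l (D.P.root (f 0))) :
    ∃ C : Fin (n + 1) → Fin (n + 1) → Γ(S, ⊤), (∀ i k, k < i → C i k = 0) ∧ (∀ i, C i i = 1) ∧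
      ∀ (X : Over S) (δ : Γ(X.left, ⊤)), δ * δ = 0 → ∀ (x : Γ(X.left, ⊤)) (z : Fin (n + 1) → Γ(X.left, ⊤)),
        (gaPt x ≫ D.u a) * lp D δ f z * (gaPt x ≫ D.u a)⁻¹ =
          lp D δ f fun k => ∑ i, cst X (C i k) * x ^ ((k : ℕ) - i) * z i := by
  classical
  have H := U.posSys D hl hne ha h0
  have key : ∀ i : Fin (n + 1), ∃ C : Fin (n + 1) → Γ(S, ⊤), (∀ k, k < i → C k = 0) ∧ C i = 1 ∧
      ∀ (X : Over S) (δ : Γ(X.left, ⊤)), δ * δ = 0 → ∀ (x r : Γ(X.left, ⊤)),
        (gaPt x ≫ D.u a) * (gaPt (δ * r) ≫ D.u (f i)) * (gaPt x ≫ D.u a)⁻¹ =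
          lp D δ f fun k => cst X (C k) * x ^ ((k : ℕ) - i) * r := by
    intro i
    obtain ⟨m, e, p, q, C, -, -, hpq, hC⟩ := exists_comm_full D hl hne ha (H.hpos i)
    have hidx : ∀ j, q j = 1 → ∃ k : Fin (n + 1), (k : ℕ) = i + p j ∧ e j = f k := by
      intro j hj
      obtain ⟨-, -, h3⟩ := hpq j
      rw [hj, Nat.cast_one, one_smul, U.hf i] at h3
      have h4 : D.P.root (e j) = D.P.root (f 0) + (((i : ℕ) + p j : ℕ) : ℤ) • D.P.root a := by
        rw [h3]; push_cast; module
      have hlt : (i : ℕ) + p j ≤ n := not_lt.mp fun hlt => U.htop _ hlt ⟨_, h4⟩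
      refine ⟨⟨i + p j, by omega⟩, rfl, D.P.root.injective (by rw [U.hf, h4])⟩
    let col : Fin m → Fin (n + 1) → Γ(S, ⊤) := fun j k =>
      if q j = 1 ∧ (k : ℕ) = i + p j then C j else 0
    refine ⟨Pi.single i 1 + ∑ j, col j, fun k hk => ?_, ?_, fun X δ hη x r => ?_⟩
    · rw [Pi.add_apply, Pi.single_eq_of_ne hk.ne, zero_add, Finset.sum_apply]
      refine Finset.sum_eq_zero fun j _ => if_neg fun h => ?_
      have := Fin.lt_def.mp hk
      omega
    · rw [Pi.add_apply, Pi.single_eq_same, Finset.sum_apply, add_eq_left]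
      refine Finset.sum_eq_zero fun j _ => if_neg fun h => ?_
      have := (hpq j).1
      omega
    · let v : Fin m → Fin (n + 1) → Γ(X.left, ⊤) := fun j k => cst X (col j k) * x ^ ((k : ℕ) - i) * r
      have hv : (fun k : Fin (n + 1) => cst X ((Pi.single i 1 + ∑ j, col j : Fin (n + 1) → Γ(S, ⊤)) k) *
          x ^ ((k : ℕ) - i) * r) = Pi.single i r + ∑ j, v j := by
        funext k
        simp only [cst, Pi.add_apply, Finset.sum_apply, map_add, map_sum, add_mul, Finset.sum_mul, v]
        congr 1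
        by_cases hk : k = i
        · subst hk; simp
        · simp [Pi.single_eq_of_ne hk]
      rw [hC X x, hv, H.lp_add D hη, lp_single, H.lp_sum D hη]
      congr 3
      funext j
      by_cases hj : q j = 1
      · obtain ⟨k, hk, hek⟩ := hidx j hj
        have : v j = Pi.single k (cst X (C j) * x ^ p j * r) := by
          funext k'
          by_cases hk' : k' = k
          · subst hk'
            simp only [v, col, Pi.single_eq_same, hk, Nat.add_sub_cancel_left]
            rw [if_pos ⟨hj, trivial⟩]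
          · have : ¬ (q j = 1 ∧ (k' : ℕ) = i + p j) := fun h => hk' (Fin.ext (h.2.trans hk.symm))
            simp [v, col, Pi.single_eq_of_ne hk', if_neg this, cst]
        rw [this, lp_single, hek, hj, pow_one]
        congr 2
        ring
      · have : v j = 0 := funext fun k' => by simp [v, col, hj, cst]
        obtain ⟨q', hq'⟩ := Nat.exists_eq_add_of_le (show 2 ≤ q j from by have := (hpq j).2.1; omega)
        rw [this, lp_zero, hq', pow_add,
          show cst X (C j) * x ^ p j * ((δ * r) ^ 2 * (δ * r) ^ q') =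
            (δ * δ) * (cst X (C j) * x ^ p j * (r * r) * (δ * r) ^ q') by ring,
          hη, zero_mul, rootHom_gaPt_zero]
  choose C hC0 hC1 hC using key
  refine ⟨C, hC0, hC1, fun X δ hη x z => ?_⟩
  have hz : (fun k => ∑ i, cst X (C i k) * x ^ ((k : ℕ) - i) * z i) =
      ∑ i, fun k => cst X (C i k) * x ^ ((k : ℕ) - i) * z i := by
    funext k; rw [Finset.sum_apply]
  rw [hz, H.lp_sum D hη]
  show (gaPt x ≫ D.u a) * (List.ofFn fun k => gaPt (δ * z k) ≫ D.u (f k)).prod * _ = _
  rw [conj_list_prod]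
  congr 2
  funext i
  exact hC i X δ hη x (z i)

end Groth.Agent.RedPts82
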