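import Groth.Agent.RedPts82.MonoClosed

/-!
A torus times a system of positively weighted root groups is closed in an affine group.
-/

universe u

open CategoryTheory MonoidalCategory CartesianMonoidalCategory MonObj GrpObj AlgebraicGeometry
open CategoryTheory.Limits

namespace Groth.Agent.RedPts82

variable {S : Scheme.{u}} {G : Over S} [GrpObj G] {M : Type} [AddCommGroup M] {ν : Red.Gm S ⟶ G}
  {m : ℕ} {d : Fin m → ℕ} {u : Fin m → (Red.Ga S ⟶ G)} (j : Red.DS S M ⟶ G) [IsMonHom j] [Mono j]

/-- The map `(t, x) ↦ j(t) π(x)`. -/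
noncomputable def torusProd (u : Fin m → (Red.Ga S ⟶ G)) :
    Red.DS S M ⊗ RedSub.pow (Red.Ga S) m ⟶ G :=
  (fst _ _ ≫ j) * (snd _ _ ≫ RedSub.prodMap (Red.Ga S) m u)

theorem eval₂_scale_coeff_zero {R A : Type u} [CommRing R] [CommRing A] {σ : Type} (d : σ → ℕ)
    (hd : ∀ k, 0 < d k) (c : MvPolynomial σ R →+* A) (q : MvPolynomial σ R) :
    (MvPolynomial.eval₂ (MonoidAlgebra.singleOneRingHom.comp (c.comp MvPolynomial.C))
      (fun k => MonoidAlgebra.single ((Multiplicative.ofAdd (1 : ℤ)) ^ d k) (c (MvPolynomial.X k)))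
      q).coeff (Multiplicative.ofAdd (0 : ℤ)) = c (MvPolynomial.C (MvPolynomial.constantCoeff q)) := by
  classical
  have h := coeff_scale c d q 0
  rw [Nat.cast_zero] at h
  rw [h]
  congr 1
  ext e
  rw [MvPolynomial.coeff_weightedHomogeneousComponent, MvPolynomial.coeff_C,
    MvPolynomial.constantCoeff_eq]
  by_cases he : e = 0
  · subst he; simp
  · rw [if_neg (Ne.symm he), if_neg]
    intro hw
    refine he (Finsupp.ext fun k => ?_)
    have := Finsupp.le_weight (w := d) (s := k) (Nat.pos_iff_ne_zero.mp (hd k)) e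
    rw [hw] at this
    simpa using this

/-- The affine case. -/
theorem torusProd_closed_affine (hG : IsAffineHom G.hom) (H : Weighted ν d u)
    (hcomm : ∀ (Z : Over S) (t : Z ⟶ Red.Gm S) (s : Z ⟶ Red.DS S M),
      (t ≫ ν) * (s ≫ j) = (s ≫ j) * (t ≫ ν))
    (Y : Over S) [IsAffine Y.left] : IsClosedImmersion (Y ◁ torusProd j u).left := by
  classical
  have : IsAffineHom (fst Y G).left := inferInstanceAs (IsAffineHom (pullback.fst Y.hom G.hom))
  have : IsAffine (Y ⊗ G).left := isAffine_of_isAffineHom (fst Y G).left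
  let Q := Y ⊗ G
  let Pm := polyMv Y m
  let P := polyDS Pm M
  let π := RedSub.prodMap (Red.Ga S) m u
  let h : P ⟶ Q := lift (polyProj Pm M ≫ mvProj Y m)
    ((polyTu Pm M ≫ j) * (polyProj Pm M ≫ mvTu Y m ≫ π))
  let e : DSRing Pm M ≃+* Γ(P.left, ⊤) := RingEquiv.ofBijective _ (polyCoord_bijective Pm M)
  let ψ : Γ(Q.left, ⊤) →+* DSRing Pm M := e.symm.toRingHom.comp h.left.appTop.hom
  have hψ : ∀ f, polyCoord Pm M (ψ f) = h.left.appTop f := fun f => e.apply_symm_apply _
  let ev : MvPolynomial (Fin m) (Gam Y) →+* Gam Pm := mvCoordHom Y m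
  -- components for translation by the torus
  have hcomp : ∀ q ∈ ψ.range, ∀ g, MonoidAlgebra.single g (q.coeff g) ∈ ψ.range := by
    rintro _ ⟨f, rfl⟩ g
    let C : polyDS Q M ⟶ Q := lift (polyProj Q M ≫ fst Y G)
      ((polyTu Q M ≫ j) * (polyProj Q M ≫ snd Y G))
    obtain ⟨c, hc⟩ := (polyCoord_bijective Q M).2 (C.left.appTop f)
    refine ⟨c.coeff g, ?_⟩
    obtain ⟨L, hL1, hL2, hL3⟩ := exists_polyLift (polyProj P M ≫ h) (polyTu P M)
    obtain ⟨σ, hσ1, hσ2, hσ3⟩ := exists_polyLift (polyProj P M ≫ polyProj Pm M)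
      (polyTu P M * (polyProj P M ≫ polyTu Pm M))
    have hLC : L ≫ C = σ ≫ h := by
      apply CartesianMonoidalCategory.hom_ext
      · simp only [C, h, Category.assoc, lift_fst]
        rw [← Category.assoc L, hL1, ← Category.assoc σ, hσ1]
        simp only [h, Category.assoc, lift_fst]
      · simp only [C, h, Category.assoc, lift_snd, MonObj.comp_mul]
        rw [← Category.assoc L (polyTu Q M) j, hL2, ← Category.assoc L (polyProj Q M), hL1,
          ← Category.assoc σ (polyTu Pm M) j, hσ2, MonObj.mul_comp, ← Category.assoc σ (polyProj Pm M), hσ1]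
        simp only [h, Category.assoc, lift_snd, MonObj.comp_mul]
        group
    have e0 := congrArg (fun k => k.left.appTop f) hLC
    change L.left.appTop (C.left.appTop f) = σ.left.appTop (h.left.appTop f) at e0
    rw [← hc, hL3, ← hψ, hσ3] at e0
    have hl : evalDS (polyProj P M ≫ h) (polyTu P M) c =
        polyCoord P M (MonoidAlgebra.mapRingHom (Multiplicative M) h.left.appTop.hom c) := by
      rw [← RingHom.comp_apply]
      congr 1
      refine MonoidAlgebra.ringHom_ext (fun a => ?_) fun g => ?_
      · rw [RingHom.comp_apply, MonoidAlgebra.mapRingHom_single, ← polyProj_appTop,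
          show (1 : Multiplicative M) = Multiplicative.ofAdd 0 from rfl, evalDS_single, dsFn_zero]
        exact _root_.mul_one _
      · rw [RingHom.comp_apply, MonoidAlgebra.mapRingHom_single, map_one,
          show g = Multiplicative.ofAdd (Multiplicative.toAdd g) from rfl, evalDS_single, map_one,
          _root_.one_mul, dsFn_polyTu]
    have hr : ∀ q : DSRing Pm M, ∃ r, evalDS (polyProj P M ≫ polyProj Pm M)
        (polyTu P M * (polyProj P M ≫ polyTu Pm M)) q = polyCoord P M r ∧
        ∀ g, r.coeff g = polyCoord Pm M (MonoidAlgebra.single g (q.coeff g)) := by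
      intro q
      induction q using MonoidAlgebra.induction_linear with
      | zero => exact ⟨0, by simp, fun g => by simp⟩
      | add x y hx hy =>
        obtain ⟨r, hr, hrc⟩ := hx
        obtain ⟨r', hr', hrc'⟩ := hy
        refine ⟨r + r', by simp [hr, hr'], fun g => ?_⟩
        simp only [MonoidAlgebra.coeff_add, Finsupp.add_apply, hrc, hrc', MonoidAlgebra.single_add, map_add]
      | single g₀ a =>
        refine ⟨MonoidAlgebra.single g₀ (polyCoord Pm M (MonoidAlgebra.single g₀ a)), ?_, fun g => ?_⟩
        · obtain ⟨m, rfl⟩ := Multiplicative.ofAdd.surjective g₀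
          rw [evalDS_single, dsFn_mul, dsFn_polyTu, dsFn_comp, dsFn_polyTu, polyProj_appTop,
            Over.comp_left, Scheme.Hom.comp_appTop]
          show (polyProj P M).left.appTop ((polyProj Pm M).left.appTop a) * _ = _
          rw [polyProj_appTop, polyProj_appTop, ← map_mul, ← map_mul, MonoidAlgebra.single_mul_single,
            MonoidAlgebra.single_mul_single, _root_.one_mul, _root_.mul_one, _root_.one_mul, ← map_mul,
            MonoidAlgebra.single_mul_single, _root_.one_mul, _root_.mul_one]
        · rw [MonoidAlgebra.coeff_single, MonoidAlgebra.coeff_single]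
          by_cases hg : g = g₀
          · subst hg; rw [Finsupp.single_eq_same, Finsupp.single_eq_same]
          · rw [Finsupp.single_eq_of_ne hg, Finsupp.single_eq_of_ne hg,
              MonoidAlgebra.single_zero, map_zero]
    obtain ⟨r, hr1, hr2⟩ := hr (ψ f)
    rw [hl, hr1] at e0
    have e1 := congrArg (fun r => r.coeff g) ((polyCoord_bijective P M).1 e0)
    simp only [MonoidAlgebra.coeff_mapRingHom, hr2] at e1
    apply (polyCoord_bijective Pm M).1
    rw [hψ]
    exact e1
  -- the component of weight zero for the cocharacter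
  let cst : Gam Pm →+* Gam Pm :=
    (ev.comp (MvPolynomial.C.comp MvPolynomial.constantCoeff)).comp
      (RingEquiv.ofBijective _ (mvCoordHom_bijective Y m)).symm.toRingHom
  have hcst : ∀ q, cst (ev q) = ev (MvPolynomial.C (MvPolynomial.constantCoeff q)) := fun q => by
    simp only [cst, ev, RingHom.comp_apply]
    exact congrArg (fun r => mvCoordHom Y m (MvPolynomial.C (MvPolynomial.constantCoeff r)))
      ((RingEquiv.ofBijective _ (mvCoordHom_bijective Y m)).symm_apply_apply q)
  have hzero : ∀ q ∈ ψ.range, MonoidAlgebra.mapRingHom (Multiplicative M) cst q ∈ ψ.range := by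
    rintro _ ⟨f, rfl⟩
    let C : polyDS Q ℤ ⟶ Q := lift (polyProj Q ℤ ≫ fst Y G)
      ((polyTu Q ℤ ≫ ν) * (polyProj Q ℤ ≫ snd Y G) * (polyTu Q ℤ ≫ ν)⁻¹)
    obtain ⟨c, hc⟩ := (polyCoord_bijective Q ℤ).2 (C.left.appTop f)
    refine ⟨c.coeff (Multiplicative.ofAdd (0 : ℤ)), ?_⟩
    obtain ⟨L, hL1, hL2, hL3⟩ := exists_polyLift (polyProj P ℤ ≫ h) (polyTu P ℤ)
    obtain ⟨σm, hσm1, hσm2, hσm3⟩ := exists_mvLift (polyProj P ℤ ≫ polyProj Pm M ≫ mvProj Y m) fun k =>
      gaPt (Red.gmFn (polyTu P ℤ) ^ d k *
        Red.gaFn (polyProj P ℤ ≫ polyProj Pm M ≫ mvTu Y m ≫ powProj (Red.Ga S) m k))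
    obtain ⟨σ, hσ1, hσ2, hσ3⟩ := exists_polyLift σm (polyProj P ℤ ≫ polyTu Pm M)
    have hLC : L ≫ C = σ ≫ h := by
      have hconj := H.prodMap_conj (polyTu P ℤ) (polyProj P ℤ ≫ polyProj Pm M ≫ mvTu Y m) (σm ≫ mvTu Y m)
        fun k => by
          rw [Category.assoc, hσm2, gaFn_gaPt, Category.assoc, Category.assoc]
      apply CartesianMonoidalCategory.hom_ext
      · simp only [C, h, Category.assoc, lift_fst]
        rw [← Category.assoc L, hL1, ← Category.assoc σ, hσ1, hσm1]
        simp only [h, Category.assoc, lift_fst]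
      · simp only [C, h, Category.assoc, lift_snd, MonObj.comp_mul, GrpObj.comp_inv]
        rw [← Category.assoc L (polyTu Q ℤ) ν, hL2, ← Category.assoc L (polyProj Q ℤ), hL1,
          ← Category.assoc σ (polyTu Pm M) j, hσ2, ← Category.assoc σ (polyProj Pm M), hσ1]
        simp only [h, Category.assoc, lift_snd, MonObj.comp_mul] at hconj ⊢
        rw [← hconj]
        have hc0 := hcomm _ (polyTu P ℤ) (polyProj P ℤ ≫ polyTu Pm M)
        simp only [Category.assoc] at hc0
        generalize polyTu P ℤ ≫ ν = a at hc0 ⊢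
        generalize polyProj P ℤ ≫ polyTu Pm M ≫ j = s at hc0 ⊢
        rw [← _root_.mul_assoc, hc0]
        group
        rfl
    have e0 := congrArg (fun k => k.left.appTop f) hLC
    change L.left.appTop (C.left.appTop f) = σ.left.appTop (h.left.appTop f) at e0
    rw [← hc, hL3, ← hψ, hσ3] at e0
    have hl : evalDS (polyProj P ℤ ≫ h) (polyTu P ℤ) c =
        polyCoord P ℤ (MonoidAlgebra.mapRingHom (Multiplicative ℤ) h.left.appTop.hom c) := by
      rw [← RingHom.comp_apply]
      congr 1
      refine MonoidAlgebra.ringHom_ext (fun a => ?_) fun g => ?_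
      · rw [RingHom.comp_apply, MonoidAlgebra.mapRingHom_single, ← polyProj_appTop,
          show (1 : Multiplicative ℤ) = Multiplicative.ofAdd 0 from rfl, evalDS_single, dsFn_zero]
        exact _root_.mul_one _
      · rw [RingHom.comp_apply, MonoidAlgebra.mapRingHom_single, map_one,
          show g = Multiplicative.ofAdd (Multiplicative.toAdd g) from rfl, evalDS_single, map_one,
          _root_.one_mul, dsFn_polyTu]
    have hr : ∀ q : DSRing Pm M, ∃ r, evalDS σm (polyProj P ℤ ≫ polyTu Pm M) q = polyCoord P ℤ r ∧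
        r.coeff (Multiplicative.ofAdd (0 : ℤ)) =
          polyCoord Pm M (MonoidAlgebra.mapRingHom (Multiplicative M) cst q) := by
      intro q
      induction q using MonoidAlgebra.induction_linear with
      | zero => exact ⟨0, by simp, by simp⟩
      | add x y hx hy =>
        obtain ⟨r, hr, hrc⟩ := hx
        obtain ⟨r', hr', hrc'⟩ := hy
        exact ⟨r + r', by simp [hr, hr'], by
          simp only [MonoidAlgebra.coeff_add, Finsupp.add_apply, hrc, hrc', map_add]⟩
      | single g₀ a =>
        obtain ⟨mm, rfl⟩ := Multiplicative.ofAdd.surjective g₀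
        obtain ⟨b, rfl⟩ := (mvCoordHom_bijective Y m).2 a
        let c' : MvPolynomial (Fin m) (Gam Y) →+* Γ(P.left, ⊤) := (polyProj Pm M).left.appTop.hom.comp ev
        let E := MvPolynomial.eval₂ (MonoidAlgebra.singleOneRingHom.comp (c'.comp MvPolynomial.C))
          (fun k => MonoidAlgebra.single ((Multiplicative.ofAdd (1 : ℤ)) ^ d k) (c' (MvPolynomial.X k))) b
        refine ⟨E * MonoidAlgebra.single 1 (dsFn (polyTu Pm M) mm), ?_, ?_⟩
        · rw [evalDS_single, map_mul, dsFn_comp, ← polyProj_appTop, hσm3]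
          congr 1
          refine DFunLike.congr_fun (f := evalMv (polyProj P ℤ ≫ polyProj Pm M ≫ mvProj Y m) fun k =>
              gaPt (Red.gmFn (polyTu P ℤ) ^ d k *
                Red.gaFn (polyProj P ℤ ≫ polyProj Pm M ≫ mvTu Y m ≫ powProj (Red.Ga S) m k)))
            (g := (polyCoord P ℤ).comp (MvPolynomial.eval₂Hom
              (MonoidAlgebra.singleOneRingHom.comp (c'.comp MvPolynomial.C))
              (fun k => MonoidAlgebra.single ((Multiplicative.ofAdd (1 : ℤ)) ^ d k) (c' (MvPolynomial.X k))))) ?_ b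
          refine MvPolynomial.ringHom_ext (fun a => ?_) fun k => ?_
          · rw [RingHom.comp_apply, MvPolynomial.eval₂Hom_C]
            refine (MvPolynomial.eval₂Hom_C _ _ a).trans ?_
            show (polyProj P ℤ).left.appTop ((polyProj Pm M).left.appTop ((mvProj Y m).left.appTop a)) = _
            rw [mvProj_appTop, polyProj_appTop (Y := P)]
            rfl
          · rw [RingHom.comp_apply, MvPolynomial.eval₂Hom_X']
            refine (MvPolynomial.eval₂Hom_X' _ _ k).trans ?_
            rw [gaFn_gaPt, gmFn_eq, dsFn_polyTu, gaFn_comp, gaFn_comp, gaFn_mvTu, polyProj_appTop (Y := P),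
              ← map_pow, ← map_mul, MonoidAlgebra.single_pow, MonoidAlgebra.single_mul_single, one_pow,
              _root_.one_mul, _root_.mul_one]
            rfl
        · have hE : (E * MonoidAlgebra.single 1 (dsFn (polyTu Pm M) mm)).coeff (Multiplicative.ofAdd (0 : ℤ)) =
              E.coeff (Multiplicative.ofAdd (0 : ℤ)) * dsFn (polyTu Pm M) mm :=
            MonoidAlgebra.coeff_mul_single_one _ _ _
          rw [hE, MonoidAlgebra.mapRingHom_single, hcst, eval₂_scale_coeff_zero d H.hpos, dsFn_polyTu]
          show (polyProj Pm M).left.appTop _ * _ = _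
          rw [polyProj_appTop, ← map_mul, MonoidAlgebra.single_mul_single, _root_.one_mul, _root_.mul_one]
    obtain ⟨r, hr1, hr2⟩ := hr (ψ f)
    rw [hl, hr1] at e0
    have e1 := congrArg (fun r => r.coeff (Multiplicative.ofAdd (0 : ℤ))) ((polyCoord_bijective P ℤ).1 e0)
    simp only [MonoidAlgebra.coeff_mapRingHom, hr2] at e1
    apply (polyCoord_bijective Pm M).1
    rw [hψ]
    exact e1
  have hone : ∀ {W : Over S} (w : W ⟶ RedSub.pow (Red.Ga S) m),
      (∀ k, w ≫ powProj (Red.Ga S) m k = gaPt 0) → w ≫ π = 1 := fun w hw => by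
    rw [prodMap_pt, List.prod_eq_one]
    intro g hg
    obtain ⟨k, rfl⟩ := (List.mem_ofFn' _ _).mp hg
    simp only [hw, H.zero]
  -- the torus part
  have htorus : ∀ q : DSRing Y M, MonoidAlgebra.mapRingHom (Multiplicative M)
      (ev.comp MvPolynomial.C) q ∈ ψ.range := by
    intro q
    obtain ⟨f, hf⟩ := surjective_dsHom j hG Y (polyCoord Y M q)
    obtain ⟨o, ho1, ho2, ho3⟩ := exists_mvLift (polyProj Y M) (fun _ => gaPt (X := polyDS Y M) 0)
    obtain ⟨O, hO1, hO2, hO3⟩ := exists_polyLift (Y := Pm) o (polyTu Y M)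
    have hOh : O ≫ h = lift (polyProj Y M) (polyTu Y M ≫ j) := by
      apply CartesianMonoidalCategory.hom_ext
      · simp only [h, Category.assoc, lift_fst]
        rw [← Category.assoc, hO1, ho1]
      · simp only [h, Category.assoc, lift_snd, MonObj.comp_mul]
        rw [← Category.assoc O, hO2, ← Category.assoc O, hO1, ← Category.assoc o,
          hone _ fun k => by rw [Category.assoc, ho2], _root_.mul_one]
    have e0 := congrArg (fun k => k.left.appTop f) hOh
    change O.left.appTop (h.left.appTop f) = _ at e0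
    rw [hf, ← hψ, hO3] at e0
    let cc : Gam Pm →+* Gam Y :=
      MvPolynomial.constantCoeff.comp (RingEquiv.ofBijective _ (mvCoordHom_bijective Y m)).symm.toRingHom
    have hcc : ∀ p, cc (ev p) = MvPolynomial.constantCoeff p := fun p =>
      congrArg MvPolynomial.constantCoeff
        ((RingEquiv.ofBijective _ (mvCoordHom_bijective Y m)).symm_apply_apply p)
    have hev : ∀ r : DSRing Pm M, evalDS o (polyTu Y M) r =
        polyCoord Y M (MonoidAlgebra.mapRingHom (Multiplicative M) cc r) := by
      intro r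
      induction r using MonoidAlgebra.induction_linear with
      | zero => simp
      | add x y hx hy => simp only [map_add, hx, hy]
      | single g₀ a =>
        obtain ⟨mm, rfl⟩ := Multiplicative.ofAdd.surjective g₀
        obtain ⟨b, rfl⟩ := (mvCoordHom_bijective Y m).2 a
        rw [evalDS_single, MonoidAlgebra.mapRingHom_single, hcc, dsFn_polyTu, ho3]
        have : evalMv (polyProj Y M) (fun _ => gaPt (X := polyDS Y M) 0) b =
            polyCoord Y M (MonoidAlgebra.single 1 (MvPolynomial.constantCoeff b)) := by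
          rw [← polyProj_appTop]
          refine DFunLike.congr_fun (f := evalMv (polyProj Y M) fun _ => gaPt (X := polyDS Y M) 0)
            (g := (polyProj Y M).left.appTop.hom.comp MvPolynomial.constantCoeff) ?_ b
          refine MvPolynomial.ringHom_ext (fun a => ?_) fun k => ?_
          · rw [RingHom.comp_apply, MvPolynomial.constantCoeff_C]
            exact MvPolynomial.eval₂Hom_C _ _ a
          · rw [RingHom.comp_apply, MvPolynomial.constantCoeff_X, map_zero]
            refine (MvPolynomial.eval₂Hom_X' _ _ k).trans ?_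
            exact gaFn_gaPt _
        rw [this, ← map_mul, MonoidAlgebra.single_mul_single, _root_.one_mul, _root_.mul_one]
    rw [hev] at e0
    have e1 := (polyCoord_bijective Y M).1 e0
    have hc' : cst = (ev.comp MvPolynomial.C).comp cc := rfl
    have := hzero _ ⟨f, rfl⟩
    rwa [hc', MonoidAlgebra.mapRingHom_comp, RingHom.comp_apply, e1] at this
  -- the unipotent part
  have hunip : ∀ q : Gam Pm, MonoidAlgebra.single (1 : Multiplicative M) q ∈ ψ.range := by
    intro q
    have := closedImmersion_whiskerLeft Y π (H.isClosedImmersion hG)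
    let hU : Pm ⟶ Q := (mvIso Y m).hom ≫ Y ◁ π
    have : IsIso (mvIso Y m).hom.left := inferInstanceAs (IsIso ((Over.forget S).map (mvIso Y m).hom))
    have : IsClosedImmersion hU.left :=
      inferInstanceAs (IsClosedImmersion ((mvIso Y m).hom.left ≫ (Y ◁ π).left))
    obtain ⟨f, hf⟩ := (IsClosedImmersion.isAffine_surjective_of_isAffine (f := hU.left)).2 q
    obtain ⟨O, hO1, hO2, hO3⟩ := exists_polyLift (Y := Pm) (M := M) (𝟙 Pm) (1 : Pm ⟶ Red.DS S M)
    have hOh : O ≫ h = hU := by
      apply CartesianMonoidalCategory.hom_ext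
      · simp only [h, hU, mvIso, Category.assoc, lift_fst, whiskerLeft_fst]
        rw [← Category.assoc, hO1, Category.id_comp]
      · simp only [h, hU, mvIso, Category.assoc, lift_snd, whiskerLeft_snd, MonObj.comp_mul, lift_snd_assoc]
        rw [← Category.assoc O, hO2, ← Category.assoc O, hO1, MonObj.one_comp, Category.id_comp,
          _root_.one_mul]
    have e0 := congrArg (fun k => k.left.appTop f) hOh
    change O.left.appTop (h.left.appTop f) = _ at e0
    rw [hf, ← hψ, hO3, ← MonoidAlgebra.sum_coeff_single (ψ f), map_finsuppSum] at e0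
    have hterm : ∀ (g : Multiplicative M) (a : Gam Pm),
        evalDS (𝟙 Pm) (1 : Pm ⟶ Red.DS S M) (MonoidAlgebra.single g a) = a := fun g a => by
      refine (evalDS_single (M := M) (𝟙 Pm) (1 : Pm ⟶ Red.DS S M) (Multiplicative.toAdd g) a).trans ?_
      rw [dsFn_one, _root_.mul_one]
      exact appTop_id_apply' a
    simp only [hterm] at e0
    rw [← e0, ← MonoidAlgebra.singleAddHom_apply, map_finsuppSum]
    refine ψ.range.sum_mem fun g _ => ?_
    simp only [MonoidAlgebra.singleAddHom_apply]
    have h2 := ψ.range.mul_mem (htorus (MonoidAlgebra.single g⁻¹ 1)) (hcomp _ ⟨f, rfl⟩ g)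
    rwa [MonoidAlgebra.mapRingHom_single, map_one, MonoidAlgebra.single_mul_single, inv_mul_cancel,
      _root_.one_mul] at h2
  have hsurj : Function.Surjective h.left.appTop := fun r => by
    obtain ⟨q, rfl⟩ := (polyCoord_bijective Pm M).2 r
    obtain ⟨f, hf⟩ : q ∈ ψ.range := by
      rw [← MonoidAlgebra.sum_coeff_single q]
      refine ψ.range.sum_mem fun g _ => ?_
      have h2 := ψ.range.mul_mem (htorus (MonoidAlgebra.single g 1)) (hunip (q.coeff g))
      rwa [MonoidAlgebra.mapRingHom_single, map_one, MonoidAlgebra.single_mul_single, _root_.mul_one,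
        _root_.one_mul] at h2
    exact ⟨f, by rw [← hψ, hf]⟩
  have hh : IsClosedImmersion h.left := IsClosedImmersion.of_surjective_of_isAffine _ hsurj
  obtain ⟨v, hv1, hv2, -⟩ := exists_mvLift (fst Y (Red.DS S M ⊗ RedSub.pow (Red.Ga S) m))
    (fun k => snd _ _ ≫ snd _ _ ≫ powProj (Red.Ga S) m k)
  obtain ⟨w, hw1, hw2, -⟩ := exists_polyLift (Y := Pm) v (snd Y _ ≫ fst _ _)
  let back : P ⟶ Y ⊗ (Red.DS S M ⊗ RedSub.pow (Red.Ga S) m) :=
    lift (polyProj Pm M ≫ mvProj Y m) (lift (polyTu Pm M) (polyProj Pm M ≫ mvTu Y m))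
  have hwb : w ≫ back = 𝟙 _ := by
    apply CartesianMonoidalCategory.hom_ext
    · simp only [back, Category.assoc, lift_fst, Category.id_comp]
      rw [← Category.assoc, hw1, hv1]
    · apply CartesianMonoidalCategory.hom_ext
      · simp only [back, Category.assoc, lift_snd_assoc, lift_fst, Category.id_comp, hw2]
      · simp only [back, Category.assoc, lift_snd_assoc, lift_snd, Category.id_comp]
        refine powProj_ext fun k => ?_
        simp only [Category.assoc]
        rw [← Category.assoc w, hw1, hv2]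
  have hbw : back ≫ w = 𝟙 _ := by
    refine polyDS_hom_ext ?_ ?_
    · rw [Category.assoc, hw1, Category.id_comp]
      refine polyMv_hom_ext ?_ (powProj_ext fun k => ?_)
      · rw [Category.assoc, hv1, lift_fst]
      · simp only [Category.assoc, hv2, back, lift_snd_assoc]
    · rw [Category.assoc, hw2, Category.id_comp]
      simp [back]
  have e1 : Y ◁ torusProd j u = w ≫ h := by
    have e2 : back ≫ Y ◁ torusProd j u = h := by
      apply CartesianMonoidalCategory.hom_ext
      · simp [back, h]
      · simp [back, h, torusProd, MonObj.comp_mul, π]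
    rw [← e2, ← Category.assoc, hwb, Category.id_comp]
  rw [e1]
  have : IsIso w := ⟨back, hwb, hbw⟩
  have : IsIso w.left := inferInstanceAs (IsIso ((Over.forget S).map w))
  exact inferInstanceAs (IsClosedImmersion (w.left ≫ h.left))
where
  appTop_id_apply' {Z : Over S} (a : Γ(Z.left, ⊤)) : (𝟙 Z : Z ⟶ Z).left.appTop a = a := by
    simp

/-- The torus times the positive root groups is a closed subscheme. -/
theorem torusProd_isClosedImmersion (hG : IsAffineHom G.hom) (H : Weighted ν d u)
    (hcomm : ∀ (Z : Over S) (t : Z ⟶ Red.Gm S) (s : Z ⟶ Red.DS S M),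
      (t ≫ ν) * (s ≫ j) = (s ≫ j) * (t ≫ ν)) :
    IsClosedImmersion (torusProd j u).left :=
  isClosedImmersion_of_whiskerLeft _ fun Y _ => torusProd_closed_affine j hG H hcomm Y

end Groth.Agent.RedPts82
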