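import Groth.Agent.RedPts82.BruhatUnip
import Groth.Agent.RedPts82.DSChar

/-!
The normal forms in the Levi of a wall of a point inducing the reflection.
-/

universe u

open CategoryTheory MonoidalCategory CartesianMonoidalCategory MonObj GrpObj AlgebraicGeometry
open CategoryTheory.Limits

namespace Groth.Agent.RedPts82

variable {S : Scheme.{u}} {G : Over S} [GrpObj G] {D : Red.SplitRed G} {l : D.M →+ ℤ}

/-- The points of the big cell of a chamber. -/
def InBig (D : Red.SplitRed G) (l : D.M →+ ℤ) {X : Over S} (g : X ⟶ G) : Prop :=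
  ∃ u ∈ Up D (-l) X, ∃ (t : X ⟶ Red.DS S D.M), ∃ v ∈ Up D l X, g = u * tpt D t * v

/-- The big cell of a chamber. -/
noncomputable abbrev bigMap (D : Red.SplitRed G) (l : D.M →+ ℤ) :=
  cellS D.i (fun k => D.u (posEnum D (-l) k)) (fun k => D.u (posEnum D l k))

theorem prodMap_eq_list {X : Over S} {m : ℕ} (e : Fin m → D.idx) (x : X ⟶ RedSub.pow (Red.Ga S) m) :
    x ≫ RedSub.prodMap (Red.Ga S) m (fun k => D.u (e k)) =
      (List.ofFn fun k => rp D (e k) (Red.gaFn (x ≫ powProj (Red.Ga S) m k))).prod := by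
  rw [prodMap_pt]
  simp only [rp, gaPt_gaFn]

theorem powTuple_prodMap {X : Over S} {m : ℕ} (e : Fin m → D.idx) (x : Fin m → Γ(X.left, ⊤)) :
    powTuple (fun k => gaPt (x k)) ≫ RedSub.prodMap (Red.Ga S) m (fun k => D.u (e k)) =
      (List.ofFn fun k => rp D (e k) (x k)).prod := by
  rw [prodMap_pt]
  simp only [powTuple_proj, rp]

theorem cellS_eq_prod {X : Over S} {n m : ℕ} (en : Fin n → D.idx) (ep : Fin m → D.idx)
    (w : X ⟶ RedSub.pow (Red.Ga S) n ⊗ (D.T ⊗ RedSub.pow (Red.Ga S) m)) :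
    w ≫ cellS D.i (fun k => D.u (en k)) (fun k => D.u (ep k)) =
      (List.ofFn fun k => rp D (en k) (Red.gaFn ((w ≫ fst _ _) ≫ powProj (Red.Ga S) n k))).prod *
        tpt D (w ≫ snd _ _ ≫ fst _ _ ≫ D.split.hom.hom.hom) *
        (List.ofFn fun k => rp D (ep k) (Red.gaFn ((w ≫ snd _ _ ≫ snd _ _) ≫ powProj (Red.Ga S) m k))).prod := by
  rw [cellS_pt, prodMap_eq_list, prodMap_eq_list, i_eq_tpt, _root_.mul_assoc]
  simp only [Category.assoc]

theorem exists_cellS {X : Over S} {n m : ℕ} (en : Fin n → D.idx) (ep : Fin m → D.idx)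
    (y : Fin n → Γ(X.left, ⊤)) (t : X ⟶ Red.DS S D.M) (x : Fin m → Γ(X.left, ⊤)) :
    ∃ w, w ≫ cellS D.i (fun k => D.u (en k)) (fun k => D.u (ep k)) =
      (List.ofFn fun k => rp D (en k) (y k)).prod * tpt D t * (List.ofFn fun k => rp D (ep k) (x k)).prod := by
  refine ⟨lift (powTuple fun k => gaPt (y k)) (lift (t ≫ D.split.inv.hom.hom) (powTuple fun k => gaPt (x k))), ?_⟩
  rw [cellS_lift, powTuple_prodMap, powTuple_prodMap, _root_.mul_assoc]
  simp only [tpt, Category.assoc]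

theorem Chamber.inBig_of_range (hl : Chamber D l) {X : Over S} {g : X ⟶ G}
    (h : Set.range g.left.base ⊆ Set.range (bigMap D l).left.base) : InBig D l g := by
  classical
  have C := cellData_of_regular D l hl.inj (posEnum D (-l)) (posEnum D l) posEnum_injective
    posEnum_injective (fun k => by
      have := posEnum_pos (D := D) (l := -l) k
      simp only [AddMonoidHom.neg_apply] at this
      omega) posEnum_pos
  have := C.mono_cell
  have : IsOpenImmersion (bigMap D l).left := by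
    have : Mono (RedSub.cellMap D (posEnum D (-l)) (posEnum D l)) := C.mono_cell
    refine cellMap_open_of_mono D _ _ ?_
    rw [Fintype.card_congr (Equiv.subtypeEquivRight
      (p := fun c => 0 < (-l) (D.P.root c)) (q := fun c => ¬ 0 < l (D.P.root c))
      fun c => by have := hl.ne c; simp only [AddMonoidHom.neg_apply]; omega),
      Fintype.card_subtype_compl, Nat.sub_add_cancel (Fintype.card_subtype_le _)]
  obtain ⟨w, rfl⟩ := exists_factor_of_range (bigMap D l) g h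
  exact ⟨_, prod_mem_up _ posEnum_pos _, _, _, prod_mem_up _ posEnum_pos _, cellS_eq_prod _ _ w⟩

theorem Chamber.exists_bigMap (hl : Chamber D l) {X : Over S} {g : X ⟶ G} (h : InBig D l g) :
    ∃ w, w ≫ bigMap D l = g := by
  classical
  obtain ⟨u, hu, t, v, hv, rfl⟩ := h
  obtain ⟨y, rfl⟩ := hl.neg.exists_prod posEnum_injective posEnum_range hu
  obtain ⟨x, rfl⟩ := hl.exists_prod posEnum_injective posEnum_range hv
  exact exists_cellS _ _ y t x

theorem Chamber.range_of_inBig (hl : Chamber D l) {X : Over S} {g : X ⟶ G} (h : InBig D l g) :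
    Set.range g.left.base ⊆ Set.range (bigMap D l).left.base := by
  obtain ⟨w, rfl⟩ := hl.exists_bigMap h
  rintro _ ⟨p, rfl⟩
  exact ⟨_, rfl⟩

theorem Chamber.inBig_of_surjective (hl : Chamber D l) {X X' : Over S} {g : X ⟶ G} (k : X' ⟶ X)
    (hk : Surjective k.left) (h : InBig D l (k ≫ g)) : InBig D l g := by
  refine hl.inBig_of_range ?_
  rintro _ ⟨p, rfl⟩
  obtain ⟨p', rfl⟩ := hk.1 p
  exact hl.range_of_inBig h ⟨p', rfl⟩

/-- Every point is a quotient of two cell points after a flat surjective extension. -/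
theorem Chamber.exists_quot (hl : Chamber D l) {X : Over S} (g : X ⟶ G) :
    ∃ (X' : Over S) (k : X' ⟶ X) (p q : X' ⟶ G), Flat k.left ∧ Surjective k.left ∧
      InBig D l p ∧ InBig D l q ∧ k ≫ g = p * q⁻¹ := by
  classical
  have C := cellData_of_regular D l hl.inj (posEnum D (-l)) (posEnum D l) posEnum_injective
    posEnum_injective (fun k => by
      have := posEnum_pos (D := D) (l := -l) k
      simp only [AddMonoidHom.neg_apply] at this
      omega) posEnum_pos
  have : IsOpenImmersion (bigMap D l).left := by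
    have : Mono (RedSub.cellMap D (posEnum D (-l)) (posEnum D l)) := C.mono_cell
    refine cellMap_open_of_mono D _ _ ?_
    rw [Fintype.card_congr (Equiv.subtypeEquivRight
      (p := fun c => 0 < (-l) (D.P.root c)) (q := fun c => ¬ 0 < l (D.P.root c))
      fun c => by have := hl.ne c; simp only [AddMonoidHom.neg_apply]; omega),
      Fintype.card_subtype_compl, Nat.sub_add_cancel (Fintype.card_subtype_le _)]
  obtain ⟨X', k, w, w', hf, hs, e⟩ := exists_div D.reductive (bigMap D l)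
    (fun Y => one_range_cell (fun k => rootHom_gaPt_zero D _) (fun k => rootHom_gaPt_zero D _)
      D.maximalTorus.1) g
  exact ⟨X', k, w ≫ bigMap D l, w' ≫ bigMap D l, hf, hs, hl.inBig_of_range (fun _ ⟨p, hp⟩ => ⟨_, hp⟩),
    hl.inBig_of_range (fun _ ⟨p, hp⟩ => ⟨_, hp⟩), e⟩

/-- A section in the cell on a field point acts trivially. -/
theorem Acts.eq_one_of_inBig {n : 𝟙_ (Over S) ⟶ G} {g : D.P.Aut} (hn : Acts D n g) {K : Type u}
    [Field K] [IsAlgClosed K] {W : Over S} (e : K ≃+* Γ(W.left, ⊤)) (h : InBig D l (np n W)) :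
    g = 1 := by
  obtain ⟨u, hu, t, v, hv, huv⟩ := h
  refine eq_one_of_tw_fixed e fun s => tpt_injective ?_
  have e1 : u * (tpt D t * tpt D s) * ((tpt D s)⁻¹ * v * tpt D s) =
      (tpt D (tw g s) * u * (tpt D (tw g s))⁻¹) * (tpt D (tw g s) * tpt D t) * v := by
    have h2 := hn.swap (X := W) s
    rw [huv] at h2
    rw [show tpt D (tw g s) * u * (tpt D (tw g s))⁻¹ * (tpt D (tw g s) * tpt D t) * v =
      tpt D (tw g s) * (u * tpt D t * v) by group, ← h2]
    group
  have h3 := (split_unique hu (fixed_conj_up (tpt_mem_fixed _) hu)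
    ((Fixed D l W).mul_mem (tpt_mem_fixed _) (tpt_mem_fixed _))
    ((Fixed D l W).mul_mem (tpt_mem_fixed _) (tpt_mem_fixed _))
    (by
      have := fixed_conj_up (l := l) (tpt_mem_fixed (D := D) s⁻¹) hv
      rwa [tpt_inv, _root_.inv_inv] at this) hv e1).2.1
  rw [tpt_comm] at h3
  exact (mul_right_cancel h3).symm

theorem reflection_ne_one (a : D.idx) : RootPairing.Equiv.reflection D.P a ≠ 1 := fun h => by
  have e := Roots36.reflection_smul_index (P := D.P) a a
  rw [h, one_smul] at e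
  have e2 : D.P.root a = -D.P.root a :=
    (congrArg D.P.root e).trans (Roots36.root_neg (P := D.P) a)
  refine D.P.ne_zero a ?_
  have : (2 : ℤ) • D.P.root a = 0 := by rw [two_smul]; exact eq_neg_iff_add_eq_zero.mp e2
  exact (smul_eq_zero.mp this).resolve_left two_ne_zero

variable {a : D.idx}

/-- The points `M(y) t P(x)` of the Levi of a wall. -/
def InLevi (D : Red.SplitRed G) (a : D.idx) {X : Over S} (g : X ⟶ G) : Prop :=
  ∃ (y : Γ(X.left, ⊤)) (t : X ⟶ Red.DS S D.M) (x : Γ(X.left, ⊤)),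
    g = rp D (negIdx D a) y * tpt D t * rp D a x

theorem InLevi.mem_fixed {X : Over S} {g : X ⟶ G} (h : InLevi D a g) (l : D.M →+ ℤ) :
    g ∈ Fixed D (wallF l a) X := by
  obtain ⟨y, t, x, rfl⟩ := h
  exact (Fixed D _ X).mul_mem ((Fixed D _ X).mul_mem (rp_mem_fixed (wallF_neg_self l a) y)
    (tpt_mem_fixed t)) (rp_mem_fixed (wallF_self l a) x)

theorem Wall.exists_three (h : Wall D l a) {X : Over S} {g : X ⟶ G} (hg : InBig D l g) :
    ∃ r ∈ Up D (-wallF l a) X, ∃ m, InLevi D a m ∧ ∃ v ∈ Up D (wallF l a) X, g = r * m * v := by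
  obtain ⟨u, hu, t, v, hv, rfl⟩ := hg
  obtain ⟨y, r, hr, -, hur⟩ := h.neg.exists_split ((Up D (-l) X).inv_mem hu)
  obtain ⟨x, w, hw, -, rfl⟩ := h.exists_split hv
  have hr2 := hr.2
  rw [wallF_neg] at hr2
  refine ⟨r⁻¹, (Up D _ X).inv_mem hr2, rp D (negIdx D a) (-y) * tpt D t * rp D a x, ⟨_, _, _, rfl⟩,
    w, hw.2, ?_⟩
  rw [rp_neg, show u = r⁻¹ * (rp D (negIdx D a) y)⁻¹ by rw [← _root_.mul_inv_rev, ← hur, _root_.inv_inv]]
  group

theorem Wall.inLevi_of_fixed (h : Wall D l a) {X : Over S} {g : X ⟶ G} (hg : InBig D l g)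
    (hf : g ∈ Fixed D (wallF l a) X) : InLevi D a g := by
  obtain ⟨r, hr, m, hm, v, hv, e⟩ := h.exists_three hg
  have h3 := (split_unique (Up D _ X).one_mem hr hf (hm.mem_fixed l) (Up D _ X).one_mem hv
    (by rw [_root_.one_mul, _root_.mul_one]; exact e)).2.1
  rwa [h3]

variable (b : D.P.Base) {n : 𝟙_ (Over S) ⟶ G}
  (hn : Acts D n (RootPairing.Equiv.reflection D.P a))
include hn

theorem conj_by_torus {X : Over S} (z : Γ(X.left, ⊤)ˣ) (t : X ⟶ Red.DS S D.M)
    (ht : dsFn t (D.P.root a) = ((z⁻¹ : Γ(X.left, ⊤)ˣ) : Γ(X.left, ⊤))) :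
    tpt D t * np n X * (tpt D t)⁻¹ = np n X * hpt D a z := by
  rw [hn.swap', ← tpt_inv, _root_.mul_assoc, ← tpt_mul, hpt_eq_tpt]
  congr 2
  refine dsFn_injective fun m => (dsFn_isUnit t m).mul_right_cancel ?_
  rw [dsFn_mul, _root_.mul_assoc, ← dsFn_mul t⁻¹ t, inv_mul_cancel, dsFn_one, _root_.mul_one, dsFn_tw,
    _root_.inv_inv, RootPairing.Equiv.reflection_smul, RootPairing.reflection_apply, dsFn_DSmap, dsFn_int,
    show gmU (gmPt z) = z from Units.ext (gmFn_gmPt z), sub_eq_add_neg, dsFn_add, mul_comm _ (dsFn t m)]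
  congr 1
  have hu : (dsFn_isUnit t (D.P.root a)).unit = z⁻¹ := Units.ext ht
  rw [← neg_smul, dsFn_zsmul, hu, inv_zpow, zpow_neg, _root_.inv_inv]
  congr 2
  have e := congrArg (fun f => f m (D.P.coroot a)) D.pairing_eq
  simp only [Module.Dual.eval_apply] at e
  simpa [RootPairing.coroot'] using e

omit b in
theorem hpt_swap {X : Over S} (z : Γ(X.left, ⊤)ˣ) :
    np n X * hpt D a z = hpt D a z⁻¹ * np n X := by
  rw [hpt_eq_tpt, hpt_eq_tpt, hn.swap]
  congr 2
  refine dsFn_injective fun m => ?_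
  rw [dsFn_tw, RootPairing.Equiv.reflection_inv, RootPairing.Equiv.reflection_smul, dsFn_DSmap, dsFn_DSmap,
    dsFn_int, dsFn_int, show gmU (gmPt z) = z from Units.ext (gmFn_gmPt z),
    show gmU (gmPt z⁻¹) = z⁻¹ from Units.ext (gmFn_gmPt _), inv_zpow, ← zpow_neg]
  congr 2
  rw [LinearMap.toAddMonoidHom_coe, RootPairing.reflection_apply, map_sub, map_smul, pairing_eq_coroot,
    RootPairing.pairing_same]
  have e := congrArg (fun f => f m (D.P.coroot a)) D.pairing_eq
  simp only [Module.Dual.eval_apply] at e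
  rw [RootPairing.coroot']
  simp only [LinearMap.flip_apply, e, smul_eq_mul]
  ring

/-- Rescaling a normal form by the torus. -/
theorem scale_form {X : Over S} {y p q : Γ(X.left, ⊤)} {τ : X ⟶ Red.DS S D.M}
    (h : np n X * rp D (negIdx D a) y = rp D (negIdx D a) p * tpt D τ * rp D a q) (z : Γ(X.left, ⊤)ˣ) :
    np n X * rp D (negIdx D a) ((z : Γ(X.left, ⊤)) * y) =
      rp D (negIdx D a) (((z⁻¹ : Γ(X.left, ⊤)ˣ) : Γ(X.left, ⊤)) * p) * (hpt D a z * tpt D τ) *
        rp D a (((z⁻¹ : Γ(X.left, ⊤)ˣ) : Γ(X.left, ⊤)) * q) := by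
  have : IsAddTorsionFree D.M := Roots36.isAddTorsionFree_M D.P
  obtain ⟨hf, hs⟩ := chi_flat_surjective (S := S) (D.P.ne_zero a)
  let χ := Red.chi S (D.P.root a)
  let zi : X ⟶ Red.Gm S := gmPt z⁻¹
  let X' : Over S := Over.mk (pullback.fst zi.left χ.left ≫ X.hom)
  let k : X' ⟶ X := Over.homMk (pullback.fst zi.left χ.left) rfl
  let t : X' ⟶ Red.DS S D.M := Over.homMk (pullback.snd zi.left χ.left) (by
    show _ = pullback.fst zi.left χ.left ≫ X.hom
    rw [← Over.w zi, ← Over.w χ, pullback.condition_assoc])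
  have hk : Epi k := epi_of_flat_surjective k (MorphismProperty.pullback_fst (P := @Flat) _ _ hf)
    (MorphismProperty.pullback_fst (P := @Surjective) _ _ hs)
  have ht : t ≫ χ = k ≫ zi := Over.OverMorphism.ext pullback.condition.symm
  let w : Γ(X'.left, ⊤)ˣ := Units.map k.left.appTop.hom.toMonoidHom z
  have hw : dsFn t (D.P.root a) = ((w⁻¹ : Γ(X'.left, ⊤)ˣ) : Γ(X'.left, ⊤)) := by
    rw [← gmFn_chi, ht, gmFn_comp, gmFn_gmPt, ← map_inv]
    rfl
  refine (cancel_epi k).mp ?_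
  have h' := congrArg (k ≫ ·) h
  simp only [MonObj.comp_mul, comp_np, comp_rp, comp_tpt, hpt_eq_tpt, map_mul] at h' ⊢
  rw [show k ≫ gmPt z ≫ Red.DSmap S (D.P.coroot a).toAddMonoidHom =
      gmPt w ≫ Red.DSmap S (D.P.coroot a).toAddMonoidHom by
    rw [← Category.assoc]
    congr 1
    refine gmFn_injective ?_
    rw [gmFn_comp, gmFn_gmPt, gmFn_gmPt]
    rfl, ← hpt_eq_tpt]
  show np n X' * rp D (negIdx D a) ((w : Γ(X'.left, ⊤)) * _) =
    rp D (negIdx D a) (((w⁻¹ : Γ(X'.left, ⊤)ˣ) : Γ(X'.left, ⊤)) * _) * (hpt D a w * _) *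
      rp D a (((w⁻¹ : Γ(X'.left, ⊤)ˣ) : Γ(X'.left, ⊤)) * _)
  generalize k.left.appTop y = y' at h' ⊢
  generalize k.left.appTop p = p' at h' ⊢
  generalize k.left.appTop q = q' at h' ⊢
  generalize k ≫ τ = τ' at h' ⊢
  have cM : ∀ r : Γ(X'.left, ⊤), tpt D t * rp D (negIdx D a) r * (tpt D t)⁻¹ =
      rp D (negIdx D a) ((w : Γ(X'.left, ⊤)) * r) := by
    intro r
    rw [tpt_conj_rp, root_negIdx]
    congr 2
    refine (dsFn_isUnit t (D.P.root a)).mul_right_cancel ?_
    rw [← dsFn_add, neg_add_cancel, dsFn_zero, hw, Units.mul_inv]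
  have cP : ∀ r : Γ(X'.left, ⊤), tpt D t * rp D a r * (tpt D t)⁻¹ =
      rp D a (((w⁻¹ : Γ(X'.left, ⊤)ˣ) : Γ(X'.left, ⊤)) * r) := by
    intro r
    rw [tpt_conj_rp, hw]
  have cW : rp D (negIdx D a) (((w⁻¹ : Γ(X'.left, ⊤)ˣ) : Γ(X'.left, ⊤)) * p') =
      hpt D a w * rp D (negIdx D a) ((w : Γ(X'.left, ⊤)) * p') * (hpt D a w)⁻¹ := by
    simp only [rp, hpt_conj]
    congr 2
    rw [← _root_.mul_assoc, ← Units.val_mul]
    congr 2
    have hp : D.P.pairing (negIdx D a) a = -2 := by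
      rw [← pairing_eq_coroot, root_negIdx, map_neg, pairing_eq_coroot, RootPairing.pairing_same]
    rw [hp, show (-2 : ℤ) = -1 + -1 from rfl, zpow_add, zpow_neg_one, _root_.mul_assoc, inv_mul_cancel,
      _root_.mul_one]
  have e2 : np n X' * hpt D a w * rp D (negIdx D a) ((w : Γ(X'.left, ⊤)) * y') =
      rp D (negIdx D a) ((w : Γ(X'.left, ⊤)) * p') * tpt D τ' *
        rp D a (((w⁻¹ : Γ(X'.left, ⊤)ˣ) : Γ(X'.left, ⊤)) * q') := by
    have hτ : tpt D t * tpt D τ' * (tpt D t)⁻¹ = tpt D τ' := by rw [tpt_comm, mul_inv_cancel_right]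
    rw [← conj_by_torus hn w t hw, ← cM, ← cM, ← cP]
    calc tpt D t * np n X' * (tpt D t)⁻¹ * (tpt D t * rp D (negIdx D a) y' * (tpt D t)⁻¹)
        = tpt D t * (np n X' * rp D (negIdx D a) y') * (tpt D t)⁻¹ := by group
      _ = tpt D t * rp D (negIdx D a) p' * (tpt D t)⁻¹ * (tpt D t * tpt D τ' * (tpt D t)⁻¹) *
            (tpt D t * rp D a q' * (tpt D t)⁻¹) := by rw [h']; group
      _ = _ := by rw [hτ]
  rw [hpt_swap hn, hpt_inv] at e2
  rw [cW]
  calc np n X' * rp D (negIdx D a) ((w : Γ(X'.left, ⊤)) * y')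
      = hpt D a w * ((hpt D a w)⁻¹ * np n X' * rp D (negIdx D a) ((w : Γ(X'.left, ⊤)) * y')) := by group
    _ = _ := by rw [e2]; group

include b

theorem Wall.exists_form (h : Wall D l a) :
    ∃ (p : Γ(S, ⊤)) (τ : 𝟙_ (Over S) ⟶ Red.DS S D.M) (q : Γ(S, ⊤)), IsUnit p ∧
      ∀ X : Over S, np n X * rp D (negIdx D a) 1 =
        rp D (negIdx D a) (cst X p) * tpt D (toUnit X ≫ τ) * rp D a (cst X q) := by
  have hnf : ∀ X : Over S, np n X ∈ Fixed D (wallF l a) X := fun X =>
    Acts.mem_fixed (l := wallF l a) hn (fun m => wallF_apply_reflection l a m) X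
  have hM : ∀ {X : Over S} (r : Γ(X.left, ⊤)), np n X * rp D (negIdx D a) r ∈ Fixed D (wallF l a) X :=
    fun r => (Fixed D _ _).mul_mem (hnf _) (rp_mem_fixed (wallF_neg_self l a) r)
  obtain ⟨X', k, p, q, hf, hs, hp, hq, e⟩ := h.toChamber.exists_quot (np n (𝟙_ (Over S)))
  obtain ⟨r', hr', m', hm', v', hv', rfl⟩ := h.exists_three hp
  obtain ⟨r, hr, m, hm, v, hv, rfl⟩ := h.exists_three hq
  rw [comp_np] at e
  have e1 : np n X' * r * (np n X')⁻¹ * (np n X' * m) * v = r' * m' * v' := by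
    rw [show r' * m' * v' = r' * m' * v' * (r * m * v)⁻¹ * (r * m * v) by group, ← e]
    group
  have e2 : np n X' * m = m' :=
    (split_unique (fixed_conj_up (fixed_neg (hnf X')) hr) hr'
      ((Fixed D _ _).mul_mem (hnf X') (hm.mem_fixed l)) (hm'.mem_fixed l) hv hv' e1).2.1
  obtain ⟨y, t, x, rfl⟩ := hm
  obtain ⟨y', t', x', rfl⟩ := hm'
  have e3 : np n X' * rp D (negIdx D a) y =
      rp D (negIdx D a) y' * tpt D (t' * t⁻¹) * rp D a (dsFn t (D.P.root a) * (x' + -x)) := by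
    rw [← tpt_conj_rp, rp_add, rp_neg, tpt_mul, tpt_inv]
    calc np n X' * rp D (negIdx D a) y
        = np n X' * (rp D (negIdx D a) y * tpt D t * rp D a x) * (rp D a x)⁻¹ * (tpt D t)⁻¹ := by group
      _ = _ := by rw [e2]; group
  have hbig : InBig D l (k ≫ (np n (𝟙_ (Over S)) * rp D (negIdx D a) 1)) := by
    have hy : IsUnit y := by
      refine isUnit_of_field_points y fun K _ _ W _ eK z hz => ?_
      have e4 := congrArg (z ≫ ·) e3
      simp only [MonObj.comp_mul, comp_np, comp_rp, comp_tpt, hz, rp_zero, _root_.mul_one] at e4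
      refine reflection_ne_one a (hn.eq_one_of_inBig (l := l) eK ⟨_, ?_, _, _, ?_, e4⟩)
      · refine rp_mem_up ?_ _
        rw [root_negIdx, AddMonoidHom.neg_apply, map_neg, _root_.neg_neg]
        exact h.pos
      · exact rp_mem_up h.pos _
    have e5 := scale_form hn e3 hy.unit⁻¹
    rw [IsUnit.val_inv_mul, hpt_eq_tpt, ← tpt_mul] at e5
    rw [MonObj.comp_mul, comp_np, comp_rp, map_one, e5]
    refine ⟨_, rp_mem_up ?_ _, _, _, rp_mem_up h.pos _, rfl⟩
    rw [root_negIdx, AddMonoidHom.neg_apply, map_neg, _root_.neg_neg]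
    exact h.pos
  obtain ⟨P, τ, Q, eQ⟩ := h.inLevi_of_fixed (h.toChamber.inBig_of_surjective k hs hbig) (hM 1)
  refine ⟨P, τ, Q, ?_, fun X => ?_⟩
  · refine isUnit_of_field_points (X := 𝟙_ (Over S)) P fun K _ _ W _ eK z hz => ?_
    obtain ⟨c, hc⟩ := hn.exists_moves b (negIdx D a)
    have e4 := congrArg (z ≫ ·) eQ
    simp only [MonObj.comp_mul, comp_np, comp_rp, comp_tpt, hz, map_one, rp_zero, _root_.one_mul] at e4
    have hrefl : RootPairing.Equiv.reflection D.P a • negIdx D a = a := D.P.reflectionPerm_self a a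
    have e6 := hc.conj (X := W) (1 : Γ(W.left, ⊤))
    rw [hrefl, _root_.mul_one] at e6
    refine reflection_ne_one a (hn.eq_one_of_inBig (l := l) eK ⟨1, (Up D (-l) W).one_mem, z ≫ τ,
      rp D a (dsFn (z ≫ τ)⁻¹ (D.P.root a) * -cst W c) * rp D a (z.left.appTop Q),
      (Up D l W).mul_mem (rp_mem_up h.pos _) (rp_mem_up h.pos _), ?_⟩)
    rw [_root_.one_mul, ← tpt_conj_rp, rp_neg, ← e6, tpt_inv, _root_.inv_inv]
    have e8 : np n W = np n W * (rp D (negIdx D a) 1)⁻¹ * (np n W)⁻¹ *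
        (tpt D (z ≫ τ) * rp D a (z.left.appTop Q)) := by
      rw [← e4]; group
    conv_lhs => rw [e8]
    group
  · have e7 := congrArg (toUnit X ≫ ·) eQ
    simp only [MonObj.comp_mul, comp_np, comp_rp, comp_tpt, map_one] at e7
    exact e7.trans (by simp [cst])

/-- For every unit, the translate of a point of the negative root group lies in the Levi cell. -/
theorem Wall.exists_form_unit (h : Wall D l a) {X : Over S} (z : Γ(X.left, ⊤)ˣ) :
    InLevi D a (np n X * rp D (negIdx D a) (z : Γ(X.left, ⊤))) := by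
  obtain ⟨p, τ, q, -, hpq⟩ := h.exists_form b hn
  have e := scale_form hn (hpq X) z
  rw [_root_.mul_one, hpt_eq_tpt, ← tpt_mul] at e
  exact ⟨_, _, _, e⟩

theorem Wall.exists_form_pos (h : Wall D l a) {X : Over S} (z : Γ(X.left, ⊤)ˣ) :
    InLevi D a (rp D a (z : Γ(X.left, ⊤)) * np n X) := by
  obtain ⟨k, hk⟩ := hn.exists_moves_unit b (negIdx D a)
  let k' : Γ(X.left, ⊤)ˣ := Units.map X.hom.appTop.hom.toMonoidHom k
  have hrefl : RootPairing.Equiv.reflection D.P a • negIdx D a = a := D.P.reflectionPerm_self a a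
  have e := hk.conj (X := X) ((k'⁻¹ * z : Γ(X.left, ⊤)ˣ) : Γ(X.left, ⊤))
  rw [hrefl, show cst X (k : Γ(S, ⊤)) = (k' : Γ(X.left, ⊤)) from rfl, ← Units.val_mul, mul_inv_cancel_left] at e
  rw [← e, inv_mul_cancel_right]
  exact h.exists_form_unit b hn _

end Groth.Agent.RedPts82
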