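import Groth.Agent.RedPts82.CommVanish
import Groth.Agent.RedPts82.CellGen

/-!
The torus of a split reductive group is its own centraliser, and the cell generates the group.
-/

universe u

open CategoryTheory MonoidalCategory CartesianMonoidalCategory MonObj GrpObj AlgebraicGeometry
open CategoryTheory.Limits

namespace Groth.Agent.RedPts82

variable {S : Scheme.{u}} {G T : Over S} [GrpObj G] [GrpObj T] {i : T ⟶ G} {ν : Red.Gm S ⟶ G}
  {n m : ℕ} {dn : Fin n → ℕ} {un : Fin n → (Red.Ga S ⟶ G)} {dp : Fin m → ℕ}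
  {up : Fin m → (Red.Ga S ⟶ G)}

/-- A point commuting with the cocharacter which carries some point of the cell into the cell lies in
the torus. -/
theorem CellData.torus_of_comm (C : CellData i ν dn un dp up) (hν : IsMonHom ν)
    [IsOpenImmersion (cellS i up un).left] {X : Over S} {z : X ⟶ G}
    (hz : ∀ (Z : Over S) (k : Z ⟶ X) (t : Z ⟶ Red.Gm S), (t ≫ ν) * (k ≫ z) = (k ≫ z) * (t ≫ ν))
    (c c' : X ⟶ RedSub.pow (Red.Ga S) n ⊗ (T ⊗ RedSub.pow (Red.Ga S) m))
    (h : z * (c' ≫ cellS i un up) = c ≫ cellS i un up) : ∃ s : X ⟶ T, s ≫ i = z := by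
  have := C.hi
  rw [cellS_pt, cellS_pt] at h
  have h1 : Contr (negCochar ν) ((c ≫ fst _ _) ≫ RedSub.prodMap (Red.Ga S) n un) 1 := C.neg.contr_prod _
  have h1' : Contr (negCochar ν) ((c' ≫ fst _ _) ≫ RedSub.prodMap (Red.Ga S) n un) 1 := C.neg.contr_prod _
  have h2 : Contr ν ((c ≫ snd _ _ ≫ snd _ _) ≫ RedSub.prodMap (Red.Ga S) m up) 1 := C.pos.contr_prod _
  have h2' : Contr ν ((c' ≫ snd _ _ ≫ snd _ _) ≫ RedSub.prodMap (Red.Ga S) m up) 1 := C.pos.contr_prod _
  have h3 := C.contr_torus (c ≫ snd _ _ ≫ fst _ _)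
  have h3' := C.contr_torus (c' ≫ snd _ _ ≫ fst _ _)
  have h4 : Contr ν z z := Contr.of_comm hz
  have h4' : Contr (negCochar ν) z z := Contr.of_comm fun Z k t => by
    rw [pt_negCochar]; exact hz Z k t⁻¹
  generalize (c ≫ fst _ _) ≫ RedSub.prodMap (Red.Ga S) n un = y at h h1
  generalize (c' ≫ fst _ _) ≫ RedSub.prodMap (Red.Ga S) n un = y' at h h1'
  generalize (c ≫ snd _ _ ≫ snd _ _) ≫ RedSub.prodMap (Red.Ga S) m up = x at h h2
  generalize (c' ≫ snd _ _ ≫ snd _ _) ≫ RedSub.prodMap (Red.Ga S) m up = x' at h h2'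
  generalize hs : (c ≫ snd _ _ ≫ fst _ _) = s at h h3
  generalize hs' : (c' ≫ snd _ _ ≫ fst _ _) = s' at h h3'
  -- the negative part of the quotient
  let b := (z * y' * z⁻¹)⁻¹ * y
  have hb : Contr (negCochar ν) b 1 := by
    have := ((h4'.mul h1').mul h4'.inv).inv.mul h1
    simpa [b] using this
  have e : b * ((s ≫ i) * x) = z * (s' ≫ i) * x' := by
    calc b * ((s ≫ i) * x) = (z * y' * z⁻¹)⁻¹ * (y * ((s ≫ i) * x)) := by simp [b, _root_.mul_assoc]
      _ = (z * y' * z⁻¹)⁻¹ * (z * (y' * ((s' ≫ i) * x'))) := by rw [h]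
      _ = z * (s' ≫ i) * x' := by group
  have hb1 : b = 1 := by
    refine Contr.eq_one_of_neg C.hG (ν := ν) (l := z * (s' ≫ i) * (s ≫ i)⁻¹) ?_ hb
    have e' : b = z * (s' ≫ i) * x' * x⁻¹ * (s ≫ i)⁻¹ := by rw [← e]; group
    rw [e']
    have := (((h4.mul h3').mul h2').mul h2.inv).mul h3.inv
    simpa using this
  rw [hb1, _root_.one_mul] at e
  have hlim := Contr.limit_unique C.hG (h3.mul h2) (show Contr ν ((s ≫ i) * x) (z * (s' ≫ i)) by
    rw [e]; have := (h4.mul h3').mul h2'; simpa using this)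
  rw [_root_.mul_one] at hlim
  refine ⟨s * s'⁻¹, ?_⟩
  rw [MonObj.mul_comp, GrpObj.inv_comp, hlim, mul_inv_cancel_right]

variable (D : Red.SplitRed G)

/-- A point commuting with the torus of a splitting lies in it. -/
theorem centralizer_torus {X : Over S} (g : X ⟶ G)
    (hg : ∀ (Z : Over S) (k : Z ⟶ X) (t : Z ⟶ D.T), (k ≫ g) * (t ≫ D.i) = (t ≫ D.i) * (k ≫ g)) :
    ∃ t : X ⟶ D.T, t ≫ D.i = g := by
  classical
  obtain ⟨l, hne, hl, -⟩ := exists_regular_functional (P := D.P) 0
  let ep : Fin (Fintype.card {c // 0 < l (D.P.root c)}) → D.idx := fun k =>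
    ((Fintype.equivFin {c // 0 < l (D.P.root c)}).symm k).1
  let en : Fin (Fintype.card {c // ¬ 0 < l (D.P.root c)}) → D.idx := fun k =>
    ((Fintype.equivFin {c // ¬ 0 < l (D.P.root c)}).symm k).1
  have hep : Function.Injective ep := Subtype.val_injective.comp (Equiv.injective _)
  have hen : Function.Injective en := Subtype.val_injective.comp (Equiv.injective _)
  have C := cellData_of_regular D l hl en ep hen hep
    (fun k => lt_of_le_of_ne (not_lt.mp ((Fintype.equivFin {c // ¬ 0 < l (D.P.root c)}).symm k).2) (hne _))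
    (fun k => ((Fintype.equivFin {c // 0 < l (D.P.root c)}).symm k).2)
  have : Mono (RedSub.cellMap D en ep) := C.mono_cell
  have : Mono (RedSub.cellMap D ep en) := C.symm.mono_cell
  have hcard := (Nat.sub_add_cancel (Fintype.card_subtype_le fun c => 0 < l (D.P.root c)))
  have h1 : IsOpenImmersion (cellS D.i (fun k => D.u (en k)) fun k => D.u (ep k)).left :=
    cellMap_open_of_mono D en ep (by rw [Fintype.card_subtype_compl, hcard])
  have h2 : IsOpenImmersion (cellS D.i (fun k => D.u (ep k)) fun k => D.u (en k)).left :=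
    cellMap_open_of_mono D ep en (by rw [Fintype.card_subtype_compl, add_comm, hcard])
  have hν : IsMonHom (cochar D l) := by
    have := D.maximalTorus.1
    have : IsMonHom D.split.inv.hom.hom := D.split.inv.hom.isMonHom_hom
    unfold cochar
    infer_instance
  have hz : ∀ (Z : Over S) (k : Z ⟶ X) (t : Z ⟶ Red.Gm S),
      (t ≫ cochar D l) * (k ≫ g) = (k ≫ g) * (t ≫ cochar D l) := fun Z k t => by
    have := hg Z k (t ≫ Red.DSmap S l ≫ D.split.inv.hom.hom)
    simp only [Category.assoc] at this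
    exact this.symm
  have hone : ∀ Y : Over S, Set.range (1 : Y ⟶ G).left.base ⊆
      Set.range (cellS D.i (fun k => D.u (en k)) fun k => D.u (ep k)).left.base := fun Y =>
    one_range_cell (fun k => rootHom_gaPt_zero D _) (fun k => rootHom_gaPt_zero D _) D.maximalTorus.1
  obtain ⟨X', k, a, b, hf, hs, e⟩ := exists_div D.reductive _ hone g
  obtain ⟨s, hs'⟩ := C.torus_of_comm hν (z := k ≫ g)
    (fun Z k' t => by rw [← Category.assoc]; exact hz Z _ t) a b
    (by rw [e, inv_mul_cancel_right])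
  -- so the point lies in the cell
  have hone' : (lift (powTuple fun _ => gaPt 0) (lift s (powTuple fun _ => gaPt 0))) ≫
      cellS D.i (fun j => D.u (en j)) (fun j => D.u (ep j)) = k ≫ g := by
    have hz0 : ∀ {q : ℕ} (f : Fin q → D.idx),
        powTuple (fun _ => gaPt (X := X') 0) ≫ RedSub.prodMap (Red.Ga S) q (fun j => D.u (f j)) = 1 := by
      intro q f
      rw [prodMap_pt, List.prod_eq_one]
      intro v hv
      obtain ⟨j, rfl⟩ := (List.mem_ofFn' _ _).mp hv
      simp only [powTuple_proj, rootHom_gaPt_zero]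
    rw [cellS_lift, hz0, hz0, _root_.one_mul, _root_.mul_one, hs']
  obtain ⟨c, hc⟩ := exists_factor_of_range (cellS D.i (fun j => D.u (en j)) fun j => D.u (ep j)) g (by
    rintro _ ⟨p, rfl⟩
    obtain ⟨q, rfl⟩ := hs.surj p
    refine ⟨(lift (powTuple fun _ => gaPt 0) (lift s (powTuple fun _ => gaPt 0))).left q, ?_⟩
    exact congrArg (fun w => w.left q) hone')
  have hunit : lift (powTuple fun _ => gaPt 0) (lift 1 (powTuple fun _ => gaPt 0)) ≫
      cellS D.i (fun j => D.u (en j)) (fun j => D.u (ep j)) = (1 : X ⟶ G) := by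
    have hz0 : ∀ {q : ℕ} (f : Fin q → D.idx),
        powTuple (fun _ => gaPt (X := X) 0) ≫ RedSub.prodMap (Red.Ga S) q (fun j => D.u (f j)) = 1 := by
      intro q f
      rw [prodMap_pt, List.prod_eq_one]
      intro v hv
      obtain ⟨j, rfl⟩ := (List.mem_ofFn' _ _).mp hv
      simp only [powTuple_proj, rootHom_gaPt_zero]
    have := D.maximalTorus.1
    rw [cellS_lift, hz0, hz0, MonObj.one_comp, _root_.one_mul, _root_.mul_one]
  exact C.torus_of_comm hν hz c _ (by rw [hunit, hc, _root_.mul_one])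

/-- Two points commuting with the torus and all root groups commute with everything. -/
theorem comm_all_of_comm_cell {X : Over S} (g : X ⟶ G)
    (hT : ∀ (Z : Over S) (k : Z ⟶ X) (t : Z ⟶ D.T), (k ≫ g) * (t ≫ D.i) = (t ≫ D.i) * (k ≫ g))
    (hu : ∀ (Z : Over S) (k : Z ⟶ X) (a : D.idx) (x : Z ⟶ Red.Ga S),
      (k ≫ g) * (x ≫ D.u a) = (x ≫ D.u a) * (k ≫ g))
    {Z : Over S} (k : Z ⟶ X) (h : Z ⟶ G) : (k ≫ g) * h = h * (k ≫ g) := by
  classical
  obtain ⟨l, hne, hl, -⟩ := exists_regular_functional (P := D.P) 0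
  let ep : Fin (Fintype.card {c // 0 < l (D.P.root c)}) → D.idx := fun k =>
    ((Fintype.equivFin {c // 0 < l (D.P.root c)}).symm k).1
  let en : Fin (Fintype.card {c // ¬ 0 < l (D.P.root c)}) → D.idx := fun k =>
    ((Fintype.equivFin {c // ¬ 0 < l (D.P.root c)}).symm k).1
  have C := cellData_of_regular D l hl en ep (Subtype.val_injective.comp (Equiv.injective _))
    (Subtype.val_injective.comp (Equiv.injective _))
    (fun k => lt_of_le_of_ne (not_lt.mp ((Fintype.equivFin {c // ¬ 0 < l (D.P.root c)}).symm k).2) (hne _))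
    (fun k => ((Fintype.equivFin {c // 0 < l (D.P.root c)}).symm k).2)
  have : Mono (RedSub.cellMap D en ep) := C.mono_cell
  have h1 : IsOpenImmersion (cellS D.i (fun k => D.u (en k)) fun k => D.u (ep k)).left :=
    cellMap_open_of_mono D en ep (by
      rw [Fintype.card_subtype_compl, Nat.sub_add_cancel (Fintype.card_subtype_le _)])
  obtain ⟨X', q, a, b, hf, hs, e⟩ := exists_div D.reductive
    (cellS D.i (fun k => D.u (en k)) fun k => D.u (ep k))
    (fun Y => one_range_cell (fun k => rootHom_gaPt_zero D _) (fun k => rootHom_gaPt_zero D _)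
      D.maximalTorus.1) h
  have : Epi q := epi_of_flat_surjective q hf hs
  rw [← cancel_epi q, MonObj.comp_mul, MonObj.comp_mul, e, ← Category.assoc]
  let z := (q ≫ k) ≫ g
  have hcell : ∀ c : X' ⟶ _, Commute z (c ≫ cellS D.i (fun k => D.u (en k)) fun k => D.u (ep k)) := by
    intro c
    rw [cellS_pt, prodMap_pt, prodMap_pt]
    refine (Commute.list_prod_right _ _ fun v hv => ?_).mul_right
      (Commute.mul_right (hT X' (q ≫ k) _) (Commute.list_prod_right _ _ fun v hv => ?_))
    all_goals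
      obtain ⟨j, rfl⟩ := (List.mem_ofFn' _ _).mp hv
      exact hu X' (q ≫ k) _ _
  exact ((hcell a).mul_right (hcell b).inv_right).eq

end Groth.Agent.RedPts82
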