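import Groth.Agent.RedPts82.BigCell
import Mathlib.RingTheory.AdjoinRoot

/-!
Endomorphisms of the additive group which are homogeneous for a power of the scaling action, and
a nilpotent test point.
-/

universe u

open CategoryTheory MonoidalCategory CartesianMonoidalCategory MonObj GrpObj AlgebraicGeometry
open CategoryTheory.Limits

namespace Groth.Agent.RedPts82

variable {S : Scheme.{u}}

theorem coeff_eval₂_single_gen {A B : Type u} [CommRing A] [CommRing B] (φ : A →+* B) (b : B)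
    (g : Multiplicative ℤ) (hg : Function.Injective fun n : ℕ => g ^ n) (p : Polynomial A) (n : ℕ) :
    (p.eval₂ (MonoidAlgebra.singleOneRingHom.comp φ) (MonoidAlgebra.single g b)).coeff (g ^ n) =
      φ (p.coeff n) * b ^ n := by
  classical
  induction p using Polynomial.induction_on' with
  | add p q hp hq =>
    simp only [Polynomial.eval₂_add, MonoidAlgebra.coeff_add, Finsupp.add_apply, hp, hq,
      Polynomial.coeff_add, map_add, add_mul]
  | monomial m a =>
    rw [Polynomial.eval₂_monomial, MonoidAlgebra.single_pow]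
    show (MonoidAlgebra.single (1 : Multiplicative ℤ) (φ a) * _).coeff _ = _
    rw [MonoidAlgebra.single_mul_single, _root_.one_mul, MonoidAlgebra.coeff_single,
      Finsupp.single_apply, Polynomial.coeff_monomial]
    by_cases h : m = n
    · subst h
      simp
    · rw [if_neg h, if_neg fun h' => h (hg h'), map_zero, zero_mul]

theorem pow_ofAdd_injective {k : ℤ} (hk : k ≠ 0) :
    Function.Injective fun n : ℕ => (Multiplicative.ofAdd k) ^ n := by
  intro a b h
  simp only [← ofAdd_nsmul] at h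
  have h' := Multiplicative.ofAdd.injective h
  simp only [nsmul_eq_mul] at h'
  exact_mod_cast mul_right_cancel₀ hk h'

/-- The powers of the universal unit. -/
theorem val_gmU_polyTu_zpow (Y : Over S) [IsAffine Y.left] (m : ℤ) :
    ((gmU (polyTu Y ℤ) ^ m : Γ((polyDS Y ℤ).left, ⊤)ˣ) : Γ((polyDS Y ℤ).left, ⊤)) =
      polyCoord Y ℤ (MonoidAlgebra.single (Multiplicative.ofAdd m) 1) := by
  let ψ : Multiplicative ℤ →* Γ((polyDS Y ℤ).left, ⊤)ˣ :=
    (Units.map (polyCoord Y ℤ).toMonoidHom).comp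
      (MonoidAlgebra.of (Gam Y) (Multiplicative ℤ)).toHomUnits
  have hψ : gmU (polyTu Y ℤ) = ψ (Multiplicative.ofAdd (1 : ℤ)) := Units.ext (by
    rw [val_gmU, gmFn_eq, dsFn_polyTu]
    rfl)
  rw [hψ, ← map_zpow, ← ofAdd_zsmul, smul_eq_mul, _root_.mul_one]
  rfl

/-- The polynomial of a homogeneous endomorphism has only the coefficient of the matching
degree. -/
theorem coeff_eq_zero_of_weight (ψ : Red.Ga S ⟶ Red.Ga S) (k : ℕ) (hk : k ≠ 0) (l : ℤ)
    (h : ∀ (X : Over S) (z : X ⟶ Red.Gm S) (x x' : X ⟶ Red.Ga S),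
      Red.gaFn x' = Red.gmFn z ^ k * Red.gaFn x →
        Red.gaFn (x' ≫ ψ) = ((gmU z ^ l : Γ(X.left, ⊤)ˣ) : Γ(X.left, ⊤)) * Red.gaFn (x ≫ ψ))
    (Y : Over S) [IsAffine Y.left] (p : Polynomial (Gam Y))
    (hp : ∀ (Z : Over S) (z : Z ⟶ Y) (x : Z ⟶ Red.Ga S), Red.gaFn (x ≫ ψ) = evalGa z x p)
    (n : ℕ) (hn : (k : ℤ) * n ≠ l) : p.coeff n = 0 := by
  classical
  let P := polyGa Y
  let W := polyDS P ℤ
  let κ := polyCoord P ℤ
  let x₁ : W ⟶ Red.Ga S := polyProj P ℤ ≫ gaTu Y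
  have hx₁ : Red.gaFn x₁ = κ (MonoidAlgebra.single 1 (gaCoordHom Y Polynomial.X)) := by
    rw [gaFn_comp, gaFn_gaTu, polyProj_appTop]
  have hz : Red.gmFn (polyTu P ℤ) ^ k = κ (MonoidAlgebra.single (Multiplicative.ofAdd (k : ℤ)) 1) := by
    rw [← val_gmU, ← Units.val_pow_eq_pow_val, ← zpow_natCast, val_gmU_polyTu_zpow]
  have hmain := h W (polyTu P ℤ) x₁ (gaPt (Red.gmFn (polyTu P ℤ) ^ k * Red.gaFn x₁)) (gaFn_gaPt _)
  rw [hp W (polyProj P ℤ ≫ gaProj Y), hp W (polyProj P ℤ ≫ gaProj Y)] at hmain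
  let φ : Gam Y →+* Gam P := (gaCoordHom Y).comp Polynomial.C
  have hzc : ∀ a, (polyProj P ℤ ≫ gaProj Y).left.appTop a = κ (MonoidAlgebra.single 1 (φ a)) := by
    intro a
    rw [Over.comp_left, Scheme.Hom.comp_appTop]
    show (polyProj P ℤ).left.appTop ((gaProj Y).left.appTop a) = _
    rw [gaProj_appTop, polyProj_appTop]
    rfl
  have hev : ∀ (b : Gam P) (g : Multiplicative ℤ) (y : W ⟶ Red.Ga S),
      Red.gaFn y = κ (MonoidAlgebra.single g b) →
      evalGa (polyProj P ℤ ≫ gaProj Y) y p =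
        κ (p.eval₂ (MonoidAlgebra.singleOneRingHom.comp φ) (MonoidAlgebra.single g b)) := by
    intro b g y hy
    rw [Polynomial.hom_eval₂]
    show p.eval₂ _ (Red.gaFn y) = _
    rw [hy]
    congr 1
    exact RingHom.ext hzc
  rw [hev (gaCoordHom Y Polynomial.X) (Multiplicative.ofAdd (k : ℤ)) _ (by
      rw [gaFn_gaPt, hz, hx₁, ← map_mul, MonoidAlgebra.single_mul_single, _root_.mul_one,
        _root_.one_mul]),
    hev (gaCoordHom Y Polynomial.X) 1 _ hx₁, val_gmU_polyTu_zpow, ← map_mul] at hmain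
  have hinj := pow_ofAdd_injective (k := (k : ℤ)) (by exact_mod_cast hk)
  have e := congrArg (fun r => r.coeff ((Multiplicative.ofAdd (k : ℤ)) ^ n))
    ((polyCoord_bijective P ℤ).1 hmain)
  simp only [coeff_eval₂_single_gen φ _ _ hinj] at e
  have hzero : (MonoidAlgebra.single (Multiplicative.ofAdd l) (1 : Gam P) *
      p.eval₂ (MonoidAlgebra.singleOneRingHom.comp φ)
        (MonoidAlgebra.single 1 (gaCoordHom Y Polynomial.X))).coeff
          ((Multiplicative.ofAdd (k : ℤ)) ^ n) = 0 := by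
    have : p.eval₂ (MonoidAlgebra.singleOneRingHom.comp φ)
        (MonoidAlgebra.single (1 : Multiplicative ℤ) (gaCoordHom Y Polynomial.X)) =
        MonoidAlgebra.singleOneRingHom (p.eval₂ φ (gaCoordHom Y Polynomial.X)) := by
      rw [Polynomial.hom_eval₂]
      rfl
    rw [this]
    show (MonoidAlgebra.single (Multiplicative.ofAdd l) (1 : Gam P) *
      MonoidAlgebra.single (1 : Multiplicative ℤ) _).coeff _ = 0
    rw [MonoidAlgebra.single_mul_single, MonoidAlgebra.coeff_single, Finsupp.single_apply, if_neg]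
    intro h'
    apply hn
    rw [_root_.mul_one, ← ofAdd_nsmul] at h'
    have h'' := Multiplicative.ofAdd.injective h'
    rw [nsmul_eq_mul] at h''
    rw [h'', mul_comm]
  rw [hzero] at e
  have e' : gaCoordHom Y (Polynomial.C (p.coeff n) * Polynomial.X ^ n) = 0 := by
    rw [map_mul, map_pow]; exact e
  have := (map_eq_zero_iff _ (gaCoordHom_bijective Y).1).mp e'
  simpa using congrArg (fun r => r.coeff n) this

/-- A homogeneous endomorphism of degree `q` is a multiple of the power map. -/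
theorem eq_mul_pow_of_weight (ψ : Red.Ga S ⟶ Red.Ga S) (k : ℕ) (hk : k ≠ 0) (q : ℕ)
    (h : ∀ (X : Over S) (z : X ⟶ Red.Gm S) (x x' : X ⟶ Red.Ga S),
      Red.gaFn x' = Red.gmFn z ^ k * Red.gaFn x →
        Red.gaFn (x' ≫ ψ) = ((gmU z ^ ((k * q : ℕ) : ℤ) : Γ(X.left, ⊤)ˣ) : Γ(X.left, ⊤)) * Red.gaFn (x ≫ ψ))
    {X : Over S} (x : X ⟶ Red.Ga S) :
    Red.gaFn (x ≫ ψ) = Red.gaFn (gaPt (X := X) 1 ≫ ψ) * Red.gaFn x ^ q := by
  suffices hsuff : ∀ (Z : Over S) (_ : IsAffine Z.left) (x : Z ⟶ Red.Ga S),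
      Red.gaFn (x ≫ ψ) = Red.gaFn (gaPt (X := Z) 1 ≫ ψ) * Red.gaFn x ^ q by
    have key : x ≫ ψ = gaPt (Red.gaFn (gaPt (X := X) 1 ≫ ψ) * Red.gaFn x ^ q) := by
      refine hom_ext_affine fun Z hZ k => gaFn_injective ?_
      have e1 : k ≫ gaPt (X := X) 1 = gaPt (X := Z) 1 :=
        gaFn_injective (by rw [gaFn_comp, gaFn_gaPt, gaFn_gaPt, map_one])
      rw [← Category.assoc, hsuff Z hZ (k ≫ x), gaFn_comp k x, gaFn_comp k, gaFn_gaPt, map_mul,
        ← gaFn_comp k (gaPt 1 ≫ ψ), ← Category.assoc, e1, map_pow]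
    rw [key, gaFn_gaPt]
  intro Y hY x
  obtain ⟨p, hp⟩ := exists_poly Y ψ
  have hlin : p = Polynomial.C (p.coeff q) * Polynomial.X ^ q := by
    ext n
    rw [Polynomial.coeff_C_mul, Polynomial.coeff_X_pow]
    by_cases hn : n = q
    · subst hn; simp
    · rw [if_neg hn, mul_zero]
      refine coeff_eq_zero_of_weight ψ k hk _ h Y p hp n ?_
      push_cast
      exact fun h' => hn (by exact_mod_cast mul_left_cancel₀ (Nat.cast_ne_zero.mpr hk) h')
  rw [hp Y (𝟙 Y) x, hp Y (𝟙 Y) (gaPt 1), hlin, map_mul, map_mul, map_pow, map_pow, evalGa_C,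
    evalGa_C, evalGa_X, evalGa_X, gaFn_gaPt, one_pow, _root_.mul_one]

/-- A homogeneous endomorphism of negative degree is trivial. -/
theorem eq_one_of_weight_neg (ψ : Red.Ga S ⟶ Red.Ga S) (k : ℕ) (hk : k ≠ 0) (l : ℤ) (hl : l < 0)
    (h : ∀ (X : Over S) (z : X ⟶ Red.Gm S) (x x' : X ⟶ Red.Ga S),
      Red.gaFn x' = Red.gmFn z ^ k * Red.gaFn x →
        Red.gaFn (x' ≫ ψ) = ((gmU z ^ l : Γ(X.left, ⊤)ˣ) : Γ(X.left, ⊤)) * Red.gaFn (x ≫ ψ)) :
    ψ = 1 := by
  refine hom_ext_affine fun Y hY x => gaFn_injective ?_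
  obtain ⟨p, hp⟩ := exists_poly Y ψ
  have hp0 : p = 0 := Polynomial.ext fun n =>
    coeff_eq_zero_of_weight ψ k hk l h Y p hp n (fun h' => by
      have : (0 : ℤ) ≤ (k : ℤ) * n := by positivity
      omega)
  rw [MonObj.comp_one, gaFn_one, hp Y (𝟙 Y) x, hp0, map_zero]

/-- A morphism from the additive group to an affine object which is invariant under scaling by
powers of units is constant. -/
theorem const_of_invariant {P : Over S} (hP : IsAffineHom P.hom) (τ : Red.Ga S ⟶ P) (k : ℕ)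
    (hk : k ≠ 0)
    (h : ∀ (X : Over S) (z : X ⟶ Red.Gm S) (x x' : X ⟶ Red.Ga S),
      Red.gaFn x' = Red.gmFn z ^ k * Red.gaFn x → x' ≫ τ = x ≫ τ)
    {X : Over S} (x : X ⟶ Red.Ga S) : x ≫ τ = gaPt (X := X) 0 ≫ τ := by
  suffices hsuff : ∀ (Z : Over S) (_ : IsAffine Z.left) (x : Z ⟶ Red.Ga S),
      x ≫ τ = gaPt (X := Z) 1 ≫ τ by
    refine hom_ext_affine fun Z hZ k => ?_
    rw [← Category.assoc, ← Category.assoc, hsuff Z hZ (k ≫ x), hsuff Z hZ (k ≫ gaPt 0)]
  intro Y hY x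
  obtain ⟨j, hj₁, hj₂, hj₃⟩ := exists_gaLift (polyProj Y ℤ) (gaPt (Red.gmFn (polyTu Y ℤ) ^ k))
  have hinj : Function.Injective j.left.appTop := by
    refine (injective_iff_map_eq_zero j.left.appTop.hom).mpr fun r hr => ?_
    obtain ⟨p, rfl⟩ := (gaCoordHom_bijective Y).2 r
    change j.left.appTop (gaCoordHom Y p) = 0 at hr
    rw [hj₃] at hr
    have hev : evalGa (polyProj Y ℤ) (gaPt (Red.gmFn (polyTu Y ℤ) ^ k)) p =
        polyCoord Y ℤ (p.eval₂ (MonoidAlgebra.singleOneRingHom.comp (RingHom.id _))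
          (MonoidAlgebra.single (Multiplicative.ofAdd (k : ℤ)) 1)) := by
      rw [Polynomial.hom_eval₂]
      show p.eval₂ _ (Red.gaFn (gaPt _)) = _
      rw [gaFn_gaPt, ← val_gmU, ← Units.val_pow_eq_pow_val, ← zpow_natCast, val_gmU_polyTu_zpow]
      congr 1
      exact RingHom.ext (polyProj_appTop Y ℤ)
    rw [hev, ← map_zero (polyCoord Y ℤ)] at hr
    have hp := (polyCoord_bijective Y ℤ).1 hr
    have hinj' := pow_ofAdd_injective (k := (k : ℤ)) (by exact_mod_cast hk)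
    have : p = 0 := Polynomial.ext fun n => by
      have e := congrArg (fun r => r.coeff ((Multiplicative.ofAdd (k : ℤ)) ^ n)) hp
      simp only [coeff_eval₂_single_gen _ _ _ hinj'] at e
      simpa using e
    rw [this, map_zero]
  have key : gaTu Y ≫ τ = gaProj Y ≫ gaPt (X := Y) 1 ≫ τ := by
    refine eq_of_appTop_injective hP (gaProj Y) j hinj ?_
    rw [← Category.assoc, hj₂, ← Category.assoc, hj₁, ← Category.assoc]
    refine h _ (polyTu Y ℤ) (polyProj Y ℤ ≫ gaPt (X := Y) 1) _ ?_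
    rw [gaFn_gaPt, gaFn_comp, gaFn_gaPt, map_one, _root_.mul_one]
  obtain ⟨w, hw₁, hw₂, -⟩ := exists_gaLift (𝟙 Y) x
  rw [← hw₂, Category.assoc, key, ← Category.assoc, hw₁, Category.id_comp]

/-- An affine extension with a nilpotent coordinate whose powers up to `q` are free. -/
theorem exists_nilpotent_point (Y : Over S) [IsAffine Y.left] (q : ℕ) :
    ∃ (N : Over S) (k : N ⟶ Y) (_ : IsAffine N.left) (ε : Γ(N.left, ⊤)), IsNilpotent ε ∧
      ∀ a : Γ(Y.left, ⊤), k.left.appTop a * ε ^ q = 0 → a = 0 := by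
  classical
  rcases subsingleton_or_nontrivial (Gam Y) with hY | hY
  · exact ⟨Y, 𝟙 Y, inferInstance, 0, IsNilpotent.zero, fun a _ => Subsingleton.elim (α := Gam Y) a 0⟩
  let m : Polynomial (Gam Y) := Polynomial.X ^ (q + 1)
  have hm : m.Monic := Polynomial.monic_X_pow _
  let π : Spec (CommRingCat.of (AdjoinRoot m)) ⟶ Y.left :=
    Spec.map (CommRingCat.ofHom (AdjoinRoot.of m)) ≫ Y.left.isoSpec.inv
  refine ⟨Over.mk (π ≫ Y.hom), Over.homMk π rfl,
    inferInstanceAs (IsAffine (Spec (CommRingCat.of (AdjoinRoot m)))),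
    (Scheme.ΓSpecIso (CommRingCat.of (AdjoinRoot m))).inv (AdjoinRoot.root m), ?_, fun a ha => ?_⟩
  · refine IsNilpotent.map ⟨q + 1, ?_⟩ (Scheme.ΓSpecIso (CommRingCat.of (AdjoinRoot m))).inv.hom
    show AdjoinRoot.mk m Polynomial.X ^ (q + 1) = 0
    rw [← map_pow]
    exact AdjoinRoot.mk_self
  · have hπ : π.appTop a = (Scheme.ΓSpecIso (CommRingCat.of (AdjoinRoot m))).inv (AdjoinRoot.of m a) := by
      show (Spec.map (CommRingCat.ofHom (AdjoinRoot.of m)) ≫ Y.left.isoSpec.inv).appTop a = _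
      rw [Scheme.Hom.comp_appTop, isoSpec_inv_appTop, ← Scheme.ΓSpecIso_inv_naturality]
      rfl
    change π.appTop a * _ ^ q = 0 at ha
    rw [hπ, ← map_pow, ← map_mul] at ha
    have h1 := (map_eq_zero_iff (Scheme.ΓSpecIso (CommRingCat.of (AdjoinRoot m))).inv.hom
      (Scheme.ΓSpecIso (CommRingCat.of (AdjoinRoot m))).commRingCatIsoToRingEquiv.symm.injective).mp ha
    rw [← AdjoinRoot.mk_C, ← AdjoinRoot.mk_X, ← map_pow, ← map_mul, AdjoinRoot.mk_eq_zero] at h1
    have h2 := Polynomial.X_pow_dvd_iff.mp h1 q (Nat.lt_succ_self q)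
    simpa using h2

end Groth.Agent.RedPts82
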