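import Groth.Prelude.Def_RedSub
import Groth.Agent.Roots36.PosSys

/-!
Positive roots, transport of bases, deletion and length for words in reflections.
-/

open Set Function RootPairing

namespace Groth.Agent.RedPts82

variable {idx M N : Type} [AddCommGroup M] [AddCommGroup N] {P : RootPairing idx ℤ M N}

theorem mem_posRoots_iff [Finite idx] (b : P.Base) (a : idx) :
    a ∈ RedSub.posRoots P b ↔ b.IsPos a := by
  have : Fintype idx := Fintype.ofFinite idx
  exact (Roots36.isPos_iff_posOf b a).symm

theorem mem_negRoots_iff [Finite idx] (b : P.Base) (a : idx) :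
    a ∈ RedSub.negRoots P b ↔ ¬ b.IsPos a := by
  have : Fintype idx := Fintype.ofFinite idx
  rw [Roots36.isPos_iff_posOf b a,
    ← Roots36.neg_posOf_iff (Roots36.base_isSimpleSys b)]
  show _ ↔ P.root (Roots36.neg P a) ∈ RootD.natSpan P b.support
  rw [Roots36.root_neg]
  rfl

/-- The image of a base under an automorphism. -/
noncomputable def baseMap [Fintype idx] (g : P.Aut) (b : P.Base) : P.Base := by
  classical
  have hc : ∀ i, (RootPairing.Equiv.coweightEquiv P P g) (P.coroot (g • i)) = P.coroot i := fun i => by
    have h := RootPairing.Hom.coroot_coweightMap_apply P P (g • i) g.toHom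
    have h4 : g.toHom.indexEquiv.symm (g • i) = i := g.toHom.indexEquiv.symm_apply_apply i
    rw [h4] at h
    exact h
  refine
    { support := b.support.image (g • ·)
      linearIndepOn_root := ?_
      linearIndepOn_coroot := ?_
      root_mem_or_neg_mem := ?_
      coroot_mem_or_neg_mem := ?_ }
  · rw [Finset.coe_image]
    exact (Roots36.isSimpleSys_smul g (Roots36.base_isSimpleSys b)).linInd
  · rw [Finset.coe_image]
    apply LinearIndepOn.image_of_comp
    refine LinearIndependent.of_comp (RootPairing.Equiv.coweightEquiv P P g).toLinearMap ?_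
    have e : (RootPairing.Equiv.coweightEquiv P P g).toLinearMap ∘ (fun x : (b.support : Set idx) => (P.coroot ∘ (g • ·)) x) =
        fun x : (b.support : Set idx) => P.coroot x := funext fun i => hc i
    rw [e]
    exact b.linearIndepOn_coroot
  · rw [Finset.coe_image]
    exact (Roots36.isSimpleSys_smul g (Roots36.base_isSimpleSys b)).mem_or_neg_mem
  · intro i
    rw [Finset.coe_image]
    have hmap : ∀ y, y ∈ AddSubmonoid.closure (P.coroot '' (b.support : Set idx)) →
        (RootPairing.Equiv.coweightEquiv P P g).symm y ∈ AddSubmonoid.closure (P.coroot '' ((g • ·) '' (b.support : Set idx))) := by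
      intro y hy
      induction hy using AddSubmonoid.closure_induction with
      | mem y hy =>
        obtain ⟨j, hj, rfl⟩ := hy
        refine AddSubmonoid.subset_closure ⟨g • j, ⟨j, hj, rfl⟩, ?_⟩
        rw [← hc j]; simp
      | zero => rw [map_zero]; exact zero_mem _
      | add a b _ _ ha hb => rw [map_add]; exact add_mem ha hb
    have e : P.coroot i = (RootPairing.Equiv.coweightEquiv P P g).symm (P.coroot (g⁻¹ • i)) := by
      rw [← hc (g⁻¹ • i), smul_inv_smul]; simp
    rcases b.coroot_mem_or_neg_mem (g⁻¹ • i) with h | h
    · left; rw [e]; exact hmap _ h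
    · right; rw [e, ← map_neg]; exact hmap _ h

theorem posRoots_baseMap [Fintype idx] (g : P.Aut) (b : P.Base) :
    RedSub.posRoots P (baseMap g b) = RootD.posOf P ((g • ·) '' (b.support : Set idx)) := by
  classical
  simp [RedSub.posRoots, RootD.posOf, RootD.natSpan, baseMap, Finset.coe_image]

theorem wordPerm_apply_eq (l : List idx) (i : idx) :
    RedSub.wordPerm P l i = Roots36.wprod P l • i := by
  induction l with
  | nil => simp [RedSub.wordPerm]
  | cons a t ih =>
    rw [Roots36.wprod_cons, mul_smul, Roots36.reflection_smul_index, ← ih]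
    rfl

theorem wordPerm_append (l l' : List idx) :
    RedSub.wordPerm P (l ++ l') = RedSub.wordPerm P l * RedSub.wordPerm P l' := by
  simp [RedSub.wordPerm]

theorem wordPerm_conj (l : List idx) (a : idx) :
    P.reflectionPerm (RedSub.wordPerm P l a) =
      RedSub.wordPerm P l * P.reflectionPerm a * (RedSub.wordPerm P l)⁻¹ := by
  rw [eq_mul_inv_iff_mul_eq]
  ext x
  rw [Equiv.Perm.mul_apply, Equiv.Perm.mul_apply, wordPerm_apply_eq, wordPerm_apply_eq,
    wordPerm_apply_eq, ← Roots36.reflection_smul_index, ← Roots36.reflection_smul_index, ← mul_smul,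
    ← mul_smul, ← Roots36.conj_reflection]
  congr 1
  group

/-- Deletion along the first change of sign. -/
theorem exists_delete [Finite idx] [P.IsReduced] (b : P.Base) (l : List idx)
    (hl : ∀ a ∈ l, a ∈ b.support) (c : idx) (hc : b.IsPos c)
    (hneg : ¬ b.IsPos ((RedSub.wordPerm P l)⁻¹ c)) :
    ∃ i : ℕ, i < l.length ∧
      P.reflectionPerm c * RedSub.wordPerm P (l.take (i + 1)) = RedSub.wordPerm P (l.take i) := by
  induction l using List.reverseRecOn with
  | nil => exact absurd (by simpa [RedSub.wordPerm] using hc) hneg
  | append_singleton t a ih =>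
    by_cases ht : b.IsPos ((RedSub.wordPerm P t)⁻¹ c)
    · refine ⟨t.length, by simp, ?_⟩
      rw [List.take_of_length_le (by simp), List.take_left]
      have ha : a ∈ b.support := hl a (by simp)
      have hd : (RedSub.wordPerm P t)⁻¹ c = a := by
        by_contra hne
        refine hneg ?_
        have h := ht.reflectionPerm ha hne
        rw [wordPerm_append, mul_inv_rev, Equiv.Perm.mul_apply]
        simpa [RedSub.wordPerm] using h
      have hc' : c = RedSub.wordPerm P t a := by
        rw [← hd, Equiv.Perm.coe_inv, Equiv.apply_symm_apply]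
      have hw : RedSub.wordPerm P [a] = P.reflectionPerm a := by simp [RedSub.wordPerm]
      rw [hc', wordPerm_conj, wordPerm_append, hw]
      exact mul_conj_cancel (Equiv.ext fun x => P.reflectionPerm_self a x)
    · obtain ⟨i, hi, he⟩ := ih (fun x hx => hl x (by simp [hx])) ht
      refine ⟨i, by simp; omega, ?_⟩
      rwa [List.take_append_of_le_length (by omega), List.take_append_of_le_length (by omega)]
where
  mul_conj_cancel {G : Type} [Group G] {w s : G} (h : s * s = 1) :
      w * s * w⁻¹ * (w * s) = w := by
    calc w * s * w⁻¹ * (w * s) = w * (s * s) := by group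
      _ = w := by rw [h, mul_one]

end Groth.Agent.RedPts82
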