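import Groth.Agent.RedPts82.BruhatRankOne
import Groth.Agent.RedPts82.BorelClosed
import Groth.Agent.RedPts82.RootComb

/-!
The Bruhat decomposition on points with values in an algebraically closed field.
-/

universe u

open CategoryTheory MonoidalCategory CartesianMonoidalCategory MonObj GrpObj AlgebraicGeometry
open CategoryTheory.Limits

namespace Groth.Agent.RedPts82

variable {S : Scheme.{u}} {G : Over S} [GrpObj G] {D : Red.SplitRed G}

/-- A chamber whose positive roots are those of a base. -/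
structure BaseChamber (D : Red.SplitRed G) (b : D.P.Base) (l : D.M →+ ℤ) : Prop extends Chamber D l where
  pos_iff : ∀ c, 0 < l (D.P.root c) ↔ b.IsPos c

theorem exists_baseChamber (b : D.P.Base) : ∃ l, BaseChamber D b l := by
  obtain ⟨l, hp, hn, hl⟩ := exists_sep_functional D.P b
  have key : ∀ c, (b.IsPos c → 0 < l (D.P.root c)) ∧ (¬ b.IsPos c → l (D.P.root c) < 0) := fun c =>
    ⟨fun h => hp c ((mem_posRoots_iff b c).mpr h), fun h => hn c ((mem_negRoots_iff b c).mpr h)⟩
  refine ⟨l, ⟨hl, fun c h0 => ?_⟩, fun c => ⟨fun h => ?_, (key c).1⟩⟩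
  · by_cases hc : b.IsPos c
    · have := (key c).1 hc; omega
    · have := (key c).2 hc; omega
  · by_contra hc
    have := (key c).2 hc
    omega

variable {b : D.P.Base} {l : D.M →+ ℤ}

theorem BaseChamber.wall (h : BaseChamber D b l) {a : D.idx} (ha : a ∈ b.support) : Wall D l a := by
  have := isReduced_of_base b
  exact ⟨h.toChamber, (h.pos_iff a).mpr (RootPairing.Base.isPos_of_mem_support ha),
    fun c hne hc => (h.pos_iff _).mpr (((h.pos_iff c).mp hc).reflectionPerm ha hne)⟩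

theorem BaseChamber.neg_iff (h : BaseChamber D b l) (c : D.idx) :
    0 < (-l) (D.P.root c) ↔ ¬ b.IsPos c := by
  rw [AddMonoidHom.neg_apply, ← h.pos_iff]
  have := h.ne c
  omega

/-- A point is written as `u t n_w v` with `w` a word in the simple roots. -/
def Decomp (D : Red.SplitRed G) (b : D.P.Base) (l : D.M →+ ℤ) (nr : D.idx → (𝟙_ (Over S) ⟶ G))
    {X : Over S} (g : X ⟶ G) : Prop :=
  ∃ w : List D.idx, (∀ a ∈ w, a ∈ b.support) ∧ ∃ u ∈ Up D (-l) X, ∃ t : X ⟶ Red.DS S D.M,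
    ∃ v ∈ Up D l X, g = u * tpt D t * np (w.map nr).prod X * v

/-- The section of a word. -/
noncomputable abbrev nword (nr : D.idx → (𝟙_ (Over S) ⟶ G)) (w : List D.idx) (X : Over S) : X ⟶ G :=
  np (w.map nr).prod X

variable {nr : D.idx → (𝟙_ (Over S) ⟶ G)}
  (hnr : ∀ a ∈ b.support, Acts D (nr a) (RootPairing.Equiv.reflection D.P a))
include hnr

theorem acts_word {w : List D.idx} (hw : ∀ a ∈ w, a ∈ b.support) :
    Acts D (w.map nr).prod (Roots36.wprod D.P w) :=
  acts_prod w fun a ha => hnr a (hw a ha)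

/-- The left translations preserving the decomposed points. -/
noncomputable def decompStab (D : Red.SplitRed G) (b : D.P.Base) (l : D.M →+ ℤ)
    (nr : D.idx → (𝟙_ (Over S) ⟶ G)) (X : Over S) : Subgroup (X ⟶ G) where
  carrier := {x | ∀ h : X ⟶ G, Decomp D b l nr h → Decomp D b l nr (x * h) ∧ Decomp D b l nr (x⁻¹ * h)}
  mul_mem' {x y} hx hy h hh := ⟨by rw [_root_.mul_assoc]; exact (hx _ (hy h hh).1).1,
    by rw [_root_.mul_inv_rev, _root_.mul_assoc]; exact (hy _ (hx h hh).2).2⟩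
  one_mem' h hh := ⟨by rwa [_root_.one_mul], by rwa [inv_one, _root_.one_mul]⟩
  inv_mem' {x} hx h hh := ⟨(hx h hh).2, by rw [_root_.inv_inv]; exact (hx h hh).1⟩

omit hnr in
theorem tpt_mul_decomp {X : Over S} (t : X ⟶ Red.DS S D.M) {g : X ⟶ G} (hg : Decomp D b l nr g) :
    Decomp D b l nr (tpt D t * g) := by
  obtain ⟨w, hw, u, hu, t', v, hv, rfl⟩ := hg
  refine ⟨w, hw, tpt D t * u * (tpt D t)⁻¹, fixed_conj_up (tpt_mem_fixed t) hu, t * t', v, hv, ?_⟩
  rw [tpt_mul]; group

omit hnr in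
theorem up_mul_decomp {X : Over S} {x : X ⟶ G} (hx : x ∈ Up D (-l) X) {g : X ⟶ G}
    (hg : Decomp D b l nr g) : Decomp D b l nr (x * g) := by
  obtain ⟨w, hw, u, hu, t', v, hv, rfl⟩ := hg
  exact ⟨w, hw, x * u, mul_mem hx hu, t', v, hv, by group⟩

theorem decomp_mk {X : Over S} {w : List D.idx} (hw : ∀ a ∈ w, a ∈ b.support) {u x : X ⟶ G}
    (hu : u ∈ Up D (-l) X) (hx : x ∈ Up D l X) (t t' : X ⟶ Red.DS S D.M) {v : X ⟶ G} (hv : v ∈ Up D l X) :
    Decomp D b l nr (u * tpt D t * nword nr w X * x * tpt D t' * v) := by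
  refine ⟨w, hw, u, hu, t * tw (Roots36.wprod D.P w) t', (tpt D t')⁻¹ * x * tpt D t' * v,
    mul_mem ?_ hv, ?_⟩
  · have := fixed_conj_up (l := l) (tpt_mem_fixed (D := D) t'⁻¹) hx
    rwa [tpt_inv, _root_.inv_inv] at this
  · rw [tpt_mul, ← (acts_word hnr hw) X t']
    group

theorem simple_mul_decomp (hK : BaseChamber D b l) {K : Type u} [Field K] {X : Over S}
    (eK : K ≃+* Γ(X.left, ⊤)) {a : D.idx} (ha : a ∈ b.support) {g : X ⟶ G} (hg : Decomp D b l nr g) :
    Decomp D b l nr (np (nr a) X * g) := by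
  obtain ⟨w, hw, u, hu, t, v, hv, rfl⟩ := hg
  have hwall := hK.wall ha
  have hn := hnr a ha
  have hn' : Acts D (nr a) (RootPairing.Equiv.reflection D.P (negIdx D a)) := by
    rw [reflection_negIdx]; exact hn
  obtain ⟨y, r, hr, -, hur⟩ := hwall.neg.exists_split ((Up D (-l) X).inv_mem hu)
  have hr' : np (nr a) X * r⁻¹ * (np (nr a) X)⁻¹ ∈ Up D (-l) X :=
    (hwall.neg.rest_conj_refl b hn' (inv_mem hr)).1
  have hN := acts_word hnr hw
  set g₀ := Roots36.wprod D.P w with hg₀
  obtain ⟨t', ht'⟩ : ∃ t' : X ⟶ Red.DS S D.M, tpt D t * nword nr w X = nword nr w X * tpt D t' :=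
    ⟨_, hN.swap' t⟩
  have heq : np (nr a) X * (u * tpt D t * nword nr w X * v) =
      np (nr a) X * r⁻¹ * (np (nr a) X)⁻¹ *
        (np (nr a) X * rp D (negIdx D a) (-y) * nword nr w X * tpt D t' * v) := by
    rw [show u = r⁻¹ * rp D (negIdx D a) (-y) by
      rw [rp_neg, ← _root_.mul_inv_rev, ← hur, _root_.inv_inv]]
    rw [show np (nr a) X * (r⁻¹ * rp D (negIdx D a) (-y) * tpt D t * nword nr w X * v) =
      np (nr a) X * r⁻¹ * rp D (negIdx D a) (-y) * (tpt D t * nword nr w X) * v by group, ht']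
    group
  refine heq ▸ up_mul_decomp hr' ?_
  have hwa : ∀ c ∈ a :: w, c ∈ b.support := fun c hc => by
    rcases List.mem_cons.mp hc with rfl | hc
    exacts [ha, hw c hc]
  have hword : nword nr (a :: w) X = np (nr a) X * nword nr w X := by
    rw [nword, List.map_cons, List.prod_cons, np_mul]
  have hmove : ∀ (c : D.idx) (r : Γ(X.left, ⊤)), ∃ r' : Γ(X.left, ⊤),
      rp D c r * nword nr w X = nword nr w X * rp D (g₀⁻¹ • c) r' := fun c r => by
    obtain ⟨k, hk⟩ := hN.inv.exists_moves b c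
    refine ⟨cst X k * r, ?_⟩
    rw [← hk.conj, np_inv]
    group
  by_cases hpos : 0 < l (D.P.root (g₀⁻¹ • negIdx D a))
  · obtain ⟨r', hr''⟩ := hmove (negIdx D a) (-y)
    rw [show np (nr a) X * rp D (negIdx D a) (-y) * nword nr w X * tpt D t' * v =
      np (nr a) X * (rp D (negIdx D a) (-y) * nword nr w X) * tpt D t' * v by group, hr'']
    have := decomp_mk hnr hwa (one_mem (Up D (-l) X)) (rp_mem_up hpos r') 1 t' hv
    rw [hword, tpt_one, _root_.one_mul, _root_.one_mul] at this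
    simpa only [_root_.mul_assoc] using this
  · have hpos' : 0 < l (D.P.root (g₀⁻¹ • a)) := by
      have h0 := hK.ne (g₀⁻¹ • negIdx D a)
      rw [show g₀⁻¹ • negIdx D a = negIdx D (g₀⁻¹ • a) from Roots36.smul_neg_index _ _, root_negIdx,
        map_neg] at h0 hpos
      omega
    rcases RedPts82.isUnit_or_eq_zero eK (-y) with hy | hy
    · obtain ⟨p, τ, q, he⟩ := hwall.exists_form_unit b hn hy.unit
      rw [IsUnit.unit_spec] at he
      obtain ⟨q', hq'⟩ := hmove a q
      rw [he, show rp D (negIdx D a) p * tpt D τ * rp D a q * nword nr w X * tpt D t' * v =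
        rp D (negIdx D a) p * tpt D τ * (rp D a q * nword nr w X) * tpt D t' * v by group, hq',
        ← _root_.mul_assoc]
      refine decomp_mk hnr hw (rp_mem_up ?_ p) (rp_mem_up hpos' q') τ t' hv
      rw [root_negIdx, AddMonoidHom.neg_apply, map_neg, _root_.neg_neg]
      exact hwall.pos
    · rw [hy, rp_zero, _root_.mul_one]
      have := decomp_mk hnr hwa (one_mem (Up D (-l) X)) (one_mem (Up D l X)) 1 t' hv
      rwa [hword, tpt_one, _root_.one_mul, _root_.one_mul, _root_.mul_one] at this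

theorem simple_mem_stab (hK : BaseChamber D b l) {K : Type u} [Field K] {X : Over S}
    (eK : K ≃+* Γ(X.left, ⊤)) {a : D.idx} (ha : a ∈ b.support) :
    np (nr a) X ∈ decompStab D b l nr X := by
  refine fun h hh => ⟨simple_mul_decomp hnr hK eK ha hh, ?_⟩
  have hsq : ∀ (Z : Over S) (k : Z ⟶ X) (t : Z ⟶ D.T),
      (k ≫ (np (nr a) X * np (nr a) X)) * (t ≫ D.i) = (t ≫ D.i) * (k ≫ (np (nr a) X * np (nr a) X)) := by
    intro Z k t
    rw [MonObj.comp_mul, comp_np, i_eq_tpt, ← np_mul]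
    have := ((hnr a ha).mul (hnr a ha)).swap (X := Z) (t ≫ D.split.hom.hom.hom)
    rwa [Roots36.reflection_sq, tw_one] at this
  obtain ⟨τ, hτ⟩ := centralizer_torus D (np (nr a) X * np (nr a) X) hsq
  rw [i_eq_tpt] at hτ
  rw [show (np (nr a) X)⁻¹ = (tpt D (τ ≫ D.split.hom.hom.hom))⁻¹ * np (nr a) X by rw [hτ]; group,
    ← tpt_inv, _root_.mul_assoc]
  exact tpt_mul_decomp _ (simple_mul_decomp hnr hK eK ha hh)

theorem stab_eq_top (hK : BaseChamber D b l) {K : Type u} [Field K] [IsAlgClosed K] {X : Over S}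
    [IsAffine X.left] (eK : K ≃+* Γ(X.left, ⊤)) (g : X ⟶ G) : g ∈ decompStab D b l nr X := by
  have hT : ∀ t : X ⟶ Red.DS S D.M, tpt D t ∈ decompStab D b l nr X := fun t h hh =>
    ⟨tpt_mul_decomp t hh, by rw [← tpt_inv]; exact tpt_mul_decomp _ hh⟩
  have hneg : ∀ x ∈ Up D (-l) X, x ∈ decompStab D b l nr X := fun x hx h hh =>
    ⟨up_mul_decomp hx hh, up_mul_decomp (inv_mem hx) hh⟩
  have hmove : ∀ a ∈ b.support, ∀ c, (∀ r, rp D c r ∈ decompStab D b l nr X) →
      ∀ r, rp D (D.P.reflectionPerm a c) r ∈ decompStab D b l nr X := by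
    intro a ha c hc r
    obtain ⟨k, hk⟩ := (hnr a ha).exists_moves_unit b c
    have e := hk.conj (X := X) (cst X ((k⁻¹ : Γ(S, ⊤)ˣ) : Γ(S, ⊤)) * r)
    rw [← _root_.mul_assoc, cst, cst, ← map_mul, Units.mul_inv, map_one, _root_.one_mul,
      Roots36.reflection_smul_index] at e
    rw [← e]
    exact mul_mem (mul_mem (simple_mem_stab hnr hK eK ha) (hc _)) (inv_mem (simple_mem_stab hnr hK eK ha))
  have hroot : ∀ c r, rp D c r ∈ decompStab D b l nr X := by
    have hn : ∀ a ∈ b.support, ∀ r, rp D (negIdx D a) r ∈ decompStab D b l nr X := fun a ha r =>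
      hneg _ (rp_mem_up (by
        rw [root_negIdx, AddMonoidHom.neg_apply, map_neg, _root_.neg_neg]
        exact (hK.wall ha).pos) r)
    have := isReduced_of_base b
    intro c
    refine (b.induction_reflect c (p := fun c => (∀ r, rp D c r ∈ decompStab D b l nr X) ∧
      ∀ r, rp D (negIdx D c) r ∈ decompStab D b l nr X) (fun i hi => ?_) (fun i hi => ?_)
      (fun i j hi hj => ?_)).1
    · exact ⟨hi.2, by rw [show D.P.reflectionPerm i i = negIdx D i from rfl, negIdx_negIdx]; exact hi.1⟩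
    · refine ⟨fun r => ?_, hn i hi⟩
      have := hmove i hi (negIdx D i) (hn i hi) r
      rwa [show D.P.reflectionPerm i (negIdx D i) = i from D.P.reflectionPerm_self i i] at this
    · exact ⟨hmove j hj i hi.1, by rw [negIdx_reflectionPerm]; exact hmove j hj _ hi.2⟩
  have hbig : ∀ x : X ⟶ G, InBig D l x → x ∈ decompStab D b l nr X := by
    rintro x ⟨u, hu, t, v, hv, rfl⟩
    obtain ⟨r, rfl⟩ := hK.exists_prod posEnum_injective posEnum_range hv
    exact mul_mem (mul_mem (hneg u hu) (hT t)) (list_prod_mem' fun _ => hroot _ _)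
  classical
  have C := cellData_of_regular D l hK.inj (posEnum D (-l)) (posEnum D l) posEnum_injective
    posEnum_injective (fun k => by
      have := posEnum_pos (D := D) (l := -l) k
      simp only [AddMonoidHom.neg_apply] at this
      omega) posEnum_pos
  have : IsOpenImmersion (bigMap D l).left := by
    have : Mono (RedSub.cellMap D (posEnum D (-l)) (posEnum D l)) := C.mono_cell
    refine cellMap_open_of_mono D _ _ ?_
    rw [Fintype.card_congr (Equiv.subtypeEquivRight
      (p := fun c => 0 < (-l) (D.P.root c)) (q := fun c => ¬ 0 < l (D.P.root c))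
      fun c => by have := hK.ne c; simp only [AddMonoidHom.neg_apply]; omega),
      Fintype.card_subtype_compl, Nat.sub_add_cancel (Fintype.card_subtype_le _)]
  have h1 : ∀ Y : Over S, Set.range (1 : Y ⟶ G).left.base ⊆ Set.range (bigMap D l).left.base :=
    fun Y => one_range_cell (fun k => rootHom_gaPt_zero D _) (fun k => rootHom_gaPt_zero D _)
      D.maximalTorus.1
  have hsm := smooth_divMap D.reductive.2.1 (bigMap D l)
  have hsurj := surjective_divMap D.reductive (bigMap D l) h1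
  let P : Over S := Over.mk (pullback.fst g.left (divMap (bigMap D l)).left ≫ X.hom)
  let k : P ⟶ X := Over.homMk (pullback.fst g.left (divMap (bigMap D l)).left) rfl
  let c : P ⟶ _ ⊗ _ := Over.homMk (pullback.snd g.left (divMap (bigMap D l)).left) (by
    show _ = pullback.fst g.left (divMap (bigMap D l)).left ≫ X.hom
    rw [← Over.w g, ← Over.w (divMap (bigMap D l)), pullback.condition_assoc])
  have hk1 : Surjective k.left := MorphismProperty.pullback_fst (P := @Surjective) _ _ hsurj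
  have hk2 : LocallyOfFiniteType k.left := by
    have : Smooth k.left := MorphismProperty.pullback_fst (P := @Smooth) _ _ hsm
    infer_instance
  obtain ⟨s, hs⟩ := exists_section_of_field eK P k hk1 hk2
  have he : g = ((s ≫ c ≫ fst _ _) ≫ bigMap D l) * ((s ≫ c ≫ snd _ _) ≫ bigMap D l)⁻¹ := by
    rw [← divMap_pt, show lift (s ≫ c ≫ fst _ _) (s ≫ c ≫ snd _ _) = s ≫ c by ext <;> simp,
      Category.assoc]
    calc g = (s ≫ k) ≫ g := by rw [hs, Category.id_comp]
      _ = _ := by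
        rw [Category.assoc]
        congr 1
        exact Over.OverMorphism.ext pullback.condition
  rw [he]
  exact mul_mem (hbig _ (hK.inBig_of_range fun _ ⟨p, hp⟩ => ⟨_, hp⟩))
    (inv_mem (hbig _ (hK.inBig_of_range fun _ ⟨p, hp⟩ => ⟨_, hp⟩)))

/-- Existence of the Bruhat decomposition. -/
theorem exists_decomp (hK : BaseChamber D b l) {K : Type u} [Field K] [IsAlgClosed K] {X : Over S}
    [IsAffine X.left] (eK : K ≃+* Γ(X.left, ⊤)) (g : X ⟶ G) : Decomp D b l nr g := by
  have h1 : Decomp D b l nr (1 : X ⟶ G) := ⟨[], by simp, 1, one_mem _, 1, 1, one_mem _, by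
    rw [tpt_one, List.map_nil, List.prod_nil, np, MonObj.comp_one]; group⟩
  simpa using (stab_eq_top hnr hK eK g 1 h1).1

omit hnr

/-- The points of the Borel subgroup of a chamber. -/
def InBorel (D : Red.SplitRed G) (l : D.M →+ ℤ) {X : Over S} (g : X ⟶ G) : Prop :=
  ∃ t : X ⟶ Red.DS S D.M, ∃ v ∈ Up D l X, g = tpt D t * v

/-- Uniqueness in the Bruhat decomposition. -/
theorem decomp_unique (hl : Chamber D l) (b : D.P.Base) {N N' : 𝟙_ (Over S) ⟶ G} {g g' : D.P.Aut}
    (hN : Acts D N g) (hN' : Acts D N' g') {K : Type u} [Field K] [IsAlgClosed K] {W : Over S}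
    [IsAffine W.left] (eK : K ≃+* Γ(W.left, ⊤)) {u u' v v' : W ⟶ G} {τ τ' : W ⟶ Red.DS S D.M}
    (hu : u ∈ Up D (-l) W) (hu' : u' ∈ Up D (-l) W) (hv : v ∈ Up D l W) (hv' : v' ∈ Up D l W)
    (h : u * np N W * tpt D τ * v = u' * np N' W * tpt D τ' * v') : g = g' := by
  classical
  have hbor : ∀ {Z : Over S} (σ σ' : Z ⟶ Red.DS S D.M) {x : Z ⟶ G}, InBorel D l x →
      InBorel D l (tpt D σ * x * tpt D σ') := by
    rintro Z σ σ' x ⟨t, y, hy, rfl⟩
    refine ⟨σ * t * σ', (tpt D σ')⁻¹ * y * tpt D σ', ?_, ?_⟩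
    · have := fixed_conj_up (l := l) (tpt_mem_fixed (D := D) σ'⁻¹) hy
      rwa [tpt_inv, _root_.inv_inv] at this
    · simp only [tpt_mul]
      group
  let y₀ := u'⁻¹ * u
  have hy₀ : y₀ ∈ Up D (-l) W := mul_mem (inv_mem hu') hu
  have hB₀ : InBorel D l ((np N' W)⁻¹ * y₀ * np N W) := by
    refine ⟨τ' * τ⁻¹, tpt D τ * (v' * v⁻¹) * (tpt D τ)⁻¹, fixed_conj_up (tpt_mem_fixed τ)
      (mul_mem hv' (inv_mem hv)), ?_⟩
    rw [tpt_mul, tpt_inv]
    calc (np N' W)⁻¹ * y₀ * np N W = (np N' W)⁻¹ * u'⁻¹ * (u * np N W * tpt D τ * v) * v⁻¹ * (tpt D τ)⁻¹ := by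
          simp only [y₀]; group
      _ = _ := by rw [h]; group
  obtain ⟨f, hf1, hf2⟩ := (hy₀ : Contr (cochar D (-l)) y₀ 1)
  let F : W ⊗ Red.Ga S ⟶ G := np N'⁻¹ _ * f * np N _
  let L : polyGa W ⟶ W ⊗ Red.Ga S := lift (gaProj W) (gaTu W)
  have C := cellData_of_regular D l hl.inj (posEnum D (-l)) (posEnum D l) posEnum_injective
    posEnum_injective (fun k => by
      have := posEnum_pos (D := D) (l := -l) k
      simp only [AddMonoidHom.neg_apply] at this
      omega) posEnum_pos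
  have := D.maximalTorus.1
  have : IsMonHom D.split.inv.hom.hom := D.split.inv.hom.isMonHom_hom
  let jT : Red.DS S D.M ⟶ G := D.split.inv.hom.hom ≫ D.i
  have : Mono jT := by
    have := D.maximalTorus.2.1
    have : IsIso ((Grp.forget _).map D.split.inv) := inferInstance
    have : IsIso D.split.inv.hom.hom := this
    exact mono_comp _ _
  let BT := torusProd jT fun k => D.u (posEnum D l k)
  have hclosed : IsClosedImmersion BT.left :=
    torusProd_isClosedImmersion jT C.hG C.pos fun Z t s => by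
      show (t ≫ cochar D l) * tpt D s = tpt D s * (t ≫ cochar D l)
      rw [cochar_pt, tpt_comm]
  have hinB : ∀ {Z : Over S} {x : Z ⟶ G}, InBorel D l x → Set.range x.left.base ⊆ Set.range BT.left.base := by
    rintro Z x ⟨t, y, hy, rfl⟩
    obtain ⟨r, rfl⟩ := hl.exists_prod posEnum_injective posEnum_range hy
    have e : lift t (powTuple fun k => gaPt (r k)) ≫ BT =
        tpt D t * (List.ofFn fun k => rp D (posEnum D l k) (r k)).prod := by
      simp only [BT, torusProd, MonObj.comp_mul, lift_fst_assoc, lift_snd_assoc, powTuple_prodMap]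
      rfl
    rw [← e]
    rintro _ ⟨p, rfl⟩
    exact ⟨_, rfl⟩
  have hL : ∀ {Z : Over S} (q : Z ⟶ polyGa W) (z : Z ⟶ W) (x : Z ⟶ Red.Ga S),
      q ≫ gaProj W = z → q ≫ gaTu W = x → q ≫ L = lift z x := by
    intro Z q z x e1 e2
    simp only [L]
    ext1
    · rw [Category.assoc, lift_fst, lift_fst, e1]
    · rw [Category.assoc, lift_snd, lift_snd, e2]
  obtain ⟨j, hj1, hj2, hj3⟩ := exists_unit_line W
  obtain ⟨o, ho1, ho2, -⟩ := exists_gaLift (𝟙 W) (gaPt (X := W) 0)
  have hgen : InBorel D l (j ≫ L ≫ F) := by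
    have eF : j ≫ L ≫ F = np N'⁻¹ _ * ((polyTu W ℤ ≫ cochar D (-l)) * (polyProj W ℤ ≫ y₀) *
        (polyTu W ℤ ≫ cochar D (-l))⁻¹) * np N _ := by
      rw [← Category.assoc j L F, hL j _ _ hj1 hj2, ← hf1]
      simp only [F, MonObj.comp_mul, comp_np]
    have e0 := congrArg (polyProj W ℤ ≫ ·) (rfl : (np N' W)⁻¹ * y₀ * np N W = _)
    obtain ⟨t₀, v₀, hv₀, hb₀⟩ := hB₀
    have hb : InBorel D l ((np N' (polyDS W ℤ))⁻¹ * (polyProj W ℤ ≫ y₀) * np N (polyDS W ℤ)) := by
      have := congrArg (polyProj W ℤ ≫ ·) hb₀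
      simp only [MonObj.comp_mul, GrpObj.comp_inv, comp_np, comp_tpt] at this
      exact ⟨_, _, Up.comp hv₀ _, this⟩
    have key : j ≫ L ≫ F = tpt D (tw g'⁻¹ (polyTu W ℤ ≫ Red.DSmap S (-l))) *
        ((np N' (polyDS W ℤ))⁻¹ * (polyProj W ℤ ≫ y₀) * np N (polyDS W ℤ)) *
        tpt D (tw g⁻¹ (polyTu W ℤ ≫ Red.DSmap S (-l))⁻¹) := by
      rw [eF, cochar_pt, ← tpt_inv, ← hN'.inv, np_inv]
      have e := hN.inv (polyDS W ℤ) (polyTu W ℤ ≫ Red.DSmap S (-l))⁻¹
      rw [np_inv] at e
      rw [← e]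
      group
    rw [key]
    exact hbor _ _ hb
  have hall : (L ≫ F).left.base '' Set.univ ⊆ Set.range BT.left.base := by
    have hcl : IsClosed ((L ≫ F).left.base ⁻¹' Set.range BT.left.base) :=
      BT.left.isClosedEmbedding.isClosed_range.preimage (L ≫ F).left.continuous
    have : IsAffine (polyDS W ℤ).left := inferInstance
    have : IsAffine (polyGa W).left := inferInstance
    have hd := denseRange_of_appTop_injective j.left hj3
    have hsub : (Set.univ : Set (polyGa W).left) ⊆ (L ≫ F).left.base ⁻¹' Set.range BT.left.base := by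
      rw [← hd.closure_range]
      refine hcl.closure_subset_iff.mpr ?_
      rintro _ ⟨p, rfl⟩
      exact hinB hgen ⟨p, rfl⟩
    exact Set.image_subset_iff.mpr hsub
  have e0 : o ≫ L ≫ F = np (N'⁻¹ * N) W := by
    rw [← Category.assoc o L F, hL o _ _ ho1 ho2]
    simp only [F, MonObj.comp_mul, comp_np, hf2, MonObj.comp_one, _root_.mul_one, np]
  obtain ⟨q₀⟩ : Nonempty W.left := by
    have : Nontrivial Γ(W.left, ⊤) := eK.symm.toEquiv.nontrivial
    by_contra hne
    rw [not_nonempty_iff] at hne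
    exact not_subsingleton Γ(W.left, ⊤) inferInstance
  obtain ⟨p, hp⟩ := hall ⟨o.left q₀, trivial, rfl⟩
  let P : Over S := Over.mk (pullback.fst (o ≫ L ≫ F).left BT.left ≫ W.hom)
  obtain ⟨r, hr1, hr2⟩ := Scheme.Pullback.exists_preimage_pullback (f := (o ≫ L ≫ F).left) (g := BT.left)
    q₀ p (by rw [hp]; rfl)
  obtain ⟨K', _, _, W', _, eK', z, q', -⟩ := exists_field_point (X := P) r
  let k : P ⟶ W := Over.homMk (pullback.fst (o ≫ L ≫ F).left BT.left) rfl
  let c : P ⟶ Red.DS S D.M ⊗ RedSub.pow (Red.Ga S) _ := Over.homMk (pullback.snd (o ≫ L ≫ F).left BT.left) (by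
    show _ = pullback.fst (o ≫ L ≫ F).left BT.left ≫ W.hom
    rw [← Over.w (o ≫ L ≫ F), ← Over.w BT, pullback.condition_assoc])
  have hkc : k ≫ (o ≫ L ≫ F) = c ≫ BT := Over.OverMorphism.ext pullback.condition
  have e1 : np (N'⁻¹ * N) W' = (((z ≫ c) ≫ fst _ _) ≫ jT) *
      (((z ≫ c) ≫ snd _ _) ≫ RedSub.prodMap (Red.Ga S) _ fun k => D.u (posEnum D l k)) := by
    have h2 := congrArg (z ≫ ·) hkc
    simp only [e0, comp_np] at h2
    rw [h2]
    simp only [BT, torusProd, MonObj.comp_mul, Category.assoc]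
  have hbig : InBig D l (np (N'⁻¹ * N) W') := by
    refine ⟨1, one_mem _, ((z ≫ c) ≫ fst _ _), _, prod_mem_up (posEnum D l) posEnum_pos (fun k => Red.gaFn (((z ≫ c) ≫ snd _ _) ≫ powProj (Red.Ga S) _ k)), ?_⟩
    rw [e1, _root_.one_mul]
    rw [prodMap_eq_list]
    simp only [jT, tpt, Category.assoc]
  exact (inv_mul_eq_one.mp ((hN'.inv.mul hN).eq_one_of_inBig eK' hbig)).symm

end Groth.Agent.RedPts82
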