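import Groth.Agent.RedPts82.CommFormula
import Mathlib.AlgebraicGeometry.Gluing

/-!
The coefficient of the commutation formula of opposite root groups and the associated cocharacter.
-/

universe u

open CategoryTheory MonoidalCategory CartesianMonoidalCategory MonObj GrpObj AlgebraicGeometry
open CategoryTheory.Limits

namespace Groth.Agent.RedPts82

variable {S : Scheme.{u}} {G T : Over S} [GrpObj G] [GrpObj T]
  {i : T ⟶ G} {α : T ⟶ Red.Gm S} {pp pm : Red.Ga S ⟶ G}

/-- The value on an object of a function on the base. -/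
noncomputable def co (a : 𝟙_ (Over S) ⟶ Red.Ga S) (Z : Over S) : Γ(Z.left, ⊤) :=
  Red.gaFn (toUnit Z ≫ a)

theorem co_comp (a : 𝟙_ (Over S) ⟶ Red.Ga S) {Z Z' : Over S} (k : Z' ⟶ Z) :
    k.left.appTop (co a Z) = co a Z' := by
  rw [co, co, ← gaFn_comp, comp_toUnit_assoc]

variable (H : BC G T i α pp pm)
include H

theorem BC.exists_coeff :
    ∃ a : 𝟙_ (Over S) ⟶ Red.Ga S, ∀ (Z : Over S), IsAffine Z.left →
      ∃ e2 x2 g2, Expand i pp pm (co a Z) e2 x2 g2 := by
  classical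
  choose e1 e2 x2 g2 hE using fun (Z : Over S) (hZ : IsAffine Z.left) => H.exists_expand Z
  have nat : ∀ (Z Z' : Over S) (hZ : IsAffine Z.left) (hZ' : IsAffine Z'.left) (k : Z' ⟶ Z),
      k ≫ gaPt (S := S) (e1 Z hZ) = gaPt (e1 Z' hZ') := fun Z Z' hZ hZ' k => by
    rw [comp_gaPt, H.expand_unique ((hE Z hZ).comp k) (hE Z' hZ')]
  let X₀ : Over S := 𝟙_ (Over S)
  let C := X₀.left.affineCover
  let W : C.I₀ → Over S := fun j => Over.mk (C.f j ≫ X₀.hom)
  have hW : ∀ j, IsAffine (W j).left := fun j => inferInstanceAs (IsAffine (X₀.left.affineCover.X j))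
  let val : ∀ j, W j ⟶ Red.Ga S := fun j => gaPt (e1 (W j) (hW j))
  have compat : ∀ x y, pullback.fst (C.f x) (C.f y) ≫ (val x).left =
      pullback.snd (C.f x) (C.f y) ≫ (val y).left := by
    intro x y
    let P : Over S := Over.mk (pullback.fst (C.f x) (C.f y) ≫ (W x).hom)
    let px : P ⟶ W x := Over.homMk (pullback.fst (C.f x) (C.f y)) rfl
    let py : P ⟶ W y := Over.homMk (pullback.snd (C.f x) (C.f y)) (by
      show pullback.snd (C.f x) (C.f y) ≫ C.f y ≫ X₀.hom =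
        pullback.fst (C.f x) (C.f y) ≫ C.f x ≫ X₀.hom
      rw [pullback.condition_assoc])
    have e : px ≫ val x = py ≫ val y := hom_ext_affine fun Z hZ k => by
      rw [← Category.assoc, ← Category.assoc, nat _ Z _ hZ, nat _ Z _ hZ]
    exact congrArg CommaMorphism.left e
  let a : X₀ ⟶ Red.Ga S := Over.homMk (C.glueMorphisms (fun j => (val j).left) compat) (by
    refine C.hom_ext _ _ fun j => ?_
    rw [← Category.assoc, Scheme.Cover.ι_glueMorphisms]
    exact Over.w (val j))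
  refine ⟨a, fun Z hZ => ⟨e2 Z hZ, x2 Z hZ, g2 Z hZ, ?_⟩⟩
  have key : toUnit Z ≫ a = gaPt (e1 Z hZ) := by
    apply Over.OverMorphism.ext
    refine Scheme.Cover.hom_ext (C.pullback₁ (toUnit Z).left) _ _ fun j => ?_
    let P : Over S := Over.mk (pullback.fst (toUnit Z).left (C.f j) ≫ Z.hom)
    let pz : P ⟶ Z := Over.homMk (pullback.fst (toUnit Z).left (C.f j)) rfl
    let pw : P ⟶ W j := Over.homMk (pullback.snd (toUnit Z).left (C.f j)) (by
      show pullback.snd (toUnit Z).left (C.f j) ≫ C.f j ≫ X₀.hom =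
        pullback.fst (toUnit Z).left (C.f j) ≫ Z.hom
      rw [← pullback.condition_assoc, Over.w (toUnit Z)])
    have e : pw ≫ val j = pz ≫ gaPt (e1 Z hZ) := hom_ext_affine fun Q hQ k => by
      rw [← Category.assoc, ← Category.assoc, nat _ Q _ hQ, nat _ Q _ hQ]
    change pullback.fst (toUnit Z).left (C.f j) ≫ (toUnit Z).left ≫ a.left =
      pullback.fst (toUnit Z).left (C.f j) ≫ (gaPt (S := S) (e1 Z hZ)).left
    rw [pullback.condition_assoc]
    refine Eq.trans ?_ (congrArg CommaMorphism.left e)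
    show pullback.snd (toUnit Z).left (C.f j) ≫ C.f j ≫ _ = pullback.snd _ _ ≫ (val j).left
    congr 1
    exact Scheme.Cover.ι_glueMorphisms C _ compat j
  rw [co, key, gaFn_gaPt]
  exact hE Z hZ

variable {a : 𝟙_ (Over S) ⟶ Red.Ga S}
  (ha : ∀ (Z : Over S), IsAffine Z.left → ∃ e2 x2 g2, Expand i pp pm (co a Z) e2 x2 g2)
include ha

theorem BC.isUnit_coeff
    (hnc : ∀ s : S, ∃ (X : Over (Spec (CommRingCat.of (AlgebraicClosure (S.residueField s)))))
      (x y : X ⟶ Red.bc (Red.geomPt s) (Red.Ga S)),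
      (x ≫ (Over.pullback (Red.geomPt s)).map pp) * (y ≫ (Over.pullback (Red.geomPt s)).map pm) ≠
        (y ≫ (Over.pullback (Red.geomPt s)).map pm) * (x ≫ (Over.pullback (Red.geomPt s)).map pp)) :
    IsUnit (Red.gaFn a) := by
  refine isUnit_of_basicOpen_eq_top _ (eq_top_iff.mpr fun p _ => ?_)
  let s : S := (𝟙_ (Over S)).hom p
  let K := AlgebraicClosure (S.residueField s)
  let W : Over S := Over.mk (Red.geomPt s)
  have hW : IsAffine W.left := inferInstanceAs (IsAffine (Spec (CommRingCat.of K)))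
  let e : K ≃+* Γ(W.left, ⊤) :=
    (Scheme.ΓSpecIso (CommRingCat.of K)).commRingCatIsoToRingEquiv.symm
  obtain ⟨c2, d2, f2, hE⟩ := ha W hW
  have hE' : Expand i pp pm (e (e.symm (co a W))) (e (e.symm c2)) (e (e.symm d2)) (e (e.symm f2)) := by
    simpa only [RingEquiv.apply_symm_apply] using hE
  have hne : e.symm (co a W) ≠ 0 := by
    intro h0
    obtain ⟨X, x, y, hxy⟩ := hnc s
    have hall : ∀ b : K, IC i pp pm (e b) 1 := by
      intro b
      by_contra hb
      have := H.bad_e1 e hE' hb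
      rw [h0, zero_mul] at this
      exact zero_ne_one this
    obtain ⟨-, hc⟩ := H.empty_case e hE' hall
    apply hxy
    apply toBase_injective (Red.geomPt s)
    rw [toBase_mul, toBase_mul, toBase_comp_map, toBase_comp_map]
    refine hom_ext_affine fun Z hZ k => ?_
    rw [MonObj.comp_mul, MonObj.comp_mul, ← Category.assoc, ← Category.assoc,
      ← gaPt_gaFn (k ≫ toBase (Red.geomPt s) x), ← gaPt_gaFn (k ≫ toBase (Red.geomPt s) y)]
    exact hc Z hZ (k ≫ Over.homMk X.hom rfl) _ _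
  have hu : IsUnit ((toUnit W).left.appTop (Red.gaFn a)) := by
    rw [← gaFn_comp, ← co, ← e.apply_symm_apply (co a W)]
    exact isUnit_e e hne
  have hm := mem_basicOpen_of_isUnit_appTop (toUnit W) _ hu (IsLocalRing.closedPoint K : Spec (CommRingCat.of K))
  have hp : (toUnit W).left (IsLocalRing.closedPoint K : Spec (CommRingCat.of K)) = p := by
    have h2 : (𝟙_ (Over S)).hom ((toUnit W).left (IsLocalRing.closedPoint K : Spec (CommRingCat.of K))) =
        (𝟙_ (Over S)).hom p := by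
      rw [← Scheme.Hom.comp_apply, Over.w (toUnit W)]
      exact Scheme.fromSpecResidueField_apply s _
    exact h2
  rwa [hp] at hm

variable (hunit : IsUnit (Red.gaFn a))
include hunit

omit H ha in
theorem isUnit_co (X : Over S) : IsUnit (co a X) := by
  rw [co, gaFn_comp]
  exact hunit.map _

theorem BC.ic_global (X : Over S) (x y : Γ(X.left, ⊤)) :
    IC i pp pm x y ↔ IsUnit (1 - co a X * x * y) := by
  refine ⟨fun h => isUnit_of_field_points _ fun K _ _ W _ e k h0 => ?_, fun h =>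
    IC.of_field_points fun K _ _ W hW e k => ?_⟩
  · obtain ⟨c2, d2, f2, hE⟩ := ha W inferInstance
    have hu := (H.ic_iff_isUnit hE (isUnit_co hunit W) (𝟙 W) _ _).mp (h.comp k)
    rw [appTop_id_apply] at hu
    have : Nontrivial Γ(W.left, ⊤) := e.symm.nontrivial
    refine hu.ne_zero ?_
    rwa [map_sub, map_one, map_mul, map_mul, co_comp] at h0
  · obtain ⟨c2, d2, f2, hE⟩ := ha W hW
    refine (H.ic_iff_isUnit hE (isUnit_co hunit W) (𝟙 W) _ _).mpr ?_
    rw [appTop_id_apply, ← co_comp a k, ← map_mul, ← map_mul, ← map_one k.left.appTop.hom, ← map_sub]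
    exact h.map _

theorem BC.formula_global {X : Over S} (x y : Γ(X.left, ⊤)) (z : Γ(X.left, ⊤)ˣ)
    (hz : (z : Γ(X.left, ⊤)) = 1 - co a X * x * y) :
    ∃ t : X ⟶ T, Rel i pp pm x y (((z⁻¹ : Γ(X.left, ⊤)ˣ) : Γ(X.left, ⊤)) * y) t
        (((z⁻¹ : Γ(X.left, ⊤)ˣ) : Γ(X.left, ⊤)) * x) ∧ hv α t = z⁻¹ ^ 2 := by
  obtain ⟨b, t, c, h⟩ := H.rel_exists ((H.ic_global ha hunit X x y).mpr (hz ▸ z.isUnit))
  have key : ∀ (Z : Over S) (_ : IsAffine Z.left) (k : Z ⟶ X),
      k.left.appTop b = k.left.appTop (((z⁻¹ : Γ(X.left, ⊤)ˣ) : Γ(X.left, ⊤)) * y) ∧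
      k.left.appTop c = k.left.appTop (((z⁻¹ : Γ(X.left, ⊤)ˣ) : Γ(X.left, ⊤)) * x) ∧
      k.left.appTop (hv α t : Γ(X.left, ⊤)) =
        k.left.appTop (((z⁻¹ ^ 2 : Γ(X.left, ⊤)ˣ) : Γ(X.left, ⊤))) := by
    intro Z hZ k
    obtain ⟨c2, d2, f2, hE⟩ := ha Z hZ
    have hzk : k.left.appTop (z : Γ(X.left, ⊤)) =
        1 - co a Z * k.left.appTop x * k.left.appTop y := by
      rw [hz, map_sub, map_one, map_mul, map_mul, co_comp]
    have hu : IsUnit (1 - co a Z * k.left.appTop x * k.left.appTop y) := hzk ▸ z.isUnit.map _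
    obtain ⟨t', h', ht'⟩ := H.formula hE (isUnit_co hunit Z) hu
    obtain ⟨eb, et, ec⟩ := H.rel_inj (h.comp k) h'
    have hi := map_unit_inv k.left.appTop.hom z.isUnit hu hzk
    rw [IsUnit.unit_of_val_units] at hi
    refine ⟨?_, ?_, ?_⟩
    · rw [eb, map_mul, hi]
    · rw [ec, map_mul, hi]
    · rw [← hv_comp, et, ht', Units.val_pow_eq_pow_val, map_pow, hi]
  have ext : ∀ r r' : Γ(X.left, ⊤), (∀ (Z : Over S) (_ : IsAffine Z.left) (k : Z ⟶ X),
      k.left.appTop r = k.left.appTop r') → r = r' := fun r r' he =>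
    gaPt_injective (S := S) (hom_ext_affine fun Z hZ k => by rw [comp_gaPt, comp_gaPt, he Z hZ k])
  obtain rfl := ext _ _ fun Z hZ k => (key Z hZ k).1
  obtain rfl := ext _ _ fun Z hZ k => (key Z hZ k).2.1
  exact ⟨t, h, Units.ext (ext _ _ fun Z hZ k => (key Z hZ k).2.2)⟩

/-- The first coordinate whose product with one gives the multiplier `z`. -/
noncomputable def coordOf {X : Over S} (hu : IsUnit (co a X)) (z : Γ(X.left, ⊤)) : Γ(X.left, ⊤) :=
  (1 - z) * ((hu.unit⁻¹ : Γ(X.left, ⊤)ˣ) : Γ(X.left, ⊤))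

omit H ha hunit in
theorem coordOf_spec {X : Over S} (hu : IsUnit (co a X)) (z : Γ(X.left, ⊤)) :
    1 - co a X * coordOf hu z = z := by
  rw [coordOf]
  linear_combination (z - 1) * hu.mul_val_inv

theorem BC.exists_cochar : ∃ av : Red.Gm S ⟶ T, ∀ (X : Over S) (p : X ⟶ Red.Gm S),
    Rel i pp pm (coordOf (isUnit_co hunit X) (Red.gmFn p)) 1
        (((gmU p)⁻¹ : Γ(X.left, ⊤)ˣ) : Γ(X.left, ⊤)) (p ≫ av)
        ((((gmU p)⁻¹ : Γ(X.left, ⊤)ˣ) : Γ(X.left, ⊤)) * coordOf (isUnit_co hunit X) (Red.gmFn p)) ∧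
      hv α (p ≫ av) = (gmU p)⁻¹ ^ 2 := by
  obtain ⟨t, h, ht⟩ := H.formula_global ha hunit
    (coordOf (isUnit_co hunit (Red.Gm S)) (Red.gmFn (𝟙 (Red.Gm S)))) 1 (gmU (𝟙 (Red.Gm S)))
    (by rw [val_gmU, _root_.mul_one, coordOf_spec])
  refine ⟨t, fun X p => ?_⟩
  obtain ⟨t', h', ht'⟩ := H.formula_global ha hunit
    (coordOf (isUnit_co hunit X) (Red.gmFn p)) 1 (gmU p)
    (by rw [val_gmU, _root_.mul_one, coordOf_spec])
  have hp : p.left.appTop (coordOf (isUnit_co hunit (Red.Gm S)) (Red.gmFn (𝟙 (Red.Gm S)))) =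
      coordOf (isUnit_co hunit X) (Red.gmFn p) := by
    rw [coordOf, coordOf, map_mul, map_sub, map_one, ← gmFn_comp, Category.comp_id,
      map_unit_inv p.left.appTop.hom (isUnit_co hunit (Red.Gm S)) (isUnit_co hunit X) (co_comp a p)]
  have h1 := h.comp p
  rw [hp, map_one] at h1
  rw [_root_.mul_one] at h'
  obtain ⟨-, e, -⟩ := H.rel_inj h1 h'
  rw [e]
  exact ⟨h', ht'⟩

variable {av : Red.Gm S ⟶ T} (hav : ∀ (X : Over S) (p : X ⟶ Red.Gm S),
    Rel i pp pm (coordOf (isUnit_co hunit X) (Red.gmFn p)) 1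
        (((gmU p)⁻¹ : Γ(X.left, ⊤)ˣ) : Γ(X.left, ⊤)) (p ≫ av)
        ((((gmU p)⁻¹ : Γ(X.left, ⊤)ˣ) : Γ(X.left, ⊤)) * coordOf (isUnit_co hunit X) (Red.gmFn p)) ∧
      hv α (p ≫ av) = (gmU p)⁻¹ ^ 2)
include hav

omit ha in
theorem BC.cochar_mul (X : Over S) (p q : X ⟶ Red.Gm S) : (p * q) ≫ av = (q ≫ av) * (p ≫ av) := by
  obtain ⟨h, -⟩ := hav X p
  obtain ⟨h', -⟩ := hav X q
  let v := Red.gmFn p * coordOf (isUnit_co hunit X) (Red.gmFn q)
  have hE : IsUnit (((gmU p)⁻¹ : Γ(X.left, ⊤)ˣ) : Γ(X.left, ⊤)) := Units.isUnit _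
  have hv' : v * (((gmU p)⁻¹ : Γ(X.left, ⊤)ˣ) : Γ(X.left, ⊤)) =
      coordOf (isUnit_co hunit X) (Red.gmFn q) := by
    simp only [v]
    rw [← val_gmU p]
    linear_combination coordOf (isUnit_co hunit X) (Red.gmFn q) * (gmU p).mul_inv
  rw [← hv'] at h'
  have h'' := H.rel_shift hE h h'
  obtain ⟨hpq, -⟩ := hav X (p * q)
  have hs : coordOf (isUnit_co hunit X) (Red.gmFn p) + v =
      coordOf (isUnit_co hunit X) (Red.gmFn (p * q)) := by
    simp only [v, coordOf, gmFn_mul]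
    ring
  rw [hs] at h''
  exact (H.rel_inj hpq h'').2.1

omit [GrpObj T] H ha in
theorem cochar_sq (X : Over S) (p : X ⟶ Red.Gm S) :
    Red.gmFn ((p ≫ av) ≫ α) = Red.gmFn p ^ 2 := by
  have h := congrArg (fun u => u⁻¹) (hav X p).2
  simp only [hv, inv_pow, _root_.inv_inv] at h
  rw [← val_gmU ((p ≫ av) ≫ α), h, Units.val_pow_eq_pow_val, val_gmU]

/-- The torus component of a decomposition. -/
theorem BC.tor_eq {X : Over S} {x y b c : Γ(X.left, ⊤)} {t : X ⟶ T}
    (h : Rel i pp pm x y b t c) (p : X ⟶ Red.Gm S) (hp : Red.gmFn p = 1 - co a X * x * y) :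
    t = p ≫ av := by
  classical
  have unit_case : ∀ (Z : Over S) (x y b c : Γ(Z.left, ⊤)) (t : Z ⟶ T) (p : Z ⟶ Red.Gm S),
      IsUnit y → Rel i pp pm x y b t c → Red.gmFn p = 1 - co a Z * x * y → t = p ≫ av := by
    intro Z x y b c t p hy h hp
    obtain ⟨h', -⟩ := hav Z p
    have e : coordOf (isUnit_co hunit Z) (Red.gmFn p) = x * y := by
      rw [coordOf, hp]
      linear_combination (x * y) * (isUnit_co hunit Z).mul_val_inv
    rw [e] at h'
    exact (H.rel_inj h (by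
      have := H.rel_of_one (x := x) hy.unit (by rw [IsUnit.unit_spec]; exact h')
      rwa [IsUnit.unit_spec] at this)).2.1
  refine hom_ext_affine fun W hW k => ?_
  obtain ⟨Z, l, r, hZ, hf, hs, hr⟩ := exists_avoid W
    (Polynomial.X * (Polynomial.C (k.left.appTop y) - Polynomial.X) *
      (1 - Polynomial.C (co a W * k.left.appTop x) *
        (Polynomial.C (k.left.appTop y) - Polynomial.X))) fun K _ _ V _ e z => by
      have : Infinite K := IsAlgClosed.instInfinite
      set a₀ := e.symm (z.left.appTop (co a W * k.left.appTop x))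
      set b₀ := e.symm (z.left.appTop (k.left.appTop y))
      let p : Polynomial K := Polynomial.X * (Polynomial.C b₀ - Polynomial.X) *
        (1 - Polynomial.C a₀ * (Polynomial.C b₀ - Polynomial.X))
      have hp : p ≠ 0 := by
        refine mul_ne_zero (mul_ne_zero Polynomial.X_ne_zero ?_) fun h0 => ?_
        · rw [← neg_sub]
          exact neg_ne_zero.mpr (Polynomial.X_sub_C_ne_zero b₀)
        · simpa using congrArg (Polynomial.eval b₀) h0
      obtain ⟨b, hb⟩ := Infinite.exists_notMem_finset p.roots.toFinset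
      simp only [Multiset.mem_toFinset, Polynomial.mem_roots hp, Polynomial.IsRoot.def] at hb
      refine ⟨e b, ?_⟩
      have := isUnit_e e hb
      simp only [p, Polynomial.eval_mul, Polynomial.eval_sub, Polynomial.eval_X,
        Polynomial.eval_C, Polynomial.eval_one, map_mul, map_sub, map_one, a₀, b₀,
        RingEquiv.apply_symm_apply] at this
      simp only [Polynomial.eval₂_mul, Polynomial.eval₂_sub, Polynomial.eval₂_X, Polynomial.eval₂_C,
        Polynomial.eval₂_one, map_mul]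
      exact this
  simp only [Polynomial.eval₂_mul, Polynomial.eval₂_sub, Polynomial.eval₂_X, Polynomial.eval₂_C,
    Polynomial.eval₂_one, map_mul, IsUnit.mul_iff] at hr
  obtain ⟨⟨hr1, hr2⟩, hr3⟩ := hr
  change IsUnit (l.left.appTop (k.left.appTop y) - r) at hr2
  change IsUnit (1 - l.left.appTop (co a W) * l.left.appTop (k.left.appTop x) *
    (l.left.appTop (k.left.appTop y) - r)) at hr3
  rw [co_comp] at hr3
  have := epi_of_flat_surjective_left l
  rw [← cancel_epi l, ← Category.assoc, ← Category.assoc, ← Category.assoc]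
  have hm := h.comp (l ≫ k)
  simp only [appTop_comp_apply] at hm
  have hpz : Red.gmFn ((l ≫ k) ≫ p) =
      1 - co a Z * l.left.appTop (k.left.appTop x) * l.left.appTop (k.left.appTop y) := by
    rw [gmFn_comp, appTop_comp_apply, hp, map_sub, map_one, map_mul, map_mul, co_comp, map_sub,
      map_one, map_mul, map_mul, co_comp]
  set x' := l.left.appTop (k.left.appTop x)
  set y' := l.left.appTop (k.left.appTop y)
  obtain ⟨t₁, h₁, -⟩ := H.formula_global ha hunit x' (y' - r) hr3.unit hr3.unit_spec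
  set Z1 : Γ(Z.left, ⊤) := ((hr3.unit⁻¹ : Γ(Z.left, ⊤)ˣ) : Γ(Z.left, ⊤))
  have hZ1 : Z1 * (1 - co a Z * x' * (y' - r)) = 1 := hr3.val_inv_mul
  have hz2 : IsUnit (1 - co a Z * (Z1 * x') * r) := by
    rw [show 1 - co a Z * (Z1 * x') * r = (1 - co a Z * x' * y') * Z1 by linear_combination -hZ1,
      ← hpz]
    exact (gmFn_isUnit _).mul (Units.isUnit _)
  obtain ⟨t₂, h₂, -⟩ := H.formula_global ha hunit (Z1 * x') r hz2.unit hz2.unit_spec
  have h₃ := H.rel_add_right h₁ h₂
  rw [sub_add_cancel] at h₃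
  have e1 := unit_case Z _ _ _ _ t₁ (gmPt hr3.unit) hr2 h₁ (by rw [gmFn_gmPt, hr3.unit_spec])
  have e2 := unit_case Z _ _ _ _ t₂ (gmPt hz2.unit) hr1 h₂ (by rw [gmFn_gmPt, hz2.unit_spec])
  rw [(H.rel_inj hm h₃).2.1, e1, e2, ← H.cochar_mul hunit hav, gm_comm]
  congr 1
  refine gmFn_injective ?_
  rw [gmFn_mul, gmFn_gmPt, gmFn_gmPt, hpz, hr3.unit_spec, hz2.unit_spec]
  linear_combination (- co a Z * x' * r) * hZ1

end Groth.Agent.RedPts82
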