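import Groth.Agent.RedPts82.WeightVanish
import Groth.Agent.RedPts82.CommGlobal

/-!
Functions on a power of the additive group with finitely many possible exponents are polynomials over
the functions on the base.
-/

universe u

open CategoryTheory MonoidalCategory CartesianMonoidalCategory MonObj GrpObj AlgebraicGeometry
open CategoryTheory.Limits

namespace Groth.Agent.RedPts82

variable {S : Scheme.{u}}

/-- A compatible family of functions on the affine objects comes from a function on the base. -/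
theorem exists_global (e : ∀ Z : Over S, IsAffine Z.left → Γ(Z.left, ⊤))
    (he : ∀ (Z Z' : Over S) (hZ : IsAffine Z.left) (hZ' : IsAffine Z'.left) (k : Z' ⟶ Z),
      k.left.appTop (e Z hZ) = e Z' hZ') :
    ∃ C : Γ(S, ⊤), ∀ (Z : Over S) (hZ : IsAffine Z.left), Z.hom.appTop C = e Z hZ := by
  classical
  have nat : ∀ (Z Z' : Over S) (hZ : IsAffine Z.left) (hZ' : IsAffine Z'.left) (k : Z' ⟶ Z),
      k ≫ gaPt (S := S) (e Z hZ) = gaPt (e Z' hZ') := fun Z Z' hZ hZ' k => by
    rw [comp_gaPt, he Z Z' hZ hZ' k]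
  let X₀ : Over S := 𝟙_ (Over S)
  let C := X₀.left.affineCover
  let W : C.I₀ → Over S := fun j => Over.mk (C.f j ≫ X₀.hom)
  have hW : ∀ j, IsAffine (W j).left := fun j => inferInstanceAs (IsAffine (X₀.left.affineCover.X j))
  let val : ∀ j, W j ⟶ Red.Ga S := fun j => gaPt (e (W j) (hW j))
  have compat : ∀ x y, pullback.fst (C.f x) (C.f y) ≫ (val x).left =
      pullback.snd (C.f x) (C.f y) ≫ (val y).left := by
    intro x y
    let P : Over S := Over.mk (pullback.fst (C.f x) (C.f y) ≫ (W x).hom)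
    let px : P ⟶ W x := Over.homMk (pullback.fst (C.f x) (C.f y)) rfl
    let py : P ⟶ W y := Over.homMk (pullback.snd (C.f x) (C.f y)) (by
      show pullback.snd (C.f x) (C.f y) ≫ C.f y ≫ X₀.hom =
        pullback.fst (C.f x) (C.f y) ≫ C.f x ≫ X₀.hom
      rw [pullback.condition_assoc])
    have h : px ≫ val x = py ≫ val y := hom_ext_affine fun Z hZ k => by
      rw [← Category.assoc, ← Category.assoc, nat _ Z _ hZ, nat _ Z _ hZ]
    exact congrArg CommaMorphism.left h
  let a : X₀ ⟶ Red.Ga S := Over.homMk (C.glueMorphisms (fun j => (val j).left) compat) (by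
    refine C.hom_ext _ _ fun j => ?_
    rw [← Category.assoc, Scheme.Cover.ι_glueMorphisms]
    exact Over.w (val j))
  refine ⟨Red.gaFn a, fun Z hZ => ?_⟩
  have key : toUnit Z ≫ a = gaPt (e Z hZ) := by
    apply Over.OverMorphism.ext
    refine Scheme.Cover.hom_ext (C.pullback₁ (toUnit Z).left) _ _ fun j => ?_
    let P : Over S := Over.mk (pullback.fst (toUnit Z).left (C.f j) ≫ Z.hom)
    let pz : P ⟶ Z := Over.homMk (pullback.fst (toUnit Z).left (C.f j)) rfl
    let pw : P ⟶ W j := Over.homMk (pullback.snd (toUnit Z).left (C.f j)) (by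
      show pullback.snd (toUnit Z).left (C.f j) ≫ C.f j ≫ X₀.hom =
        pullback.fst (toUnit Z).left (C.f j) ≫ Z.hom
      rw [← pullback.condition_assoc, Over.w (toUnit Z)])
    have h : pw ≫ val j = pz ≫ gaPt (e Z hZ) := hom_ext_affine fun Q hQ k => by
      rw [← Category.assoc, ← Category.assoc, nat _ Q _ hQ, nat _ Q _ hQ]
    change pullback.fst (toUnit Z).left (C.f j) ≫ (toUnit Z).left ≫ a.left =
      pullback.fst (toUnit Z).left (C.f j) ≫ (gaPt (S := S) (e Z hZ)).left
    rw [pullback.condition_assoc]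
    refine Eq.trans ?_ (congrArg CommaMorphism.left h)
    show pullback.snd (toUnit Z).left (C.f j) ≫ C.f j ≫ _ = pullback.snd _ _ ≫ (val j).left
    congr 1
    exact Scheme.Cover.ι_glueMorphisms C _ compat j
  have h2 : Red.gaFn (toUnit Z ≫ a) = e Z hZ := by rw [key, gaFn_gaPt]
  rw [← h2, gaFn_comp]
  conv_lhs => rw [← Over.w (toUnit Z)]
  rfl

/-- A function on the base is determined by its values on the affine objects. -/
theorem global_ext {c c' : Γ(S, ⊤)}
    (h : ∀ (Z : Over S), IsAffine Z.left → Z.hom.appTop c = Z.hom.appTop c') : c = c' := by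
  let X₀ : Over S := 𝟙_ (Over S)
  have e : gaPt (X := X₀) c = gaPt (X := X₀) c' := hom_ext_affine fun Z hZ k => gaFn_injective (by
    rw [comp_gaPt, comp_gaPt, gaFn_gaPt, gaFn_gaPt]
    have := h Z hZ
    rw [← Over.w k] at this
    exact this)
  have := congrArg Red.gaFn e
  rwa [gaFn_gaPt, gaFn_gaPt] at this

variable {k : ℕ}

/-- The coordinates of a point of a power of the additive group. -/
noncomputable def powFn {Z : Over S} (w : Z ⟶ RedSub.pow (Red.Ga S) k) (l : Fin k) : Γ(Z.left, ⊤) :=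
  Red.gaFn (w ≫ powProj (Red.Ga S) k l)

theorem mvCoeff_nat (τ : RedSub.pow (Red.Ga S) k ⟶ Red.Ga S) {Y Y' : Over S} [IsAffine Y.left]
    [IsAffine Y'.left] (f : Y' ⟶ Y) (p : MvPolynomial (Fin k) (Gam Y)) (p' : MvPolynomial (Fin k) (Gam Y'))
    (hp : mvCoordHom Y k p = Red.gaFn (mvTu Y k ≫ τ))
    (hp' : mvCoordHom Y' k p' = Red.gaFn (mvTu Y' k ≫ τ)) :
    p' = MvPolynomial.map f.left.appTop.hom p := by
  obtain ⟨σ, hσ1, hσ2, hσ3⟩ := exists_mvLift (mvProj Y' k ≫ f)
    fun l => mvTu Y' k ≫ powProj (Red.Ga S) k l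
  have e : σ ≫ mvTu Y k = mvTu Y' k := powProj_ext fun l => by rw [Category.assoc, hσ2]
  apply (mvCoordHom_bijective Y' k).1
  rw [hp', ← e, Category.assoc, gaFn_comp, ← hp, hσ3]
  refine DFunLike.congr_fun (f := evalMv (mvProj Y' k ≫ f) fun l => mvTu Y' k ≫ powProj (Red.Ga S) k l)
    (g := (mvCoordHom Y' k).comp (MvPolynomial.map f.left.appTop.hom)) ?_ p
  refine MvPolynomial.ringHom_ext (fun a => ?_) fun l => ?_
  · rw [RingHom.comp_apply, MvPolynomial.map_C, ← mvProj_appTop]
    exact MvPolynomial.eval₂Hom_C _ _ a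
  · rw [RingHom.comp_apply, MvPolynomial.map_X]
    exact (MvPolynomial.eval₂Hom_X' _ _ l).trans (gaFn_mvTu Y' k l)

/-- A function with finitely many possible exponents is a polynomial over the functions on the base. -/
theorem exists_globalPoly (τ : RedSub.pow (Red.Ga S) k ⟶ Red.Ga S) (E : Set (Fin k →₀ ℕ)) (hE : E.Finite)
    (hsupp : ∀ (Y : Over S) [IsAffine Y.left] (p : MvPolynomial (Fin k) (Gam Y)),
      mvCoordHom Y k p = Red.gaFn (mvTu Y k ≫ τ) → ∀ e ∉ E, MvPolynomial.coeff e p = 0) :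
    ∃ P : MvPolynomial (Fin k) Γ(S, ⊤), (∀ e, MvPolynomial.coeff e P ≠ 0 → e ∈ E) ∧
      ∀ (Z : Over S) (w : Z ⟶ RedSub.pow (Red.Ga S) k),
        Red.gaFn (w ≫ τ) = MvPolynomial.eval₂ Z.hom.appTop.hom (powFn w) P := by
  classical
  choose p hp using fun (Y : Over S) (hY : IsAffine Y.left) =>
    (mvCoordHom_bijective Y k).2 (Red.gaFn (mvTu Y k ≫ τ))
  choose C hC using fun e : Fin k →₀ ℕ => exists_global (fun Y hY => MvPolynomial.coeff e (p Y hY))
    fun Z Z' hZ hZ' f => by
      rw [mvCoeff_nat τ f _ _ (hp Z hZ) (hp Z' hZ'), MvPolynomial.coeff_map]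
  let P : MvPolynomial (Fin k) Γ(S, ⊤) := ∑ e ∈ hE.toFinset, MvPolynomial.monomial e (C e)
  have hP : ∀ e, MvPolynomial.coeff e P = if e ∈ E then C e else 0 := fun e => by
    simp only [P, MvPolynomial.coeff_sum, MvPolynomial.coeff_monomial]
    rw [Finset.sum_ite_eq' hE.toFinset e C]
    simp
  have hmap : ∀ (Y : Over S) (hY : IsAffine Y.left), MvPolynomial.map Y.hom.appTop.hom P = p Y hY := by
    intro Y hY
    ext e
    rw [MvPolynomial.coeff_map, hP]
    split_ifs with he
    · exact hC e Y hY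
    · rw [map_zero, hsupp Y _ (hp Y hY) e he]
  refine ⟨P, fun e he => ?_, fun Z w => ?_⟩
  · rw [hP] at he
    by_contra h
    exact he (if_neg h)
  have key : τ = gaPt (MvPolynomial.eval₂ (RedSub.pow (Red.Ga S) k).hom.appTop.hom
      (powFn (𝟙 _)) P) := by
    refine hom_ext_affine fun Y hY w => gaFn_injective ?_
    rw [comp_gaPt, gaFn_gaPt, MvPolynomial.eval₂_comp_left w.left.appTop.hom]
    obtain ⟨v, hv1, hv2, hv3⟩ := exists_mvLift (𝟙 Y) fun l => w ≫ powProj (Red.Ga S) k l
    have e : v ≫ mvTu Y k = w := powProj_ext fun l => by rw [Category.assoc, hv2]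
    rw [← e, Category.assoc, gaFn_comp, ← hp Y hY, hv3, ← hmap Y hY]
    show MvPolynomial.eval₂ _ _ _ = _
    rw [MvPolynomial.eval₂_map]
    congr 1
    · ext c
      simp only [RingHom.comp_apply, Over.id_left, Scheme.Hom.id_appTop]
      conv_lhs => rw [← Over.w (v ≫ mvTu Y k), Scheme.Hom.comp_appTop]
      rfl
    · funext l
      simp only [Function.comp_apply, powFn, Category.id_comp]
      rw [← gaFn_comp, e]
  conv_lhs => rw [key, comp_gaPt, gaFn_gaPt]
  rw [MvPolynomial.eval₂_comp_left w.left.appTop.hom]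
  congr 1
  · ext c
    simp only [RingHom.comp_apply]
    conv_rhs => rw [← Over.w w, Scheme.Hom.comp_appTop]
    rfl

/-- A polynomial over the functions on the base is determined by its values. -/
theorem poly_ext {P P' : MvPolynomial (Fin k) Γ(S, ⊤)}
    (h : ∀ (Z : Over S), IsAffine Z.left → ∀ w : Z ⟶ RedSub.pow (Red.Ga S) k,
      MvPolynomial.eval₂ Z.hom.appTop.hom (powFn w) P = MvPolynomial.eval₂ Z.hom.appTop.hom (powFn w) P') :
    P = P' := by
  ext e
  refine global_ext fun Y hY => ?_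
  have hev : ∀ Q : MvPolynomial (Fin k) Γ(S, ⊤),
      MvPolynomial.eval₂ (polyMv Y k).hom.appTop.hom (powFn (mvTu Y k)) Q =
        mvCoordHom Y k (MvPolynomial.map Y.hom.appTop.hom Q) := fun Q => by
    refine DFunLike.congr_fun (f := MvPolynomial.eval₂Hom (polyMv Y k).hom.appTop.hom (powFn (mvTu Y k)))
      (g := (mvCoordHom Y k).comp (MvPolynomial.map Y.hom.appTop.hom)) ?_ Q
    refine MvPolynomial.ringHom_ext (fun a => ?_) fun l => ?_
    · rw [RingHom.comp_apply, MvPolynomial.map_C, ← mvProj_appTop, MvPolynomial.eval₂Hom_C]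
      conv_lhs => rw [← Over.w (mvProj Y k), Scheme.Hom.comp_appTop]
      rfl
    · rw [RingHom.comp_apply, MvPolynomial.map_X]
      exact (MvPolynomial.eval₂Hom_X' _ _ l).trans (gaFn_mvTu Y k l)
  have h1 := h (polyMv Y k) inferInstance (mvTu Y k)
  rw [hev, hev] at h1
  have h2 := congrArg (MvPolynomial.coeff e) ((mvCoordHom_bijective Y k).1 h1)
  simpa [MvPolynomial.coeff_map] using h2

end Groth.Agent.RedPts82
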