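import Mathlib.Algebra.Order.Group.Defs
import Mathlib.Algebra.Order.Monoid.Unbundled.ExistsOfLE
import Mathlib.LinearAlgebra.Dimension.Free
import Mathlib.RingTheory.Finiteness.Basic
import Mathlib.LinearAlgebra.FreeModule.Finite.Basic
import Mathlib.Algebra.Order.Field.Basic
import Mathlib.Data.Finset.Max

/-!
Finitely many elements which are positive for a group ordering are positive for an integral functional.
-/

namespace Groth.Agent.RedPts82

variable {M : Type} [AddCommGroup M] [LinearOrder M] [IsOrderedAddMonoid M]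

theorem exists_functional_ne_zero [Module.Free ℤ M] {v : M} (hv : v ≠ 0) : ∃ l : M →+ ℤ, 0 < l v := by
  let b := Module.Free.chooseBasis ℤ M
  have : b.repr v ≠ 0 := fun h => hv (b.repr.injective (by rw [h, map_zero]))
  obtain ⟨j, hj⟩ := Finsupp.ne_iff.mp this
  let c : M →+ ℤ := ((Finsupp.lapply j).comp b.repr.toLinearMap).toAddMonoidHom
  rcases lt_or_gt_of_ne hj with h | h
  · exact ⟨-c, by simpa [c] using h⟩
  · exact ⟨c, by simpa [c] using h⟩

/-- A finite set of positive elements has a positive functional. -/
theorem exists_functional_pos [Module.Free ℤ M] (F : Finset M) (hF : ∀ v ∈ F, 0 < v) :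
    ∃ l : M →+ ℤ, ∀ v ∈ F, 0 < l v := by
  classical
  induction hn : F.card using Nat.strong_induction_on generalizing F with
  | _ n ih =>
    rcases F.eq_empty_or_nonempty with rfl | ⟨v, hv⟩
    · exact ⟨0, by simp⟩
    let F' := F.erase v
    have hcard : F'.card < n := hn ▸ Finset.card_erase_lt_of_mem hv
    have hF' : ∀ f ∈ F', 0 < f := fun f hf => hF f (Finset.mem_of_mem_erase hf)
    obtain ⟨l', hl'⟩ := ih _ hcard F' hF' rfl
    have finish : ∀ l : M →+ ℤ, 0 < l v → (∀ f ∈ F', 0 < l f) → ∃ l : M →+ ℤ, ∀ v ∈ F, 0 < l v :=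
      fun l h1 h2 => ⟨l, fun x hx => by
        by_cases hxv : x = v
        · exact hxv ▸ h1
        · exact h2 x (Finset.mem_erase.mpr ⟨hxv, hx⟩)⟩
    rcases lt_trichotomy (l' v) 0 with hneg | hz | hpos
    · rcases F'.eq_empty_or_nonempty with he | hne
      · obtain ⟨l, hl⟩ := exists_functional_ne_zero (hF v hv).ne'
        exact finish l hl fun f hf => absurd hf (by rw [he]; simp)
      let F'' := F'.image fun f => (l' f).toNat • v + (-l' v).toNat • f
      have hF'' : ∀ w ∈ F'', 0 < w := by
        intro w hw
        obtain ⟨f, hf, rfl⟩ := Finset.mem_image.mp hw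
        have h1 : 0 < (l' f).toNat := by have := hl' f hf; omega
        have h2 : 0 < (-l' v).toNat := by omega
        exact add_pos (nsmul_pos (hF v hv) h1.ne') (nsmul_pos (hF' f hf) h2.ne')
      obtain ⟨m, hm⟩ := ih _ (lt_of_le_of_lt Finset.card_image_le hcard) F'' hF'' rfl
      have hm' : ∀ f ∈ F', 0 < l' f * m v + (-l' v) * m f := fun f hf => by
        have := hm _ (Finset.mem_image_of_mem _ hf)
        rw [map_add, map_nsmul, map_nsmul, nsmul_eq_mul, nsmul_eq_mul,
          Int.toNat_of_nonneg (hl' f hf).le, Int.toNat_of_nonneg (by omega)] at this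
        exact this
      obtain ⟨g, hg, hmax⟩ := F'.exists_max_image (fun f => -(m f : ℚ) / l' f) hne
      let A : ℤ := 2 * l' g * (-l' v)
      let B : ℤ := m v * l' g + (-m g) * (-l' v)
      refine finish (A • m + B • l') ?_ fun f hf => ?_
      · simp only [AddMonoidHom.add_apply, AddMonoidHom.smul_apply, smul_eq_mul, A, B]
        have := hm' g hg
        nlinarith [mul_pos (show 0 < -l' v by omega) this]
      · simp only [AddMonoidHom.add_apply, AddMonoidHom.smul_apply, smul_eq_mul, A, B]
        have hgf : -m f * l' g ≤ -m g * l' f := by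
          have := hmax f hf
          rw [div_le_div_iff₀ (by exact_mod_cast hl' f hf) (by exact_mod_cast hl' g hg)] at this
          exact_mod_cast this
        have := hm' g hg
        nlinarith [mul_pos (hl' f hf) this, mul_le_mul_of_nonneg_left hgf (show 0 ≤ -l' v by omega)]
    · obtain ⟨m, hm⟩ := exists_functional_ne_zero (hF v hv).ne'
      obtain ⟨N, hN⟩ : ∃ N : ℕ, ∀ f ∈ F', -(m f) < (N : ℤ) := by
        refine ⟨(F'.sup fun f => (-(m f)).toNat) + 1, fun f hf => ?_⟩
        have := Finset.le_sup (f := fun f => (-(m f)).toNat) hf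
        omega
      refine finish (m + (N : ℤ) • l') (by simpa [hz] using hm) fun f hf => ?_
      simp only [AddMonoidHom.add_apply, AddMonoidHom.smul_apply, smul_eq_mul]
      have := hl' f hf
      nlinarith [hN f hf]
    · exact finish l' hpos hl'

end Groth.Agent.RedPts82
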