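import Groth.Agent.RedPts82.CommVanish
import Groth.Agent.RedPts82.GlobalPoly
import Groth.Agent.RedPts82.OrderFunctional

/-!
The product of the root groups of the roots positive for a group ordering, in increasing order.
-/

universe u

open CategoryTheory MonoidalCategory CartesianMonoidalCategory MonObj GrpObj AlgebraicGeometry
open CategoryTheory.Limits

namespace Groth.Agent.RedPts82

section Weights

variable {M : Type} [AddCommGroup M] [LinearOrder M] [IsOrderedAddMonoid M] {σ : Type} {χ : σ → M}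

theorem weight_nonneg' (hχ : ∀ l, 0 < χ l) (f : σ →₀ ℕ) : 0 ≤ Finsupp.weight χ f := by
  rw [Finsupp.weight_apply]
  exact Finset.sum_nonneg fun l _ => nsmul_nonneg (hχ l).le _

/-- A weight is at least the weight of each variable which occurs, with equality only for that variable. -/
theorem le_weight_of_pos (hχ : ∀ l, 0 < χ l) (f : σ →₀ ℕ) {l : σ} (hl : f l ≠ 0) :
    χ l ≤ Finsupp.weight χ f ∧ (Finsupp.weight χ f = χ l → f = Finsupp.single l 1) := by
  classical
  have hle : Finsupp.single l 1 ≤ f := Finsupp.single_le_iff.mpr (Nat.one_le_iff_ne_zero.mpr hl)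
  obtain ⟨g, rfl⟩ := exists_add_of_le hle
  have hw : Finsupp.weight χ (Finsupp.single l 1 + g) = χ l + Finsupp.weight χ g := by
    rw [map_add, Finsupp.weight_single, one_nsmul]
  rw [hw]
  refine ⟨le_add_of_nonneg_right (weight_nonneg' hχ g), fun h => ?_⟩
  have hg : Finsupp.weight χ g = 0 := by simpa using h
  by_cases h0 : g = 0
  · rw [h0, add_zero]
  exfalso
  obtain ⟨j, hj⟩ := Finsupp.ne_iff.mp h0
  have hj' : Finsupp.single j 1 ≤ g := Finsupp.single_le_iff.mpr (Nat.one_le_iff_ne_zero.mpr hj)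
  obtain ⟨g', rfl⟩ := exists_add_of_le hj'
  rw [map_add, Finsupp.weight_single, one_nsmul] at hg
  exact (add_pos_of_pos_of_nonneg (hχ j) (weight_nonneg' hχ g')).ne' hg

theorem finite_weight_eq [Module.Free ℤ M] [Fintype σ] (hχ : ∀ l, 0 < χ l) (wt : M) :
    {f : σ →₀ ℕ | Finsupp.weight χ f = wt}.Finite := by
  classical
  obtain ⟨l, hl⟩ := exists_functional_pos (Finset.univ.image χ) (by simpa using hχ)
  refine Set.Finite.subset (Finset.finite_toSet (Finset.Iic
    (Finsupp.equivFunOnFinite.symm fun _ : σ => (l wt).toNat))) fun f hf => ?_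
  simp only [Finset.coe_Iic, Set.mem_Iic]
  intro j
  simp only [Finsupp.equivFunOnFinite, Equiv.coe_fn_symm_mk, Finsupp.coe_mk]
  have hj := hl (χ j) (Finset.mem_image_of_mem _ (Finset.mem_univ j))
  have h : (f j : ℤ) * l (χ j) ≤ l wt := by
    rw [← hf, Finsupp.weight_apply, Finsupp.sum_fintype _ _ (by simp), map_sum]
    refine le_trans (le_of_eq ?_) (Finset.single_le_sum (fun x _ => ?_) (Finset.mem_univ j))
    · rw [map_nsmul, nsmul_eq_mul]
    · rw [map_nsmul, nsmul_eq_mul]
      exact mul_nonneg (Int.natCast_nonneg _) (hl _ (Finset.mem_image_of_mem _ (Finset.mem_univ x))).le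
  have := le_trans (le_mul_of_one_le_right (Int.natCast_nonneg (f j)) (by omega : 1 ≤ l (χ j))) h
  omega

end Weights

variable {S : Scheme.{u}}

section Coordinates

variable {M : Type} [AddCommGroup M] {k : ℕ}

/-- A homogeneous function vanishes if all monomials of its weight avoid a set of variables whose
vanishing kills it. -/
theorem coord_eq_zero (τ : RedSub.pow (Red.Ga S) k ⟶ Red.Ga S) (χ : Fin k → M) (wt : M)
    (hτ : ∀ (Z : Over S) (t : Z ⟶ Red.DS S M) (w w' : Z ⟶ RedSub.pow (Red.Ga S) k),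
      (∀ l, Red.gaFn (w' ≫ powProj (Red.Ga S) k l) =
        dsFn t (χ l) * Red.gaFn (w ≫ powProj (Red.Ga S) k l)) →
      Red.gaFn (w' ≫ τ) = dsFn t wt * Red.gaFn (w ≫ τ))
    (L : Set (Fin k)) (hvan : ∀ (Z : Over S) (w : Z ⟶ RedSub.pow (Red.Ga S) k),
      (∀ l ∈ L, Red.gaFn (w ≫ powProj (Red.Ga S) k l) = 0) → Red.gaFn (w ≫ τ) = 0)
    (h : ∀ f : Fin k →₀ ℕ, Finsupp.weight χ f = wt → ∀ l ∈ L, f l = 0) : τ = gaPt 0 := by
  refine hom_ext_affine fun Y hY w => gaFn_injective ?_
  rw [comp_gaPt, gaFn_gaPt, map_zero]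
  obtain ⟨p, hp⟩ := (mvCoordHom_bijective Y k).2 (Red.gaFn (mvTu Y k ≫ τ))
  have hp0 : p = 0 := by
    ext f
    rw [MvPolynomial.coeff_zero]
    by_cases hf : Finsupp.weight χ f = wt
    · exact coeff_eq_zero_of_van τ L hvan Y p hp f (h f hf)
    · exact mvCoeff_eq_zero_of_weight τ χ wt hτ Y p hp f hf
  obtain ⟨v, hv1, hv2, -⟩ := exists_mvLift (𝟙 Y) fun l => w ≫ powProj (Red.Ga S) k l
  have e : v ≫ mvTu Y k = w := powProj_ext fun l => by rw [Category.assoc, hv2]
  rw [← e, Category.assoc, gaFn_comp, ← hp, hp0, map_zero, map_zero]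

/-- A homogeneous function depends only on the variables which occur in its weight. -/
theorem coord_indep [LinearOrder M] [IsOrderedAddMonoid M] [Module.Free ℤ M]
    (τ : RedSub.pow (Red.Ga S) k ⟶ Red.Ga S) (χ : Fin k → M) (hχ : ∀ l, 0 < χ l) (wt : M)
    (hτ : ∀ (Z : Over S) (t : Z ⟶ Red.DS S M) (w w' : Z ⟶ RedSub.pow (Red.Ga S) k),
      (∀ l, Red.gaFn (w' ≫ powProj (Red.Ga S) k l) =
        dsFn t (χ l) * Red.gaFn (w ≫ powProj (Red.Ga S) k l)) →
      Red.gaFn (w' ≫ τ) = dsFn t wt * Red.gaFn (w ≫ τ))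
    (L : Set (Fin k)) (hvan : ∀ (Z : Over S) (w : Z ⟶ RedSub.pow (Red.Ga S) k),
      (∀ l ∈ L, Red.gaFn (w ≫ powProj (Red.Ga S) k l) = 0) → Red.gaFn (w ≫ τ) = 0)
    (V : Set (Fin k))
    (h : ∀ f : Fin k →₀ ℕ, Finsupp.weight χ f = wt → (∀ l ∈ L, f l = 0) ∨ ∀ l, f l ≠ 0 → l ∈ V)
    {Z : Over S} (w w' : Z ⟶ RedSub.pow (Red.Ga S) k)
    (hww : ∀ l ∈ V, w ≫ powProj (Red.Ga S) k l = w' ≫ powProj (Red.Ga S) k l) :
    w ≫ τ = w' ≫ τ := by
  classical
  obtain ⟨P, hP, hev⟩ := exists_globalPoly τ {f | Finsupp.weight χ f = wt ∧ ¬ ∀ l ∈ L, f l = 0}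
    ((finite_weight_eq hχ wt).subset fun f hf => hf.1) fun Y _ p hp f hf => by
      by_cases hw : Finsupp.weight χ f = wt
      · refine coeff_eq_zero_of_van τ L hvan Y p hp f ?_
        by_contra hc
        exact hf ⟨hw, hc⟩
      · exact mvCoeff_eq_zero_of_weight τ χ wt hτ Y p hp f hw
  refine gaFn_injective ?_
  rw [hev, hev]
  refine MvPolynomial.eval₂_congr _ _ _ fun {i f} hi hf => ?_
  obtain ⟨h1, h2⟩ := hP f hf
  simp only [powFn, hww i ((h f h1).resolve_left h2 i (Finsupp.mem_support_iff.mp hi))]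

end Coordinates

theorem list_prod_update {X : Type*} [Monoid X] {N : ℕ} (g : Fin N → X) (i : Fin N)
    (h : ∀ k, k < i → g k = 1) :
    (List.ofFn g).prod = g i * (List.ofFn (Function.update g i 1)).prod := by
  induction N with
  | zero => exact i.elim0
  | succ N ih =>
    rw [List.ofFn_succ, List.prod_cons, List.ofFn_succ, List.prod_cons]
    induction i using Fin.cases with
    | zero =>
      rw [Function.update_self, _root_.one_mul]
      congr 2
    | succ j =>
      rw [Function.update_of_ne (Fin.succ_ne_zero j).symm, h 0 (Fin.succ_pos j), _root_.one_mul,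
        _root_.one_mul, ih (fun k => g k.succ) j fun k hk => h _ (Fin.succ_lt_succ_iff.mpr hk)]
      congr 3
      exact (Function.update_comp_eq_of_injective g (Fin.succ_injective _) j 1).symm

variable {G : Over S} [GrpObj G] (D : Red.SplitRed G)

/-- The product of the root groups at a tuple of points. -/
noncomputable def uProd {X : Over S} {N : ℕ} (e : Fin N → D.idx) (x : Fin N → (X ⟶ Red.Ga S)) : X ⟶ G :=
  (List.ofFn fun k => x k ≫ D.u (e k)).prod

/-- Tuples whose first coordinates are zero. -/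
def IsTail {X : Over S} {N : ℕ} (i : ℕ) (x : Fin N → (X ⟶ Red.Ga S)) : Prop :=
  ∀ k : Fin N, (k : ℕ) < i → x k = gaPt 0

variable {D}

theorem uProd_eq {X : Over S} {N : ℕ} (e : Fin N → D.idx) (x : Fin N → (X ⟶ Red.Ga S)) :
    powTuple x ≫ RedSub.prodMap (Red.Ga S) N (fun k => D.u (e k)) = uProd D e x := by
  rw [prodMap_pt, uProd]
  simp only [powTuple_proj]

theorem uProd_zero {X : Over S} {N : ℕ} (e : Fin N → D.idx) :
    uProd D e (fun _ => gaPt (X := X) 0) = 1 := by
  refine List.prod_eq_one fun g hg => ?_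
  obtain ⟨r, rfl⟩ := (List.mem_ofFn' _ _).mp hg
  simp only [rootHom_gaPt_zero]

theorem uProd_single {X : Over S} {N : ℕ} (e : Fin N → D.idx) (k : Fin N) (c : X ⟶ Red.Ga S) :
    uProd D e (Function.update (fun _ => gaPt 0) k c) = c ≫ D.u (e k) := by
  rw [uProd, list_prod_single _ k fun j hj => by
    simp only [Function.update_of_ne hj, rootHom_gaPt_zero]]
  simp only [Function.update_self]

/-- The first factor of a tail splits off. -/
theorem uProd_split {X : Over S} {N : ℕ} (e : Fin N → D.idx) (i : Fin N) (x : Fin N → (X ⟶ Red.Ga S))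
    (hx : IsTail i x) :
    uProd D e x = (x i ≫ D.u (e i)) * uProd D e (Function.update x i (gaPt 0)) := by
  rw [uProd, uProd, list_prod_update _ i fun k hk => by simp only [hx k hk, rootHom_gaPt_zero]]
  congr 3
  funext k
  by_cases hk : k = i
  · subst hk; simp only [Function.update_self, rootHom_gaPt_zero]
  · simp only [Function.update_of_ne hk]

variable (D)

/-- The point of the torus as a point of the group. -/
noncomputable abbrev torPt {X : Over S} (t : X ⟶ Red.DS S D.M) : X ⟶ G :=
  t ≫ D.split.inv.hom.hom ≫ D.i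

theorem uProd_scale {X : Over S} {N : ℕ} (e : Fin N → D.idx) (t : X ⟶ Red.DS S D.M)
    (x x' : Fin N → (X ⟶ Red.Ga S))
    (h : ∀ k, Red.gaFn (x' k) = dsFn t (D.P.root (e k)) * Red.gaFn (x k)) :
    uProd D e x' = torPt D t * uProd D e x * (torPt D t)⁻¹ := by
  rw [uProd, uProd, conj_list_prod]
  congr 2
  funext k
  rw [splitRed_conj, ← h, gaPt_gaFn]

section Ordered

variable [LinearOrder D.M] [IsOrderedAddMonoid D.M] {N : ℕ} (e : Fin N → D.idx)

/-- An increasing enumeration of the positive roots. -/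
structure OrdEnum : Prop where
  inj : Function.Injective e
  range : ∀ a : D.idx, a ∈ Set.range e ↔ 0 < D.P.root a
  mono : StrictMono (fun k => D.P.root (e k))

variable {D} {e} (H : OrdEnum D e)
include H

theorem OrdEnum.pos (k : Fin N) : 0 < D.P.root (e k) := (H.range _).mp ⟨k, rfl⟩

theorem OrdEnum.exists_data :
    ∃ l : D.M →+ ℤ, (Function.Injective fun c => l (D.P.root c)) ∧ (∀ c, l (D.P.root c) ≠ 0) ∧
      ∀ c, 0 < l (D.P.root c) ↔ 0 < D.P.root c := by
  classical
  let F : Finset D.M := ((Finset.univ : Finset D.idx).image D.P.root ∪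
    (Finset.univ : Finset (D.idx × D.idx)).image fun p => D.P.root p.1 - D.P.root p.2).filter fun v => 0 < v
  obtain ⟨l, hl⟩ := exists_functional_pos F fun v hv => (Finset.mem_filter.mp hv).2
  have h1 : ∀ c, 0 < D.P.root c → 0 < l (D.P.root c) := fun c hc =>
    hl _ (Finset.mem_filter.mpr ⟨Finset.mem_union_left _ (Finset.mem_image_of_mem _ (Finset.mem_univ c)), hc⟩)
  have h2 : ∀ c, D.P.root c < 0 → l (D.P.root c) < 0 := fun c hc => by
    have e : D.P.root (D.P.reflectionPerm c c) = -D.P.root c := by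
      rw [RootPairing.root_reflectionPerm, RootPairing.reflection_apply_self]
    have := h1 _ (by rw [e]; exact neg_pos.mpr hc)
    rw [e, map_neg] at this
    omega
  have h3 : ∀ a c : D.idx, D.P.root c < D.P.root a → l (D.P.root c) < l (D.P.root a) := fun a c h => by
    have := hl _ (Finset.mem_filter.mpr ⟨Finset.mem_union_right _
      (Finset.mem_image_of_mem (fun p : D.idx × D.idx => D.P.root p.1 - D.P.root p.2)
        (Finset.mem_univ (a, c))), sub_pos.mpr h⟩)
    rw [map_sub] at this
    exact sub_pos.mp this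
  refine ⟨l, fun a c h => ?_, fun c => ?_, fun c => ⟨fun h => ?_, h1 c⟩⟩
  · rcases lt_trichotomy (D.P.root a) (D.P.root c) with hh | hh | hh
    · exact absurd h (h3 c a hh).ne
    · exact D.P.root.injective hh
    · exact absurd h (h3 a c hh).ne'
  · rcases lt_or_gt_of_ne (D.P.ne_zero c) with hh | hh
    · exact (h2 c hh).ne
    · exact (h1 c hh).ne'
  · rcases lt_or_gt_of_ne (D.P.ne_zero c) with hh | hh
    · have := h2 c hh; omega
    · exact hh

/-- Coordinates of a point built from root groups, with their weights. -/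
theorem OrdEnum.exists_coords :
    Mono (RedSub.prodMap (Red.Ga S) N fun k => D.u (e k)) ∧
    ∃ ν : Red.Gm S ⟶ G, (∀ {X : Over S} (x : Fin N → (X ⟶ Red.Ga S)), Contr ν (uProd D e x) 1) ∧
      ∀ (n : ℕ) (χ : Fin n → D.M) (g : RedSub.pow (Red.Ga S) n ⟶ G), Contr ν g 1 →
        (∀ (Z : Over S) (t : Z ⟶ Red.DS S D.M) (w w' : Z ⟶ RedSub.pow (Red.Ga S) n),
          (∀ j, Red.gaFn (w' ≫ powProj (Red.Ga S) n j) =
            dsFn t (χ j) * Red.gaFn (w ≫ powProj (Red.Ga S) n j)) →
          w' ≫ g = torPt D t * (w ≫ g) * (torPt D t)⁻¹) →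
        ∃ q : Fin N → (RedSub.pow (Red.Ga S) n ⟶ Red.Ga S),
          (∀ (Z : Over S) (w : Z ⟶ RedSub.pow (Red.Ga S) n), uProd D e (fun k => w ≫ q k) = w ≫ g) ∧
          ∀ (k : Fin N) (Z : Over S) (t : Z ⟶ Red.DS S D.M) (w w' : Z ⟶ RedSub.pow (Red.Ga S) n),
            (∀ j, Red.gaFn (w' ≫ powProj (Red.Ga S) n j) =
              dsFn t (χ j) * Red.gaFn (w ≫ powProj (Red.Ga S) n j)) →
            Red.gaFn (w' ≫ q k) = dsFn t (D.P.root (e k)) * Red.gaFn (w ≫ q k) := by
  classical
  obtain ⟨l, hl, hne, hsign⟩ := H.exists_data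
  let en : Fin (Fintype.card {c // ¬ 0 < l (D.P.root c)}) → D.idx := fun k =>
    ((Fintype.equivFin {c // ¬ 0 < l (D.P.root c)}).symm k).1
  have hen : Function.Injective en := Subtype.val_injective.comp (Equiv.injective _)
  have hpos : ∀ k, 0 < l (D.P.root (e k)) := fun k => (hsign _).mpr (H.pos k)
  have hcard : Fintype.card {c // 0 < l (D.P.root c)} = N := by
    rw [← Fintype.card_fin N]
    exact (Fintype.card_of_bijective (f := fun k => (⟨e k, hpos k⟩ : {c // 0 < l (D.P.root c)}))
      ⟨fun i j h => H.inj (congrArg Subtype.val h), fun c => by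
        obtain ⟨k, hk⟩ := (H.range c.1).mpr ((hsign _).mp c.2)
        exact ⟨k, Subtype.ext hk⟩⟩).symm
  have C := cellData_of_regular D l hl en e hen H.inj
    (fun k => lt_of_le_of_ne (not_lt.mp ((Fintype.equivFin {c // ¬ 0 < l (D.P.root c)}).symm k).2) (hne _))
    hpos
  have : Mono (RedSub.cellMap D en e) := C.mono_cell
  have : IsOpenImmersion (cellS D.i (fun k => D.u (en k)) fun k => D.u (e k)).left :=
    cellMap_open_of_mono D en e (by
      rw [Fintype.card_subtype_compl, ← hcard, Nat.sub_add_cancel (Fintype.card_subtype_le _)])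
  have hν : IsMonHom (cochar D l) := by
    have := D.maximalTorus.1
    have : IsMonHom D.split.inv.hom.hom := D.split.inv.hom.isMonHom_hom
    unfold cochar
    infer_instance
  let π := RedSub.prodMap (Red.Ga S) N fun k => D.u (e k)
  have : IsClosedImmersion π.left := C.pos.isClosedImmersion C.hG
  have hm : Mono π := Over.mono_of_mono_left _
  refine ⟨hm, cochar D l, fun x => ?_, fun n χ g hg hequiv => ?_⟩
  · rw [← uProd_eq]
    exact C.pos.contr_prod (powTuple x)
  obtain ⟨q, hq⟩ := C.exists_pos hν hg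
  have hpt : ∀ (Z : Over S) (w : Z ⟶ RedSub.pow (Red.Ga S) n),
      uProd D e (fun k => w ≫ q ≫ powProj (Red.Ga S) N k) = w ≫ g := fun Z w => by
    rw [← uProd_eq, show powTuple (fun k => w ≫ q ≫ powProj (Red.Ga S) N k) = w ≫ q from
      powProj_ext fun k => by rw [powTuple_proj, Category.assoc], Category.assoc, hq]
  refine ⟨fun k => q ≫ powProj (Red.Ga S) N k, hpt, fun k Z t w w' hw => ?_⟩
  let x' : Fin N → (Z ⟶ Red.Ga S) := fun k =>
    gaPt (dsFn t (D.P.root (e k)) * Red.gaFn (w ≫ q ≫ powProj (Red.Ga S) N k))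
  have h1 : uProd D e x' = uProd D e (fun k => w' ≫ q ≫ powProj (Red.Ga S) N k) := by
    rw [uProd_scale D e t (fun k => w ≫ q ≫ powProj (Red.Ga S) N k) x' (fun k => gaFn_gaPt _), hpt, hpt,
      hequiv Z t w w' hw]
  rw [← uProd_eq, ← uProd_eq] at h1
  have h2 := congrArg (fun r => Red.gaFn (r ≫ powProj (Red.Ga S) N k)) ((cancel_mono π).mp h1)
  simp only [x', powTuple_proj, gaFn_gaPt] at h2
  exact h2.symm

theorem OrdEnum.uProd_injective {X : Over S} {x y : Fin N → (X ⟶ Red.Ga S)}
    (h : uProd D e x = uProd D e y) : x = y := by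
  have := H.exists_coords.1
  rw [← uProd_eq, ← uProd_eq, cancel_mono] at h
  funext k
  have := congrArg (fun r => r ≫ powProj (Red.Ga S) N k) h
  simpa only [powTuple_proj] using this

/-- The product of two tuples, in coordinates. -/
theorem OrdEnum.mul_coords :
    ∃ q : Fin N → (RedSub.pow (Red.Ga S) (N + N) ⟶ Red.Ga S),
      (∀ (Z : Over S) (x y : Fin N → (Z ⟶ Red.Ga S)),
        uProd D e (fun k => powTuple (Fin.append x y) ≫ q k) = uProd D e x * uProd D e y) ∧
      ∀ (k : Fin N) (Z : Over S) (t : Z ⟶ Red.DS S D.M) (w w' : Z ⟶ RedSub.pow (Red.Ga S) (N + N)),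
        (∀ j, Red.gaFn (w' ≫ powProj (Red.Ga S) (N + N) j) =
          dsFn t (D.P.root (Fin.append e e j)) * Red.gaFn (w ≫ powProj (Red.Ga S) (N + N) j)) →
        Red.gaFn (w' ≫ q k) = dsFn t (D.P.root (e k)) * Red.gaFn (w ≫ q k) := by
  obtain ⟨-, ν, hν, hco⟩ := H.exists_coords
  let a : Fin N → (RedSub.pow (Red.Ga S) (N + N) ⟶ Red.Ga S) := fun k =>
    powProj (Red.Ga S) (N + N) (Fin.castAdd N k)
  let b : Fin N → (RedSub.pow (Red.Ga S) (N + N) ⟶ Red.Ga S) := fun k =>
    powProj (Red.Ga S) (N + N) (Fin.natAdd N k)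
  have hg : ∀ (Z : Over S) (w : Z ⟶ RedSub.pow (Red.Ga S) (N + N)), w ≫ (uProd D e a * uProd D e b) =
      uProd D e (fun k => w ≫ a k) * uProd D e (fun k => w ≫ b k) := fun Z w => by
    rw [MonObj.comp_mul, ← uProd_eq, ← uProd_eq, ← uProd_eq, ← uProd_eq, ← Category.assoc, ← Category.assoc]
    congr 2 <;> exact powProj_ext fun k => by rw [Category.assoc, powTuple_proj, powTuple_proj]
  obtain ⟨q, hq1, hq2⟩ := hco (N + N) (fun j => D.P.root (Fin.append e e j)) _
    (by simpa using (hν a).mul (hν b)) fun Z t w w' hw => by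
      rw [hg, hg, uProd_scale D e t (fun k => w ≫ a k) (fun k => w' ≫ a k) (fun k => by
          have := hw (Fin.castAdd N k)
          rwa [Fin.append_left] at this),
        uProd_scale D e t (fun k => w ≫ b k) (fun k => w' ≫ b k) (fun k => by
          have := hw (Fin.natAdd N k)
          rwa [Fin.append_right] at this)]
      group
  refine ⟨q, fun Z x y => ?_, hq2⟩
  rw [hq1, hg]
  simp only [a, b, powTuple_proj, Fin.append_left, Fin.append_right]

omit H in
theorem tail_pair (i : ℕ) {Z : Over S} (x : Fin N → (Z ⟶ Red.Ga S)) (hx : IsTail i x) :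
    (fun k : Fin N => if (k : ℕ) < i then gaPt 0 else x k) = x := by
  funext k
  by_cases hk : (k : ℕ) < i
  · rw [if_pos hk, hx k hk]
  · rw [if_neg hk]

theorem OrdEnum.lt_root {k l : Fin N} (h : (k : ℕ) < l) : D.P.root (e k) < D.P.root (e l) := H.mono h

/-- Tails are closed under products. -/
theorem OrdEnum.tail_mul (i : ℕ) {X : Over S} (x y : Fin N → (X ⟶ Red.Ga S))
    (hx : IsTail i x) (hy : IsTail i y) :
    ∃ z, IsTail i z ∧ uProd D e z = uProd D e x * uProd D e y := by
  obtain ⟨q, hq, hwt⟩ := H.mul_coords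
  refine ⟨fun k => powTuple (Fin.append x y) ≫ q k, fun k hk => ?_, hq X x y⟩
  let mk : ∀ {Z : Over S}, (Fin (N + N) → (Z ⟶ Red.Ga S)) → Fin (N + N) → (Z ⟶ Red.Ga S) :=
    fun f => Fin.append (fun l => if (l : ℕ) < i then gaPt 0 else f (Fin.castAdd N l))
      (fun l => if (l : ℕ) < i then gaPt 0 else f (Fin.natAdd N l))
  let mask : RedSub.pow (Red.Ga S) (N + N) ⟶ RedSub.pow (Red.Ga S) (N + N) :=
    powTuple (mk fun j => powProj (Red.Ga S) (N + N) j)
  have hmask : ∀ {Z : Over S} (w : Z ⟶ RedSub.pow (Red.Ga S) (N + N)),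
      w ≫ mask = powTuple (mk fun j => w ≫ powProj (Red.Ga S) (N + N) j) := fun w =>
    powProj_ext fun j => by
      rw [Category.assoc, powTuple_proj, powTuple_proj]
      refine Fin.addCases (fun l => ?_) (fun l => ?_) j
      · simp only [mk, Fin.append_left]
        split_ifs
        · rw [comp_gaPt, map_zero]
        · rfl
      · simp only [mk, Fin.append_right]
        split_ifs
        · rw [comp_gaPt, map_zero]
        · rfl
  have h0 : mask ≫ q k = gaPt 0 := by
    refine coord_eq_zero _ (fun j => D.P.root (Fin.append e e j)) (D.P.root (e k))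
      (fun Z t w w' hw => ?_)
      {j | Fin.addCases (motive := fun _ => Prop) (fun l => i ≤ (l : ℕ)) (fun l => i ≤ (l : ℕ)) j}
      (fun Z w hw => ?_) (fun f hf j hj => ?_)
    · rw [← Category.assoc, ← Category.assoc]
      refine hwt k Z t _ _ fun j => ?_
      simp only [hmask, powTuple_proj]
      refine Fin.addCases (fun l => ?_) (fun l => ?_) j
      · simp only [mk, Fin.append_left]
        split_ifs
        · simp [gaFn_gaPt]
        · simpa only [Fin.append_left] using hw (Fin.castAdd N l)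
      · simp only [mk, Fin.append_right]
        split_ifs
        · simp [gaFn_gaPt]
        · simpa only [Fin.append_right] using hw (Fin.natAdd N l)
    · have hz : (mk fun j => w ≫ powProj (Red.Ga S) (N + N) j) = Fin.append (fun _ => gaPt 0) fun _ => gaPt 0 := by
        simp only [mk]
        congr 1 <;> funext l <;> split_ifs with hl
        · rfl
        · exact gaFn_injective (by rw [gaFn_gaPt]; exact hw _ (by simp only [Set.mem_setOf_eq, Fin.addCases_left, Fin.addCases_right]; exact not_lt.mp hl))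
        · rfl
        · exact gaFn_injective (by rw [gaFn_gaPt]; exact hw _ (by simp only [Set.mem_setOf_eq, Fin.addCases_left, Fin.addCases_right]; exact not_lt.mp hl))
      rw [← Category.assoc, hmask, hz]
      have := hq Z (fun _ => gaPt 0) fun _ => gaPt 0
      rw [uProd_zero, _root_.one_mul] at this
      have h := congrFun (H.uProd_injective (this.trans (uProd_zero (X := Z) e).symm)) k
      rw [h, gaFn_gaPt]
    · by_contra hne
      have hle := (le_weight_of_pos (χ := fun j => D.P.root (Fin.append e e j))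
        (fun j => Fin.addCases (fun l => by rw [Fin.append_left]; exact H.pos l)
          (fun l => by rw [Fin.append_right]; exact H.pos l) j) f hne).1
      rw [hf] at hle
      revert hj hle
      refine Fin.addCases (fun l => ?_) (fun l => ?_) j
      · simp only [Set.mem_setOf_eq, Fin.addCases_left, Fin.append_left]
        exact fun hl hle => absurd hle (not_le.mpr (H.lt_root (hk.trans_le hl)))
      · simp only [Set.mem_setOf_eq, Fin.addCases_right, Fin.append_right]
        exact fun hl hle => absurd hle (not_le.mpr (H.lt_root (hk.trans_le hl)))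
  have hxy : powTuple (Fin.append x y) ≫ mask = powTuple (Fin.append x y) := by
    rw [hmask]
    simp only [powTuple_proj, mk, Fin.append_left, Fin.append_right]
    rw [tail_pair i x hx, tail_pair i y hy]
  show powTuple (Fin.append x y) ≫ q k = gaPt 0
  rw [← hxy, Category.assoc, h0, comp_gaPt, map_zero]

/-- Tails are closed under inverses. -/
theorem OrdEnum.tail_inv (i : ℕ) {X : Over S} (x : Fin N → (X ⟶ Red.Ga S)) (hx : IsTail i x) :
    ∃ z, IsTail i z ∧ uProd D e z = (uProd D e x)⁻¹ := by
  obtain ⟨-, ν, hν, hco⟩ := H.exists_coords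
  let a : Fin N → (RedSub.pow (Red.Ga S) N ⟶ Red.Ga S) := fun k =>
    if (k : ℕ) < i then gaPt 0 else powProj (Red.Ga S) N k
  have ha : ∀ (Z : Over S) (w : Z ⟶ RedSub.pow (Red.Ga S) N),
      w ≫ (uProd D e a)⁻¹ = (uProd D e fun k => w ≫ a k)⁻¹ := fun Z w => by
    rw [GrpObj.comp_inv, ← uProd_eq, ← uProd_eq, ← Category.assoc]
    congr 2
    exact powProj_ext fun k => by rw [Category.assoc, powTuple_proj, powTuple_proj]
  obtain ⟨q, hq1, hq2⟩ := hco N (fun j => D.P.root (e j)) (uProd D e a)⁻¹
    (by simpa using (hν a).inv) fun Z t w w' hw => by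
      rw [ha, ha, uProd_scale D e t (fun k => w ≫ a k) (fun k => w' ≫ a k) (fun k => by
        simp only [a]
        split_ifs
        · simp [comp_gaPt, gaFn_gaPt]
        · exact hw k)]
      group
  have hz : ∀ k : Fin N, (k : ℕ) < i → q k = gaPt 0 := fun k hk => by
    refine coord_eq_zero _ _ _ (hq2 k) {j | i ≤ (j : ℕ)} (fun Z w hw => ?_) (fun f hf j hj => ?_)
    · have hzero : (fun k => w ≫ a k) = fun _ => gaPt 0 := by
        funext l
        simp only [a]
        split_ifs with hl
        · rw [comp_gaPt, map_zero]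
        · exact gaFn_injective (by rw [gaFn_gaPt]; exact hw l (not_lt.mp hl))
      have := hq1 Z w
      rw [ha, hzero, uProd_zero, inv_one] at this
      have h := congrFun (H.uProd_injective (this.trans (uProd_zero (X := Z) e).symm)) k
      rw [h, gaFn_gaPt]
    · by_contra hne
      have hle := (le_weight_of_pos (χ := fun j => D.P.root (e j)) H.pos f hne).1
      rw [hf] at hle
      exact absurd hle (not_le.mpr (H.lt_root (hk.trans_le hj)))
  refine ⟨fun k => powTuple x ≫ q k, fun k hk => by simp only [hz k hk, comp_gaPt, map_zero], ?_⟩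
  rw [hq1, ha]
  congr 2
  funext k
  simp only [a]
  split_ifs with hk
  · rw [comp_gaPt, map_zero, hx k hk]
  · rw [powTuple_proj]

/-- Tails are normalised by all products, which fix their first coordinate. -/
theorem OrdEnum.tail_conj (i : ℕ) {X : Over S} (x y : Fin N → (X ⟶ Red.Ga S)) (hy : IsTail i y) :
    ∃ z, IsTail i z ∧ uProd D e z = uProd D e x * uProd D e y * (uProd D e x)⁻¹ ∧
      ∀ k : Fin N, (k : ℕ) = i → z k = y k := by
  obtain ⟨-, ν, hν, hco⟩ := H.exists_coords
  let a : Fin N → (RedSub.pow (Red.Ga S) (N + N) ⟶ Red.Ga S) := fun k =>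
    powProj (Red.Ga S) (N + N) (Fin.castAdd N k)
  let b : Fin N → (RedSub.pow (Red.Ga S) (N + N) ⟶ Red.Ga S) := fun k =>
    if (k : ℕ) < i then gaPt 0 else powProj (Red.Ga S) (N + N) (Fin.natAdd N k)
  have hg : ∀ (Z : Over S) (w : Z ⟶ RedSub.pow (Red.Ga S) (N + N)),
      w ≫ (uProd D e a * uProd D e b * (uProd D e a)⁻¹) = uProd D e (fun k => w ≫ a k) *
        uProd D e (fun k => w ≫ b k) * (uProd D e (fun k => w ≫ a k))⁻¹ := fun Z w => by
    have h : ∀ c : Fin N → (RedSub.pow (Red.Ga S) (N + N) ⟶ Red.Ga S),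
        w ≫ uProd D e c = uProd D e fun k => w ≫ c k := fun c => by
      rw [← uProd_eq, ← uProd_eq, ← Category.assoc]
      congr 1
      exact powProj_ext fun k => by rw [Category.assoc, powTuple_proj, powTuple_proj]
    simp only [MonObj.comp_mul, GrpObj.comp_inv, h]
  obtain ⟨q, hq1, hq2⟩ := hco (N + N) (fun j => D.P.root (Fin.append e e j)) _
    (by simpa using ((hν a).mul (hν b)).mul (hν a).inv) fun Z t w w' hw => by
      rw [hg, hg, uProd_scale D e t (fun k => w ≫ a k) (fun k => w' ≫ a k) (fun k => by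
          simpa only [Fin.append_left] using hw (Fin.castAdd N k)),
        uProd_scale D e t (fun k => w ≫ b k) (fun k => w' ≫ b k) (fun k => by
          simp only [b]
          split_ifs
          · simp [comp_gaPt, gaFn_gaPt]
          · simpa only [Fin.append_right] using hw (Fin.natAdd N k))]
      group
  have hχ : ∀ j, 0 < D.P.root (Fin.append e e j) := fun j =>
    Fin.addCases (fun l => by rw [Fin.append_left]; exact H.pos l)
      (fun l => by rw [Fin.append_right]; exact H.pos l) j
  let L : Set (Fin (N + N)) := {j | ∃ l : Fin N, i ≤ (l : ℕ) ∧ j = Fin.natAdd N l}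
  have hvan : ∀ (k : Fin N) (Z : Over S) (w : Z ⟶ RedSub.pow (Red.Ga S) (N + N)),
      (∀ j ∈ L, Red.gaFn (w ≫ powProj (Red.Ga S) (N + N) j) = 0) → Red.gaFn (w ≫ q k) = 0 := by
    intro k Z w hw
    have hzero : (fun k => w ≫ b k) = fun _ => gaPt 0 := by
      funext l
      simp only [b]
      split_ifs with hl
      · rw [comp_gaPt, map_zero]
      · exact gaFn_injective (by rw [gaFn_gaPt]; exact hw _ ⟨l, not_lt.mp hl, rfl⟩)
    have := hq1 Z w
    rw [hg, hzero, uProd_zero, _root_.mul_one, mul_inv_cancel] at this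
    have h := congrFun (H.uProd_injective (this.trans (uProd_zero (X := Z) e).symm)) k
    rw [h, gaFn_gaPt]
  have hb : (fun k => powTuple (Fin.append x y) ≫ b k) = y := by
    funext k
    simp only [b]
    split_ifs with hk
    · rw [comp_gaPt, map_zero, hy k hk]
    · rw [powTuple_proj, Fin.append_right]
  refine ⟨fun k => powTuple (Fin.append x y) ≫ q k, fun k hk => ?_, ?_, fun k hk => ?_⟩
  · have : q k = gaPt 0 := by
      refine coord_eq_zero _ _ _ (hq2 k) L (hvan k) fun f hf j ⟨l, hl, hj⟩ => ?_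
      by_contra hne
      have hle := (le_weight_of_pos (χ := fun j => D.P.root (Fin.append e e j)) hχ f hne).1
      rw [hf, hj, Fin.append_right] at hle
      exact absurd hle (not_le.mpr (H.lt_root (hk.trans_le hl)))
    simp only [this, comp_gaPt, map_zero]
  · rw [hq1, hg, hb]
    simp only [a, powTuple_proj, Fin.append_left]
  · let w := powTuple (Fin.append x y)
    let w₀ := powTuple (Fin.append (fun _ : Fin N => gaPt (X := X) 0) y)
    have hsame : w ≫ q k = w₀ ≫ q k := by
      refine coord_indep _ _ hχ _ (hq2 k) L (hvan k) {Fin.natAdd N k} (fun f hf => ?_) w w₀ fun j hj => ?_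
      · by_cases hL : ∀ j ∈ L, f j = 0
        · exact Or.inl hL
        · push Not at hL
          obtain ⟨j, ⟨l, hl, rfl⟩, hne⟩ := hL
          obtain ⟨hle, heq⟩ := le_weight_of_pos (χ := fun j => D.P.root (Fin.append e e j)) hχ f hne
          rw [hf, Fin.append_right] at hle
          have hkl : l = k := by
            refine le_antisymm (H.mono.le_iff_le.mp hle) (Fin.le_def.mpr ?_)
            omega
          subst hkl
          have hsingle := heq (by rw [hf, Fin.append_right])
          refine Or.inr fun j hj => ?_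
          rw [hsingle, Finsupp.single_apply] at hj
          by_contra hne'
          exact hj (if_neg fun h => hne' h.symm)
      · rw [Set.mem_singleton_iff] at hj
        subst hj
        simp only [w, w₀, powTuple_proj, Fin.append_right]
    show w ≫ q k = y k
    rw [hsame]
    have := hq1 X w₀
    rw [hg] at this
    have hb0 : (fun k => w₀ ≫ b k) = y := by
      funext k
      simp only [b, w₀]
      split_ifs with hk
      · rw [comp_gaPt, map_zero, hy k hk]
      · rw [powTuple_proj, Fin.append_right]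
    rw [hb0] at this
    simp only [a, w₀, powTuple_proj, Fin.append_left, uProd_zero, _root_.one_mul, inv_one,
      _root_.mul_one] at this
    exact congrFun (H.uProd_injective this) k

end Ordered

end Groth.Agent.RedPts82
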