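import Groth.Agent.RedPts82.CellGen
import Groth.Agent.RedPts82.SplitCover

/-!
Geometry of a rank-one system: the group is generated by the cell, and over an algebraically closed
field it is the union of the cell and one translate of the Borel subgroup.
-/

universe u

open CategoryTheory MonoidalCategory CartesianMonoidalCategory MonObj GrpObj AlgebraicGeometry
open CategoryTheory.Limits

namespace Groth.Agent.RedPts82

variable {S : Scheme.{u}} {G T : Over S} [GrpObj G] [GrpObj T]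
  {i : T ⟶ G} {α : T ⟶ Red.Gm S} {pp pm : Red.Ga S ⟶ G} {av : Red.Gm S ⟶ T}

theorem BC.cell_one (H : BC G T i α pp pm) (X : Over S) :
    ((1 : X ⟶ Red.Ga S) ≫ pm) * ((1 : X ⟶ T) ≫ i) * ((1 : X ⟶ Red.Ga S) ≫ pp) = 1 := by
  have := H.hi
  have := H.hp
  have := H.hm
  rw [MonObj.one_comp pm, MonObj.one_comp i, MonObj.one_comp pp, _root_.one_mul, _root_.one_mul]

theorem BC.one_inCell (H : BC G T i α pp pm) (X : Over S) : InCell i pp pm (1 : X ⟶ G) := by
  rw [← H.cell_one X]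
  exact inCell_mk ..

/-- A homomorphism is determined by its restrictions to the torus and the two root groups. -/
theorem BC.hom_ext (H : BC G T i α pp pm) (hG : Red.IsReductive G) {G' : Over S} [GrpObj G']
    (f f' : G ⟶ G') [IsMonHom f] [IsMonHom f'] (hi : i ≫ f = i ≫ f') (hp : pp ≫ f = pp ≫ f')
    (hm : pm ≫ f = pm ≫ f') : f = f' := by
  have := H.hΩ
  refine hom_ext_of_open hG (cell i pp pm) (fun X => H.one_inCell X) f f' ?_
  have key : ∀ (Z : Over S) (w : Z ⟶ (Red.Ga S ⊗ T) ⊗ Red.Ga S),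
      (w ≫ cell i pp pm) ≫ f = (w ≫ cell i pp pm) ≫ f' := by
    intro Z w
    rw [cell_pt, MonObj.mul_comp _ _ f, MonObj.mul_comp _ _ f, MonObj.mul_comp _ _ f',
      MonObj.mul_comp _ _ f']
    simp only [Category.assoc, hi, hp, hm]
  have h := key _ (𝟙 _)
  exact (congrArg (· ≫ f) (Category.id_comp (cell i pp pm))).symm.trans
    (h.trans (congrArg (· ≫ f') (Category.id_comp (cell i pp pm))))

/-- Every point is locally a quotient of two points of the cell. -/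
theorem BC.exists_cell_div (H : BC G T i α pp pm) (hG : Red.IsReductive G) {X : Over S} (g : X ⟶ G) :
    ∃ (X' : Over S) (k : X' ⟶ X) (y y' : X' ⟶ Red.Ga S) (t t' : X' ⟶ T) (x x' : X' ⟶ Red.Ga S),
      Flat k.left ∧ Surjective k.left ∧
      k ≫ g = ((y ≫ pm) * (t ≫ i) * (x ≫ pp)) * ((y' ≫ pm) * (t' ≫ i) * (x' ≫ pp))⁻¹ := by
  have := H.hΩ
  obtain ⟨X', k, a, b, hf, hs, e⟩ :=
    exists_div hG (cell i pp pm) (fun X => H.one_inCell X) g
  replace e := e.trans (congrArg₂ (fun p q : X' ⟶ G => p * q⁻¹) (cell_pt i pp pm a) (cell_pt i pp pm b))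
  exact ⟨X', k, a ≫ fst _ _ ≫ fst _ _, b ≫ fst _ _ ≫ fst _ _, a ≫ fst _ _ ≫ snd _ _,
    b ≫ fst _ _ ≫ snd _ _, a ≫ snd _ _, b ≫ snd _ _, hf, hs, by simp only [Category.assoc]; exact e⟩

section Field

variable {K : Type u} [Field K] {X : Over S}

theorem exists_unit_pow_ne_one [IsAlgClosed K] (e : K ≃+* Γ(X.left, ⊤)) {m : ℤ} (hm : m ≠ 0) :
    ∃ u : Γ(X.left, ⊤)ˣ, u ^ m ≠ 1 := by
  classical
  have : Infinite K := IsAlgClosed.instInfinite
  have hp : (Polynomial.X ^ m.natAbs - Polynomial.C (1 : K)) ≠ 0 :=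
    (Polynomial.monic_X_pow_sub_C _ (by omega)).ne_zero
  obtain ⟨b, hb⟩ := Infinite.exists_notMem_finset
    (insert (0 : K) (Polynomial.X ^ m.natAbs - Polynomial.C (1 : K)).roots.toFinset)
  simp only [Finset.mem_insert, Multiset.mem_toFinset, Polynomial.mem_roots hp,
    Polynomial.IsRoot.def, not_or, Polynomial.eval_sub, Polynomial.eval_pow, Polynomial.eval_X,
    Polynomial.eval_C, sub_eq_zero] at hb
  refine ⟨Units.map e.toRingHom.toMonoidHom (Units.mk0 b hb.1), fun h => hb.2 ?_⟩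
  rw [← map_zpow, ← map_one (Units.map e.toRingHom.toMonoidHom)] at h
  have h' : (Units.mk0 b hb.1) ^ m = 1 := Units.map_injective e.injective h
  have h'' : (Units.mk0 b hb.1) ^ m.natAbs = 1 := by
    rcases Int.natAbs_eq m with hm' | hm'
    · rw [congrArg (fun k : ℤ => (Units.mk0 b hb.1) ^ k) hm'] at h'
      simpa using h'
    · rw [congrArg (fun k : ℤ => (Units.mk0 b hb.1) ^ k) hm'] at h'
      simpa using h'
  simpa using congrArg Units.val h''

theorem isUnit_or_eq_zero (e : K ≃+* Γ(X.left, ⊤)) (r : Γ(X.left, ⊤)) : IsUnit r ∨ r = 0 := by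
  by_cases h : e.symm r = 0
  · exact Or.inr (by rw [← e.apply_symm_apply r, h, map_zero])
  · exact Or.inl (by rw [← e.apply_symm_apply r]; exact (Ne.isUnit h).map e)

/-- The Weyl element attached to one. -/
noncomputable abbrev RH.w₁ (HR : RH G T i α pp pm av) (X : Over S) : X ⟶ G := (HR.data X).w 1

theorem RH.w₁_P (HR : RH G T i α pp pm av) (e : K ≃+* Γ(X.left, ⊤)) (r : Γ(X.left, ⊤)) :
    HR.w₁ X * (HR.data X).P r * (HR.w₁ X)⁻¹ = (HR.data X).M (-r) := by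
  rcases isUnit_or_eq_zero e r with hr | rfl
  · obtain ⟨v, rfl⟩ := hr
    have h := (HR.data X).w_P v (HR.w_eq_w' v)
    rw [← _root_.mul_one v, (HR.data X).w_smul, _root_.mul_one] at h
    have h2 : HR.w₁ X * (HR.data X).P (v : Γ(X.left, ⊤)) * (HR.w₁ X)⁻¹ =
        ((HR.data X).h v)⁻¹ * (HR.data X).M (-((v⁻¹ : Γ(X.left, ⊤)ˣ) : Γ(X.left, ⊤))) *
          (HR.data X).h v := by
      rw [← h]
      simp only [RH.w₁]
      group
    rw [h2, ← (HR.data X).h_inv, R1.h_M, _root_.mul_assoc, ← (HR.data X).h_mul, inv_mul_cancel,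
      (HR.data X).h_one, _root_.mul_one, _root_.inv_inv, mul_neg, _root_.mul_assoc, Units.mul_inv,
      _root_.mul_one]
  · rw [(HR.data X).P_zero, _root_.mul_one, mul_inv_cancel, neg_zero, (HR.data X).M_zero]

theorem RH.not_inCell_w (H : BC G T i α pp pm) (HR : RH G T i α pp pm av) [IsAlgClosed K]
    (e : K ≃+* Γ(X.left, ⊤)) (t : X ⟶ T) (r : Γ(X.left, ⊤)) :
    ¬ InCell i pp pm (HR.w₁ X * (HR.data X).τ t * (HR.data X).P r) := by
  intro hin
  obtain ⟨y, s, x, hx⟩ := H.exists_of_inCell hin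
  rw [HR.M_pt, HR.P_pt, HR.τ_pt] at hx
  set D := HR.data X
  have hw : HR.w₁ X = D.M (Red.gaFn y) * D.τ (s * t⁻¹) *
      D.P ((D.a t : Γ(X.left, ⊤)) * (Red.gaFn x - r)) := by
    have h2 : HR.w₁ X = D.M (Red.gaFn y) * D.τ s * D.P (Red.gaFn x) * (D.P r)⁻¹ * (D.τ t)⁻¹ := by
      rw [← hx]; group
    rw [h2, D.P_inv, _root_.mul_assoc _ (D.P _) (D.P _), ← D.P_add, ← sub_eq_add_neg,
      _root_.mul_assoc _ (D.P _), ← map_inv, D.P_τ, map_inv D.a, _root_.inv_inv, ← _root_.mul_assoc,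
      _root_.mul_assoc _ (D.τ s), ← map_mul]
  obtain ⟨u, hu⟩ := exists_unit_pow_ne_one (X := X) e (m := 4) (by decide)
  set a := Red.gaFn y
  set b := (D.a t : Γ(X.left, ⊤)) * (Red.gaFn x - r)
  set q := s * t⁻¹
  have h1 : D.h u * HR.w₁ X = HR.w₁ X * (D.h u)⁻¹ := by
    have := D.w_h 1 u⁻¹
    rw [D.h_inv, _root_.inv_inv] at this
    conv_lhs => rw [← this]
    simp only [RH.w₁, D]
    group
  have h2 : D.h u * HR.w₁ X * D.h u = HR.w₁ X := by rw [h1]; group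
  rw [hw] at h2
  have h3 : D.M (((u⁻¹ : Γ(X.left, ⊤)ˣ) : Γ(X.left, ⊤)) * ((u⁻¹ : Γ(X.left, ⊤)ˣ) : Γ(X.left, ⊤)) * a) *
      D.τ (D.av u * q * D.av u) *
      D.P ((((D.a (D.av u))⁻¹ : Γ(X.left, ⊤)ˣ) : Γ(X.left, ⊤)) * b) = D.M a * D.τ q * D.P b := by
    conv_rhs => rw [← h2]
    simp only [← _root_.mul_assoc]
    rw [D.h_M, map_mul, map_mul]
    simp only [R1.h, _root_.mul_assoc]
    rw [D.P_τ (D.av u) b]
  have e3 : (gaPt (((u⁻¹ : Γ(X.left, ⊤)ˣ) : Γ(X.left, ⊤)) * ((u⁻¹ : Γ(X.left, ⊤)ˣ) : Γ(X.left, ⊤)) * a) ≫ pm) *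
      ((D.av u * q * D.av u) ≫ i) * (gaPt ((((D.a (D.av u))⁻¹ : Γ(X.left, ⊤)ˣ) : Γ(X.left, ⊤)) * b) ≫ pp) =
      (gaPt a ≫ pm) * (q ≫ i) * (gaPt b ≫ pp) := h3
  obtain ⟨-, hq, -⟩ := H.inj e3
  have hq' : D.av (u * u) = 1 := by
    rw [D.comm (D.av u) q, _root_.mul_assoc, mul_eq_left, ← map_mul] at hq
    exact hq
  have h4 := congrArg D.a hq'
  rw [D.a_av, map_one] at h4
  apply hu
  rw [show (4 : ℤ) = 2 + 2 from rfl, zpow_add, zpow_two, h4]

/-- Over an algebraically closed field the group is the union of the cell and a translate of the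
Borel subgroup. -/
theorem RH.bruhat (H : BC G T i α pp pm) (HR : RH G T i α pp pm av) (hG : Red.IsReductive G)
    [IsAlgClosed K] (e : K ≃+* Γ(X.left, ⊤)) [IsAffine X.left] (g : X ⟶ G)
    (hsec : ∀ (X' : Over S) (k : X' ⟶ X), Surjective k.left → LocallyOfFiniteType k.left →
      ∃ r : X ⟶ X', r ≫ k = 𝟙 X) :
    InCell i pp pm g ∨
      ∃ (t : X ⟶ T) (c : Γ(X.left, ⊤)), g = HR.w₁ X * (HR.data X).τ t * (HR.data X).P c := by
  have := H.hΩ
  have := smooth_divMap hG.2.1 (cell i pp pm)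
  have hs := surjective_divMap hG (cell i pp pm) (fun X => H.one_inCell X)
  let X' : Over S := Over.mk (pullback.fst g.left (divMap (cell i pp pm)).left ≫ X.hom)
  let c : X' ⟶ ((Red.Ga S ⊗ T) ⊗ Red.Ga S) ⊗ ((Red.Ga S ⊗ T) ⊗ Red.Ga S) :=
    Over.homMk (pullback.snd g.left (divMap (cell i pp pm)).left) (by
      show _ = pullback.fst g.left (divMap (cell i pp pm)).left ≫ X.hom
      rw [← Over.w g, ← Over.w (divMap (cell i pp pm)), pullback.condition_assoc])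
  let k : X' ⟶ X := Over.homMk (pullback.fst g.left (divMap (cell i pp pm)).left) rfl
  have hk : k ≫ g = c ≫ divMap (cell i pp pm) := Over.OverMorphism.ext pullback.condition
  obtain ⟨r, hr⟩ := hsec X' k (MorphismProperty.pullback_fst (P := @Surjective) _ _ hs)
    (MorphismProperty.pullback_fst (P := @LocallyOfFiniteType) _ _ inferInstance)
  have hg : g = (r ≫ c) ≫ divMap (cell i pp pm) := by
    rw [Category.assoc, ← hk, ← Category.assoc, hr, Category.id_comp]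
  rw [show r ≫ c = lift ((r ≫ c) ≫ fst _ _) ((r ≫ c) ≫ snd _ _) by ext <;> simp, divMap_pt] at hg
  replace hg := hg.trans (congrArg₂ (fun p q : X ⟶ G => p * q⁻¹) (cell_pt i pp pm _) (cell_pt i pp pm _))
  simp only [← Category.assoc _ _ pm, ← Category.assoc _ _ pp, ← Category.assoc _ _ i] at hg
  rw [HR.M_pt, HR.M_pt, HR.P_pt, HR.P_pt, HR.τ_pt, HR.τ_pt] at hg
  set D := HR.data X
  generalize Red.gaFn (((r ≫ c) ≫ fst _ _) ≫ fst _ _ ≫ fst _ _) = b₁ at hg
  generalize ((r ≫ c) ≫ fst _ _) ≫ fst _ _ ≫ snd _ _ = t₁ at hg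
  generalize Red.gaFn (((r ≫ c) ≫ fst _ _) ≫ snd _ _) = a₁ at hg
  generalize Red.gaFn (((r ≫ c) ≫ snd _ _) ≫ fst _ _ ≫ fst _ _) = b₂ at hg
  generalize ((r ≫ c) ≫ snd _ _) ≫ fst _ _ ≫ snd _ _ = t₂ at hg
  generalize Red.gaFn (((r ≫ c) ≫ snd _ _) ≫ snd _ _) = a₂ at hg
  set A := (D.a t₂ : Γ(X.left, ⊤)) * (a₁ - a₂)
  have hg' : g = D.M b₁ * D.τ (t₁ * t₂⁻¹) * D.P A * D.M (-b₂) := by
    rw [hg, _root_.mul_inv_rev, _root_.mul_inv_rev, D.P_inv, D.M_inv, ← _root_.mul_assoc, ← _root_.mul_assoc,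
      _root_.mul_assoc _ (D.P _) (D.P _), ← D.P_add, ← sub_eq_add_neg, _root_.mul_assoc _ (D.P _),
      ← map_inv, D.P_τ, map_inv D.a, _root_.inv_inv, ← _root_.mul_assoc, _root_.mul_assoc _ (D.τ t₁),
      ← map_mul]
  set q := t₁ * t₂⁻¹
  rcases isUnit_or_eq_zero e (1 + A * -b₂) with hu | h0
  · -- inside the cell
    left
    obtain ⟨v, hv⟩ := hu
    have hF := D.F A (-b₂) v hv
    have : g = D.M (b₁ + (((D.a q)⁻¹ : Γ(X.left, ⊤)ˣ) : Γ(X.left, ⊤)) * ((v⁻¹ : Γ(X.left, ⊤)ˣ) : Γ(X.left, ⊤)) * -b₂) *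
        D.τ (q * D.av v) * D.P (((v⁻¹ : Γ(X.left, ⊤)ˣ) : Γ(X.left, ⊤)) * A) := by
      rw [hg', _root_.mul_assoc _ (D.P A), hF]
      simp only [← _root_.mul_assoc]
      rw [_root_.mul_assoc _ (D.τ q) (D.M _), D.τ_M, ← _root_.mul_assoc, ← D.M_add,
        _root_.mul_assoc _ (D.τ q), ← map_mul]
      simp only [_root_.mul_assoc]
    rw [this]
    exact inCell_mk ..
  · -- on the translate
    right
    have hAb : A * b₂ = 1 := by linear_combination -h0
    let a : Γ(X.left, ⊤)ˣ := ⟨A, b₂, hAb, by rw [mul_comm]; exact hAb⟩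
    have hPM : D.P A * D.M (-b₂) = D.h a * HR.w₁ X * D.P (-A) := by
      have : D.h a * HR.w₁ X = D.w a := by rw [← D.w_smul, _root_.mul_one]
      rw [this, R1.w, _root_.mul_assoc _ (D.P _) (D.P _), ← D.P_add]
      show _ = D.P A * D.M (-b₂) * D.P (A + -A)
      rw [add_neg_cancel, D.P_zero, _root_.mul_one]
    have hM : D.M b₁ * HR.w₁ X = HR.w₁ X * D.P (-b₁) := by
      have := HR.w₁_P e (-b₁)
      rw [neg_neg] at this
      rw [← this]
      simp only [D]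
      group
    have hτ : ∀ s : X ⟶ T, D.τ s * HR.w₁ X = HR.w₁ X * D.τ ((D.av (D.a s))⁻¹ * s) := fun s => by
      have h' := D.w_conj 1 ((D.av (D.a s))⁻¹ * s)
      have ha : D.a ((D.av (D.a s))⁻¹ * s) = (D.a s)⁻¹ := by
        rw [map_mul, map_inv, D.a_av, _root_.mul_inv_rev, inv_mul_cancel_right]
      rw [ha, D.h_inv, _root_.inv_inv, R1.h, ← map_mul, mul_inv_cancel_left] at h'
      have : HR.w₁ X * D.τ ((D.av (D.a s))⁻¹ * s) * (HR.w₁ X)⁻¹ = D.τ s := h'
      conv_lhs => rw [← this]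
      group
    refine ⟨(D.av (D.a (q * D.av a)))⁻¹ * (q * D.av a),
      (((D.a ((D.av (D.a (q * D.av a)))⁻¹ * (q * D.av a)))⁻¹ : Γ(X.left, ⊤)ˣ) : Γ(X.left, ⊤)) * -b₁ + -A, ?_⟩
    rw [hg', _root_.mul_assoc _ (D.P A), hPM, D.P_add, ← _root_.mul_assoc, ← _root_.mul_assoc,
      ← _root_.mul_assoc, _root_.mul_assoc (HR.w₁ X) (D.τ _) (D.P _), ← D.P_τ, ← _root_.mul_assoc]
    congr 1
    calc D.M b₁ * D.τ q * D.h a * HR.w₁ X = D.M b₁ * (D.τ (q * D.av a) * HR.w₁ X) := by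
          simp only [map_mul, R1.h, _root_.mul_assoc]
      _ = D.M b₁ * HR.w₁ X * D.τ ((D.av (D.a (q * D.av a)))⁻¹ * (q * D.av a)) := by
          rw [hτ, ← _root_.mul_assoc]
      _ = _ := by rw [hM, ← _root_.mul_assoc]

theorem exists_section_of_field [IsAlgClosed K] (e : K ≃+* Γ(X.left, ⊤)) [IsAffine X.left]
    (X' : Over S) (k : X' ⟶ X) (hs : Surjective k.left) (hl : LocallyOfFiniteType k.left) :
    ∃ r : X ⟶ X', r ≫ k = 𝟙 X := by
  let ε : X.left ≅ Spec (CommRingCat.of K) :=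
    X.left.isoSpec ≪≫ (asIso (Spec.map e.toCommRingCatIso.hom))
  let f : X'.left ⟶ Spec (CommRingCat.of K) := k.left ≫ ε.hom
  have : LocallyOfFiniteType f := inferInstanceAs (LocallyOfFiniteType (k.left ≫ ε.hom))
  have : JacobsonSpace X'.left := LocallyOfFiniteType.jacobsonSpace f
  obtain ⟨x, hx⟩ := hs.1 (ε.inv (IsLocalRing.closedPoint K))
  obtain ⟨z, -, hz⟩ := nonempty_inter_closedPoints (Z := (Set.univ : Set X'.left)) ⟨x, trivial⟩
    isClosed_univ.isLocallyClosed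
  let l := ε.hom ≫ pointOfClosedPoint f z hz
  have hl : l ≫ k.left = 𝟙 _ := by
    rw [← cancel_mono ε.hom, Category.assoc, Category.assoc, Category.id_comp]
    exact (congrArg (ε.hom ≫ ·) (pointOfClosedPoint_comp f z hz)).trans (Category.comp_id _)
  exact ⟨Over.homMk l (by rw [← Over.w k, ← Category.assoc, hl, Category.id_comp]),
    Over.OverMorphism.ext hl⟩

/-- The Bruhat decomposition on points with values in an algebraically closed field. -/
theorem RH.bruhat' (H : BC G T i α pp pm) (HR : RH G T i α pp pm av) (hG : Red.IsReductive G)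
    [IsAlgClosed K] (e : K ≃+* Γ(X.left, ⊤)) [IsAffine X.left] (g : X ⟶ G) :
    InCell i pp pm g ∨
      ∃ (t : X ⟶ T) (c : Γ(X.left, ⊤)), g = HR.w₁ X * (HR.data X).τ t * (HR.data X).P c :=
  RH.bruhat H HR hG e g (fun X' k hs hl => exists_section_of_field e X' k hs hl)

end Field

end Groth.Agent.RedPts82
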