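import Groth.Agent.RedPts82.PinnedCox
import Groth.Agent.RedPts82.CentTorus
import Groth.Agent.RedPts82.RankOneGeom
import Groth.Agent.Roots36.Simple

/-!
Points of a split group acting on the torus through an automorphism of the root datum.
-/

universe u

open CategoryTheory MonoidalCategory CartesianMonoidalCategory MonObj GrpObj AlgebraicGeometry
open CategoryTheory.Limits

namespace Groth.Agent.RedPts82

variable {S : Scheme.{u}} {G : Over S} [GrpObj G] {D : Red.SplitRed G}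

/-- A point of a root group. -/
noncomputable abbrev rp (D : Red.SplitRed G) (c : D.idx) {X : Over S} (r : Γ(X.left, ⊤)) : X ⟶ G :=
  gaPt r ≫ D.u c

/-- A constant point. -/
noncomputable abbrev np (n : 𝟙_ (Over S) ⟶ G) (X : Over S) : X ⟶ G := toUnit X ≫ n

theorem comp_np {X X' : Over S} (k : X' ⟶ X) (n : 𝟙_ (Over S) ⟶ G) : k ≫ np n X = np n X' := by
  rw [np, ← Category.assoc, toUnit_unique (k ≫ toUnit X) (toUnit X')]

theorem np_mul (n m : 𝟙_ (Over S) ⟶ G) (X : Over S) : np (n * m) X = np n X * np m X := MonObj.comp_mul ..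

theorem np_inv (n : 𝟙_ (Over S) ⟶ G) (X : Over S) : np n⁻¹ X = (np n X)⁻¹ := GrpObj.comp_inv ..

theorem comp_rp {X X' : Over S} (k : X' ⟶ X) (c : D.idx) (r : Γ(X.left, ⊤)) :
    k ≫ rp D c r = rp D c (k.left.appTop r) := by
  simp only [rp, ← Category.assoc, comp_gaPt]

theorem comp_tpt {X X' : Over S} (k : X' ⟶ X) (t : X ⟶ Red.DS S D.M) :
    k ≫ tpt D t = tpt D (k ≫ t) := (Category.assoc ..).symm

theorem tpt_inv {X : Over S} (t : X ⟶ Red.DS S D.M) : tpt D t⁻¹ = (tpt D t)⁻¹ :=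
  eq_inv_of_mul_eq_one_left (by rw [← tpt_mul, inv_mul_cancel, tpt_one])

theorem tpt_comm {X : Over S} (t t' : X ⟶ Red.DS S D.M) : tpt D t * tpt D t' = tpt D t' * tpt D t := by
  rw [← tpt_mul, ← tpt_mul, ds_comm]

theorem tpt_injective {X : Over S} {t t' : X ⟶ Red.DS S D.M} (h : tpt D t = tpt D t') : t = t' := by
  have := D.maximalTorus.2.1
  have hs : D.split.inv.hom.hom ≫ D.split.hom.hom.hom = 𝟙 _ :=
    congrArg (fun f => f.hom.hom) D.split.inv_hom_id
  have h2 := (cancel_mono D.i).mp (show (t ≫ D.split.inv.hom.hom) ≫ D.i = (t' ≫ D.split.inv.hom.hom) ≫ D.i by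
    simpa only [tpt, Category.assoc] using h)
  simpa [Category.assoc, hs] using congrArg (· ≫ D.split.hom.hom.hom) h2

theorem i_eq_tpt {X : Over S} (t : X ⟶ D.T) : t ≫ D.i = tpt D (t ≫ D.split.hom.hom.hom) := by
  have hs : D.split.hom.hom.hom ≫ D.split.inv.hom.hom = 𝟙 _ :=
    congrArg (fun f => f.hom.hom) D.split.hom_inv_id
  simp only [tpt, Category.assoc]
  rw [← Category.assoc D.split.hom.hom.hom, hs, Category.id_comp]

theorem tpt_conj_rp {X : Over S} (t : X ⟶ Red.DS S D.M) (c : D.idx) (r : Γ(X.left, ⊤)) :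
    tpt D t * rp D c r * (tpt D t)⁻¹ = rp D c (dsFn t (D.P.root c) * r) := by
  simp only [tpt, rp]
  rw [splitRed_conj, gaFn_gaPt]

theorem rp_add (c : D.idx) {X : Over S} (r s : Γ(X.left, ⊤)) : rp D c (r + s) = rp D c r * rp D c s :=
  rootHom_gaPt_add D c r s

theorem rp_zero (c : D.idx) (X : Over S) : rp D c (0 : Γ(X.left, ⊤)) = 1 := rootHom_gaPt_zero D c

theorem rp_neg (c : D.idx) {X : Over S} (r : Γ(X.left, ⊤)) : rp D c (-r) = (rp D c r)⁻¹ :=
  rootHom_gaPt_neg D c r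

theorem negIdx_negIdx (c : D.idx) : negIdx D (negIdx D c) = c :=
  D.P.root.injective (by rw [Roots36.root_neg, Roots36.root_neg, neg_neg])

theorem reflection_negIdx (c : D.idx) :
    RootPairing.Equiv.reflection D.P (negIdx D c) = RootPairing.Equiv.reflection D.P c := by
  have h := Roots36.conj_reflection (P := D.P) (RootPairing.Equiv.reflection D.P c) c
  rw [RootPairing.Equiv.reflection_inv, _root_.mul_assoc, Roots36.reflection_sq, _root_.mul_one] at h
  exact h.symm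

/-- The action of an automorphism on the points of the torus. -/
noncomputable def tw (g : D.P.Aut) {X : Over S} (t : X ⟶ Red.DS S D.M) : X ⟶ Red.DS S D.M :=
  t ≫ Red.DSmap S (DistribMulAction.toAddMonoidHom D.M g⁻¹)

theorem dsFn_tw (g : D.P.Aut) {X : Over S} (t : X ⟶ Red.DS S D.M) (m : D.M) :
    dsFn (tw g t) m = dsFn t (g⁻¹ • m) := dsFn_DSmap _ _ _

theorem tw_mul (g g' : D.P.Aut) {X : Over S} (t : X ⟶ Red.DS S D.M) : tw (g * g') t = tw g (tw g' t) :=
  dsFn_injective fun m => by rw [dsFn_tw, dsFn_tw, dsFn_tw, _root_.mul_inv_rev, mul_smul]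

theorem tw_one {X : Over S} (t : X ⟶ Red.DS S D.M) : tw (1 : D.P.Aut) t = t :=
  dsFn_injective fun m => by rw [dsFn_tw, inv_one, one_smul]

/-- The section `n` acts on the torus as the automorphism `g`. -/
def Acts (D : Red.SplitRed G) (n : 𝟙_ (Over S) ⟶ G) (g : D.P.Aut) : Prop :=
  ∀ (X : Over S) (t : X ⟶ Red.DS S D.M), np n X * tpt D t * (np n X)⁻¹ = tpt D (tw g t)

theorem acts_one : Acts D 1 1 := fun X t => by
  rw [tw_one, np, MonObj.comp_one, inv_one, _root_.mul_one, _root_.one_mul]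

theorem Acts.mul {n n' : 𝟙_ (Over S) ⟶ G} {g g' : D.P.Aut} (h : Acts D n g) (h' : Acts D n' g') :
    Acts D (n * n') (g * g') := fun X t => by
  rw [tw_mul, ← h X, ← h' X, np_mul]
  group

theorem Acts.inv {n : 𝟙_ (Over S) ⟶ G} {g : D.P.Aut} (h : Acts D n g) : Acts D n⁻¹ g⁻¹ := fun X t => by
  have e := h X (tw g⁻¹ t)
  rw [← tw_mul, mul_inv_cancel, tw_one] at e
  rw [np_inv, ← e]
  group

theorem Acts.normT {n : 𝟙_ (Over S) ⟶ G} {g : D.P.Aut} (h : Acts D n g) : NormT D n :=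
  fun X t => ⟨_, h X t⟩

theorem Acts.swap {n : 𝟙_ (Over S) ⟶ G} {g : D.P.Aut} (h : Acts D n g) {X : Over S}
    (t : X ⟶ Red.DS S D.M) : np n X * tpt D t = tpt D (tw g t) * np n X := by
  rw [← h X t]; group

theorem Acts.swap' {n : 𝟙_ (Over S) ⟶ G} {g : D.P.Aut} (h : Acts D n g) {X : Over S}
    (t : X ⟶ Red.DS S D.M) : tpt D t * np n X = np n X * tpt D (tw g⁻¹ t) := by
  rw [h.swap, ← tw_mul, mul_inv_cancel, tw_one]

/-- A point inducing a reflection in the sense of the splitting acts as it. -/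
theorem acts_of_refl {n : 𝟙_ (Over S) ⟶ G} {a : D.idx}
    (h : ∀ (X : Over S) (t : X ⟶ D.T), (toUnit X ≫ n) * (t ≫ D.i) * (toUnit X ≫ n)⁻¹ =
      t ≫ D.split.hom.hom.hom ≫ Red.DSmap S (D.P.reflection a).toLinearMap.toAddMonoidHom ≫
        D.split.inv.hom.hom ≫ D.i) :
    Acts D n (RootPairing.Equiv.reflection D.P a) := fun X t => by
  have hs : D.split.inv.hom.hom ≫ D.split.hom.hom.hom = 𝟙 _ :=
    congrArg (fun f => f.hom.hom) D.split.inv_hom_id
  have e := h X (t ≫ D.split.inv.hom.hom)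
  simp only [Category.assoc] at e
  refine e.trans ?_
  rw [← Category.assoc D.split.inv.hom.hom, hs, Category.id_comp]
  show tpt D (t ≫ Red.DSmap S _) = tpt D (tw _ t)
  congr 1
  refine dsFn_injective fun m => ?_
  rw [dsFn_tw, RootPairing.Equiv.reflection_inv, RootPairing.Equiv.reflection_smul, dsFn_DSmap]
  rfl

theorem acts_prod {nr : D.idx → (𝟙_ (Over S) ⟶ G)} (l : List D.idx)
    (h : ∀ a ∈ l, Acts D (nr a) (RootPairing.Equiv.reflection D.P a)) :
    Acts D (l.map nr).prod (Roots36.wprod D.P l) := by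
  induction l with
  | nil => exact acts_one
  | cons a l ih =>
    rw [List.map_cons, List.prod_cons, Roots36.wprod_cons]
    exact (h a (by simp)).mul (ih fun b hb => h b (by simp [hb]))

theorem Acts.exists_moves {n : 𝟙_ (Over S) ⟶ G} {g : D.P.Aut} (h : Acts D n g) (b : D.P.Base)
    (c : D.idx) : ∃ k : Γ(S, ⊤), Moves D n c (g • c) k := by
  let v : Red.Ga S ⟶ G := np n _ * D.u c * (np n _)⁻¹
  have hv : ∀ {X : Over S} (x : X ⟶ Red.Ga S), x ≫ v = np n X * (x ≫ D.u c) * (np n X)⁻¹ := by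
    intro X x
    simp only [v, MonObj.comp_mul, GrpObj.comp_inv, comp_np]
  have := (D.rootHom c).1
  have : IsMonHom v := isMonHom_of_points _ fun Z x y => by
    rw [hv, hv, hv, MonObj.mul_comp]
    group
  obtain ⟨k, hk⟩ := exists_coord_of_weight b (g • c) v fun X t r => by
    rw [hv, hv]
    show tpt D t * (np n X * rp D c r * (np n X)⁻¹) * (tpt D t)⁻¹ = np n X * rp D c _ * (np n X)⁻¹
    have e := tpt_conj_rp (tw g⁻¹ t) c r
    rw [dsFn_tw, _root_.inv_inv, ← Roots36.root_smul] at e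
    rw [← e]
    calc tpt D t * (np n X * rp D c r * (np n X)⁻¹) * (tpt D t)⁻¹
        = (tpt D t * np n X) * rp D c r * (tpt D t * np n X)⁻¹ := by group
      _ = _ := by rw [h.swap']; group
  exact ⟨k, fun X r => by
    show np n X * _ * (np n X)⁻¹ = _
    rw [← hv]; exact hk X r⟩

theorem Acts.exists_moves_unit {n : 𝟙_ (Over S) ⟶ G} {g : D.P.Aut} (h : Acts D n g) (b : D.P.Base)
    (c : D.idx) : ∃ k : Γ(S, ⊤)ˣ, Moves D n c (g • c) k := by
  obtain ⟨k, hk⟩ := h.exists_moves b c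
  obtain ⟨k', hk'⟩ := h.inv.exists_moves b (g • c)
  rw [inv_smul_smul] at hk'
  have h1 := (Moves.mul hk hk') (𝟙_ (Over S)) 1
  rw [inv_mul_cancel, moves_one c (𝟙_ (Over S)) 1] at h1
  have e : k' * k = 1 := by simpa [cst] using (rootHom_gaPt_injective c h1).symm
  exact ⟨(isUnit_of_mul_isUnit_right (x := k') (by rw [e]; exact isUnit_one)).unit, hk⟩

theorem Moves.conj {n : 𝟙_ (Over S) ⟶ G} {c c' : D.idx} {k : Γ(S, ⊤)} (h : Moves D n c c' k) {X : Over S}
    (r : Γ(X.left, ⊤)) : np n X * rp D c r * (np n X)⁻¹ = rp D c' (cst X k * r) := h X r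

/-- On a field point a section acting nontrivially is no torus point. -/
theorem eq_one_of_tw_fixed {K : Type u} [Field K] [IsAlgClosed K] {W : Over S}
    (e : K ≃+* Γ(W.left, ⊤)) {g : D.P.Aut} (h : ∀ t : W ⟶ Red.DS S D.M, tw g t = t) : g = 1 := by
  refine inv_eq_one.mp (Roots36.aut_ext fun m => ?_)
  rw [one_smul]
  by_contra hm
  have hd : g⁻¹ • m - m ≠ 0 := sub_ne_zero.mpr hm
  let B := Module.Free.chooseBasis ℤ D.M
  obtain ⟨j, hj⟩ := Finsupp.ne_iff.mp (fun he => hd (B.repr.injective (by rw [he, map_zero])) :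
    B.repr (g⁻¹ • m - m) ≠ 0)
  let l : D.M →+ ℤ := ((Finsupp.lapply j).comp B.repr.toLinearMap).toAddMonoidHom
  obtain ⟨z, hz⟩ := exists_unit_pow_ne_one e (show l (g⁻¹ • m - m) ≠ 0 from hj)
  have e' := congrArg (dsFn · m) (h (gmPt z ≫ Red.DSmap S l))
  simp only [dsFn_tw, dsFn_DSmap, dsFn_int, show gmU (gmPt z) = z from Units.ext (gmFn_gmPt z)] at e'
  refine hz ?_
  rw [map_sub, zpow_sub, Units.ext e', mul_inv_cancel]

end Groth.Agent.RedPts82
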