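import Mathlib.AlgebraicGeometry.IdealSheaf.Subscheme
import Mathlib.AlgebraicGeometry.Morphisms.ClosedImmersion

/-!
A local condition on points which is cut out by an ideal on each affine open is cut out by a closed
subscheme.
-/

universe u

open CategoryTheory AlgebraicGeometry

namespace Groth.Agent.RedPts82

theorem exists_closed_of_local {X : Scheme.{u}} (P : ∀ T : Scheme.{u}, (T ⟶ X) → Prop)
    (hcomp : ∀ (T T' : Scheme.{u}) (k : T' ⟶ T) (x : T ⟶ X), P T x → P T' (k ≫ x))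
    (hloc : ∀ (T : Scheme.{u}) (x : T ⟶ X),
      (∀ p : T, ∃ (T' : Scheme.{u}) (k : T' ⟶ T), IsOpenImmersion k ∧ p ∈ Set.range k.base ∧ P T' (k ≫ x)) →
        P T x)
    (hJ : ∀ (U : X.Opens) (hU : IsAffineOpen U), ∃ J : Ideal Γ(X, U), ∀ (A : CommRingCat.{u}) (φ : Γ(X, U) ⟶ A),
      P _ (Spec.map φ ≫ hU.fromSpec) ↔ J ≤ RingHom.ker φ.hom) :
    ∃ (Z : Scheme.{u}) (j : Z ⟶ X), IsClosedImmersion j ∧
      ∀ (T : Scheme.{u}) (x : T ⟶ X), P T x ↔ ∃ z : T ⟶ Z, z ≫ j = x := by
  choose J hJ using hJ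
  let I : X.IdealSheafData :=
    { ideal := fun U => J U.1 U.2
      map_ideal_basicOpen := fun U f => by
        let r := X.presheaf.map (homOfLE <| X.basicOpen_le f).op
        have key : ∀ K : Ideal Γ(X, (X.affineBasicOpen f).1),
            (J U.1 U.2).map r.hom ≤ K ↔ J _ (X.affineBasicOpen f).2 ≤ K := fun K => by
          let φ : Γ(X, (X.affineBasicOpen f).1) ⟶ CommRingCat.of (_ ⧸ K) :=
            CommRingCat.ofHom (Ideal.Quotient.mk K)
          have h1 := hJ _ (X.affineBasicOpen f).2 _ φ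
          have h2 := hJ U.1 U.2 _ (r ≫ φ)
          have e : Spec.map (r ≫ φ) ≫ U.2.fromSpec = Spec.map φ ≫ (X.affineBasicOpen f).2.fromSpec := by
            rw [Spec.map_comp]
            exact (Category.assoc _ _ _).trans (congrArg (Spec.map φ ≫ ·)
              (IsAffineOpen.map_fromSpec U.2 (X.affineBasicOpen f).2 (homOfLE <| X.basicOpen_le f).op))
          rw [e, h1] at h2
          have hk : RingHom.ker φ.hom = K := Ideal.mk_ker
          rw [hk] at h2
          rw [h2, Ideal.map_le_iff_le_comap]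
          conv_lhs => rw [← hk]
          rfl
        exact le_antisymm ((key _).mpr le_rfl) ((key _).mp le_rfl) }
  refine ⟨I.subscheme, I.subschemeι, inferInstance, fun T x => ⟨fun hx => ?_, ?_⟩⟩
  · refine ⟨IsClosedImmersion.lift I.subschemeι x ?_, IsClosedImmersion.lift_fac _ _ _⟩
    rw [Scheme.IdealSheafData.ker_subschemeι]
    refine Scheme.IdealSheafData.le_ofIdeals_iff.mpr fun U a ha => ?_
    change x.app U.1 a = 0
    let ι' := {W : T.affineOpens // W.1 ≤ x ⁻¹ᵁ U.1}
    refine T.IsSheaf.section_ext fun p hp => ?_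
    obtain ⟨_, ⟨W, hW, rfl⟩, hpW, hWU⟩ := T.isBasis_affineOpens.exists_subset_of_mem_open hp (x ⁻¹ᵁ U.1).2
    replace hW : IsAffineOpen W := hW
    refine ⟨W, hWU, hpW, ?_⟩
    rw [map_zero]
    have h := hcomp _ _ hW.fromSpec x hx
    rw [← IsAffineOpen.SpecMap_appLE_fromSpec x U.2 hW hWU, hJ] at h
    exact h ha
  · rintro ⟨z, rfl⟩
    refine hcomp _ _ z _ (hloc _ _ fun p => ?_)
    obtain ⟨_, ⟨U, hU, rfl⟩, hpU, -⟩ := X.isBasis_affineOpens.exists_subset_of_mem_open
      (Set.mem_univ (I.subschemeι.base p)) isOpen_univ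
    replace hU : IsAffineOpen U := hU
    let W := I.subschemeι ⁻¹ᵁ U
    have hW : IsAffineOpen W := hU.preimage I.subschemeι
    refine ⟨_, hW.fromSpec, inferInstance, by rw [IsAffineOpen.range_fromSpec]; exact hpU, ?_⟩
    rw [← IsAffineOpen.SpecMap_appLE_fromSpec I.subschemeι hU hW le_rfl, hJ]
    intro a ha
    rw [RingHom.mem_ker, Scheme.Hom.appLE, CommRingCat.hom_comp, RingHom.comp_apply]
    have : a ∈ RingHom.ker (I.subschemeι.app U).hom := by
      rw [I.ker_subschemeι_app ⟨U, hU⟩]; exact ha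
    rw [RingHom.mem_ker.mp this, map_zero]

end Groth.Agent.RedPts82
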