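import Groth.Agent.RedPts82.SubGrp
import Groth.Agent.RedPts82.ClosedRep
import Groth.Agent.RedPts82.GaCoord

/-!
The centraliser of a morphism from a diagonalisable group into an affine group scheme.
-/

universe u

open CategoryTheory MonoidalCategory CartesianMonoidalCategory MonObj GrpObj AlgebraicGeometry
open CategoryTheory.Limits

namespace Groth.Agent.RedPts82

variable {S : Scheme.{u}} {G : Over S} [GrpObj G] {N : Type} [AddCommGroup N]

/-- The point commutes with the image of `η'` after any extension. -/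
def Centralises (η' : Red.DS S N ⟶ G) {T : Over S} (x : T ⟶ G) : Prop :=
  ∀ (T' : Over S) (k : T' ⟶ T) (q : T' ⟶ Red.DS S N), (k ≫ x) * (q ≫ η') = (q ≫ η') * (k ≫ x)

theorem Centralises.comp {η' : Red.DS S N ⟶ G} {T T' : Over S} {x : T ⟶ G} (h : Centralises η' x)
    (k : T' ⟶ T) : Centralises η' (k ≫ x) := fun T'' k' q => by
  rw [← Category.assoc]; exact h T'' (k' ≫ k) q

theorem evalDS_map {Y T : Over S} [IsAffine Y.left] [IsAffine T.left] (k : T ⟶ Y)
    (c : DSRing Y N) :
    evalDS (polyProj T N ≫ k) (polyTu T N) c =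
      polyCoord T N (MonoidAlgebra.mapRingHom (Multiplicative N) k.left.appTop.hom c) := by
  rw [← RingHom.comp_apply]
  congr 1
  refine MonoidAlgebra.ringHom_ext (fun a => ?_) fun g => ?_
  · rw [RingHom.comp_apply, MonoidAlgebra.mapRingHom_single, ← polyProj_appTop,
      show (1 : Multiplicative N) = Multiplicative.ofAdd 0 from rfl, evalDS_single, dsFn_zero]
    exact _root_.mul_one _
  · rw [RingHom.comp_apply, MonoidAlgebra.mapRingHom_single, map_one,
      show g = Multiplicative.ofAdd (Multiplicative.toAdd g) from rfl, evalDS_single, map_one,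
      _root_.one_mul, dsFn_polyTu]

theorem exists_centralises_ideal (hG : IsAffineHom G.hom) (η' : Red.DS S N ⟶ G) (Y : Over S)
    [IsAffine Y.left] (u : Y ⟶ G) :
    ∃ J : Ideal Γ(Y.left, ⊤), ∀ (T : Over S) [IsAffine T.left] (k : T ⟶ Y),
      Centralises η' (k ≫ u) ↔ J ≤ RingHom.ker k.left.appTop.hom := by
  classical
  have : IsAffineHom (fst Y G).left := inferInstanceAs (IsAffineHom (pullback.fst Y.hom G.hom))
  have : IsAffine (Y ⊗ G).left := isAffine_of_isAffineHom (fst Y G).left
  let a : polyDS Y N ⟶ Y ⊗ G := lift (polyProj Y N) ((polyProj Y N ≫ u) * (polyTu Y N ≫ η'))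
  let b : polyDS Y N ⟶ Y ⊗ G := lift (polyProj Y N) ((polyTu Y N ≫ η') * (polyProj Y N ≫ u))
  choose ca hca using fun f => (polyCoord_bijective Y N).2 (a.left.appTop f)
  choose cb hcb using fun f => (polyCoord_bijective Y N).2 (b.left.appTop f)
  refine ⟨Ideal.span (Set.range fun p : Γ((Y ⊗ G).left, ⊤) × Multiplicative N =>
    (ca p.1).coeff p.2 - (cb p.1).coeff p.2), fun T _ k => ?_⟩
  obtain ⟨L, hL1, hL2, hL3⟩ := exists_polyLift (polyProj T N ≫ k) (polyTu T N)
  have hiff : Centralises η' (k ≫ u) ↔ L ≫ a = L ≫ b := by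
    refine ⟨fun h => ?_, fun h T' k' q => ?_⟩
    · apply CartesianMonoidalCategory.hom_ext
      · simp only [a, b, Category.assoc, lift_fst]
      · have := h (polyDS T N) (polyProj T N) (polyTu T N)
        simp only [a, b, Category.assoc, lift_snd, MonObj.comp_mul]
        rw [← Category.assoc L, hL1, ← Category.assoc L, hL2, Category.assoc]
        exact this
    · obtain ⟨σ, hσ1, hσ2, -⟩ := exists_polyLift k' q
      have h1 : (L ≫ polyProj Y N ≫ u) * (L ≫ polyTu Y N ≫ η') =
          (L ≫ polyTu Y N ≫ η') * (L ≫ polyProj Y N ≫ u) := by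
        have := congrArg (· ≫ snd Y G) h
        simpa only [a, b, Category.assoc, lift_snd, MonObj.comp_mul] using this
      rw [← Category.assoc L, hL1, ← Category.assoc L, hL2, Category.assoc] at h1
      have h2 := congrArg (σ ≫ ·) h1
      simp only [MonObj.comp_mul] at h2
      rw [← Category.assoc σ (polyProj T N), hσ1, ← Category.assoc σ (polyTu T N), hσ2] at h2
      exact h2
  rw [hiff, Ideal.span_le]
  constructor
  · rintro h _ ⟨⟨f, g⟩, rfl⟩
    have e0 := congrArg (fun m => m.left.appTop f) h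
    change L.left.appTop (a.left.appTop f) = L.left.appTop (b.left.appTop f) at e0
    rw [← hca, ← hcb, hL3, hL3, evalDS_map, evalDS_map] at e0
    have e1 := congrArg (fun r => r.coeff g) ((polyCoord_bijective T N).1 e0)
    simp only [MonoidAlgebra.coeff_mapRingHom] at e1
    rw [SetLike.mem_coe, RingHom.mem_ker, map_sub, sub_eq_zero]
    exact e1
  · intro h
    apply Over.OverMorphism.ext
    apply ext_of_isAffine
    refine CommRingCat.hom_ext (RingHom.ext fun f => ?_)
    show L.left.appTop (a.left.appTop f) = L.left.appTop (b.left.appTop f)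
    rw [← hca, ← hcb, hL3, hL3, evalDS_map, evalDS_map]
    congr 1
    ext g
    simp only [MonoidAlgebra.coeff_mapRingHom]
    have := h ⟨⟨f, g⟩, rfl⟩
    rwa [SetLike.mem_coe, RingHom.mem_ker, map_sub, sub_eq_zero] at this

/-- The centraliser exists as a closed subgroup. -/
theorem exists_centralizer_DS (hG : IsAffineHom G.hom) (η' : Red.DS S N ⟶ G) :
    ∃ (Z : Over S) (_ : GrpObj Z) (j : Z ⟶ G), IsMonHom j ∧ IsClosedImmersion j.left ∧ Mono j ∧
      ∀ (T : Over S) (x : T ⟶ G), (∃ z : T ⟶ Z, z ≫ j = x) ↔ Centralises η' x := by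
  classical
  let P : ∀ T : Scheme.{u}, (T ⟶ G.left) → Prop := fun T x =>
    Centralises η' (Over.homMk x rfl : Over.mk (x ≫ G.hom) ⟶ G)
  obtain ⟨Z, j, hj, hZ⟩ := exists_closed_of_local P
    (fun T T' k x h => by
      exact h.comp (Over.homMk k (by simp) : Over.mk ((k ≫ x) ≫ G.hom) ⟶ Over.mk (x ≫ G.hom)))
    (fun T x h T' k q => by
      choose W w hw hp hP using h
      let C : T.OpenCover := Scheme.Cover.mkOfCovers T W w (fun p => ⟨p, hp p⟩) hw
      apply Over.OverMorphism.ext
      refine Scheme.Cover.hom_ext (C.pullback₁ k.left) _ _ fun p => ?_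
      let V : Over S := Over.mk (pullback.fst k.left (C.f p) ≫ T'.hom)
      let v : V ⟶ T' := Over.homMk (pullback.fst k.left (C.f p)) rfl
      let v' : V ⟶ Over.mk ((w p ≫ x) ≫ G.hom) := Over.homMk (pullback.snd k.left (C.f p)) (by
        show pullback.snd k.left (C.f p) ≫ (C.f p ≫ x) ≫ G.hom = pullback.fst k.left (C.f p) ≫ T'.hom
        rw [← Over.w k, Category.assoc, ← pullback.condition_assoc]
        rfl)
      have h1 := hP p V v' (v ≫ q)
      have e : v' ≫ (Over.homMk (w p ≫ x) rfl : Over.mk ((w p ≫ x) ≫ G.hom) ⟶ G) =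
          v ≫ k ≫ (Over.homMk x rfl : Over.mk (x ≫ G.hom) ⟶ G) := by
        apply Over.OverMorphism.ext
        show pullback.snd k.left (C.f p) ≫ C.f p ≫ x = pullback.fst k.left (C.f p) ≫ k.left ≫ x
        rw [← pullback.condition_assoc]
      rw [e, Category.assoc] at h1
      simp only [← MonObj.comp_mul] at h1
      exact congrArg CommaMorphism.left h1)
    (fun U hU => by
      let Y : Over S := Over.mk (hU.fromSpec ≫ G.hom)
      have : IsAffine Y.left := inferInstanceAs (IsAffine (Spec Γ(G.left, U)))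
      obtain ⟨J, hJ⟩ := exists_centralises_ideal hG η' Y (Over.homMk hU.fromSpec rfl)
      refine ⟨J.comap (Scheme.ΓSpecIso Γ(G.left, U)).inv.hom, fun A φ => ?_⟩
      let T : Over S := Over.mk ((Spec.map φ ≫ hU.fromSpec) ≫ G.hom)
      have : IsAffine T.left := inferInstanceAs (IsAffine (Spec A))
      let k : T ⟶ Y := Over.homMk (Spec.map φ) (by simp [T, Y])
      have e : k ≫ (Over.homMk hU.fromSpec rfl : Y ⟶ G) =
          (Over.homMk (Spec.map φ ≫ hU.fromSpec) rfl : T ⟶ G) := Over.OverMorphism.ext rfl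
      show Centralises η' (Over.homMk (Spec.map φ ≫ hU.fromSpec) rfl : T ⟶ G) ↔ _
      rw [← e, hJ T k]
      have hnat : ∀ c, (Spec.map φ).appTop ((Scheme.ΓSpecIso Γ(G.left, U)).inv c) =
          (Scheme.ΓSpecIso A).inv (φ c) := fun c => (congr($(Scheme.ΓSpecIso_inv_naturality φ) c)).symm
      constructor
      · intro h c hc
        have h' : (Spec.map φ).appTop ((Scheme.ΓSpecIso Γ(G.left, U)).inv c) = 0 := h hc
        rw [hnat] at h'
        exact (Scheme.ΓSpecIso A).commRingCatIsoToRingEquiv.symm.injective (h'.trans (map_zero _).symm)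
      · intro h c hc
        have hc' : (Scheme.ΓSpecIso Γ(G.left, U)).hom c ∈ J.comap (Scheme.ΓSpecIso Γ(G.left, U)).inv.hom := by
          rw [Ideal.mem_comap]
          convert hc using 1
          exact congr($((Scheme.ΓSpecIso Γ(G.left, U)).hom_inv_id) c)
        have h' : φ ((Scheme.ΓSpecIso Γ(G.left, U)).hom c) = 0 := h hc'
        show (Spec.map φ).appTop c = 0
        have hcc : (Scheme.ΓSpecIso Γ(G.left, U)).inv ((Scheme.ΓSpecIso Γ(G.left, U)).hom c) = c :=
          congr($((Scheme.ΓSpecIso Γ(G.left, U)).hom_inv_id) c)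
        rw [← hcc, hnat, h', map_zero])
  let ZO : Over S := Over.mk (j ≫ G.hom)
  let jO : ZO ⟶ G := Over.homMk j rfl
  have : IsClosedImmersion jO.left := hj
  have hm : Mono jO := Over.mono_of_mono_left _
  have hpts : ∀ (T : Over S) (x : T ⟶ G), (∃ z : T ⟶ ZO, z ≫ jO = x) ↔ Centralises η' x := by
    intro T x
    have hP : Centralises η' x ↔ P T.left x.left := by
      constructor
      · intro h
        have := h.comp (Over.homMk (𝟙 T.left) (by simp) : Over.mk (x.left ≫ G.hom) ⟶ T)
        convert this using 1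
        exact Over.OverMorphism.ext (Category.id_comp _).symm
      · intro h
        have := h.comp (Over.homMk (𝟙 T.left) (by simp) : T ⟶ Over.mk (x.left ≫ G.hom))
        convert this using 1
        exact Over.OverMorphism.ext (Category.id_comp _).symm
    rw [hP, hZ]
    constructor
    · rintro ⟨z, rfl⟩; exact ⟨z.left, rfl⟩
    · rintro ⟨z, hz⟩
      refine ⟨Over.homMk z ?_, Over.OverMorphism.ext hz⟩
      show z ≫ j ≫ G.hom = T.hom
      rw [← Category.assoc, hz, Over.w x]
  have hone : ∀ T : Over S, Centralises η' (1 : T ⟶ G) := fun T T' k q => by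
    rw [MonObj.comp_one, _root_.one_mul, _root_.mul_one]
  obtain ⟨hgrp, hjm⟩ := exists_grpObj_mono jO (fun T => (hpts T 1).mpr (hone T))
    (fun T a b => (hpts T _).mpr fun T' k q => by
      have ha := (hpts T _).mp ⟨a, rfl⟩ T' k q
      have hb := (hpts T _).mp ⟨b, rfl⟩ T' k q
      rw [MonObj.comp_mul, _root_.mul_assoc, hb, ← _root_.mul_assoc, ha, _root_.mul_assoc])
    (fun T a => (hpts T _).mpr fun T' k q => by
      have ha := (hpts T _).mp ⟨a, rfl⟩ T' k q
      rw [GrpObj.comp_inv]
      exact (Commute.inv_left ha))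
  exact ⟨ZO, hgrp, jO, hjm, inferInstance, hm, hpts⟩

end Groth.Agent.RedPts82
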