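import Groth.Agent.Roots36.Form
import Mathlib.Algebra.Polynomial.Roots

/-!
Two roots whose sum is neither zero nor a root: no positive combination of them is a root, and there
is a regular functional positive on both.
-/

open Set Function RootPairing

namespace Groth.Agent.RedPts82

variable {idx M : Type} {N : Type} [AddCommGroup M] [AddCommGroup N] {P : RootPairing idx ℤ M N}
  [Fintype idx]

theorem rootForm_nonneg {a b : idx} (h0 : P.root a + P.root b ≠ 0)
    (hab : P.root a + P.root b ∉ range P.root) : 0 ≤ P.RootForm (P.root a) (P.root b) := by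
  have h : ¬ P.pairingIn ℤ a b < 0 := fun hlt =>
    hab (P.root_add_root_mem_of_pairingIn_neg hlt fun h => h0 (by rw [h, neg_add_cancel]))
  have h2 := Roots36.two_mul_bz (P := P) a b
  have h3 : 0 ≤ Roots36.bz P a b := by
    have := mul_nonneg (Roots36.len_pos' (P := P) b).le (not_lt.mp h)
    omega
  rw [← Roots36.cast_bz]
  exact_mod_cast h3

theorem rootForm_self_pos (a : idx) : 0 < P.RootForm (P.root a) (P.root a) := by
  rw [← Roots36.cast_len]
  exact_mod_cast Roots36.len_pos' (P := P) a

theorem comb_not_mem_range {a b : idx} (h0 : P.root a + P.root b ≠ 0)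
    (hab : P.root a + P.root b ∉ range P.root) : ∀ (i j : ℕ), 0 < i → 0 < j →
      i • P.root a + j • P.root b ∉ range P.root := by
  have hF := rootForm_nonneg h0 hab
  have key : ∀ n i j : ℕ, i + j = n → 0 < i → 0 < j →
      i • P.root a + j • P.root b ∉ range P.root := by
    intro n
    induction n using Nat.strong_induction_on with
    | _ n ih =>
      rintro i j rfl hi hj ⟨c, hc⟩
      have hpos : ∀ (p : idx) (x y : ℕ), (p = a ∨ p = b) → ((p = a → 0 < x) ∧ (p = b → 0 < y)) →
          0 < P.RootForm (x • P.root a + y • P.root b) (P.root p) := by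
        intro p x y hp hxy
        simp only [map_add, map_nsmul, LinearMap.add_apply, LinearMap.smul_apply, nsmul_eq_mul]
        rcases hp with rfl | rfl
        · have := mul_pos (show (0 : ℤ) < x by exact_mod_cast hxy.1 rfl) (rootForm_self_pos (P := P) p)
          have hs : P.RootForm (P.root b) (P.root p) = P.RootForm (P.root p) (P.root b) :=
            P.rootForm_symmetric.eq _ _
          have := mul_nonneg (show (0 : ℤ) ≤ y by omega) hF
          rw [hs]
          omega
        · have := mul_pos (show (0 : ℤ) < y by exact_mod_cast hxy.2 rfl) (rootForm_self_pos (P := P) p)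
          have := mul_nonneg (show (0 : ℤ) ≤ x by omega) hF
          omega
      have step : ∀ p : idx, (p = a ∨ p = b) → ∀ x y : ℕ,
          i • P.root a + j • P.root b = x • P.root a + y • P.root b + P.root p →
          ((0 < x ∨ 0 < y) ∧ ((p = a → 0 < y) ∧ (p = b → 0 < x))) → x + y < i + j → 0 < x → 0 < y →
          False := by
        intro p hp x y hxy _ hlt hx hy
        have h1 : 0 < P.RootForm (P.root c) (P.root p) := by
          rw [hc]
          exact hpos p i j hp ⟨fun _ => hi, fun _ => hj⟩
        have hne : c ≠ p := by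
          intro e
          have h2 := hpos p x y hp ⟨fun _ => hx, fun _ => hy⟩
          rw [e] at hc
          have : x • P.root a + y • P.root b = 0 := by
            rw [hxy, eq_comm] at hc
            simpa using hc
          rw [this] at h2
          simp at h2
        have h2 : 0 < P.pairingIn ℤ c p := by
          have h3 := Roots36.two_mul_bz (P := P) c p
          have h4 : 0 < Roots36.bz P c p := by
            rw [← Roots36.cast_bz] at h1
            exact_mod_cast h1
          by_contra hle
          have := mul_nonpos_of_nonneg_of_nonpos (Roots36.len_pos' (P := P) p).le (not_lt.mp hle)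
          omega
        obtain ⟨d, hd⟩ := P.root_sub_root_mem_of_pairingIn_pos h2 hne
        refine ih (x + y) hlt x y rfl hx hy ⟨d, ?_⟩
        rw [hd, hc, hxy, add_sub_cancel_right]
      rcases Nat.lt_or_ge 1 i with hi2 | hi1
      · refine step a (Or.inl rfl) (i - 1) j ?_ ⟨Or.inr hj, fun _ => hj, fun _ => by omega⟩
          (by omega) (by omega) hj
        rw [add_right_comm, ← succ_nsmul, Nat.sub_add_cancel hi]
      · obtain rfl : i = 1 := by omega
        rcases Nat.lt_or_ge 1 j with hj2 | hj1
        · refine step b (Or.inr rfl) 1 (j - 1) ?_ ⟨Or.inl hi, fun _ => by omega, fun _ => hi⟩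
            (by omega) hi (by omega)
          rw [add_assoc, ← succ_nsmul, Nat.sub_add_cancel hj]
        · obtain rfl : j = 1 := by omega
          exact hab ⟨c, by simpa using hc⟩
  exact fun i j => key (i + j) i j rfl

theorem exists_regular_functional [Module.Finite ℤ M] [Module.Free ℤ M] (μ : M →+ ℤ) :
    ∃ l : M →+ ℤ, (∀ c, l (P.root c) ≠ 0) ∧ (Function.Injective fun c => l (P.root c)) ∧
      ∀ c, 0 < μ (P.root c) → 0 < l (P.root c) := by
  classical
  let e := Module.finBasis ℤ M
  let g : M → Polynomial ℤ := fun m => ∑ k, Polynomial.C (e.repr m k) * Polynomial.X ^ (k : ℕ)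
  have hg : ∀ m, g m = 0 → m = 0 := fun m h => by
    apply e.repr.injective
    ext k
    have := congrArg (Polynomial.coeff · (k : ℕ)) h
    simp only [g, Polynomial.finsetSum_coeff, Polynomial.coeff_C_mul, Polynomial.coeff_X_pow,
      Polynomial.coeff_zero] at this
    rw [Finset.sum_eq_single k] at this
    · simpa using this
    · intro l _ hl
      rw [if_neg fun h => hl (Fin.ext h.symm), mul_zero]
    · exact fun h => absurd (Finset.mem_univ k) h
  let bad : Finset M := (Finset.univ.image P.root) ∪
    (Finset.univ.filter fun p : idx × idx => p.1 ≠ p.2).image fun p => P.root p.1 - P.root p.2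
  have hbad : ∀ m ∈ bad, m ≠ 0 := by
    intro m hm
    simp only [bad, Finset.mem_union, Finset.mem_image, Finset.mem_filter, Finset.mem_univ, true_and] at hm
    rcases hm with ⟨c, rfl⟩ | ⟨p, hp, rfl⟩
    · exact P.ne_zero c
    · exact sub_ne_zero.mpr fun h => hp (P.root.injective h)
  have hfin : (⋃ m ∈ bad, {B : ℤ | (g m).IsRoot B}).Finite :=
    Set.Finite.biUnion bad.finite_toSet fun m hm =>
      Polynomial.finite_setOf_isRoot fun h => hbad m hm (hg m h)
  obtain ⟨B, -, hB⟩ := (Set.infinite_univ (α := ℤ)).exists_notMem_finite hfin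
  let ε : M →+ ℤ :=
    { toFun := fun m => (g m).eval B
      map_zero' := by simp [g]
      map_add' := fun m m' => by simp [g, add_mul, Finset.sum_add_distrib] }
  have hε : ∀ m ∈ bad, ε m ≠ 0 := fun m hm h => hB (Set.mem_biUnion hm h)
  let K : ℤ := 2 * ∑ c, |ε (P.root c)| + 1
  have hb : ∀ c, |ε (P.root c)| ≤ ∑ c, |ε (P.root c)| := fun c =>
    Finset.single_le_sum (f := fun c => |ε (P.root c)|) (fun c _ => abs_nonneg _) (Finset.mem_univ c)
  refine ⟨K • μ + ε, fun c h => ?_, fun c c' h => ?_, fun c hc => ?_⟩
  · simp only [AddMonoidHom.add_apply, AddMonoidHom.smul_apply, smul_eq_mul] at h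
    have h1 := hb c
    have h2 : ε (P.root c) ≠ 0 := hε _ (Finset.mem_union_left _ (Finset.mem_image_of_mem _ (Finset.mem_univ _)))
    rcases abs_le.mp h1 with ⟨hl, hr⟩
    rcases lt_trichotomy (μ (P.root c)) 0 with hμ | hμ | hμ
    · have : K * μ (P.root c) ≤ K * (-1) := mul_le_mul_of_nonneg_left (by omega) (by omega)
      omega
    · rw [hμ] at h; omega
    · have : K * 1 ≤ K * μ (P.root c) := mul_le_mul_of_nonneg_left (by omega) (by omega)
      omega
  · by_contra hne
    simp only [AddMonoidHom.add_apply, AddMonoidHom.smul_apply, smul_eq_mul] at h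
    rcases abs_le.mp (hb c) with ⟨hl, hr⟩
    rcases abs_le.mp (hb c') with ⟨hl', hr'⟩
    have h2 : ε (P.root c - P.root c') ≠ 0 := hε _ (Finset.mem_union_right _
      (Finset.mem_image.mpr ⟨(c, c'), by simp [hne], rfl⟩))
    rw [map_sub] at h2
    rcases lt_trichotomy (μ (P.root c) - μ (P.root c')) 0 with hμ | hμ | hμ
    · have : K * (μ (P.root c) - μ (P.root c')) ≤ K * (-1) := mul_le_mul_of_nonneg_left (by omega) (by omega)
      rw [mul_sub] at this; omega
    · rw [sub_eq_zero.mp hμ] at h; omega
    · have : K * 1 ≤ K * (μ (P.root c) - μ (P.root c')) := mul_le_mul_of_nonneg_left (by omega) (by omega)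
      rw [mul_sub] at this; omega
  · simp only [AddMonoidHom.add_apply, AddMonoidHom.smul_apply, smul_eq_mul]
    have : K * 1 ≤ K * μ (P.root c) :=
      mul_le_mul_of_nonneg_left (by omega) (by have := hb c; have := abs_nonneg (ε (P.root c)); omega)
    rcases abs_le.mp (hb c) with ⟨hl, hr⟩
    omega

theorem exists_functional_pair [Module.Finite ℤ M] [Module.Free ℤ M] {a b : idx}
    (h0 : P.root a + P.root b ≠ 0) (hab : P.root a + P.root b ∉ range P.root) :
    ∃ l : M →+ ℤ, (∀ c, l (P.root c) ≠ 0) ∧ (Function.Injective fun c => l (P.root c)) ∧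
      0 < l (P.root a) ∧ 0 < l (P.root b) := by
  have hF := rootForm_nonneg h0 hab
  let μ : M →+ ℤ := (P.RootForm.flip (P.root a) + P.RootForm.flip (P.root b)).toAddMonoidHom
  obtain ⟨l, h1, h2, h3⟩ := exists_regular_functional (P := P) μ
  refine ⟨l, h1, h2, h3 a ?_, h3 b ?_⟩
  · have := rootForm_self_pos (P := P) a
    show 0 < P.RootForm (P.root a) (P.root a) + P.RootForm (P.root a) (P.root b)
    omega
  · have := rootForm_self_pos (P := P) b
    have hs : P.RootForm (P.root b) (P.root a) = P.RootForm (P.root a) (P.root b) :=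
      P.rootForm_symmetric.eq _ _
    show 0 < P.RootForm (P.root b) (P.root a) + P.RootForm (P.root b) (P.root b)
    omega

end Groth.Agent.RedPts82
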