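import Groth.Agent.RedPts82.ClosedProd

/-!
A function on a power of the additive group which is homogeneous for a diagonalisable group and vanishes on
the coordinate hyperplanes is zero unless its weight is a positive combination of the given weights.
-/

universe u

open CategoryTheory MonoidalCategory CartesianMonoidalCategory MonObj GrpObj AlgebraicGeometry
open CategoryTheory.Limits

namespace Groth.Agent.RedPts82

theorem coeff_scaleM {R A : Type u} [CommRing R] [CommRing A] {σ : Type} {M : Type} [AddCommMonoid M]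
    [DecidableEq M] (c : MvPolynomial σ R →+* A) (χ : σ → M) (q : MvPolynomial σ R) (g : M) :
    (MvPolynomial.eval₂ (MonoidAlgebra.singleOneRingHom.comp (c.comp MvPolynomial.C))
      (fun k => MonoidAlgebra.single (Multiplicative.ofAdd (χ k)) (c (MvPolynomial.X k))) q).coeff
        (Multiplicative.ofAdd g) = c (MvPolynomial.weightedHomogeneousComponent χ g q) := by
  classical
  induction q using MvPolynomial.induction_on' with
  | add p q hp hq =>
    simp only [MvPolynomial.eval₂_add, MonoidAlgebra.coeff_add, Finsupp.add_apply, hp, hq, map_add]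
  | monomial e a =>
    have hprod : ∀ f : σ →₀ ℕ, f.prod (fun k j =>
        (MonoidAlgebra.single (Multiplicative.ofAdd (χ k)) (c (MvPolynomial.X k))) ^ j) =
        MonoidAlgebra.single (Multiplicative.ofAdd (Finsupp.weight χ f)) (c (MvPolynomial.monomial f 1)) := by
      intro f
      induction f using Finsupp.induction with
      | zero => simp [MonoidAlgebra.one_def]
      | single_add k j f hk hj ih =>
        rw [Finsupp.prod_add_index' (fun _ => pow_zero _) (fun _ _ _ => pow_add _ _ _)]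
        simp only [pow_zero, Finsupp.prod_single_index]
        rw [ih, MonoidAlgebra.single_pow, MonoidAlgebra.single_mul_single]
        congr 1
        · apply Multiplicative.toAdd.injective
          simp [Finsupp.weight_single, map_add]
        · rw [← map_pow, ← map_mul, MvPolynomial.X_pow_eq_monomial, MvPolynomial.monomial_mul,
            _root_.one_mul]
    have hmon : MvPolynomial.eval₂ (MonoidAlgebra.singleOneRingHom.comp (c.comp MvPolynomial.C))
        (fun k => MonoidAlgebra.single (Multiplicative.ofAdd (χ k)) (c (MvPolynomial.X k)))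
        (MvPolynomial.monomial e a) =
        MonoidAlgebra.single (Multiplicative.ofAdd (Finsupp.weight χ e)) (c (MvPolynomial.monomial e a)) := by
      rw [MvPolynomial.eval₂_monomial, hprod e]
      show MonoidAlgebra.single (1 : Multiplicative M) (c (MvPolynomial.C a)) * _ = _
      rw [MonoidAlgebra.single_mul_single, _root_.one_mul, ← map_mul, MvPolynomial.C_mul_monomial,
        _root_.mul_one]
    rw [hmon, MonoidAlgebra.coeff_single, Finsupp.single_apply]
    by_cases h : Finsupp.weight χ e = g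
    · rw [if_pos (by rw [h])]
      congr 1
      ext e'
      rw [MvPolynomial.coeff_weightedHomogeneousComponent, MvPolynomial.coeff_monomial]
      by_cases he : e = e'
      · subst he; rw [if_pos rfl, if_pos h]
      · rw [if_neg he]; simp
    · rw [if_neg fun h' => h (Multiplicative.ofAdd.injective h')]
      symm
      rw [← map_zero c]
      congr 1
      ext e'
      rw [MvPolynomial.coeff_weightedHomogeneousComponent, MvPolynomial.coeff_monomial]
      by_cases he : e = e'
      · subst he; rw [if_neg h]; simp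
      · rw [if_neg he]; simp

variable {S : Scheme.{u}} {M : Type} [AddCommGroup M] {k : ℕ}

/-- A homogeneous function has only monomials of its weight. -/
theorem mvCoeff_eq_zero_of_weight (τ : RedSub.pow (Red.Ga S) k ⟶ Red.Ga S) (χ : Fin k → M) (γ : M)
    (hτ : ∀ (Z : Over S) (t : Z ⟶ Red.DS S M) (w w' : Z ⟶ RedSub.pow (Red.Ga S) k),
      (∀ l, Red.gaFn (w' ≫ powProj (Red.Ga S) k l) =
        dsFn t (χ l) * Red.gaFn (w ≫ powProj (Red.Ga S) k l)) →
      Red.gaFn (w' ≫ τ) = dsFn t γ * Red.gaFn (w ≫ τ))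
    (Y : Over S) [IsAffine Y.left] (p : MvPolynomial (Fin k) (Gam Y))
    (hp : mvCoordHom Y k p = Red.gaFn (mvTu Y k ≫ τ)) (e : Fin k →₀ ℕ)
    (hγ : Finsupp.weight χ e ≠ γ) : MvPolynomial.coeff e p = 0 := by
  classical
  let P := polyMv Y k
  obtain ⟨σ, hσ1, hσ2, hσ3⟩ := exists_mvLift (polyProj P M ≫ mvProj Y k) fun l =>
    gaPt (dsFn (polyTu P M) (χ l) * Red.gaFn (polyProj P M ≫ mvTu Y k ≫ powProj (Red.Ga S) k l))
  have h := hτ _ (polyTu P M) (polyProj P M ≫ mvTu Y k) (σ ≫ mvTu Y k) fun l => by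
    rw [Category.assoc, hσ2, gaFn_gaPt, Category.assoc]
  rw [Category.assoc, gaFn_comp, ← hp, hσ3, Category.assoc, gaFn_comp, ← hp, polyProj_appTop,
    dsFn_polyTu, ← map_mul, MonoidAlgebra.single_mul_single, _root_.mul_one, _root_.one_mul] at h
  have hr : evalMv (polyProj P M ≫ mvProj Y k) (fun l => gaPt (dsFn (polyTu P M) (χ l) *
      Red.gaFn (polyProj P M ≫ mvTu Y k ≫ powProj (Red.Ga S) k l))) p =
      polyCoord P M (MvPolynomial.eval₂
        (MonoidAlgebra.singleOneRingHom.comp ((mvCoordHom Y k).comp MvPolynomial.C))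
        (fun l => MonoidAlgebra.single (Multiplicative.ofAdd (χ l))
          (mvCoordHom Y k (MvPolynomial.X l))) p) := by
    refine DFunLike.congr_fun (f := evalMv (polyProj P M ≫ mvProj Y k) fun l =>
        gaPt (dsFn (polyTu P M) (χ l) *
          Red.gaFn (polyProj P M ≫ mvTu Y k ≫ powProj (Red.Ga S) k l)))
      (g := (polyCoord P M).comp (MvPolynomial.eval₂Hom
        (MonoidAlgebra.singleOneRingHom.comp ((mvCoordHom Y k).comp MvPolynomial.C))
        (fun l => MonoidAlgebra.single (Multiplicative.ofAdd (χ l))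
          (mvCoordHom Y k (MvPolynomial.X l))))) ?_ p
    refine MvPolynomial.ringHom_ext (fun a => ?_) fun l => ?_
    · rw [RingHom.comp_apply, MvPolynomial.eval₂Hom_C]
      refine (MvPolynomial.eval₂Hom_C _ _ a).trans ?_
      rw [Over.comp_left, Scheme.Hom.comp_appTop]
      show (polyProj P M).left.appTop ((mvProj Y k).left.appTop a) = _
      rw [mvProj_appTop, polyProj_appTop]
      rfl
    · rw [RingHom.comp_apply, MvPolynomial.eval₂Hom_X']
      refine (MvPolynomial.eval₂Hom_X' _ _ l).trans ?_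
      rw [gaFn_gaPt, dsFn_polyTu, gaFn_comp, gaFn_mvTu, polyProj_appTop, ← map_mul,
        MonoidAlgebra.single_mul_single, _root_.one_mul, _root_.mul_one]
  rw [hr] at h
  have h1 := congrArg (fun r => r.coeff (Multiplicative.ofAdd (Finsupp.weight χ e)))
    ((polyCoord_bijective P M).1 h)
  simp only [MonoidAlgebra.coeff_single] at h1
  rw [coeff_scaleM, Finsupp.single_eq_of_ne (fun he => hγ (Multiplicative.ofAdd.injective he))] at h1
  rw [← map_zero (mvCoordHom Y k)] at h1
  have := congrArg (MvPolynomial.coeff e) ((mvCoordHom_bijective Y k).1 h1)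
  rwa [MvPolynomial.coeff_weightedHomogeneousComponent, if_pos rfl, MvPolynomial.coeff_zero] at this

/-- A function vanishing where some of the coordinates vanish has no monomial free of them. -/
theorem coeff_eq_zero_of_van (τ : RedSub.pow (Red.Ga S) k ⟶ Red.Ga S) (L : Set (Fin k))
    (hvan : ∀ (Z : Over S) (w : Z ⟶ RedSub.pow (Red.Ga S) k),
      (∀ l ∈ L, Red.gaFn (w ≫ powProj (Red.Ga S) k l) = 0) → Red.gaFn (w ≫ τ) = 0)
    (Y : Over S) [IsAffine Y.left] (p : MvPolynomial (Fin k) (Gam Y))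
    (hp : mvCoordHom Y k p = Red.gaFn (mvTu Y k ≫ τ)) (e : Fin k →₀ ℕ)
    (hl : ∀ l ∈ L, e l = 0) : MvPolynomial.coeff e p = 0 := by
  classical
  obtain ⟨σ, hσ1, hσ2, hσ3⟩ := exists_mvLift (mvProj Y k) fun j =>
    if j ∈ L then gaPt 0 else mvTu Y k ≫ powProj (Red.Ga S) k j
  have h := hvan _ (σ ≫ mvTu Y k) fun l hl => by rw [Category.assoc, hσ2, if_pos hl, gaFn_gaPt]
  rw [Category.assoc, gaFn_comp, ← hp, hσ3] at h
  have hev : evalMv (mvProj Y k) (fun j => if j ∈ L then gaPt 0 else mvTu Y k ≫ powProj (Red.Ga S) k j) p =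
      mvCoordHom Y k (MvPolynomial.eval₂ MvPolynomial.C
        (fun j => if j ∈ L then 0 else MvPolynomial.X j) p) := by
    refine DFunLike.congr_fun (f := evalMv (mvProj Y k) fun j =>
        if j ∈ L then gaPt 0 else mvTu Y k ≫ powProj (Red.Ga S) k j)
      (g := (mvCoordHom Y k).comp (MvPolynomial.eval₂Hom MvPolynomial.C
        fun j => if j ∈ L then 0 else MvPolynomial.X j)) ?_ p
    refine MvPolynomial.ringHom_ext (fun a => ?_) fun j => ?_
    · rw [RingHom.comp_apply, MvPolynomial.eval₂Hom_C, ← mvProj_appTop]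
      exact MvPolynomial.eval₂Hom_C _ _ a
    · rw [RingHom.comp_apply, MvPolynomial.eval₂Hom_X']
      refine (MvPolynomial.eval₂Hom_X' _ _ j).trans ?_
      show Red.gaFn (if j ∈ L then gaPt 0 else mvTu Y k ≫ powProj (Red.Ga S) k j) = _
      split
      · rw [gaFn_gaPt, map_zero]
      · exact gaFn_mvTu Y k j
  rw [hev, ← map_zero (mvCoordHom Y k)] at h
  have h1 := congrArg (MvPolynomial.coeff e) ((mvCoordHom_bijective Y k).1 h)
  rw [MvPolynomial.coeff_zero] at h1
  rw [← h1]
  clear hp h1 h hev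
  induction p using MvPolynomial.induction_on' with
  | add p q hp hq => simp only [MvPolynomial.coeff_add, MvPolynomial.eval₂_add, hp, hq]
  | monomial f c =>
    rw [MvPolynomial.eval₂_monomial, MvPolynomial.coeff_monomial]
    by_cases hf : ∀ l ∈ L, f l = 0
    · have : (f.prod fun j i => (if j ∈ L then (0 : MvPolynomial (Fin k) (Gam Y)) else MvPolynomial.X j) ^ i) =
          MvPolynomial.monomial f 1 := by
        rw [MvPolynomial.monomial_eq, MvPolynomial.C_1, _root_.one_mul]
        refine Finsupp.prod_congr fun j hj => ?_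
        rw [if_neg fun hjL => Finsupp.mem_support_iff.mp hj (hf j hjL)]
      rw [this, MvPolynomial.C_mul_monomial, _root_.mul_one, MvPolynomial.coeff_monomial]
    · push Not at hf
      obtain ⟨l, hlL, hf⟩ := hf
      rw [if_neg, Finsupp.prod, Finset.prod_eq_zero (Finsupp.mem_support_iff.mpr hf),
        mul_zero, MvPolynomial.coeff_zero]
      · rw [if_pos hlL, zero_pow hf]
      · rintro rfl; exact hf (hl l hlL)

/-- Only monomials of the right weight with all exponents positive occur in `τ`. -/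
theorem coeff_eq_zero_of_weights (τ : RedSub.pow (Red.Ga S) k ⟶ Red.Ga S) (χ : Fin k → M) (γ : M)
    (hτ : ∀ (Z : Over S) (t : Z ⟶ Red.DS S M) (w w' : Z ⟶ RedSub.pow (Red.Ga S) k),
      (∀ l, Red.gaFn (w' ≫ powProj (Red.Ga S) k l) =
        dsFn t (χ l) * Red.gaFn (w ≫ powProj (Red.Ga S) k l)) →
      Red.gaFn (w' ≫ τ) = dsFn t γ * Red.gaFn (w ≫ τ))
    (hvan : ∀ (Z : Over S) (w : Z ⟶ RedSub.pow (Red.Ga S) k) (l : Fin k),
      Red.gaFn (w ≫ powProj (Red.Ga S) k l) = 0 → Red.gaFn (w ≫ τ) = 0)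
    (Y : Over S) [IsAffine Y.left] (p : MvPolynomial (Fin k) (Gam Y))
    (hp : mvCoordHom Y k p = Red.gaFn (mvTu Y k ≫ τ)) (e : Fin k →₀ ℕ)
    (hγ : (∀ l, 0 < e l) → Finsupp.weight χ e ≠ γ) : MvPolynomial.coeff e p = 0 := by
  by_cases hpos : ∀ l, 0 < e l
  · exact mvCoeff_eq_zero_of_weight τ χ γ hτ Y p hp e (hγ hpos)
  · push Not at hpos
    obtain ⟨l, hl⟩ := hpos
    refine coeff_eq_zero_of_van τ {l} (fun Z w h => hvan Z w l (h l rfl)) Y p hp e ?_
    rintro _ rfl
    omega

theorem eq_zero_of_weights (τ : RedSub.pow (Red.Ga S) k ⟶ Red.Ga S) (χ : Fin k → M) (γ : M)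
    (hτ : ∀ (Z : Over S) (t : Z ⟶ Red.DS S M) (w w' : Z ⟶ RedSub.pow (Red.Ga S) k),
      (∀ l, Red.gaFn (w' ≫ powProj (Red.Ga S) k l) =
        dsFn t (χ l) * Red.gaFn (w ≫ powProj (Red.Ga S) k l)) →
      Red.gaFn (w' ≫ τ) = dsFn t γ * Red.gaFn (w ≫ τ))
    (hvan : ∀ (Z : Over S) (w : Z ⟶ RedSub.pow (Red.Ga S) k) (l : Fin k),
      Red.gaFn (w ≫ powProj (Red.Ga S) k l) = 0 → Red.gaFn (w ≫ τ) = 0)
    (hγ : ∀ e : Fin k →₀ ℕ, (∀ l, 0 < e l) → Finsupp.weight χ e ≠ γ) :
    τ = gaPt 0 := by
  classical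
  refine hom_ext_affine fun Y hY w => gaFn_injective ?_
  rw [comp_gaPt, gaFn_gaPt, map_zero]
  obtain ⟨p, hp⟩ := (mvCoordHom_bijective Y k).2 (Red.gaFn (mvTu Y k ≫ τ))
  suffices hp0 : p = 0 by
    obtain ⟨v, hv1, hv2, -⟩ := exists_mvLift (𝟙 Y) fun l => w ≫ powProj (Red.Ga S) k l
    have e : v ≫ mvTu Y k = w := powProj_ext fun l => by rw [Category.assoc, hv2]
    rw [← e, Category.assoc, gaFn_comp, ← hp, hp0, map_zero, map_zero]
  ext e
  rw [MvPolynomial.coeff_zero]
  exact coeff_eq_zero_of_weights τ χ γ hτ hvan Y p hp e (hγ e)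

end Groth.Agent.RedPts82
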