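import Groth.Agent.RedPts82.SplitNorm
import Groth.Agent.RedPts82.WeightVanish
import Groth.Agent.RedPts82.RootPairComb

/-!
Root groups whose roots sum to neither zero nor a root commute.
-/

universe u

open CategoryTheory MonoidalCategory CartesianMonoidalCategory MonObj GrpObj AlgebraicGeometry
open CategoryTheory.Limits

namespace Groth.Agent.RedPts82

variable {S : Scheme.{u}} {G : Over S} [GrpObj G] (D : Red.SplitRed G)

theorem rootHom_gaPt_zero (a : D.idx) {X : Over S} : gaPt (X := X) 0 ≫ D.u a = 1 := by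
  have := (D.rootHom a).1
  rw [gaPt_zero]
  exact MonObj.one_comp _

/-- Two root groups commute if the sum of the roots is neither zero nor a root. -/
theorem root_comm (a b : D.idx) (h0 : D.P.root a + D.P.root b ≠ 0)
    (hab : D.P.root a + D.P.root b ∉ Set.range D.P.root) {X : Over S} (x y : X ⟶ Red.Ga S) :
    (x ≫ D.u a) * (y ≫ D.u b) = (y ≫ D.u b) * (x ≫ D.u a) := by
  classical
  obtain ⟨l, hne, hl, hla, hlb⟩ := exists_functional_pair h0 hab
  let ep : Fin (Fintype.card {c // 0 < l (D.P.root c)}) → D.idx := fun k =>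
    ((Fintype.equivFin {c // 0 < l (D.P.root c)}).symm k).1
  let en : Fin (Fintype.card {c // ¬ 0 < l (D.P.root c)}) → D.idx := fun k =>
    ((Fintype.equivFin {c // ¬ 0 < l (D.P.root c)}).symm k).1
  have hep : Function.Injective ep := Subtype.val_injective.comp (Equiv.injective _)
  have hen : Function.Injective en := Subtype.val_injective.comp (Equiv.injective _)
  have C := cellData_of_regular D l hl en ep hen hep
    (fun k => lt_of_le_of_ne (not_lt.mp ((Fintype.equivFin {c // ¬ 0 < l (D.P.root c)}).symm k).2) (hne _))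
    (fun k => ((Fintype.equivFin {c // 0 < l (D.P.root c)}).symm k).2)
  have : Mono (RedSub.cellMap D en ep) := C.mono_cell
  have : IsOpenImmersion (cellS D.i (fun k => D.u (en k)) fun k => D.u (ep k)).left :=
    cellMap_open_of_mono D en ep (by
      rw [Fintype.card_subtype_compl, Nat.sub_add_cancel (Fintype.card_subtype_le _)])
  have hν : IsMonHom (cochar D l) := by
    have := D.maximalTorus.1
    have : IsMonHom D.split.inv.hom.hom := D.split.inv.hom.isMonHom_hom
    unfold cochar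
    infer_instance
  let π := RedSub.prodMap (Red.Ga S) _ fun k => D.u (ep k)
  have : IsClosedImmersion π.left := C.pos.isClosedImmersion C.hG
  have : Mono π := Over.mono_of_mono_left _
  let P₀ := powProj (Red.Ga S) 2 0
  let P₁ := powProj (Red.Ga S) 2 1
  let c := (P₀ ≫ D.u a) * (P₁ ≫ D.u b) * (P₀ ≫ D.u a)⁻¹ * (P₁ ≫ D.u b)⁻¹
  have hcontr : ∀ (d : D.idx), 0 < l (D.P.root d) → ∀ {Z : Over S} (z : Z ⟶ Red.Ga S),
      Contr (cochar D l) (z ≫ D.u d) 1 := fun d hd Z z => by
    obtain ⟨k, hk⟩ : ∃ k, ep k = d :=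
      ⟨Fintype.equivFin {c // 0 < l (D.P.root c)} ⟨d, hd⟩, by simp [ep]⟩
    have := C.pos.contr_u k z
    rwa [hk] at this
  have hc : Contr (cochar D l) c 1 := by
    have := (((hcontr a hla P₀).mul (hcontr b hlb P₁)).mul (hcontr a hla P₀).inv).mul (hcontr b hlb P₁).inv
    simpa [c] using this
  obtain ⟨p, hp⟩ := C.exists_pos hν hc
  have hpt : ∀ {Z : Over S} (w : Z ⟶ RedSub.pow (Red.Ga S) 2), (w ≫ p) ≫ π =
      ((w ≫ P₀) ≫ D.u a) * ((w ≫ P₁) ≫ D.u b) * ((w ≫ P₀) ≫ D.u a)⁻¹ * ((w ≫ P₁) ≫ D.u b)⁻¹ := by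
    intro Z w
    rw [Category.assoc, hp]
    simp only [c, MonObj.comp_mul, GrpObj.comp_inv, Category.assoc]
  have hzero : ∀ k, p ≫ powProj (Red.Ga S) _ k = gaPt 0 := by
    intro k
    refine eq_zero_of_weights (p ≫ powProj (Red.Ga S) _ k) ![D.P.root a, D.P.root b]
      (D.P.root (ep k)) (fun Z t w w' hw => ?_) (fun Z w j hj => ?_) (fun e he heq => ?_)
    · have hw0 : w' ≫ P₀ = gaPt (dsFn t (D.P.root a) * Red.gaFn (w ≫ P₀)) :=
        gaFn_injective (by rw [gaFn_gaPt]; exact hw 0)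
      have hw1 : w' ≫ P₁ = gaPt (dsFn t (D.P.root b) * Red.gaFn (w ≫ P₁)) :=
        gaFn_injective (by rw [gaFn_gaPt]; exact hw 1)
      let w'' := powTuple fun k =>
        gaPt (dsFn t (D.P.root (ep k)) * Red.gaFn ((w ≫ p) ≫ powProj (Red.Ga S) _ k))
      have h1 : w'' ≫ π = (w' ≫ p) ≫ π := by
        have e : (t ≫ D.split.inv.hom.hom ≫ D.i) * ((w ≫ p) ≫ π) *
            (t ≫ D.split.inv.hom.hom ≫ D.i)⁻¹ = w'' ≫ π := by
          simp only [π, prodMap_pt, conj_list_prod, w'', powTuple_proj, splitRed_conj]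
        rw [← e, hpt, hpt, hw0, hw1, ← splitRed_conj D a t (w ≫ P₀), ← splitRed_conj D b t (w ≫ P₁)]
        group
      have h2 := congrArg (fun q => Red.gaFn (q ≫ powProj (Red.Ga S) _ k)) ((cancel_mono π).mp h1)
      simp only [w'', powTuple_proj, gaFn_gaPt, Category.assoc] at h2
      exact h2.symm
    · have hw : w ≫ powProj (Red.Ga S) 2 j = gaPt 0 := gaFn_injective (by rw [hj, gaFn_gaPt])
      have h1 : (w ≫ p) ≫ π = 1 := by
        rw [hpt]
        fin_cases j
        · rw [show w ≫ P₀ = gaPt 0 from hw, rootHom_gaPt_zero]; group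
        · rw [show w ≫ P₁ = gaPt 0 from hw, rootHom_gaPt_zero]; group
      have h2 : w ≫ p = powTuple fun _ => gaPt 0 := by
        refine (cancel_mono π).mp (h1.trans ?_)
        symm
        rw [prodMap_pt, List.prod_eq_one]
        intro g hg
        obtain ⟨k, rfl⟩ := (List.mem_ofFn' _ _).mp hg
        simp only [powTuple_proj, rootHom_gaPt_zero]
      rw [← Category.assoc, h2, powTuple_proj, gaFn_gaPt]
    · refine comb_not_mem_range h0 hab (e 0) (e 1) (he 0) (he 1) ⟨ep k, ?_⟩
      rw [← heq, Finsupp.weight_apply, Finsupp.sum_fintype, Fin.sum_univ_two]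
      · simp
      · simp
  let w : X ⟶ RedSub.pow (Red.Ga S) 2 := powTuple ![x, y]
  have h := hpt w
  have hw : (w ≫ p) = powTuple fun _ => gaPt 0 := powProj_ext fun k => by
    rw [Category.assoc, hzero, comp_gaPt, map_zero, powTuple_proj]
  rw [hw, prodMap_pt, List.prod_eq_one] at h
  · have h0' : w ≫ P₀ = x := powTuple_proj _ _
    have h1' : w ≫ P₁ = y := powTuple_proj _ _
    rw [h0', h1'] at h
    calc (x ≫ D.u a) * (y ≫ D.u b) = (x ≫ D.u a) * (y ≫ D.u b) * (x ≫ D.u a)⁻¹ * (y ≫ D.u b)⁻¹ *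
          ((y ≫ D.u b) * (x ≫ D.u a)) := by group
      _ = _ := by rw [← h, _root_.one_mul]
  · intro g hg
    obtain ⟨k, rfl⟩ := (List.mem_ofFn' _ _).mp hg
    simp only [powTuple_proj, rootHom_gaPt_zero]

end Groth.Agent.RedPts82
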