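import Groth.Agent.RedPts82.DSHomClopen

/-!
The loci where a homomorphism between groups of multiplicative type is a monomorphism, faithfully
flat, or an isomorphism.
-/

universe u

open CategoryTheory MonoidalCategory CartesianMonoidalCategory MonObj GrpObj AlgebraicGeometry
open CategoryTheory.Limits

namespace Groth.Agent.RedPts82

variable {S : Scheme.{u}} {W : Scheme.{u}} {M N : Type} [AddCommGroup M] [AddCommGroup N]

theorem comp_DSmap_DSmap {L : Type} [AddCommGroup L] (φ : N →+ M) (ψ : L →+ N) :
    Red.DSmap W φ ≫ Red.DSmap W ψ = Red.DSmap W (φ.comp ψ) :=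
  dsFn_injective fun l => by
    rw [← Category.id_comp (Red.DSmap W φ), ← Category.id_comp (Red.DSmap W (φ.comp ψ)),
      dsFn_DSmap, dsFn_DSmap, dsFn_DSmap]
    rfl

theorem isIso_DSmap_of_bijective (φ : N →+ M) (hφ : Function.Bijective φ) :
    IsIso (Red.DSmap W φ).left := by
  let e := AddEquiv.ofBijective φ hφ
  haveI : IsIso (Red.DSmap W φ) := ⟨Red.DSmap W e.symm.toAddMonoidHom, by
    rw [comp_DSmap_DSmap, show φ.comp e.symm.toAddMonoidHom = AddMonoidHom.id M from
      AddMonoidHom.ext e.apply_symm_apply]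
    exact dsFn_injective fun m => by rw [← Category.id_comp (Red.DSmap W _), dsFn_DSmap]; rfl, by
    rw [comp_DSmap_DSmap, show e.symm.toAddMonoidHom.comp φ = AddMonoidHom.id N from
      AddMonoidHom.ext e.symm_apply_apply]
    exact dsFn_injective fun m => by rw [← Category.id_comp (Red.DSmap W _), dsFn_DSmap]; rfl⟩
  exact inferInstanceAs (IsIso ((Over.forget W).map (Red.DSmap W φ)))

theorem isClosedImmersion_DSmap (φ : N →+ M) (hφ : Function.Surjective φ) :
    IsClosedImmersion (Red.DSmap W φ).left := by
  have h : IsClosedImmersion (Spec.map (CommRingCat.ofHom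
      (MonoidAlgebra.mapDomainAlgHom ZU.{u} ZU.{u} (AddMonoidHom.toMultiplicative φ)).toRingHom)) :=
    IsClosedImmersion.spec_of_surjective _ (fun x => by
      induction x using MonoidAlgebra.induction_linear with
      | zero => exact ⟨0, map_zero _⟩
      | add a b ha hb => exact ⟨ha.choose + hb.choose, by rw [map_add, ha.choose_spec, hb.choose_spec]⟩
      | single g r =>
        obtain ⟨g', rfl⟩ : ∃ g', AddMonoidHom.toMultiplicative φ g' = g := hφ g
        exact ⟨MonoidAlgebra.single g' r, MonoidAlgebra.mapDomain_single⟩)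
  exact MorphismProperty.overPullbackMap (P := @IsClosedImmersion) _ _ h

/-- The universal point of a diagonalisable group over a residue field, for a character of the
group. -/
theorem exists_char_pt (w : W) {L : Type} [AddCommGroup L] (ν : M →+ L) :
    ∃ (Z : Over W) (_ : Z ⟶ Over.mk (W.fromSpecResidueField w))
      (τ : MonoidAlgebra (W.residueField w) (Multiplicative L) ≃+* Γ(Z.left, ⊤))
      (t : Z ⟶ Red.DS W M),
      ∀ m, dsFn t m = τ (MonoidAlgebra.single (Multiplicative.ofAdd (ν m)) 1) := by
  let B := MonoidAlgebra (W.residueField w) (Multiplicative L)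
  let γ : Spec (CommRingCat.of B) ⟶ Spec (W.residueField w) :=
    Spec.map (CommRingCat.ofHom MonoidAlgebra.singleOneRingHom)
  let Z : Over W := Over.mk (γ ≫ W.fromSpecResidueField w)
  let τ := (Scheme.ΓSpecIso (CommRingCat.of B)).commRingCatIsoToRingEquiv.symm
  obtain ⟨t, ht⟩ := dsFn_surjective (S := W) (M := M) (X := Z)
    (τ.toMonoidHom.comp ((MonoidAlgebra.of _ _).comp (AddMonoidHom.toMultiplicative ν)))
  exact ⟨Z, Over.homMk γ rfl, τ, t, ht⟩

theorem surjective_of_mono_fibre (φ : N →+ M) (w : W) [IsMonHom (Red.DSmap W φ)]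
    (h : Mono ((Over.pullback (W.fromSpecResidueField w)).map (Red.DSmap W φ)).left) :
    Function.Surjective φ := by
  rw [mono_iff_kerTriv] at h
  obtain ⟨Z, p, τ, t, ht⟩ := exists_char_pt w (QuotientAddGroup.mk' φ.range)
  have h1 : t = 1 := h Z p t (dsFn_injective fun n => by
    rw [dsFn_DSmap, dsFn_one, ht, QuotientAddGroup.mk'_apply,
      (QuotientAddGroup.eq_zero_iff _).mpr (⟨n, rfl⟩ : φ n ∈ φ.range), ofAdd_zero,
      ← MonoidAlgebra.one_def, map_one])
  intro m
  have h2 := ht m
  rw [h1, dsFn_one, ← map_one τ, MonoidAlgebra.one_def] at h2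
  rcases MonoidAlgebra.single_inj.mp (τ.injective h2) with ⟨h3, -⟩ | ⟨h3, -⟩
  · exact (QuotientAddGroup.eq_zero_iff m).mp (Multiplicative.ofAdd.injective h3.symm)
  · exact absurd h3 one_ne_zero

theorem injective_of_flat_surjective_fibre (φ : N →+ M) (w : W)
    (hf : Flat ((Over.pullback (W.fromSpecResidueField w)).map (Red.DSmap W φ)).left)
    (hs : Surjective ((Over.pullback (W.fromSpecResidueField w)).map (Red.DSmap W φ)).left) :
    Function.Injective φ := by
  refine (injective_iff_map_eq_zero φ).mpr fun n hn => ?_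
  let g := W.fromSpecResidueField w
  let v := (Over.pullback g).map (Red.DSmap W φ)
  obtain ⟨Z, p, τ, t, ht⟩ := exists_char_pt w (AddMonoidHom.id N)
  obtain ⟨α, -⟩ := exists_over_iso g p.left (Over.w p)
  let t' := ofBase g (α.hom ≫ t)
  let E : Over (Spec (W.residueField w)) := Over.mk (pullback.fst t'.left v.left ≫ p.left)
  let e : E ⟶ Over.mk p.left := Over.homMk (pullback.fst t'.left v.left) rfl
  haveI := hf
  haveI := hs
  haveI : Epi e.left := Flat.epi_of_flat_of_surjective (pullback.fst t'.left v.left)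
  haveI : Epi ((Over.map g).map e) :=
    (Over.forget W).epi_of_epi_map (f := (Over.map g).map e) ‹_›
  let s : E ⟶ Red.bc g (Red.DS W M) := Over.homMk (pullback.snd t'.left v.left) (by
    show _ = pullback.fst t'.left v.left ≫ p.left
    rw [← Over.w v, ← pullback.condition_assoc, Over.w t']
    rfl)
  have hsq : s ≫ v = e ≫ t' := Over.OverMorphism.ext pullback.condition.symm
  have h1 : dsFn t n = 1 := by
    have key : ((Over.map g).map e) ≫ α.hom ≫ t ≫ Red.chi W n =
        ((Over.map g).map e) ≫ 1 := by
      have h2 := congrArg (toBase g) hsq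
      rw [toBase_comp_map, toBase_comp, toBase_ofBase] at h2
      rw [MonObj.comp_one, ← reassoc_of% h2, Red.chi, comp_DSmap_DSmap]
      refine dsFn_injective fun k => ?_
      rw [dsFn_DSmap, dsFn_one]
      show dsFn _ (φ ((zmultiplesHom N n) k)) = 1
      rw [zmultiplesHom_apply, map_zsmul, hn, smul_zero, dsFn_zero]
    rw [cancel_epi, ← MonObj.comp_one α.hom, cancel_epi] at key
    have := congrArg (fun k => dsFn k (1 : ℤ)) key
    simpa only [dsFn_one, Red.chi, dsFn_DSmap, zmultiplesHom_apply, one_smul] using this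
  rw [ht] at h1
  have h2 : MonoidAlgebra.single (Multiplicative.ofAdd n) (1 : W.residueField w) =
      MonoidAlgebra.single 1 1 := by
    rw [← MonoidAlgebra.one_def]
    apply τ.injective
    rw [map_one]
    exact h1
  rcases MonoidAlgebra.single_inj.mp h2 with ⟨h3, -⟩ | ⟨h3, -⟩
  · exact Multiplicative.ofAdd.injective h3
  · exact absurd h3 one_ne_zero

/-- Flat and surjective. -/
abbrev ffProp : MorphismProperty Scheme.{u} :=
  (@Flat : MorphismProperty Scheme.{u}) ⊓ (@Surjective : MorphismProperty Scheme.{u})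

variable {G H : Over S} [GrpObj G] [GrpObj H]

theorem exists_ff_locus (hG : IsMultType G) (hH : SGA3x.IsMultTypeFT H) (u : G ⟶ H) [IsMonHom u] :
    ∃ U : S.Opens, IsClosed (U : Set S) ∧
      (∀ s : S, s ∈ U ↔ ffProp ((Over.pullback (S.fromSpecResidueField s)).map u).left) ∧
      ffProp ((Over.pullback U.ι).map u).left := by
  haveI := flat_descends_fpqc.{u}
  haveI : MorphismProperty.DescendsAlong (@Surjective : MorphismProperty Scheme.{u})
      Unr55.fpqc.{u} := by unfold Unr55.fpqc; infer_instance
  exact exists_clopen_locus ffProp (fun W M N _ _ φ w h =>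
    DSmap_flat_surjective φ (injective_of_flat_surjective_fibre φ w h.1 h.2)) hG hH u

theorem isMultType_of_ft (hG : SGA3x.IsMultTypeFT G) : IsMultType G :=
  isMultType_of_isMultTypeFT hG

theorem exists_iso_locus (hG : SGA3x.IsMultTypeFT G) (hH : SGA3x.IsMultTypeFT H) (u : G ⟶ H)
    [IsMonHom u] : ∃ U : S.Opens, IsClosed (U : Set S) ∧
      (∀ s : S, s ∈ U ↔ IsIso ((Over.pullback (S.fromSpecResidueField s)).map u).left) ∧
      IsIso ((Over.pullback U.ι).map u).left := by
  haveI : MorphismProperty.DescendsAlong (MorphismProperty.isomorphisms Scheme.{u})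
      Unr55.fpqc.{u} := by unfold Unr55.fpqc; infer_instance
  exact exists_clopen_locus (MorphismProperty.isomorphisms Scheme.{u}) (fun W M N _ _ φ w h => by
    haveI : IsIso ((Over.pullback (W.fromSpecResidueField w)).map (Red.DSmap W φ)).left := h
    exact isIso_DSmap_of_bijective φ ⟨injective_of_flat_surjective_fibre φ w inferInstance
      inferInstance, surjective_of_mono_fibre φ w inferInstance⟩) (isMultType_of_ft hG) hH u

theorem exists_closedImmersion_locus (hG : SGA3x.IsMultTypeFT G) (hH : SGA3x.IsMultTypeFT H)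
    (u : G ⟶ H) [IsMonHom u] : ∃ U : S.Opens, IsClosed (U : Set S) ∧
      (∀ s : S, s ∈ U ↔ Mono ((Over.pullback (S.fromSpecResidueField s)).map u).left) ∧
      Mono ((Over.pullback U.ι).map u).left := by
  haveI := Unr55.isClosedImmersion.{u}
  obtain ⟨U, hc, hU, hmU⟩ := exists_clopen_locus (@IsClosedImmersion) (fun W M N _ _ φ w h => by
    haveI : IsClosedImmersion
        ((Over.pullback (W.fromSpecResidueField w)).map (Red.DSmap W φ)).left := h
    exact isClosedImmersion_DSmap φ (surjective_of_mono_fibre φ w inferInstance))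
    (isMultType_of_ft hG) hH u
  refine ⟨U, hc, fun s => (hU s).trans ⟨fun h => inferInstance, fun h => ?_⟩, inferInstance⟩
  haveI := isMultTypeFT_isAffineHom (isMultTypeFT_bc (S.fromSpecResidueField s) hH)
  haveI : Mono ((Over.pullback (S.fromSpecResidueField s)).map u) := Over.mono_of_mono_left _
  exact isClosedImmersion_of_mono (isMultType_of_ft (isMultTypeFT_bc _ hG)) _

end Groth.Agent.RedPts82
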