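import Groth.Agent.RedPts82.ImageLoc
import Groth.Agent.RedPts82.DSHomLoc
import Groth.Agent.RedPts82.MultLoci
import Groth.Agent.RedPts82.Comm

/-!
Split and locally split subtori of groups of multiplicative type.
-/

universe u

open CategoryTheory MonoidalCategory CartesianMonoidalCategory MonObj GrpObj AlgebraicGeometry
open CategoryTheory.Limits

namespace Groth.Agent.RedPts82

variable {S : Scheme.{u}}

/-- The group is, Zariski-locally, a split torus. -/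
abbrev LocSplit (E : Over S) [GrpObj E] : Prop :=
  ∀ s : ↥S, ∃ U : S.Opens, s ∈ U ∧ ∃ r : ℕ, Red.IsSplitTorusWith (Fin r → ℤ) (Red.bc U.ι E)

/-- Diagonalisable groups of isomorphic character groups are isomorphic. -/
theorem grpIso_DS_of_addEquiv {W : Scheme.{u}} {M N : Type} [AddCommGroup M] [AddCommGroup N] (b : M ≃+ N) :
    Nonempty (Grp.mk (Red.DS W M) ≅ Grp.mk (Red.DS W N)) := by
  let p := Red.DSmap W b.symm.toAddMonoidHom
  haveI : IsMonHom p := isMonHom_DSmap _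
  haveI : IsIso p.left := isIso_DSmap_of_bijective _ b.symm.bijective
  haveI : IsIso p := (CategoryTheory.isIso_iff_of_reflects_iso p (Over.forget W)).mp ‹_›
  exact ⟨Grp.mkIso' (asIso p)⟩

theorem split_bc {M : Type} [AddCommGroup M] {E : Over S} [GrpObj E] {T W : Scheme.{u}} (φ : T ⟶ S)
    (ψ : W ⟶ T) (h : Red.IsSplitTorusWith M (Red.bc φ E)) :
    Red.IsSplitTorusWith M (Red.bc (ψ ≫ φ) E) := by
  obtain ⟨c, -, hc⟩ := exists_bc_comp_iso φ ψ
  haveI := (hc E).1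
  obtain ⟨e⟩ := grpIso_bc_DS ψ M
  exact ⟨Grp.mkIso' (c E) ≪≫ (Over.pullback ψ).mapGrp.mapIso h.some ≪≫ e⟩

theorem split_self {M : Type} [AddCommGroup M] {E : Over S} [GrpObj E]
    (h : Red.IsSplitTorusWith M (Red.bc (𝟙 S) E)) : Red.IsSplitTorusWith M E := by
  let e : E ⟶ Red.bc (𝟙 S) E := ofBase (𝟙 S) (Over.homMk (𝟙 E.left) (by simp))
  have he : ∀ (Z : Over S) (x : Z ⟶ E), toBase (𝟙 S) (x ≫ e) =
      (Over.homMk (𝟙 Z.left) (by simp) : (Over.map (𝟙 S)).obj Z ⟶ Z) ≫ x := fun Z x => by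
    rw [toBase_comp, toBase_ofBase]
    exact Over.OverMorphism.ext ((Category.comp_id _).trans (Category.id_comp _).symm)
  haveI : IsMonHom e := isMonHom_of_points _ fun Z x y => toBase_injective (𝟙 S) (by
    rw [toBase_mul, he, he, he, MonObj.comp_mul])
  haveI : IsIso e.left := ⟨pullback.fst _ _, by
    have h1 := congrArg Over.Hom.left (he E (𝟙 E))
    rw [Category.id_comp, toBase_left] at h1
    exact h1.trans (Category.comp_id _), pullback.hom_ext (by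
    have h1 := congrArg Over.Hom.left (he E (𝟙 E))
    rw [Category.id_comp, toBase_left] at h1
    rw [Category.assoc, Category.id_comp, h1]
    exact Category.comp_id _) (by
    rw [Category.assoc, Category.id_comp, show e.left ≫ pullback.snd E.hom (𝟙 S) = E.hom from Over.w e,
      pullback.condition, Category.comp_id])⟩
  haveI : IsIso e := (CategoryTheory.isIso_iff_of_reflects_iso e (Over.forget S)).mp ‹_›
  exact ⟨Grp.mkIso' (asIso e) ≪≫ h.some⟩

theorem bc_split {M : Type} [AddCommGroup M] {E : Over S} [GrpObj E] {T : Scheme.{u}} (φ : T ⟶ S)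
    (h : Red.IsSplitTorusWith M E) : Red.IsSplitTorusWith M (Red.bc φ E) := by
  obtain ⟨e⟩ := grpIso_bc_DS φ M
  exact ⟨(Over.pullback φ).mapGrp.mapIso h.some ≪≫ e⟩

theorem split_of_top {M : Type} [AddCommGroup M] {E : Over S} [GrpObj E]
    (h : Red.IsSplitTorusWith M (Red.bc (⊤ : S.Opens).ι E)) : Red.IsSplitTorusWith M E := by
  have h1 := split_bc (⊤ : S.Opens).ι S.topIso.inv h
  rw [show S.topIso.inv ≫ (⊤ : S.Opens).ι = 𝟙 S from S.topIso.inv_hom_id] at h1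
  exact split_self h1

theorem isMultTypeFT_of_locSplit {E : Over S} [GrpObj E] (h : LocSplit E) : SGA3x.IsMultTypeFT E :=
  ⟨S, 𝟙 S, inferInstance, inferInstance, fun V hV => ⟨V, hV.isCompact, by simp⟩, fun s => by
    obtain ⟨U, hU, r, hr⟩ := h s
    exact ⟨U, hU, Fin r → ℤ, inferInstance, inferInstance, by rw [Category.comp_id]; exact hr⟩⟩

theorem isMultTypeFT_of_isTorus {E : Over S} [GrpObj E] (h : Red.IsTorus E) : SGA3x.IsMultTypeFT E := by
  obtain ⟨S', f, hf, hs, hqc, hloc⟩ := h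
  exact ⟨S', f, hf, hs, hqc, fun s' => by
    obtain ⟨U, hU, r, hr⟩ := hloc s'
    exact ⟨U, hU, Fin r → ℤ, inferInstance, inferInstance, hr⟩⟩

theorem locSplit_of_split {M : Type} [AddCommGroup M] {E : Over S} [GrpObj E] {r : ℕ}
    (h : Red.IsSplitTorusWith (Fin r → ℤ) E) : LocSplit E :=
  fun _ => ⟨⊤, trivial, r, bc_split _ h⟩

theorem split_residue {E : Over S} [GrpObj E] (h : LocSplit E) (s : S) :
    ∃ r : ℕ, Red.IsSplitTorusWith (Fin r → ℤ) (Red.bc (S.fromSpecResidueField s) E) := by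
  obtain ⟨U, hU, r, hr⟩ := h s
  have hrg : Set.range (S.fromSpecResidueField s) ⊆ Set.range U.ι := by
    rw [Scheme.range_fromSpecResidueField, Scheme.Opens.range_ι]
    simpa using hU
  refine ⟨r, ?_⟩
  rw [← IsOpenImmersion.lift_fac U.ι (S.fromSpecResidueField s) hrg]
  exact split_bc _ _ hr

/-- A monomorphism of split tori over a field. -/
theorem rank_le_of_mono {W : Scheme.{u}} [IsAffine W] [Subsingleton W] (w : W) {E E' : Over W} [GrpObj E]
    [GrpObj E'] {r r' : ℕ} (h : Red.IsSplitTorusWith (Fin r → ℤ) E)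
    (h' : Red.IsSplitTorusWith (Fin r' → ℤ) E') (g : E ⟶ E') [IsMonHom g] [Mono g] :
    r ≤ r' ∧ (r = r' → IsIso g) := by
  obtain ⟨e⟩ := h
  obtain ⟨e'⟩ := h'
  haveI : IsMonHom e.inv.hom.hom := e.inv.hom.isMonHom_hom
  haveI : IsMonHom e'.hom.hom.hom := e'.hom.hom.isMonHom_hom
  haveI : IsIso e.inv.hom.hom := ((Grp.forget _).mapIso e).isIso_inv
  haveI : IsIso e'.hom.hom.hom := ((Grp.forget _).mapIso e').isIso_hom
  let q : Red.DS W (Fin r → ℤ) ⟶ Red.DS W (Fin r' → ℤ) := e.inv.hom.hom ≫ g ≫ e'.hom.hom.hom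
  obtain ⟨D, φ, hwD, hD⟩ := exists_ds_hom_loc (M := Fin r → ℤ) (N := Fin r' → ℤ) inferInstance q
    w
  have hall : ∀ x : W, x ∈ D := fun x => Subsingleton.elim w x ▸ hwD
  have hq : q = Red.DSmap W φ := by
    simpa using hD _ (fun x => hall _) (𝟙 (Red.DS W (Fin r → ℤ)))
  haveI : Mono (Red.DSmap W φ) := hq ▸ inferInstance
  haveI : IsMonHom (Red.DSmap W φ) := isMonHom_DSmap φ
  have hsur : Function.Surjective φ := surjective_of_mono_fibre (W := W) φ w
    (inferInstanceAs (Mono ((Over.forget _).map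
      ((Over.pullback (W.fromSpecResidueField w)).map (Red.DSmap W φ)))))
  refine ⟨le_of_fin_surjective ℤ φ.toIntLinearMap hsur, ?_⟩
  rintro rfl
  haveI : IsIso (Red.DSmap W φ).left := isIso_DSmap_of_bijective φ
    ⟨OrzechProperty.injective_of_surjective_endomorphism φ.toIntLinearMap hsur, hsur⟩
  haveI : IsIso q := by
    rw [hq]
    exact (CategoryTheory.isIso_iff_of_reflects_iso _ (Over.forget W)).mp ‹_›
  haveI : IsIso (g ≫ e'.hom.hom.hom) := IsIso.of_isIso_comp_left e.inv.hom.hom _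
  exact IsIso.of_isIso_comp_right g e'.hom.hom.hom

/-- A homomorphism of groups of multiplicative type which is an isomorphism on all fibres. -/
theorem isIso_of_fibres {E E' : Over S} [GrpObj E] [GrpObj E'] (hE : SGA3x.IsMultTypeFT E)
    (hE' : SGA3x.IsMultTypeFT E') (g : E ⟶ E') [IsMonHom g]
    (h : ∀ s : S, IsIso ((Over.pullback (S.fromSpecResidueField s)).map g).left) : IsIso g := by
  obtain ⟨U, -, hU, hiso⟩ := exists_iso_locus hE hE' g
  have hU' : U = ⊤ := top_le_iff.mp fun s _ => (hU s).mpr (h s)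
  haveI : MorphismProperty.DescendsAlong (MorphismProperty.isomorphisms Scheme.{u})
      Unr55.fpqc.{u} := by unfold Unr55.fpqc; infer_instance
  haveI : IsIso g.left := map_prop_of_fpqc_cover (MorphismProperty.isomorphisms Scheme.{u}) g (𝟙 S)
    (fun V hV => ⟨V, hV.isCompact, by simp⟩) fun s => ⟨⊤, trivial, by
      rw [Category.comp_id, ← hU']; exact hiso⟩
  exact (CategoryTheory.isIso_iff_of_reflects_iso g (Over.forget S)).mp ‹_›

/-- A homomorphism between locally split tori which is an isomorphism at one point is one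
everywhere, over a connected base. -/
theorem isIso_of_fibre_connected [PreconnectedSpace S] {E E' : Over S} [GrpObj E] [GrpObj E']
    (hE : SGA3x.IsMultTypeFT E) (hE' : SGA3x.IsMultTypeFT E') (g : E ⟶ E') [IsMonHom g] (s : S)
    (h : IsIso ((Over.pullback (S.fromSpecResidueField s)).map g).left) : IsIso g := by
  obtain ⟨U, hUc, hU, -⟩ := exists_iso_locus hE hE' g
  refine isIso_of_fibres hE hE' g fun t => (hU t).mp ?_
  have := (isClopen_iff.mp (⟨hUc, U.2⟩ : IsClopen (U : Set S))).resolve_left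
    (Set.nonempty_iff_ne_empty.mp ⟨s, (hU s).mpr h⟩)
  exact this.ge (Set.mem_univ t)

theorem fibre_rank_le {E E' : Over S} [GrpObj E] [GrpObj E'] (g : E ⟶ E') [IsMonHom g] [Mono g] (s : S)
    {r r' : ℕ} (h : Red.IsSplitTorusWith (Fin r → ℤ) (Red.bc (S.fromSpecResidueField s) E))
    (h' : Red.IsSplitTorusWith (Fin r' → ℤ) (Red.bc (S.fromSpecResidueField s) E')) :
    r ≤ r' ∧ (r = r' → IsIso ((Over.pullback (S.fromSpecResidueField s)).map g).left) := by
  obtain ⟨h1, h2⟩ := rank_le_of_mono (IsLocalRing.closedPoint (S.residueField s)) h h'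
    ((Over.pullback (S.fromSpecResidueField s)).map g)
  exact ⟨h1, fun e => haveI := h2 e; inferInstanceAs (IsIso ((Over.forget _).map
    ((Over.pullback (S.fromSpecResidueField s)).map g)))⟩

theorem rank_unique {E : Over S} [GrpObj E] (s : S) {r r' : ℕ}
    (h : Red.IsSplitTorusWith (Fin r → ℤ) (Red.bc (S.fromSpecResidueField s) E))
    (h' : Red.IsSplitTorusWith (Fin r' → ℤ) (Red.bc (S.fromSpecResidueField s) E)) : r = r' :=
  le_antisymm (fibre_rank_le (𝟙 E) s h h').1 (fibre_rank_le (𝟙 E) s h' h).1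

section Join

variable {G : Over S} [GrpObj G] (hG : SGA3x.IsMultTypeFT G) {E₁ E₂ : Over S} [GrpObj E₁] [GrpObj E₂]
  (j₁ : E₁ ⟶ G) [IsMonHom j₁] (j₂ : E₂ ⟶ G) [IsMonHom j₂]

/-- A product of two diagonalisable groups. -/
theorem exists_prod_chart {U : Scheme.{u}} (φ : U ⟶ S) {M₁ M₂ : Type} [AddCommGroup M₁] [AddCommGroup M₂]
    (h₁ : Red.IsSplitTorusWith M₁ (Red.bc φ E₁)) (h₂ : Red.IsSplitTorusWith M₂ (Red.bc φ E₂)) :
    Red.IsSplitTorusWith (M₁ × M₂) (Red.bc φ (E₁ ⊗ E₂)) := by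
  obtain ⟨e₁⟩ := h₁
  obtain ⟨e₂⟩ := h₂
  let D := Red.DS U (M₁ × M₂)
  let a₁ := e₁.inv.hom.hom
  let a₂ := e₂.inv.hom.hom
  haveI : IsMonHom a₁ := e₁.inv.hom.isMonHom_hom
  haveI : IsMonHom a₂ := e₂.inv.hom.isMonHom_hom
  haveI : IsIso a₁ := ((Grp.forget _).mapIso e₁).isIso_inv
  haveI : IsIso a₂ := ((Grp.forget _).mapIso e₂).isIso_inv
  let π₁ := Red.DSmap U (AddMonoidHom.inl M₁ M₂)
  let π₂ := Red.DSmap U (AddMonoidHom.inr M₁ M₂)
  haveI : IsMonHom π₁ := isMonHom_DSmap _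
  haveI : IsMonHom π₂ := isMonHom_DSmap _
  let a : D ⟶ Red.bc φ (E₁ ⊗ E₂) :=
    ofBase φ (CartesianMonoidalCategory.lift (toBase φ (π₁ ≫ a₁)) (toBase φ (π₂ ≫ a₂)))
  have hp₁ : ∀ (Z : Over U) (t : Z ⟶ D), toBase φ (t ≫ a) ≫ fst E₁ E₂ = toBase φ (t ≫ π₁ ≫ a₁) :=
    fun Z t => by
      rw [toBase_comp, toBase_ofBase, Category.assoc, lift_fst, ← toBase_comp]
  have hp₂ : ∀ (Z : Over U) (t : Z ⟶ D), toBase φ (t ≫ a) ≫ snd E₁ E₂ = toBase φ (t ≫ π₂ ≫ a₂) :=
    fun Z t => by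
      rw [toBase_comp, toBase_ofBase, Category.assoc, lift_snd, ← toBase_comp]
  have hinj : ∀ (Z : Over U) (t t' : Z ⟶ D), t ≫ a = t' ≫ a → t = t' := by
    intro Z t t' e
    have e₁' : t ≫ π₁ = t' ≫ π₁ := by
      rw [← cancel_mono a₁, Category.assoc, Category.assoc]
      exact toBase_injective φ (by rw [← hp₁, ← hp₁, e])
    have e₂' : t ≫ π₂ = t' ≫ π₂ := by
      rw [← cancel_mono a₂, Category.assoc, Category.assoc]
      exact toBase_injective φ (by rw [← hp₂, ← hp₂, e])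
    refine dsFn_injective fun m => ?_
    have h1 := congrArg (dsFn · m.1) e₁'
    have h2 := congrArg (dsFn · m.2) e₂'
    simp only [π₁, π₂, dsFn_DSmap, AddMonoidHom.inl_apply, AddMonoidHom.inr_apply] at h1 h2
    rw [show m = (m.1, 0) + ((0 : M₁), m.2) by simp, dsFn_add, dsFn_add, h1, h2]
  haveI : IsMonHom a := isMonHom_of_points _ fun Z t t' => toBase_injective φ (by
    apply CartesianMonoidalCategory.hom_ext
    · rw [hp₁, toBase_mul, MonObj.mul_comp _ _ (fst E₁ E₂), hp₁, hp₁, ← toBase_mul,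
        MonObj.mul_comp _ _ (π₁ ≫ a₁)]
    · rw [hp₂, toBase_mul, MonObj.mul_comp _ _ (snd E₁ E₂), hp₂, hp₂, ← toBase_mul,
        MonObj.mul_comp _ _ (π₂ ≫ a₂)])
  let b₁ := ofBase φ (toBase φ (𝟙 (Red.bc φ (E₁ ⊗ E₂))) ≫ fst E₁ E₂) ≫ CategoryTheory.inv a₁
  let b₂ := ofBase φ (toBase φ (𝟙 (Red.bc φ (E₁ ⊗ E₂))) ≫ snd E₁ E₂) ≫ CategoryTheory.inv a₂
  obtain ⟨b, hb⟩ := dsFn_surjective (S := U) (M := M₁ × M₂) (X := Red.bc φ (E₁ ⊗ E₂))
    { toFun := fun m => dsFn b₁ (Multiplicative.toAdd m).1 * dsFn b₂ (Multiplicative.toAdd m).2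
      map_one' := by simp [dsFn_zero]
      map_mul' := fun x y => by
        simp only [toAdd_mul, Prod.fst_add, Prod.snd_add, dsFn_add]
        ac_rfl }
  have hb₁ : b ≫ π₁ = b₁ := dsFn_injective fun m => by
    simp [π₁, dsFn_DSmap, hb, dsFn_zero]
  have hb₂ : b ≫ π₂ = b₂ := dsFn_injective fun m => by
    simp [π₂, dsFn_DSmap, hb, dsFn_zero]
  have hba : b ≫ a = 𝟙 _ := toBase_injective φ (by
    apply CartesianMonoidalCategory.hom_ext
    · rw [hp₁, ← Category.assoc, hb₁, Category.assoc, IsIso.inv_hom_id, Category.comp_id, toBase_ofBase]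
    · rw [hp₂, ← Category.assoc, hb₂, Category.assoc, IsIso.inv_hom_id, Category.comp_id, toBase_ofBase])
  haveI : IsIso a := ⟨b, hinj _ _ _ (by rw [Category.assoc, hba, Category.comp_id, Category.id_comp]), hba⟩
  exact ⟨(Grp.mkIso' (asIso a)).symm⟩

include hG

/-- Two locally split subtori lie in a third one, split if both are split over a connected base. -/
theorem exists_join [Mono j₁] [Mono j₂] (h₁ : LocSplit E₁) (h₂ : LocSplit E₂) :
    ∃ (E₃ : Over S) (_ : GrpObj E₃) (j₃ : E₃ ⟶ G) (g₁ : E₁ ⟶ E₃) (g₂ : E₂ ⟶ E₃), IsMonHom j₃ ∧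
      Mono j₃ ∧ LocSplit E₃ ∧ g₁ ≫ j₃ = j₁ ∧ g₂ ≫ j₃ = j₂ ∧
      (PreconnectedSpace S → ∀ r₁ r₂ : ℕ, Red.IsSplitTorusWith (Fin r₁ → ℤ) E₁ →
        Red.IsSplitTorusWith (Fin r₂ → ℤ) E₂ → ∃ r₃ : ℕ, Red.IsSplitTorusWith (Fin r₃ → ℤ) E₃) := by
  haveI := isMultTypeFT_isAffineHom hG
  haveI : LocallyOfFinitePresentation G.hom := by
    haveI : MorphismProperty.DescendsAlong (@LocallyOfFinitePresentation : MorphismProperty Scheme.{u})
        Unr55.fpqc.{u} := by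
      unfold Unr55.fpqc; infer_instance
    exact isMultTypeFT_prop (@LocallyOfFinitePresentation) hG fun U M _ hM => lfp_DS_of_fg U M hM
  let f : E₁ ⊗ E₂ ⟶ G := (fst E₁ E₂ ≫ j₁) * (snd E₁ E₂ ≫ j₂)
  haveI : IsMonHom f := isMonHom_of_points _ fun X a b => by
    simp only [f, MonObj.comp_mul, ← Category.assoc, MonObj.mul_comp _ _ (fst E₁ E₂),
      MonObj.mul_comp _ _ (snd E₁ E₂), MonObj.mul_comp _ _ j₁, MonObj.mul_comp _ _ j₂]
    rw [_root_.mul_assoc, _root_.mul_assoc, ← _root_.mul_assoc ((b ≫ fst E₁ E₂) ≫ j₁),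
      isMultTypeFT_points_comm hG ((b ≫ fst E₁ E₂) ≫ j₁) ((a ≫ snd E₁ E₂) ≫ j₂), _root_.mul_assoc]
  haveI : QuasiCompact f.left := by
    haveI := isMultTypeFT_isAffineHom (isMultTypeFT_of_locSplit h₁)
    haveI := isMultTypeFT_isAffineHom (isMultTypeFT_of_locSplit h₂)
    haveI : IsAffineHom (E₁ ⊗ E₂).hom := by
      have := isAffineHom_isStableUnderBaseChange.{u}
      haveI : IsAffineHom (pullback.fst E₁.hom E₂.hom) :=
        MorphismProperty.pullback_fst (P := @IsAffineHom) _ _ ‹IsAffineHom E₂.hom›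
      exact inferInstanceAs (IsAffineHom (pullback.fst E₁.hom E₂.hom ≫ E₁.hom))
    haveI : QuasiCompact (f.left ≫ G.hom) := by rw [Over.w f]; infer_instance
    exact QuasiCompact.of_comp f.left G.hom
  haveI : IsSeparated G.hom := inferInstance
  haveI : QuasiCompact G.hom := inferInstance
  -- the charts
  have hloc : ∀ s : S, ∃ V : S.Opens, s ∈ V ∧ ∃ (Q₁ : Over (V : Scheme.{u})) (_ : GrpObj Q₁) (r : ℕ),
      FactorsOn (V.ι ≫ 𝟙 S) f Q₁ ∧ Red.IsSplitTorusWith (Fin r → ℤ) Q₁ := by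
    intro s
    obtain ⟨U₁, hU₁, r₁, hr₁⟩ := h₁ s
    obtain ⟨U₂, hU₂, r₂, hr₂⟩ := h₂ s
    let U := U₁ ⊓ U₂
    have e₁ := split_bc U₁.ι (S.homOfLE (inf_le_left : U ≤ U₁)) hr₁
    have e₂ := split_bc U₂.ι (S.homOfLE (inf_le_right : U ≤ U₂)) hr₂
    rw [Scheme.homOfLE_ι] at e₁ e₂
    obtain ⟨e⟩ := exists_prod_chart U.ι e₁ e₂
    have e' : Grp.mk (Red.bc (U.ι ≫ 𝟙 S) (E₁ ⊗ E₂)) ≅
        Grp.mk (Red.DS (U : Scheme.{u}) ((Fin r₁ → ℤ) × (Fin r₂ → ℤ))) := by
      rw [Category.comp_id]; exact e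
    obtain ⟨V, hV, Q₁, _, Λ, _, hfac, hDS, hfg, htf, -⟩ :=
      exists_mult_factor' f (𝟙 S) e' (s' := s) ⟨hU₁, hU₂⟩
    haveI : Module.Finite ℤ Λ := Module.Finite.iff_addGroup_fg.mpr hfg
    haveI := htf inferInstance
    haveI : Module.Free ℤ Λ := Module.free_of_finite_type_torsion_free'
    obtain ⟨b⟩ := grpIso_DS_of_addEquiv (W := (V : Scheme.{u}))
      (Module.finBasis ℤ Λ).equivFun.toAddEquiv
    exact ⟨V, hV, Q₁, inferInstance, _, hfac, ⟨hDS.some ≪≫ b⟩⟩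
  choose V hV Q₀ hQ₀ r hfac hsplit using hloc
  obtain ⟨Q, hQ, j₃, hj₃, f', hf', hc, -, -, hfj, hchart⟩ :=
    exists_image f (𝟙 S) (fun W hW => ⟨W, hW.isCompact, by simp⟩)
      fun s => ⟨V s, hV s, Q₀ s, hQ₀ s, hfac s⟩
  haveI := hc
  haveI : Mono j₃ := Over.mono_of_mono_left _
  have hQsplit : ∀ s, Red.IsSplitTorusWith (Fin (r s) → ℤ) (Red.bc (V s).ι Q) := fun s => by
    obtain ⟨c⟩ := hchart _ _ (Q₀ s) inferInstance (hfac s)
    have : Red.IsSplitTorusWith (Fin (r s) → ℤ) (Red.bc ((V s).ι ≫ 𝟙 S) Q) := ⟨c ≪≫ (hsplit s).some⟩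
    rwa [Category.comp_id] at this
  refine ⟨Q, hQ, j₃, CartesianMonoidalCategory.lift (𝟙 E₁) 1 ≫ f',
    CartesianMonoidalCategory.lift 1 (𝟙 E₂) ≫ f', hj₃, ‹_›, fun s => ⟨V s, hV s, r s, hQsplit s⟩, ?_, ?_, ?_⟩
  · rw [Category.assoc, hfj, MonObj.comp_mul, lift_fst_assoc, lift_snd_assoc, MonObj.one_comp,
      _root_.mul_one, Category.id_comp]
  · rw [Category.assoc, hfj, MonObj.comp_mul, lift_fst_assoc, lift_snd_assoc, MonObj.one_comp,
      _root_.one_mul, Category.id_comp]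
  · intro hcon r₁ r₂ hs₁ hs₂
    rcases isEmpty_or_nonempty S with hS | hS
    · refine ⟨0, split_of_top ?_⟩
      haveI : IsEmpty (Red.bc (⊤ : S.Opens).ι Q).left :=
        Function.isEmpty (fun x => ((Red.bc (⊤ : S.Opens).ι Q).hom x).1)
      haveI : IsEmpty (Red.DS ((⊤ : S.Opens) : Scheme.{u}) (Fin 0 → ℤ)).left :=
        Function.isEmpty (fun x => ((Red.DS ((⊤ : S.Opens) : Scheme.{u}) (Fin 0 → ℤ)).hom x).1)
      let p : Red.bc (⊤ : S.Opens).ι Q ⟶ Red.DS ((⊤ : S.Opens) : Scheme.{u}) (Fin 0 → ℤ) := 1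
      haveI : IsMonHom p := isMonHom_of_points _ fun Z a b => by
        simp only [p, MonObj.comp_one, _root_.mul_one]
      haveI : IsIso p.left := isIso_of_isEmpty _
      haveI : IsIso p := (CategoryTheory.isIso_iff_of_reflects_iso p (Over.forget _)).mp ‹_›
      exact ⟨Grp.mkIso' (asIso p)⟩
    have e₁ := bc_split (⊤ : S.Opens).ι hs₁
    have e₂ := bc_split (⊤ : S.Opens).ι hs₂
    obtain ⟨e⟩ := exists_prod_chart (⊤ : S.Opens).ι e₁ e₂
    have e' : Grp.mk (Red.bc ((⊤ : S.Opens).ι ≫ 𝟙 S) (E₁ ⊗ E₂)) ≅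
        Grp.mk (Red.DS ((⊤ : S.Opens) : Scheme.{u}) ((Fin r₁ → ℤ) × (Fin r₂ → ℤ))) := by
      rw [Category.comp_id]; exact e
    obtain ⟨W, hW, Q₁, _, Λ, _, hf₁, hDS, hfg, htf, hcl⟩ :=
      exists_mult_factor' f (𝟙 S) e' (s' := hS.some) trivial
    have hWtop : W = ⊤ := by
      refine TopologicalSpace.Opens.ext ?_
      exact (isClopen_iff.mp (⟨hcl isClosed_univ, W.2⟩ : IsClopen (W : Set S))).resolve_left
        (Set.nonempty_iff_ne_empty.mp ⟨_, hW⟩)
    haveI : Module.Finite ℤ Λ := Module.Finite.iff_addGroup_fg.mpr hfg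
    haveI := htf inferInstance
    haveI : Module.Free ℤ Λ := Module.free_of_finite_type_torsion_free'
    obtain ⟨b⟩ := grpIso_DS_of_addEquiv (W := (W : Scheme.{u}))
      (Module.finBasis ℤ Λ).equivFun.toAddEquiv
    obtain ⟨c⟩ := hchart _ _ Q₁ inferInstance hf₁
    have hfin : Red.IsSplitTorusWith (Fin (Module.finrank ℤ Λ) → ℤ) (Red.bc (W.ι ≫ 𝟙 S) Q) :=
      ⟨c ≪≫ hDS.some ≪≫ b⟩
    rw [Category.comp_id] at hfin
    subst hWtop
    exact ⟨_, split_of_top hfin⟩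

end Join

/-- The rank of a split torus at a point of a group of multiplicative type is bounded. -/
theorem exists_rank_bound {G : Over S} [GrpObj G] (hG : SGA3x.IsMultTypeFT G) (s : S) :
    ∃ N : ℕ, ∀ (E : Over S) [GrpObj E] (j : E ⟶ G) [IsMonHom j] [Mono j] (r : ℕ),
      Red.IsSplitTorusWith (Fin r → ℤ) (Red.bc (S.fromSpecResidueField s) E) → r ≤ N := by
  obtain ⟨S', f, hf, hs, hqc, hloc⟩ := hG
  obtain ⟨s', rfl⟩ := f.surjective s
  obtain ⟨U, hU, M, hM, hFG, ⟨e⟩⟩ := hloc s'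
  haveI : Module.Finite ℤ M := Module.Finite.iff_addGroup_fg.mpr hFG
  let U' : Scheme.{u} := U
  let x : U' := ⟨s', hU⟩
  let ψ := U'.fromSpecResidueField x
  have hψ : Spec.map ((U.ι ≫ f).residueFieldMap x) ≫ S.fromSpecResidueField (f s') = ψ ≫ U.ι ≫ f :=
    Scheme.Hom.SpecMap_residueFieldMap_fromSpecResidueField (U.ι ≫ f) x
  let W := Spec (U'.residueField x)
  refine ⟨Module.finrank ℤ M, fun E _ j _ _ r hr => ?_⟩
  have hG' : Red.IsSplitTorusWith M (Red.bc (ψ ≫ U.ι ≫ f) G) := split_bc _ _ ⟨e⟩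
  have hE := split_bc _ (Spec.map ((U.ι ≫ f).residueFieldMap x)) hr
  rw [hψ] at hE
  obtain ⟨eE⟩ := hE
  obtain ⟨eG⟩ := hG'
  haveI : IsMonHom eE.inv.hom.hom := eE.inv.hom.isMonHom_hom
  haveI : IsMonHom eG.hom.hom.hom := eG.hom.hom.isMonHom_hom
  haveI : IsIso eE.inv.hom.hom := ((Grp.forget _).mapIso eE).isIso_inv
  haveI : IsIso eG.hom.hom.hom := ((Grp.forget _).mapIso eG).isIso_hom
  let q : Red.DS W (Fin r → ℤ) ⟶ Red.DS W M :=
    eE.inv.hom.hom ≫ (Over.pullback (ψ ≫ U.ι ≫ f)).map j ≫ eG.hom.hom.hom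
  haveI : Mono q := inferInstance
  haveI : IsAffine W := inferInstance
  obtain ⟨D, φ, hwD, hD⟩ := exists_ds_hom_loc (M := Fin r → ℤ) (N := M) hFG q
    (IsLocalRing.closedPoint (U'.residueField x))
  have hall : ∀ y : W, y ∈ D := fun y =>
    Subsingleton.elim (IsLocalRing.closedPoint (U'.residueField x)) y ▸ hwD
  have hq : q = Red.DSmap W φ := by
    simpa using hD _ (fun y => hall _) (𝟙 (Red.DS W (Fin r → ℤ)))
  haveI : Mono (Red.DSmap W φ) := hq ▸ inferInstance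
  haveI : IsMonHom (Red.DSmap W φ) := isMonHom_DSmap φ
  have hsur : Function.Surjective φ := surjective_of_mono_fibre (W := W) φ
    (IsLocalRing.closedPoint (U'.residueField x) : W)
    (inferInstanceAs (Mono ((Over.forget _).map ((Over.pullback
      (W.fromSpecResidueField (IsLocalRing.closedPoint (U'.residueField x) : W))).map (Red.DSmap W φ)))))
  have := LinearMap.finrank_le_finrank_of_surjective (f := φ.toIntLinearMap) hsur
  simpa using this

/-- A maximal element of a bounded nonempty set of numbers. -/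
theorem exists_max_nat (P : ℕ → Prop) {N r₀ : ℕ} (h₀ : P r₀) (hN : ∀ r, P r → r ≤ N) :
    ∃ r, P r ∧ ∀ r', P r' → r' ≤ r := by
  classical
  exact ⟨Nat.findGreatest P N, Nat.findGreatest_spec (hN r₀ h₀) h₀,
    fun r' h' => Nat.le_findGreatest (hN r' h') h'⟩

/-- The trivial subtorus. -/
theorem exists_zero_torus (G : Over S) [GrpObj G] : ∃ (T : Over S) (_ : GrpObj T) (j : T ⟶ G),
    IsMonHom j ∧ Mono j ∧ Red.IsSplitTorusWith (Fin 0 → ℤ) T := by
  refine ⟨Red.DS S (Fin 0 → ℤ), inferInstance, 1, isMonHom_of_points _ fun Z a b => by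
    simp only [MonObj.comp_one, _root_.mul_one], ⟨fun {Z} a b _ => dsFn_injective fun m => ?_⟩, ⟨Iso.refl _⟩⟩
  rw [Subsingleton.elim m 0, dsFn_zero, dsFn_zero]

theorem isMonHom_of_comp {E E' G : Over S} [GrpObj E] [GrpObj E'] [GrpObj G] (g : E ⟶ E') (j' : E' ⟶ G)
    [IsMonHom j'] [Mono j'] (j : E ⟶ G) [IsMonHom j] (h : g ≫ j' = j) : IsMonHom g :=
  isMonHom_of_points _ fun Z a b => by
    rw [← cancel_mono j', MonObj.mul_comp _ _ j', Category.assoc, Category.assoc, Category.assoc, h,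
      MonObj.mul_comp _ _ j]

/-- A split subtorus which is maximal. -/
theorem exists_maximal_split {G : Over S} [GrpObj G] (hG : SGA3x.IsMultTypeFT G) :
    ∃ (T : Over S) (_ : GrpObj T) (j : T ⟶ G) (r : ℕ), IsMonHom j ∧ Mono j ∧
      Red.IsSplitTorusWith (Fin r → ℤ) T ∧
      ∀ (T' : Over S) [GrpObj T'] (j' : T' ⟶ G) [IsMonHom j'] [Mono j'] (r' : ℕ) (g : T ⟶ T'),
        Red.IsSplitTorusWith (Fin r' → ℤ) T' → g ≫ j' = j → IsIso g := by
  obtain ⟨T₀, hT₀, j₀, hj₀, hm₀, hs₀⟩ := exists_zero_torus G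
  rcases isEmpty_or_nonempty S with hS | ⟨⟨s⟩⟩
  · refine ⟨T₀, hT₀, j₀, 0, hj₀, hm₀, hs₀, fun T' _ j' _ _ r' g _ _ => ?_⟩
    haveI : IsEmpty T'.left := Function.isEmpty T'.hom
    haveI : IsEmpty T₀.left := Function.isEmpty T₀.hom
    haveI : IsIso g.left := isIso_of_isEmpty _
    exact (CategoryTheory.isIso_iff_of_reflects_iso g (Over.forget S)).mp ‹_›
  obtain ⟨N, hN⟩ := exists_rank_bound hG s
  obtain ⟨r, ⟨T, hT, j, hj, hm, hsp⟩, hmax⟩ := exists_max_nat (fun r => ∃ (T : Over S) (_ : GrpObj T)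
    (j : T ⟶ G), IsMonHom j ∧ Mono j ∧ Red.IsSplitTorusWith (Fin r → ℤ) T)
    ⟨T₀, hT₀, j₀, hj₀, hm₀, hs₀⟩ fun r ⟨T, hT, j, hj, hm, hsp⟩ => hN T j r (bc_split _ hsp)
  refine ⟨T, hT, j, r, hj, hm, hsp, fun T' _ j' _ _ r' g hsp' hg => ?_⟩
  haveI := hj; haveI := hm
  haveI := isMonHom_of_comp g j' j hg
  haveI : Mono g := mono_of_mono_fac hg
  refine isIso_of_fibres (isMultTypeFT_of_locSplit (locSplit_of_split (M := Fin r → ℤ) hsp))
    (isMultTypeFT_of_locSplit (locSplit_of_split (M := Fin r' → ℤ) hsp')) g fun t => ?_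
  obtain ⟨hle, hiso⟩ := fibre_rank_le g t (bc_split _ hsp) (bc_split _ hsp')
  exact hiso (le_antisymm hle (hmax r' ⟨T', inferInstance, j', ‹_›, ‹_›, hsp'⟩))

/-- Over a connected base there is a greatest split subtorus. -/
theorem exists_greatest_split [ConnectedSpace S] {G : Over S} [GrpObj G] (hG : SGA3x.IsMultTypeFT G) :
    ∃ (T : Over S) (_ : GrpObj T) (j : T ⟶ G) (r : ℕ), IsMonHom j ∧ Mono j ∧
      Red.IsSplitTorusWith (Fin r → ℤ) T ∧
      ∀ (T' : Over S) [GrpObj T'] (j' : T' ⟶ G) [IsMonHom j'] [Mono j'] (r' : ℕ),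
        Red.IsSplitTorusWith (Fin r' → ℤ) T' → ∃ g : T' ⟶ T, g ≫ j = j' := by
  obtain ⟨T, hT, j, r, hj, hm, hsp, hmax⟩ := exists_maximal_split hG
  refine ⟨T, hT, j, r, hj, hm, hsp, fun T' _ j' _ _ r' hsp' => ?_⟩
  haveI := hj; haveI := hm
  obtain ⟨E, hE, j₃, g₁, g₂, hj₃, hm₃, -, e₁, e₂, hsplit⟩ :=
    exists_join hG j j' (locSplit_of_split (M := Fin r → ℤ) hsp) (locSplit_of_split (M := Fin r' → ℤ) hsp')
  obtain ⟨r₃, hr₃⟩ := hsplit inferInstance r r' hsp hsp'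
  haveI := hmax E j₃ r₃ g₁ hr₃ e₁
  exact ⟨g₂ ≫ CategoryTheory.inv g₁, by rw [Category.assoc, ← e₂, IsIso.inv_comp_eq g₁ |>.mpr e₁.symm]⟩

/-- Over a connected base there is a greatest locally split subtorus. -/
theorem exists_greatest_locSplit [ConnectedSpace S] {G : Over S} [GrpObj G]
    (hG : SGA3x.IsMultTypeFT G) :
    ∃ (T : Over S) (_ : GrpObj T) (j : T ⟶ G), IsMonHom j ∧ Mono j ∧ LocSplit T ∧
      ∀ (T' : Over S) [GrpObj T'] (j' : T' ⟶ G) [IsMonHom j'] [Mono j'],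
        LocSplit T' → ∃ g : T' ⟶ T, g ≫ j = j' := by
  obtain ⟨T₀, hT₀, j₀, hj₀, hm₀, hs₀⟩ := exists_zero_torus G
  obtain ⟨s⟩ : Nonempty S := inferInstance
  obtain ⟨N, hN⟩ := exists_rank_bound hG s
  obtain ⟨r, ⟨T, hT, j, hj, hm, hloc, hr⟩, hmax⟩ := exists_max_nat (fun r => ∃ (T : Over S) (_ : GrpObj T)
    (j : T ⟶ G), IsMonHom j ∧ Mono j ∧ LocSplit T ∧
      Red.IsSplitTorusWith (Fin r → ℤ) (Red.bc (S.fromSpecResidueField s) T))
    ⟨T₀, hT₀, j₀, hj₀, hm₀, locSplit_of_split (M := Fin 0 → ℤ) hs₀, bc_split _ hs₀⟩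
    fun r ⟨T, hT, j, hj, hm, _, hr⟩ => hN T j r hr
  refine ⟨T, hT, j, hj, hm, hloc, fun T' _ j' _ _ hloc' => ?_⟩
  haveI := hj; haveI := hm
  obtain ⟨E, hE, j₃, g₁, g₂, hj₃, hm₃, hloc₃, e₁, e₂, -⟩ := exists_join hG j j' hloc hloc'
  obtain ⟨r₃, hr₃⟩ := split_residue hloc₃ s
  haveI := hj₃; haveI := hm₃
  haveI := isMonHom_of_comp g₁ j₃ j e₁
  haveI : Mono g₁ := mono_of_mono_fac e₁
  obtain ⟨hle, hiso⟩ := fibre_rank_le g₁ s hr hr₃
  haveI := isIso_of_fibre_connected (isMultTypeFT_of_locSplit hloc) (isMultTypeFT_of_locSplit hloc₃) g₁ s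
    (hiso (le_antisymm hle (hmax r₃ ⟨E, inferInstance, j₃, hj₃, hm₃, hloc₃, hr₃⟩)))
  exact ⟨g₂ ≫ CategoryTheory.inv g₁, by rw [Category.assoc, ← e₂, IsIso.inv_comp_eq g₁ |>.mpr e₁.symm]⟩

/-- A monomorphism of tori of the same rank is an isomorphism. -/
theorem isIso_of_mono_same_rank {T T' : Over S} [GrpObj T] [GrpObj T'] (hT : Red.IsTorus T)
    (hT' : Red.IsTorus T') (f : T ⟶ T') [IsMonHom f] [Mono f]
    (hrk : ∀ s : ↥S, ∃ r : ℕ, Red.IsSplitTorusWith (Fin r → ℤ) (Red.geomFibre s T) ∧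
      Red.IsSplitTorusWith (Fin r → ℤ) (Red.geomFibre s T')) : IsIso f := by
  refine isIso_of_fibres (isMultTypeFT_of_isTorus hT) (isMultTypeFT_of_isTorus hT') f fun s => ?_
  obtain ⟨r, hr, hr'⟩ := hrk s
  obtain ⟨-, hiso⟩ := rank_le_of_mono (IsLocalRing.closedPoint _) hr hr'
    ((Over.pullback (Red.geomPt s)).map f)
  haveI := hiso rfl
  haveI : MorphismProperty.DescendsAlong (MorphismProperty.isomorphisms Scheme.{u})
      Unr55.fpqc.{u} := by unfold Unr55.fpqc; infer_instance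
  have hP : IsIso ((Over.pullback (Red.geomPt s)).map f).left :=
    inferInstanceAs (IsIso ((Over.forget _).map ((Over.pullback (Red.geomPt s)).map f)))
  let k := Spec.map (CommRingCat.ofHom (algebraMap (S.residueField s) (AlgebraicClosure (S.residueField s))))
  have hk : k ≫ S.fromSpecResidueField s = Red.geomPt s := rfl
  have hkf : Unr55.fpqc.{u} k := by
    obtain ⟨h1, h2⟩ := specMap_field_flat_surjective (L := CommRingCat.of (AlgebraicClosure (S.residueField s)))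
      (Field.toIsField (S.residueField s))
      (CommRingCat.ofHom (algebraMap (S.residueField s) (AlgebraicClosure (S.residueField s))))
    exact ⟨⟨h2, h1⟩, inferInstance⟩
  have h := isPullback_bcTrans_map f (S.fromSpecResidueField s) k (Red.geomPt s) hk
  exact MorphismProperty.of_isPullback_of_descendsAlong (P := MorphismProperty.isomorphisms Scheme.{u})
    (Q := Unr55.fpqc.{u}) h.flip
    (MorphismProperty.of_isPullback (P := Unr55.fpqc.{u})
      (isPullback_bcTrans T' (S.fromSpecResidueField s) k (Red.geomPt s) hk).flip hkf) hP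

end Groth.Agent.RedPts82
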