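import Groth.Agent.RedPts82.HopfCoord
import Groth.Agent.RedPts82.SplitSub
import Groth.Agent.SGA3b53.TypeCover
import Groth.Agent.SGA3b53.BaseChange

/-!
Groups of multiplicative type over an affine base and their coordinate rings.
-/

set_option autoImplicit false
set_option linter.style.haveILetI false

universe u

open CategoryTheory MonoidalCategory CartesianMonoidalCategory MonObj GrpObj AlgebraicGeometry
open CategoryTheory.Limits
open scoped TensorProduct

noncomputable section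

namespace Groth.Agent.RedPts82

open Groth.Agent.SGA3b53

variable {R : Type u} [CommRing R] {A : Type u} [CommRing A] [HopfAlgebra R A]
  {H : Over (Spec (CommRingCat.of R))} [GrpObj H] (ψ : Hopf.sp R A ≅ H) [IsMonHom ψ.hom]

include ψ in
/-- The coordinate ring of a split base change is a group algebra. -/
theorem isDiag_of_split (L : Type u) [CommRing L] [Algebra R L] {M : Type} [AddCommGroup M]
    (h : Red.IsSplitTorusWith M (Red.bc (Spec.map (CommRingCat.ofHom (algebraMap R L))) H)) :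
    SGA3b.IsDiag L (L ⊗[R] A) := by
  obtain ⟨ψL, _⟩ := Hopf.exists_coord_bc L ψ
  obtain ⟨ψD, _⟩ := Hopf.exists_coord_DS L M
  obtain ⟨e⟩ := h
  obtain ⟨E⟩ := Hopf.exists_bialgEquiv_of_grpIso ψL ψD e.symm
  exact ⟨ULift.{u} (Multiplicative M), inferInstance,
    ⟨E.trans (MonoidAlgebra.domCongrBialgEquiv L L (MulEquiv.ulift (α := Multiplicative M)).symm)⟩⟩

include ψ in
/-- A group of multiplicative type over an affine base has coordinate ring of multiplicative type. -/
theorem isMultType_of_isMultTypeFT_affine (hH : SGA3x.IsMultTypeFT H) : SGA3b.IsMultType R A := by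
  obtain ⟨S', f, hf, hs, hqc, hloc⟩ := hH
  obtain ⟨W, hWc, hW⟩ := hqc ⊤ (isAffineOpen_top _)
  choose U hU M iM hM hsplit using hloc
  choose V hV hsV hVU using fun s' : S' => exists_isAffineOpen_mem_and_subset (hU s')
  obtain ⟨t, ht⟩ := hWc.elim_finite_subcover (fun s' : S' => (V s' : Set S')) (fun s' => (V s').2)
    fun w _ => Set.mem_iUnion.mpr ⟨w, hsV w⟩
  let T : ULift.{u} t → Type u := fun i => Γ(S', V i.down.1)
  let g : ∀ i : ULift.{u} t, Spec Γ(S', V i.down.1) ⟶ Spec (CommRingCat.of R) :=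
    fun i => (hV i.down.1).fromSpec ≫ f
  letI : ∀ i, Algebra R (T i) := fun i => (Spec.preimage (g i)).hom.toAlgebra
  have hg : ∀ i : ULift.{u} t, Spec.map (CommRingCat.ofHom (algebraMap R (T i))) = g i :=
    fun i => Spec.map_preimage _
  refine isMultType_of_cover (T := T) ⟨fun i => ?_, fun p => ?_⟩ fun i => ?_
  · have : Flat (Spec.map (CommRingCat.ofHom (algebraMap R (T i)))) := by rw [hg]; infer_instance
    rw [HasRingHomProperty.Spec_iff (P := @Flat)] at this
    exact RingHom.flat_algebraMap_iff.mp this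
  · obtain ⟨w, hwW, hwp⟩ := (hW ▸ (TopologicalSpace.Opens.mem_top p) : p ∈ f.base '' (W : Set S'))
    obtain ⟨i, hit, hi⟩ := Set.mem_iUnion₂.mp (ht hwW)
    obtain ⟨q, hq⟩ : w ∈ Set.range (hV i).fromSpec := by rw [(hV i).range_fromSpec]; exact hi
    refine ⟨⟨⟨i, hit⟩⟩, q, ?_⟩
    change (Spec.map (CommRingCat.ofHom (algebraMap R (T ⟨⟨i, hit⟩⟩)))).base q = p
    rw [hg, ← hwp, ← hq]
    rfl
  · let m := IsOpenImmersion.lift (U i.down.1).ι (hV i.down.1).fromSpec (by
      rw [(hV i.down.1).range_fromSpec, Scheme.Opens.range_ι]; exact hVU i.down.1)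
    have h1 := split_bc ((U i.down.1).ι ≫ f) m (hsplit i.down.1)
    rw [← Category.assoc, IsOpenImmersion.lift_fac, show (hV i.down.1).fromSpec ≫ f = _ from (hg i).symm] at h1
    exact isDiag_of_split ψ (T i) h1

/-- A finitely generated abelian group has a small model. -/
theorem exists_small_model (M : Type u) [CommGroup M] (hM : Group.FG M) :
    ∃ (M' : Type) (_ : AddCommGroup M'), AddGroup.FG M' ∧ Nonempty (M ≃* Multiplicative M') := by
  haveI : Module.Finite ℤ (Additive M) :=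
    Module.Finite.iff_addGroup_fg.2 (GroupFG.iff_add_fg.mp hM)
  obtain ⟨n, φ, hφ⟩ := Module.Finite.exists_fin' ℤ (Additive M)
  exact ⟨(Fin n → ℤ) ⧸ LinearMap.ker φ, inferInstance, Module.Finite.iff_addGroup_fg.1 inferInstance,
    ⟨AddEquiv.toMultiplicativeRight (LinearMap.quotKerEquivOfSurjective φ hφ).symm.toAddEquiv⟩⟩

include ψ in
/-- A group over an affine base with coordinate ring of multiplicative type and of finite type is of
multiplicative type. -/
theorem isMultTypeFT_of_isMultType [Algebra.FiniteType R A] (hA : SGA3b.IsMultType R A) :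
    SGA3x.IsMultTypeFT H := by
  obtain ⟨J, _, T, _, _, hT, hd⟩ := exists_finite_cover hA
  let X : J → Scheme.{u} := fun i => Spec (CommRingCat.of (T i))
  let g : ∀ i, X i ⟶ Spec (CommRingCat.of R) := fun i => Spec.map (CommRingCat.ofHom (algebraMap R (T i)))
  let f : (∐ X) ⟶ Spec (CommRingCat.of R) := Sigma.desc g
  haveI : ∀ i, Flat (g i) := fun i => by
    rw [HasRingHomProperty.Spec_iff (P := @Flat)]
    exact RingHom.flat_algebraMap_iff.mpr (hT.flat i)
  have hflat : Flat f := IsZariskiLocalAtSource.sigmaDesc (P := @Flat) fun _ => inferInstance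
  have hsurj : Surjective f := ⟨fun p => by
    obtain ⟨i, q, hq⟩ := hT.exists_lift p
    refine ⟨(Sigma.ι X i).base q, ?_⟩
    rw [← Scheme.Hom.comp_apply, Sigma.ι_desc]
    exact hq⟩
  haveI : IsAffine (∐ X) := inferInstance
  refine ⟨∐ X, f, hflat, hsurj, fun V hV => ⟨f ⁻¹ᵁ V, (hV.preimage f).isCompact,
    Set.image_preimage_eq _ f.surjective⟩, fun s' => ?_⟩
  obtain ⟨i, q, rfl⟩ : ∃ (i : J) (q : X i), (Sigma.ι X i).base q = s' := by
    obtain ⟨i, q, hq⟩ := (sigmaOpenCover X).exists_eq s'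
    exact ⟨i, q, hq⟩
  haveI : Nontrivial (T i) := (PrimeSpectrum.nonempty_iff_nontrivial (R := T i)).mp ⟨q⟩
  obtain ⟨M, iM, ⟨ρ⟩⟩ := hd i
  haveI : Algebra.FiniteType (T i) (MonoidAlgebra (T i) M) :=
    Algebra.FiniteType.equiv (inferInstance : Algebra.FiniteType (T i) (T i ⊗[R] A))
      (ρ : T i ⊗[R] A ≃ₐ[T i] MonoidAlgebra (T i) M)
  obtain ⟨M', _, hM', ⟨eM⟩⟩ := exists_small_model M
    ((MonoidAlgebra.finiteType_iff_group_fg (R := T i)).1 inferInstance)
  obtain ⟨ψL, _⟩ := Hopf.exists_coord_bc (T i) ψ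
  obtain ⟨ψD, _⟩ := Hopf.exists_coord_DS (T i) M'
  obtain ⟨e⟩ := Hopf.nonempty_grpIso ψD ψL (ρ.trans (MonoidAlgebra.domCongrBialgEquiv (T i) (T i) eM)).symm
  let U := (Sigma.ι X i).opensRange
  let m := IsOpenImmersion.lift (Sigma.ι X i) U.ι (by rw [Scheme.Opens.range_ι]; exact le_rfl)
  refine ⟨U, ⟨q, rfl⟩, M', inferInstance, hM', ?_⟩
  have h := split_bc (g i) m ⟨e⟩
  rwa [show g i = Sigma.ι X i ≫ f from (Sigma.ι_desc _ _).symm, ← Category.assoc,
    IsOpenImmersion.lift_fac] at h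

/-- Being of multiplicative type is local on the base. -/
theorem isMultTypeFT_of_locally {S : Scheme.{u}} {G : Over S} [GrpObj G]
    (h : ∀ s : S, ∃ U : S.Opens, s ∈ U ∧ SGA3x.IsMultTypeFT (Red.bc U.ι G)) : SGA3x.IsMultTypeFT G := by
  classical
  choose U hU hG using h
  choose S' f hf hs hqc hloc using hG
  let g : ∀ s : S, S' s ⟶ S := fun s => f s ≫ (U s).ι
  let F : (∐ S') ⟶ S := Sigma.desc g
  have hι : ∀ (s : S) (x : S' s), F.base ((Sigma.ι S' s).base x) = (g s).base x := fun s x => by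
    rw [← Scheme.Hom.comp_apply, Sigma.ι_desc]
  haveI : ∀ s, Flat (g s) := fun s => haveI := hf s; inferInstance
  have hflat : Flat F := IsZariskiLocalAtSource.sigmaDesc (P := @Flat) fun _ => inferInstance
  have hsurj : Surjective F := ⟨fun p => by
    obtain ⟨x, hx⟩ := (hs p).surj ⟨p, hU p⟩
    exact ⟨(Sigma.ι S' p).base x, by rw [hι]; exact congrArg Subtype.val hx⟩⟩
  refine ⟨∐ S', F, hflat, hsurj, fun V hV => ?_, fun s' => ?_⟩
  · have hb : ∀ v : V, ∃ D : S.Opens, IsAffineOpen D ∧ v.1 ∈ D ∧ (D : Set S) ⊆ (V : Set S) ∩ (U v.1 : Set S) := by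
      intro v
      obtain ⟨D, hD, hvD, hDs⟩ := exists_isAffineOpen_mem_and_subset (U := V ⊓ U v.1) ⟨v.2, hU v.1⟩
      exact ⟨D, hD, hvD, hDs⟩
    choose D hD hvD hDs using hb
    obtain ⟨t, ht⟩ := hV.isCompact.elim_finite_subcover (fun v : V => (D v : Set S)) (fun v => (D v).2)
      fun x hx => Set.mem_iUnion.mpr ⟨⟨x, hx⟩, hvD ⟨x, hx⟩⟩
    have hDU : ∀ v, (U v.1).ι ''ᵁ ((U v.1).ι ⁻¹ᵁ D v) = D v := fun v =>
      TopologicalSpace.Opens.ext (Set.image_preimage_eq_of_subset
        (by rw [Scheme.Opens.range_ι]; exact fun x hx => (hDs v hx).2))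
    choose W hWc hW using fun v : V => hqc v.1 ((U v.1).ι ⁻¹ᵁ D v)
      ((U v.1).ι.isAffineOpen_iff_of_isOpenImmersion.mp ((hDU v).symm ▸ hD v))
    refine ⟨⨆ v ∈ t, Sigma.ι S' v.1 ''ᵁ W v, ?_, ?_⟩
    · simp only [TopologicalSpace.Opens.coe_iSup]
      exact t.isCompact_biUnion fun v _ => (hWc v).image (Sigma.ι S' v.1).continuous
    · have him : ∀ v, F.base '' ((Sigma.ι S' v.1 ''ᵁ W v : (∐ S').Opens) : Set ↥(∐ S')) = (D v : Set S) := by
        intro v
        rw [Scheme.Hom.coe_image, Set.image_image]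
        simp only [hι]
        rw [show (fun x => (g v.1).base x) = (U v.1).ι.base ∘ (f v.1).base from rfl, Set.image_comp, hW]
        exact congrArg (fun O : S.Opens => (O : Set S)) (hDU v)
      simp only [TopologicalSpace.Opens.coe_iSup, Set.image_iUnion, him]
      exact subset_antisymm (Set.iUnion₂_subset fun v _ => fun x hx => (hDs v hx).1) ht
  · obtain ⟨s, x, rfl⟩ : ∃ (s : S) (x : S' s), (Sigma.ι S' s).base x = s' := by
      obtain ⟨s, x, hx⟩ := (sigmaOpenCover S').exists_eq s'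
      exact ⟨s, x, hx⟩
    obtain ⟨V, hV, M, iM, hM, hsplit⟩ := hloc s x
    letI := iM
    obtain ⟨c, -, hc⟩ := exists_bc_comp_iso (U s).ι (V.ι ≫ f s)
    haveI := (hc G).1
    let W := Sigma.ι S' s ''ᵁ V
    let m := IsOpenImmersion.lift (V.ι ≫ Sigma.ι S' s) W.ι (by
      rw [Scheme.Opens.range_ι, Scheme.Hom.comp_base, TopCat.coe_comp, Set.range_comp,
        Scheme.Opens.range_ι]
      exact le_rfl)
    refine ⟨W, ⟨x, hV, rfl⟩, M, iM, hM, ?_⟩
    have h1 := split_bc _ m (show Red.IsSplitTorusWith M (Red.bc ((V.ι ≫ f s) ≫ (U s).ι) G) from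
      ⟨Grp.mkIso' (c G) ≪≫ hsplit.some⟩)
    rwa [Category.assoc, show f s ≫ (U s).ι = Sigma.ι S' s ≫ F from (Sigma.ι_desc g s).symm,
      ← Category.assoc V.ι, ← Category.assoc m, IsOpenImmersion.lift_fac] at h1

end Groth.Agent.RedPts82
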