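import Groth.Prelude.Def_RedSub
import Mathlib.AlgebraicGeometry.Sites.Fpqc
import Mathlib.AlgebraicGeometry.PullbackCarrier
import Mathlib.CategoryTheory.Limits.Constructions.Over.Connected

/-!
Representable fppf quotients: descent of morphisms.
-/

universe u

open CategoryTheory MonoidalCategory CartesianMonoidalCategory MonObj GrpObj AlgebraicGeometry
open CategoryTheory.Limits

namespace Groth.Agent.RedPts82

variable {S : Scheme.{u}}

/-- Fppf covering morphisms over a base. -/
structure Cov {X Y : Over S} (f : X ⟶ Y) : Prop where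
  surj : Surjective f.left
  flat : Flat f.left
  lfp : LocallyOfFinitePresentation f.left

namespace Cov

variable {X Y Z : Over S}

theorem comp {f : X ⟶ Y} {g : Y ⟶ Z} (hf : Cov f) (hg : Cov g) : Cov (f ≫ g) := by
  obtain ⟨_, _, _⟩ := hf
  obtain ⟨_, _, _⟩ := hg
  exact ⟨by rw [Over.comp_left]; infer_instance, by rw [Over.comp_left]; infer_instance,
    by rw [Over.comp_left]; infer_instance⟩

theorem of_isPullback {A B : Over S} {p : A ⟶ X} {f' : A ⟶ B} {f : X ⟶ Y} {g : B ⟶ Y}
    (sq : IsPullback p f' f g) (hf : Cov f) : Cov f' := by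
  have sq' := sq.map (Over.forget S)
  exact ⟨MorphismProperty.of_isPullback (P := @Surjective) sq' hf.surj,
    MorphismProperty.of_isPullback (P := @Flat) sq' hf.flat,
    MorphismProperty.of_isPullback (P := @LocallyOfFinitePresentation) sq' hf.lfp⟩

theorem epi {f : X ⟶ Y} (hf : Cov f) : Epi f := by
  have := hf.surj
  have := hf.flat
  have : Epi f.left := Flat.epi_of_flat_of_surjective _
  exact (Over.forget S).epi_of_epi_map (f := f) this

theorem desc {f : X ⟶ Y} (hf : Cov f) (e : X ⟶ Z)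
    (he : ∀ (W : Over S) (a b : W ⟶ X), a ≫ f = b ≫ f → a ≫ e = b ≫ e) :
    ∃! d : Y ⟶ Z, f ≫ d = e := by
  have := hf.surj
  have := hf.flat
  have := hf.lfp
  have he' : ∀ {W : Scheme.{u}} (a b : W ⟶ X.left), a ≫ f.left = b ≫ f.left →
      a ≫ e.left = b ≫ e.left := fun {W} a b h => by
    have hb : b ≫ X.hom = a ≫ X.hom := by
      rw [← Over.w f, ← Category.assoc, ← h, Category.assoc]
    exact congrArg CommaMorphism.left (he (Over.mk (a ≫ X.hom)) (Over.homMk a) (Over.homMk b hb)
      (Over.OverMorphism.ext h))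
  let d : Y.left ⟶ Z.left := EffectiveEpi.desc f.left e.left he'
  have hd : f.left ≫ d = e.left := EffectiveEpi.fac f.left e.left he'
  have : Epi f.left := Flat.epi_of_flat_of_surjective _
  refine ⟨Over.homMk d ?_, Over.OverMorphism.ext hd, fun d' hd' => ?_⟩
  · rw [← cancel_epi f.left, ← Category.assoc, hd, Over.w, Over.w]
  · exact Over.OverMorphism.ext ((cancel_epi f.left).mp
      ((congrArg CommaMorphism.left hd').trans hd.symm))

theorem whiskerRight {f : X ⟶ Y} (hf : Cov f) (W : Over S) : Cov (f ▷ W) := by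
  refine of_isPullback (p := fst X W) (g := fst Y W) ?_ hf
  refine ⟨⟨by simp⟩, ⟨PullbackCone.IsLimit.mk _ (fun s => lift s.fst (s.snd ≫ snd Y W))
    (fun s => lift_fst _ _) (fun s => ?_) (fun s m h₁ h₂ => ?_)⟩⟩
  · apply CartesianMonoidalCategory.hom_ext <;> simp [s.condition]
  · apply CartesianMonoidalCategory.hom_ext
    · simp [h₁]
    · simp [← h₂]

theorem whiskerLeft {f : X ⟶ Y} (hf : Cov f) (W : Over S) : Cov (W ◁ f) := by
  refine of_isPullback (p := snd W X) (g := snd W Y) ?_ hf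
  refine ⟨⟨by simp⟩, ⟨PullbackCone.IsLimit.mk _ (fun s => lift (s.snd ≫ fst W Y) s.fst)
    (fun s => lift_snd _ _) (fun s => ?_) (fun s m h₁ h₂ => ?_)⟩⟩
  · apply CartesianMonoidalCategory.hom_ext <;> simp [s.condition]
  · apply CartesianMonoidalCategory.hom_ext
    · simp [← h₂]
    · simp [h₁]

theorem tensor {X' Y' : Over S} {f : X ⟶ Y} {g : X' ⟶ Y'} (hf : Cov f) (hg : Cov g) :
    Cov (f ⊗ₘ g) := by
  rw [MonoidalCategory.tensorHom_def]
  exact (hf.whiskerRight _).comp (hg.whiskerLeft _)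

end Cov

variable {H G Q : Over S} [GrpObj H] [GrpObj G] {i : H ⟶ G} {q : G ⟶ Q}

theorem cov_of_isQuotient (hq : RedSub.IsQuotient i q) : Cov q := ⟨hq.1, hq.2.1, hq.2.2.1⟩

theorem comp_mul_right (hq : RedSub.IsQuotient i q) {X : Over S} (g : X ⟶ G) (h : X ⟶ H) :
    (g * (h ≫ i)) ≫ q = g ≫ q := by
  have h2 : lift g h ≫ (G ◁ i) ≫ μ[G] = g * (h ≫ i) := by
    rw [← Category.assoc, lift_whiskerLeft, Hom.mul_def]
  have := congrArg (lift g h ≫ ·) hq.2.2.2.w
  simp only [← Category.assoc, lift_fst] at this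
  rw [Category.assoc (lift g h), h2] at this
  exact this.symm

theorem exists_eq_mul_of_comp_eq (hq : RedSub.IsQuotient i q) {X : Over S} {g g' : X ⟶ G}
    (h : g ≫ q = g' ≫ q) : ∃ k : X ⟶ H, g' = g * (k ≫ i) := by
  obtain ⟨l, h1, h2⟩ := hq.2.2.2.exists_lift g g' h
  refine ⟨l ≫ snd G H, ?_⟩
  rw [← h2, ← h1, Hom.mul_def]
  have : l = lift (l ≫ fst G H) (l ≫ snd G H) := by
    apply CartesianMonoidalCategory.hom_ext <;> simp
  conv_lhs => rw [this, ← Category.assoc, lift_whiskerLeft]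

/-- A morphism out of the group which is invariant under the subgroup descends to the quotient. -/
theorem desc_quotient (hq : RedSub.IsQuotient i q) {Z : Over S} (e : G ⟶ Z)
    (he : ∀ (X : Over S) (g : X ⟶ G) (k : X ⟶ H), (g * (k ≫ i)) ≫ e = g ≫ e) :
    ∃! d : Q ⟶ Z, q ≫ d = e :=
  (cov_of_isQuotient hq).desc e fun W a b hab => by
    obtain ⟨k, rfl⟩ := exists_eq_mul_of_comp_eq hq hab
    exact (he W a k).symm

end Groth.Agent.RedPts82
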