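import Groth.Agent.RedPts82.MonoMultClosed

/-!
The transporters of subgroups of multiplicative type in a smooth separated group are smooth.
-/

universe u

open CategoryTheory MonoidalCategory CartesianMonoidalCategory MonObj GrpObj AlgebraicGeometry
open CategoryTheory.Limits

namespace Groth.Agent.RedPts82

variable {S : Scheme.{u}}

/-- Conjugation by the point `g` carries the first subgroup into the second. -/
def ConjLE {H₁ H₂ G X : Over S} [GrpObj G] (q₁ : H₁ ⟶ G) (q₂ : H₂ ⟶ G) (g : X ⟶ G) : Prop :=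
  ∀ (Z : Over S) (x : Z ⟶ X) (h : Z ⟶ H₁),
    ∃ h', (x ≫ g) * (h ≫ q₁) * (x ≫ g)⁻¹ = h' ≫ q₂

theorem ConjLE.comp {H₁ H₂ G X Y : Over S} [GrpObj G] {q₁ : H₁ ⟶ G} {q₂ : H₂ ⟶ G} {g : X ⟶ G}
    (h : ConjLE q₁ q₂ g) (y : Y ⟶ X) : ConjLE q₁ q₂ (y ≫ g) := fun Z x t => by
  obtain ⟨h', e⟩ := h Z (x ≫ y) t
  exact ⟨h', by rwa [Category.assoc] at e⟩

section Split

variable [IsAffine S] {G : Over S} [GrpObj G] {M N : Type}
  [AddCommGroup M] [AddCommGroup N] (q₁ : Red.DS S M ⟶ G) [IsMonHom q₁] (q₂ : Red.DS S N ⟶ G)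
  [IsMonHom q₂] [Mono q₂]

set_option maxHeartbeats 2000000 in
/-- A point conjugating one diagonalisable subgroup into another modulo an ideal of square zero lifts
to such a point. -/
theorem exists_conjLE_lift {Xu : Over S} [IsAffine Xu.left] (j : Xu ⟶ G) [IsOpenImmersion j.left]
    {T : Over S} [IsAffine T.left] {J : Ideal (Gam T)} (hJ : J * J = ⊥) (g : T ⟶ Xu)
    (hg : ConjLE q₁ q₂ (redMap T J ≫ g ≫ j)) :
    ∃ k : T ⟶ Xu, redMap T J ≫ k = redMap T J ≫ g ∧ ConjLE q₁ q₂ (k ≫ j) := by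
  let g₀ : redObj T J ⟶ G := redMap T J ≫ g ≫ j
  obtain ⟨f₀, hf₀'⟩ := hg _ (fst (redObj T J) (Red.DS S M)) (snd _ _)
  have hf₀ : ∀ {Z : Over S} (z : Z ⟶ redObj T J) (t : Z ⟶ Red.DS S M),
      (CartesianMonoidalCategory.lift z t ≫ f₀) ≫ q₂ = (z ≫ g₀) * (t ≫ q₁) * (z ≫ g₀)⁻¹ :=
    fun z t => by
    rw [Category.assoc, ← hf₀']
    simp only [MonObj.comp_mul, GrpObj.comp_inv, lift_fst_assoc, lift_snd_assoc, g₀]
  obtain ⟨f, hf, hff⟩ := exists_relHom_lift hJ f₀ fun Z z t t' => by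
    rw [← cancel_mono q₂]
    simp only [MonObj.mul_comp, hf₀]
    group
  let act : Red.DS S M ⊗ (T ⊗ G) ⟶ T ⊗ G :=
    CartesianMonoidalCategory.lift (snd _ _ ≫ fst T G)
      ((CartesianMonoidalCategory.lift (snd _ _ ≫ fst T G) (fst _ _) ≫ f ≫ q₂) *
        (snd _ _ ≫ snd T G) * (fst _ _ ≫ q₁)⁻¹)
  have hact : ∀ {Z : Over S} (h : Z ⟶ Red.DS S M) (p : Z ⟶ T ⊗ G),
      CartesianMonoidalCategory.lift h p ≫ act = CartesianMonoidalCategory.lift (p ≫ fst T G)
        ((CartesianMonoidalCategory.lift (p ≫ fst T G) h ≫ f ≫ q₂) * (p ≫ snd T G) * (h ≫ q₁)⁻¹) :=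
    fun h p => by
      simp only [act, comp_lift, comp_lift_assoc, MonObj.comp_mul, GrpObj.comp_inv, lift_snd_assoc,
        lift_fst_assoc, lift_fst]
  haveI : IsOpenImmersion (T ◁ j).left := by
    rw [Over.whiskerLeft_left]
    infer_instance
  haveI : IsAffine (T ⊗ Xu).left := isAffine_tensor
  have hfirst : redMap (polyDS T M) (upIdeal T M J) ≫
        CartesianMonoidalCategory.lift (polyTu T M)
          (polyProj T M ≫ CartesianMonoidalCategory.lift (𝟙 T) g ≫ (T ◁ j)) ≫ act =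
      redMap (polyDS T M) (upIdeal T M J) ≫ polyProj T M ≫
        CartesianMonoidalCategory.lift (𝟙 T) g ≫ (T ◁ j) := by
    obtain ⟨v, hv⟩ := exists_redMap_comp (J := upIdeal T M J) (J' := J) (polyProj T M)
      fun a ha => Ideal.mem_map_of_mem _ ha
    simp only [hact, comp_lift, comp_lift_assoc, lift_whiskerLeft, Category.assoc, lift_fst,
      lift_snd, Category.comp_id, MonObj.comp_mul, GrpObj.comp_inv]
    refine congrArg₂ CartesianMonoidalCategory.lift rfl ?_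
    rw [← hv, reassoc_of% hff, ← reassoc_of% hv, ← Category.assoc _ f₀ q₂, hf₀]
    simp only [Category.assoc, g₀]
    group
  obtain ⟨k, hk, hfix⟩ := exists_fixed_lift act (fun Z h h' p => by
      simp only [hact, lift_fst, lift_snd]
      refine congrArg₂ CartesianMonoidalCategory.lift rfl ?_
      simp only [← Category.assoc]
      rw [hf, MonObj.mul_comp, MonObj.mul_comp]
      group) (T ◁ j) hJ (CartesianMonoidalCategory.lift (𝟙 T) g) hfirst
  refine ⟨k ≫ snd T Xu, by rw [reassoc_of% hk, lift_snd],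
    fun Z x h => ⟨CartesianMonoidalCategory.lift (x ≫ k ≫ fst T Xu) h ≫ f, ?_⟩⟩
  have h1 := congrArg (fun w => w ≫ snd T G) (hfix Z x h)
  simp only [hact, Category.assoc, lift_snd, whiskerLeft_fst, whiskerLeft_snd] at h1
  simp only [Category.assoc]
  rw [mul_inv_eq_iff_eq_mul]
  exact (mul_inv_eq_iff_eq_mul.mp h1).symm

/-- If conjugation carries one subgroup into the other, and onto it modulo an ideal of square zero,
it carries it onto it. -/
theorem conjLE_inv_of_conjLE [Mono q₁] {T : Over S} [IsAffine T.left] {J : Ideal (Gam T)}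
    (hJ : J * J = ⊥) (k : T ⟶ G) (hk : ConjLE q₁ q₂ k)
    (h0 : ConjLE q₂ q₁ (redMap T J ≫ k)⁻¹) : ConjLE q₂ q₁ k⁻¹ := by
  obtain ⟨f, hf'⟩ := hk _ (fst T (Red.DS S M)) (snd _ _)
  obtain ⟨e₀, he₀'⟩ := h0 _ (fst (redObj T J) (Red.DS S N)) (snd _ _)
  have hf : ∀ {Z : Over S} (z : Z ⟶ T) (t : Z ⟶ Red.DS S M),
      (CartesianMonoidalCategory.lift z t ≫ f) ≫ q₂ = (z ≫ k) * (t ≫ q₁) * (z ≫ k)⁻¹ := fun z t => by
    rw [Category.assoc, ← hf']
    simp only [MonObj.comp_mul, GrpObj.comp_inv, lift_fst_assoc, lift_snd_assoc]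
  have he₀ : ∀ {Z : Over S} (z : Z ⟶ redObj T J) (t : Z ⟶ Red.DS S N),
      (CartesianMonoidalCategory.lift z t ≫ e₀) ≫ q₁ =
        (z ≫ redMap T J ≫ k)⁻¹ * (t ≫ q₂) * (z ≫ redMap T J ≫ k) := fun z t => by
    rw [Category.assoc, ← he₀']
    simp only [MonObj.comp_mul, GrpObj.comp_inv, lift_fst_assoc, lift_snd_assoc, _root_.inv_inv]
  obtain ⟨e, he, hee⟩ := exists_relHom_lift hJ e₀ fun Z z t t' => by
    rw [← cancel_mono q₁]
    simp only [MonObj.mul_comp, he₀]
    group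
  have hfe : CartesianMonoidalCategory.lift (fst T (Red.DS S N)) e ≫ f = snd _ _ := by
    refine IsRelHom.eq_of_congr hJ (fun Z z t t' => ?_) (fun Z z t t' => ?_) fun Z z t => ?_
    · simp only [comp_lift_assoc, lift_fst]
      rw [← cancel_mono q₂]
      simp only [MonObj.mul_comp, hf]
      rw [he, MonObj.mul_comp]
      group
    · simp only [lift_snd]
    · rw [comp_lift_assoc, lift_fst, hee, lift_snd, ← cancel_mono q₂, hf, he₀]
      simp only [Category.assoc]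
      group
  intro Z x h
  refine ⟨CartesianMonoidalCategory.lift x h ≫ e, ?_⟩
  have h2 := hf x (CartesianMonoidalCategory.lift x h ≫ e)
  have h3 := congrArg (fun w => CartesianMonoidalCategory.lift x h ≫ w) hfe
  simp only [comp_lift_assoc, lift_fst, lift_snd] at h3
  rw [h3] at h2
  rw [h2, GrpObj.comp_inv]
  group

variable [Smooth G.hom]

/-- A closed subscheme of conjugating points is smooth if such points lift. -/
theorem smooth_closed_of_lift {C : Over S} (c : C ⟶ G) [IsClosedImmersion c.left]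
    [LocallyOfFinitePresentation C.hom] (P : ∀ X : Over S, (X ⟶ G) → Prop)
    (hC : ∀ (X : Over S) (g : X ⟶ G), (∃ z : X ⟶ C, z ≫ c = g) ↔ P X g)
    (hlift : ∀ (Xu : Over S) [IsAffine Xu.left] (j : Xu ⟶ G) [IsOpenImmersion j.left] (T : Over S)
      [IsAffine T.left] (J : Ideal (Gam T)), J * J = ⊥ → ∀ g : T ⟶ Xu,
      P _ (redMap T J ≫ g ≫ j) → ∃ k : T ⟶ Xu, redMap T J ≫ k = redMap T J ≫ g ∧ P _ (k ≫ j)) :
    Smooth C.hom := by
  refine IsZariskiLocalAtSource.of_openCover (P := @Smooth)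
    (G.left.affineCover.pullback₁ c.left) fun i => ?_
  let Xu : Over S := Over.mk (G.left.affineCover.f i ≫ G.hom)
  let j : Xu ⟶ G := Over.homMk (G.left.affineCover.f i) rfl
  haveI : IsAffine Xu.left := inferInstanceAs (IsAffine (G.left.affineCover.X i))
  haveI : IsOpenImmersion j.left := inferInstanceAs (IsOpenImmersion (G.left.affineCover.f i))
  haveI : Smooth Xu.hom := inferInstanceAs (Smooth (G.left.affineCover.f i ≫ G.hom))
  let CU : Over S := Over.mk (pullback.fst c.left j.left ≫ C.hom)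
  let d : CU ⟶ C := Over.homMk (pullback.fst c.left j.left) rfl
  let cu : CU ⟶ Xu := Over.homMk (pullback.snd c.left j.left) (by
    show pullback.snd c.left j.left ≫ Xu.hom = pullback.fst c.left j.left ≫ C.hom
    rw [← Over.w j, ← pullback.condition_assoc, Over.w c])
  have hsq : cu ≫ j = d ≫ c := Over.OverMorphism.ext pullback.condition.symm
  haveI : IsClosedImmersion cu.left :=
    MorphismProperty.pullback_snd (P := @IsClosedImmersion) _ _ ‹_›
  haveI : IsAffine CU.left := isAffine_of_isAffineHom cu.left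
  haveI : LocallyOfFinitePresentation CU.hom := by
    haveI : IsOpenImmersion (pullback.fst c.left j.left) := inferInstance
    exact inferInstanceAs (LocallyOfFinitePresentation (pullback.fst c.left j.left ≫ C.hom))
  show Smooth CU.hom
  refine smooth_of_lifts fun T _ J hJ g₀ => ?_
  obtain ⟨g, hg⟩ := exists_lift_of_smooth hJ (g₀ ≫ cu)
  obtain ⟨k, hk, hP⟩ := hlift Xu j T J hJ g ((hC _ _).mp ⟨g₀ ≫ d, by
    rw [reassoc_of% hg, hsq, Category.assoc]⟩)
  obtain ⟨z, hz⟩ := (hC T (k ≫ j)).mpr hP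
  let w : T ⟶ CU := Over.homMk (pullback.lift z.left k.left (congrArg CommaMorphism.left hz)) (by
    show pullback.lift z.left k.left _ ≫ pullback.fst _ _ ≫ C.hom = T.hom
    rw [pullback.lift_fst_assoc, Over.w z])
  have hw : w ≫ cu = k := Over.OverMorphism.ext (pullback.lift_snd _ _ _)
  haveI : Mono cu := Over.mono_of_mono_left cu
  exact ⟨w, by rw [← cancel_mono cu, Category.assoc, hw, hk, hg]⟩

end Split

/-- A common covering splitting two groups of multiplicative type. -/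
theorem exists_common_cover {H₁ H₂ : Over S} [GrpObj H₁] [GrpObj H₂] (h₁ : IsMultType H₁)
    (h₂ : IsMultType H₂) :
    ∃ (S' : Scheme.{u}) (f : S' ⟶ S), Flat f ∧ Surjective f ∧
      (∀ V : S.Opens, IsAffineOpen V →
        ∃ W : S'.Opens, IsCompact (W : Set S') ∧ f.base '' (W : Set S') = (V : Set S)) ∧
      ∀ s' : S', ∃ W : S'.Opens, s' ∈ W ∧ IsAffineOpen W ∧
        (∃ (M : Type) (_ : AddCommGroup M) (a : Red.DS (W : Scheme.{u}) M ⟶ Red.bc (W.ι ≫ f) H₁),
          IsMonHom a ∧ Mono a ∧ ∀ (X : Over (W : Scheme.{u})) (h : X ⟶ Red.bc (W.ι ≫ f) H₁),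
            ∃ t, t ≫ a = h) ∧
        (∃ (M : Type) (_ : AddCommGroup M) (a : Red.DS (W : Scheme.{u}) M ⟶ Red.bc (W.ι ≫ f) H₂),
          IsMonHom a ∧ Mono a ∧ ∀ (X : Over (W : Scheme.{u})) (h : X ⟶ Red.bc (W.ι ≫ f) H₂),
            ∃ t, t ≫ a = h) := by
  obtain ⟨S₁, f₁, hf₁, hs₁, hqc₁, hloc₁⟩ := h₁
  obtain ⟨S₂, f₂, hf₂, hs₂, hqc₂, hloc₂⟩ := h₂
  refine ⟨pullback f₁ f₂, pullback.fst f₁ f₂ ≫ f₁, inferInstance, inferInstance, fun V hV => ?_,
    fun s => ?_⟩
  · obtain ⟨W₁, hc₁, hW₁⟩ := hqc₁ V hV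
    obtain ⟨W₂, hc₂, hW₂⟩ := hqc₂ V hV
    refine ⟨pullback.fst f₁ f₂ ⁻¹ᵁ W₁ ⊓ pullback.snd f₁ f₂ ⁻¹ᵁ W₂, ?_, ?_⟩
    · have hr₁ : Set.range (W₁.ι ≫ f₁).base ⊆ Set.range V.ι.base := by
        rintro _ ⟨w, rfl⟩
        have : f₁ w.1 ∈ (V : Set S) := hW₁ ▸ ⟨w.1, w.2, rfl⟩
        exact ⟨⟨_, this⟩, rfl⟩
      have hr₂ : Set.range (W₂.ι ≫ f₂).base ⊆ Set.range V.ι.base := by
        rintro _ ⟨w, rfl⟩
        have : f₂ w.1 ∈ (V : Set S) := hW₂ ▸ ⟨w.1, w.2, rfl⟩
        exact ⟨⟨_, this⟩, rfl⟩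
      let k₁ := IsOpenImmersion.lift V.ι (W₁.ι ≫ f₁) hr₁
      let k₂ := IsOpenImmersion.lift V.ι (W₂.ι ≫ f₂) hr₂
      let ψ : pullback k₁ k₂ ⟶ pullback f₁ f₂ := pullback.map k₁ k₂ f₁ f₂ W₁.ι W₂.ι V.ι
        (IsOpenImmersion.lift_fac _ _ _) (IsOpenImmersion.lift_fac _ _ _)
      haveI : IsAffine (V : Scheme.{u}) := hV
      haveI : CompactSpace (W₁ : Scheme.{u}) := isCompact_iff_compactSpace.mp hc₁
      haveI : CompactSpace (W₂ : Scheme.{u}) := isCompact_iff_compactSpace.mp hc₂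
      haveI : QuasiCompact k₂ := (quasiCompact_iff_compactSpace k₂).mpr inferInstance
      haveI : CompactSpace (pullback k₁ k₂ : Scheme.{u}) :=
        QuasiCompact.compactSpace_of_compactSpace (pullback.fst k₁ k₂)
      have := isCompact_range ψ.continuous
      rw [Scheme.Pullback.range_map] at this
      simpa [Scheme.Opens.range_ι] using this
    · refine le_antisymm ?_ ?_
      · rintro _ ⟨p, ⟨hp, -⟩, rfl⟩
        rw [← hW₁]
        exact ⟨_, hp, rfl⟩
      · intro v hv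
        obtain ⟨x, hx, hxv⟩ := hW₁.symm ▸ hv
        obtain ⟨y, hy, hyv⟩ := hW₂.symm ▸ hv
        obtain ⟨p, hp₁, hp₂⟩ := Scheme.Pullback.exists_preimage_pullback (f := f₁) (g := f₂) x y
          (hxv.trans hyv.symm)
        refine ⟨p, ⟨?_, ?_⟩, ?_⟩
        · show pullback.fst f₁ f₂ p ∈ W₁
          rw [hp₁]; exact hx
        · show pullback.snd f₁ f₂ p ∈ W₂
          rw [hp₂]; exact hy
        · show f₁ (pullback.fst f₁ f₂ p) = v
          rw [hp₁]; exact hxv
  · obtain ⟨U₁, hU₁, M₁, i₁, ⟨e₁⟩⟩ := hloc₁ (pullback.fst f₁ f₂ s)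
    obtain ⟨U₂, hU₂, M₂, i₂, ⟨e₂⟩⟩ := hloc₂ (pullback.snd f₁ f₂ s)
    obtain ⟨W, hW, hsW, hWU⟩ := exists_isAffineOpen_mem_and_subset (x := s)
      (U := pullback.fst f₁ f₂ ⁻¹ᵁ U₁ ⊓ pullback.snd f₁ f₂ ⁻¹ᵁ U₂) ⟨hU₁, hU₂⟩
    have hr₁ : Set.range (W.ι ≫ pullback.fst f₁ f₂).base ⊆ Set.range U₁.ι.base := by
      rintro _ ⟨w, rfl⟩
      exact ⟨⟨_, (hWU w.2).1⟩, rfl⟩
    have hr₂ : Set.range (W.ι ≫ pullback.snd f₁ f₂).base ⊆ Set.range U₂.ι.base := by
      rintro _ ⟨w, rfl⟩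
      exact ⟨⟨_, (hWU w.2).2⟩, rfl⟩
    refine ⟨W, hsW, hW, ⟨M₁, i₁, exists_ds_cover_mono (IsOpenImmersion.lift U₁.ι _ hr₁)
      (U₁.ι ≫ f₁) _ ?_ e₁⟩, M₂, i₂, exists_ds_cover_mono (IsOpenImmersion.lift U₂.ι _ hr₂)
      (U₂.ι ≫ f₂) _ ?_ e₂⟩
    · rw [IsOpenImmersion.lift_fac_assoc, Category.assoc]
    · rw [IsOpenImmersion.lift_fac_assoc, Category.assoc, pullback.condition]

/-- Conjugation conditions after base change, on covers by diagonalisable groups. -/
theorem conjLE_bc_iff {H₁ H₂ G : Over S} [GrpObj G] {W : Scheme.{u}} (φ : W ⟶ S)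
    (i₁ : H₁ ⟶ G) (i₂ : H₂ ⟶ G) {D₁ D₂ : Over W} (a₁ : D₁ ⟶ Red.bc φ H₁)
    (a₂ : D₂ ⟶ Red.bc φ H₂) (hs₁ : ∀ (X : Over W) (h : X ⟶ Red.bc φ H₁), ∃ t, t ≫ a₁ = h)
    (hs₂ : ∀ (X : Over W) (h : X ⟶ Red.bc φ H₂), ∃ t, t ≫ a₂ = h) {X : Over W}
    (g : X ⟶ Red.bc φ G) :
    ConjLE (a₁ ≫ (Over.pullback φ).map i₁) (a₂ ≫ (Over.pullback φ).map i₂) g ↔
      ConjLE i₁ i₂ (toBase φ g) := by
  constructor
  · intro hg X' x t
    let X₁ : Over W := Over.mk (x.left ≫ X.hom)
    have hw : x.left ≫ X.hom ≫ φ = X'.hom := Over.w x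
    let α : (Over.map φ).obj X₁ ≅ X' := Over.isoMk (Iso.refl _) (by simpa [X₁] using hw.symm)
    let x₁ : X₁ ⟶ X := Over.homMk x.left rfl
    obtain ⟨t₁, ht₁⟩ := hs₁ X₁ (ofBase φ (α.hom ≫ t))
    have hx₁ : toBase φ (x₁ ≫ g) = α.hom ≫ x ≫ toBase φ g := by
      rw [toBase_comp, ← Category.assoc α.hom]
      congr 1
    obtain ⟨t₂, e⟩ := hg X₁ x₁ t₁
    have e' := congrArg (toBase φ) e
    simp only [← Category.assoc, toBase_mul, toBase_inv, toBase_comp_map, ht₁, toBase_ofBase] at e'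
    rw [hx₁] at e'
    refine ⟨α.inv ≫ toBase φ (t₂ ≫ a₂), ?_⟩
    rw [← cancel_epi α.hom]
    simp only [MonObj.comp_mul, GrpObj.comp_inv, Category.assoc, Iso.hom_inv_id_assoc] at e' ⊢
    exact e'
  · intro hg X' x h
    obtain ⟨h', e⟩ := hg _ ((Over.map φ).map x) (toBase φ (h ≫ a₁))
    obtain ⟨t, ht⟩ := hs₂ X' (ofBase φ h')
    refine ⟨t, toBase_injective φ ?_⟩
    simp only [← Category.assoc, toBase_mul, toBase_inv, toBase_comp_map, ht, toBase_ofBase]
    rw [toBase_comp φ x]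
    exact e

theorem exists_closed_conjLE {H₁ H₂ G : Over S} [GrpObj H₁] [GrpObj G] (h₁ : IsMultType H₁)
    [IsSeparated G.hom] (i₁ : H₁ ⟶ G) (i₂ : H₂ ⟶ G) [IsClosedImmersion i₂.left]
    [LocallyOfFinitePresentation i₂.left] :
    ∃ (C : Over S) (c : C ⟶ G), IsClosedImmersion c.left ∧ LocallyOfFinitePresentation c.left ∧
      ∀ (X : Over S) (g : X ⟶ G), (∃ z : X ⟶ C, z ≫ c = g) ↔ ConjLE i₁ i₂ g := by
  haveI := isMultType_isAffineHom h₁
  obtain ⟨C, c, hc, hC, hfp⟩ := exists_transporter_fp (isEssentiallyFree_of_isMultType h₁)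
    (fst G H₁ * (snd G H₁ ≫ i₁) * (fst G H₁)⁻¹) i₂
  refine ⟨C, c, hc, hfp inferInstance ‹_›, fun X g => (hC X g).trans
    (forall_congr' fun X' => forall_congr' fun x => forall_congr' fun a => ?_)⟩
  simp only [MonObj.comp_mul, GrpObj.comp_inv, lift_fst, lift_snd_assoc]

set_option maxHeartbeats 1000000 in
/-- The scheme of points conjugating a subgroup of multiplicative type into another one is smooth. -/
theorem exists_smooth_transporterLE {H₁ H₂ G : Over S} [GrpObj H₁] [GrpObj H₂] [GrpObj G]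
    (h₁ : IsMultType H₁) (h₂ : IsMultType H₂) [IsSeparated G.hom] [Smooth G.hom]
    (i₁ : H₁ ⟶ G) [IsMonHom i₁] (i₂ : H₂ ⟶ G) [IsMonHom i₂] [IsClosedImmersion i₂.left]
    [LocallyOfFinitePresentation i₂.left] :
    ∃ (C : Over S) (c : C ⟶ G), IsClosedImmersion c.left ∧ Smooth C.hom ∧
      ∀ (X : Over S) (g : X ⟶ G), (∃ z : X ⟶ C, z ≫ c = g) ↔ ConjLE i₁ i₂ g := by
  obtain ⟨C, c, hc, hcfp, hC⟩ := exists_closed_conjLE h₁ i₁ i₂
  haveI : LocallyOfFinitePresentation C.hom := by rw [← Over.w c]; infer_instance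
  refine ⟨C, c, hc, ?_, hC⟩
  obtain ⟨S', f, hf, hs, hqc, hloc⟩ := exists_common_cover h₁ h₂
  haveI : MorphismProperty.DescendsAlong (@Smooth : MorphismProperty Scheme.{u}) Unr55.fpqc.{u} := by
    unfold Unr55.fpqc; infer_instance
  refine prop_of_fpqc_cover (@Smooth) C.hom f hqc fun s' => ?_
  obtain ⟨W, hsW, hW, ⟨M, _, a₁, ha₁, -, hs₁⟩, ⟨N, _, a₂, ha₂, hm₂, hs₂⟩⟩ := hloc s'
  refine ⟨W, hsW, ?_⟩
  let φ : (W : Scheme.{u}) ⟶ S := W.ι ≫ f
  haveI : IsAffine (W : Scheme.{u}) := hW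
  haveI : Smooth (Red.bc φ G).hom := MorphismProperty.pullback_snd (P := @Smooth) _ _ ‹_›
  haveI : IsSeparated (Red.bc φ G).hom := MorphismProperty.pullback_snd (P := @IsSeparated) _ _ ‹_›
  haveI : LocallyOfFinitePresentation (Red.bc φ C).hom :=
    MorphismProperty.pullback_snd (P := @LocallyOfFinitePresentation) _ _ ‹_›
  haveI : IsClosedImmersion ((Over.pullback φ).map c).left :=
    MorphismProperty.baseChange_map φ c inferInstance
  haveI : Mono ((Over.pullback φ).map i₂) := by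
    haveI : IsClosedImmersion ((Over.pullback φ).map i₂).left :=
      MorphismProperty.baseChange_map φ i₂ inferInstance
    exact Over.mono_of_mono_left _
  show Smooth (Red.bc φ C).hom
  refine smooth_closed_of_lift ((Over.pullback φ).map c)
    (fun X g => ConjLE (a₁ ≫ (Over.pullback φ).map i₁) (a₂ ≫ (Over.pullback φ).map i₂) g)
    (fun X g => ?_) fun Xu _ j _ T _ J hJ g hg => exists_conjLE_lift _ _ j hJ g hg
  rw [conjLE_bc_iff φ i₁ i₂ a₁ a₂ hs₁ hs₂, ← hC]
  exact ⟨fun ⟨z, hz⟩ => ⟨toBase φ z, by rw [← hz, toBase_comp_map]⟩, fun ⟨z, hz⟩ =>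
    ⟨ofBase φ z, toBase_injective φ (by rw [toBase_comp_map, toBase_ofBase, hz])⟩⟩

set_option maxHeartbeats 1000000 in
/-- The scheme of points conjugating a subgroup of multiplicative type onto another one is smooth. -/
theorem exists_smooth_transporterEQ {H₁ H₂ G : Over S} [GrpObj H₁] [GrpObj H₂] [GrpObj G]
    (h₁ : IsMultType H₁) (h₂ : IsMultType H₂) [IsSeparated G.hom] [Smooth G.hom]
    (i₁ : H₁ ⟶ G) [IsMonHom i₁] [IsClosedImmersion i₁.left] [LocallyOfFinitePresentation i₁.left]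
    (i₂ : H₂ ⟶ G) [IsMonHom i₂] [IsClosedImmersion i₂.left]
    [LocallyOfFinitePresentation i₂.left] :
    ∃ (C : Over S) (c : C ⟶ G), IsClosedImmersion c.left ∧ Smooth C.hom ∧
      ∀ (X : Over S) (g : X ⟶ G), (∃ z : X ⟶ C, z ≫ c = g) ↔
        (ConjLE i₁ i₂ g ∧ ConjLE i₂ i₁ g⁻¹) := by
  obtain ⟨A, a, ha, hafp, hA⟩ := exists_closed_conjLE h₁ i₁ i₂
  obtain ⟨B, b, hb, hbfp, hB⟩ := exists_closed_conjLE h₂ i₂ i₁
  let b' : B ⟶ G := b ≫ (inv : G ⟶ G)
  have hinv : ∀ {X : Over S} (g : X ⟶ G), g ≫ (inv : G ⟶ G) = g⁻¹ := fun g =>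
    (Hom.inv_def g).symm
  haveI : IsIso (inv : G ⟶ G) := ⟨(inv : G ⟶ G), by rw [hinv, Hom.inv_def]; simp, by rw [hinv, Hom.inv_def]; simp⟩
  haveI : IsIso (inv : G ⟶ G).left := inferInstanceAs (IsIso ((Over.forget S).map (inv : G ⟶ G)))
  haveI : IsClosedImmersion b'.left := by rw [Over.comp_left]; infer_instance
  haveI : LocallyOfFinitePresentation b'.left := by rw [Over.comp_left]; infer_instance
  let C : Over S := Over.mk (pullback.fst a.left b'.left ≫ A.hom)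
  let c : C ⟶ G := Over.homMk (pullback.fst a.left b'.left ≫ a.left) (by
    show (_ ≫ _) ≫ G.hom = _ ≫ A.hom
    rw [Category.assoc, Over.w a])
  haveI : IsClosedImmersion c.left := by
    haveI : IsClosedImmersion (pullback.fst a.left b'.left) :=
      MorphismProperty.pullback_fst (P := @IsClosedImmersion) _ _ ‹_›
    exact inferInstanceAs (IsClosedImmersion (pullback.fst a.left b'.left ≫ a.left))
  haveI : LocallyOfFinitePresentation c.left := by
    haveI : LocallyOfFinitePresentation (pullback.fst a.left b'.left) :=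
      MorphismProperty.pullback_fst (P := @LocallyOfFinitePresentation) _ _ ‹_›
    exact inferInstanceAs (LocallyOfFinitePresentation (pullback.fst a.left b'.left ≫ a.left))
  haveI : LocallyOfFinitePresentation C.hom := by rw [← Over.w c]; infer_instance
  have hC : ∀ (X : Over S) (g : X ⟶ G), (∃ z : X ⟶ C, z ≫ c = g) ↔
      (ConjLE i₁ i₂ g ∧ ConjLE i₂ i₁ g⁻¹) := by
    intro X g
    rw [← hA, ← hB]
    constructor
    · rintro ⟨z, rfl⟩
      refine ⟨⟨Over.homMk (z.left ≫ pullback.fst _ _) (by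
          rw [Category.assoc]; exact Over.w z),
        Over.OverMorphism.ext (Category.assoc _ _ _)⟩,
        Over.homMk (z.left ≫ pullback.snd _ _) ?_, ?_⟩
      · rw [Category.assoc, ← Over.w b', ← pullback.condition_assoc, Over.w a]
        exact Over.w z
      · have key : ∀ w : X ⟶ B, w ≫ b' = z ≫ c → w ≫ b = (z ≫ c)⁻¹ := fun w e => by
          rw [← e]
          show w ≫ b = (w ≫ b ≫ inv)⁻¹
          rw [← Category.assoc, hinv, _root_.inv_inv]
        refine key _ (Over.OverMorphism.ext ?_)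
        show (z.left ≫ pullback.snd _ _) ≫ b'.left = z.left ≫ pullback.fst _ _ ≫ a.left
        rw [Category.assoc, ← pullback.condition]
    · rintro ⟨⟨za, hza⟩, zb, hzb⟩
      have hzb' : zb ≫ b' = g := by
        show zb ≫ b ≫ _ = g
        rw [← Category.assoc, hzb, hinv, _root_.inv_inv]
      refine ⟨Over.homMk (pullback.lift za.left zb.left
        (congrArg CommaMorphism.left (hza.trans hzb'.symm))) ?_, Over.OverMorphism.ext ?_⟩
      · show pullback.lift za.left zb.left _ ≫ pullback.fst _ _ ≫ A.hom = X.hom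
        rw [pullback.lift_fst_assoc, Over.w za]
      · show pullback.lift za.left zb.left _ ≫ pullback.fst _ _ ≫ a.left = g.left
        rw [pullback.lift_fst_assoc]
        exact congrArg CommaMorphism.left hza
  refine ⟨C, c, ‹_›, ?_, hC⟩
  obtain ⟨S', f, hf, hs, hqc, hloc⟩ := exists_common_cover h₁ h₂
  haveI : MorphismProperty.DescendsAlong (@Smooth : MorphismProperty Scheme.{u}) Unr55.fpqc.{u} := by
    unfold Unr55.fpqc; infer_instance
  refine prop_of_fpqc_cover (@Smooth) C.hom f hqc fun s' => ?_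
  obtain ⟨W, hsW, hW, ⟨M, _, a₁, ha₁, hm₁, hs₁⟩, ⟨N, _, a₂, ha₂, hm₂, hs₂⟩⟩ := hloc s'
  refine ⟨W, hsW, ?_⟩
  let φ : (W : Scheme.{u}) ⟶ S := W.ι ≫ f
  haveI : IsAffine (W : Scheme.{u}) := hW
  haveI : Smooth (Red.bc φ G).hom := MorphismProperty.pullback_snd (P := @Smooth) _ _ ‹_›
  haveI : IsSeparated (Red.bc φ G).hom := MorphismProperty.pullback_snd (P := @IsSeparated) _ _ ‹_›
  haveI : LocallyOfFinitePresentation (Red.bc φ C).hom :=
    MorphismProperty.pullback_snd (P := @LocallyOfFinitePresentation) _ _ ‹_›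
  haveI : IsClosedImmersion ((Over.pullback φ).map c).left :=
    MorphismProperty.baseChange_map φ c inferInstance
  haveI : Mono ((Over.pullback φ).map i₁) := by
    haveI : IsClosedImmersion ((Over.pullback φ).map i₁).left :=
      MorphismProperty.baseChange_map φ i₁ inferInstance
    exact Over.mono_of_mono_left _
  haveI : Mono ((Over.pullback φ).map i₂) := by
    haveI : IsClosedImmersion ((Over.pullback φ).map i₂).left :=
      MorphismProperty.baseChange_map φ i₂ inferInstance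
    exact Over.mono_of_mono_left _
  show Smooth (Red.bc φ C).hom
  refine smooth_closed_of_lift ((Over.pullback φ).map c)
    (fun X g => ConjLE (a₁ ≫ (Over.pullback φ).map i₁) (a₂ ≫ (Over.pullback φ).map i₂) g ∧
      ConjLE (a₂ ≫ (Over.pullback φ).map i₂) (a₁ ≫ (Over.pullback φ).map i₁) g⁻¹)
    (fun X g => ?_) fun Xu _ j _ T _ J hJ g hg => ?_
  · rw [conjLE_bc_iff φ i₁ i₂ a₁ a₂ hs₁ hs₂, conjLE_bc_iff φ i₂ i₁ a₂ a₁ hs₂ hs₁, toBase_inv, ← hC]
    exact ⟨fun ⟨z, hz⟩ => ⟨toBase φ z, by rw [← hz, toBase_comp_map]⟩, fun ⟨z, hz⟩ =>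
      ⟨ofBase φ z, toBase_injective φ (by rw [toBase_comp_map, toBase_ofBase, hz])⟩⟩
  · obtain ⟨k, hk, hk'⟩ := exists_conjLE_lift _ _ j hJ g hg.1
    refine ⟨k, hk, hk', conjLE_inv_of_conjLE _ _ hJ _ hk' ?_⟩
    rw [reassoc_of% hk]
    exact hg.2

set_option backward.isDefEq.respectTransparency.types false in
theorem lfp_DS_of_fg (U : Scheme.{u}) (M : Type) [AddCommGroup M] (hM : AddGroup.FG M) :
    LocallyOfFinitePresentation (Red.DS U M).hom := by
  refine MorphismProperty.pullback_snd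
    (P := (@LocallyOfFinitePresentation : MorphismProperty Scheme.{u})) _ _ ?_
  refine (HasRingHomProperty.Spec_iff (P := @LocallyOfFinitePresentation)).mpr ?_
  refine RingHom.finitePresentation_algebraMap.mpr ?_
  haveI : Monoid.FG (Multiplicative M) := by
    haveI : AddMonoid.FG M := AddGroup.fg_iff_addMonoid_fg.mp hM
    infer_instance
  haveI : IsNoetherianRing ZU.{u} := isNoetherianRing_of_ringEquiv ℤ ULift.ringEquiv.symm
  exact Algebra.FinitePresentation.of_finiteType.mp inferInstance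

/-- A subgroup of multiplicative type and finite type of a smooth affine group is closed, of finite
presentation. -/
theorem closed_lfp_of_mono {H G : Over S} [GrpObj H] [GrpObj G] (hH : SGA3x.IsMultTypeFT H)
    [IsAffineHom G.hom] [LocallyOfFiniteType G.hom] (i : H ⟶ G) [IsMonHom i] [Mono i] :
    IsClosedImmersion i.left ∧ LocallyOfFinitePresentation i.left := by
  haveI : MorphismProperty.DescendsAlong (@LocallyOfFinitePresentation : MorphismProperty Scheme.{u})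
      Unr55.fpqc.{u} := by
    unfold Unr55.fpqc; infer_instance
  haveI : LocallyOfFinitePresentation (i.left ≫ G.hom) := by
    rw [Over.w i]
    exact isMultTypeFT_prop (@LocallyOfFinitePresentation) hH fun U M _ hM => lfp_DS_of_fg U M hM
  exact ⟨isClosedImmersion_of_mono (isMultType_of_isMultTypeFT hH) i,
    Groth.Agent.LimDesc62.lfp_of_comp i.left G.hom⟩

end Groth.Agent.RedPts82
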