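import Groth.Agent.RedPts82.HomExtend
import Groth.Agent.RedPts82.MultHopf
import Groth.Agent.RedPts82.MultEssFree
import Groth.Agent.RedPts82.MultBc
import Groth.Agent.RedPts82.Transporter
import Groth.Agent.RedPts82.Quot
import Groth.Agent.AlgGrp33.TorusBridge
import Groth.Agent.AlgSt88.UnrLqf
import Groth.Agent.SGA3b53.GlobalMult
import Groth.Agent.S5342
import Groth.Agent.S2973

/-! Extension of homomorphisms into groups of multiplicative type over normal bases. -/

set_option autoImplicit false
set_option linter.style.haveILetI false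

universe u

open CategoryTheory MonoidalCategory CartesianMonoidalCategory MonObj GrpObj AlgebraicGeometry
open CategoryTheory.Limits
open scoped TensorProduct

noncomputable section

namespace Groth.Agent.RedPts82.HomExt

theorem one_left_fst {S B : Scheme.{u}} (f : B ⟶ S) (P : Over S) [GrpObj P] :
    (η[Red.bc f P] : 𝟙_ (Over B) ⟶ Red.bc f P).left ≫ pullback.fst P.hom f =
      f ≫ (η[P] : 𝟙_ (Over S) ⟶ P).left := by
  rw [← toBase_left f (η[Red.bc f P]), MonObj.one_eq_one, toBase_one, Hom.one_def]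
  show _ ≫ (η[P] : 𝟙_ (Over S) ⟶ P).left = _
  congr 1

/-- A connected normal locally Noetherian scheme is integral. -/
theorem isIntegral_of_connected_normal {S : Scheme.{u}} [ConnectedSpace ↥S] [IsLocallyNoetherian S]
    (h : ∀ x : ↥S, IsDomain (S.presheaf.stalk x)) : IsIntegral S :=
  SchBasics.isIntegral_iff_connectedSpace_and_isDomain.mpr ⟨inferInstance, h⟩

/-- A morphism from the spectrum of a field into a point factors through a preimmersion onto it. -/
theorem exists_factor {S : Scheme.{u}} {K L : Type u} [Field K] [Field L]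
    (g : Spec (CommRingCat.of K) ⟶ S) [IsPreimmersion g] (f : Spec (CommRingCat.of L) ⟶ S)
    (h : f (IsLocalRing.closedPoint L) = g (IsLocalRing.closedPoint K)) :
    ∃ φ : Spec (CommRingCat.of L) ⟶ Spec (CommRingCat.of K), φ ≫ g = f := by
  obtain ⟨⟨s, a⟩, ha⟩ := (Scheme.SpecToEquivOfField K S).symm.surjective g
  obtain ⟨⟨t, b⟩, hb⟩ := (Scheme.SpecToEquivOfField L S).symm.surjective f
  change Spec.map a ≫ S.fromSpecResidueField s = g at ha
  change Spec.map b ≫ S.fromSpecResidueField t = f at hb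
  have hs : g (IsLocalRing.closedPoint K) = s := by
    rw [← ha, Scheme.Hom.comp_apply, Scheme.fromSpecResidueField_apply]
  have ht : f (IsLocalRing.closedPoint L) = t := by
    rw [← hb, Scheme.Hom.comp_apply, Scheme.fromSpecResidueField_apply]
  obtain rfl : t = s := by rw [← ht, h, hs]
  haveI : IsPreimmersion (Spec.map a ≫ S.fromSpecResidueField t) := by rw [ha]; infer_instance
  haveI : IsPreimmersion (Spec.map a) := IsPreimmersion.of_comp _ (S.fromSpecResidueField t)
  have hsurj : Function.Surjective a.hom := by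
    intro x
    obtain ⟨c, r, d, hd, hr, hrc⟩ := RingHom.surjectiveOnStalks_iff_forall_ideal.mp
      ((IsPreimmersion.SpecMap_iff a).mp ‹IsPreimmersion (Spec.map a)›).2 ⊥ bot_ne_top x
    have hr' : a.hom r ≠ 0 := fun h0 => hr (by simp [h0])
    have hd' : d ≠ 0 := fun h0 => hd (by simp [h0])
    refine ⟨c / r, ?_⟩
    rw [map_div₀, div_eq_iff hr', _root_.mul_comm]
    exact (mul_left_cancel₀ hd' (by rw [← _root_.mul_assoc]; exact hrc)).symm
  let e := RingEquiv.ofBijective a.hom ⟨a.hom.injective, hsurj⟩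
  refine ⟨Spec.map (CommRingCat.ofHom (b.hom.comp e.symm.toRingHom)), ?_⟩
  rw [← ha, ← hb, ← Category.assoc, ← Spec.map_comp]
  congr 2
  exact CommRingCat.hom_ext (RingHom.ext fun x => congrArg b.hom (e.symm_apply_apply x))

/-- Groups of multiplicative type and of finite type are diagonalisable etale locally, with finitely generated
character group. -/
theorem exists_etale_split_fg {S : Scheme.{u}} {T : Over S} [GrpObj T] (hT : SGA3x.IsMultTypeFT T) (s : S) :
    ∃ (V : Scheme.{u}) (h : V ⟶ S) (v : V) (M : Type) (_ : AddCommGroup M),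
      AddGroup.FG M ∧ Etale h ∧ h v = s ∧ Nonempty (Grp.mk (Red.bc h T) ≅ Grp.mk (Red.DS V M)) := by
  obtain ⟨U, hU, hsU, -⟩ := exists_isAffineOpen_mem_and_subset (U := (⊤ : S.Opens)) (x := s) trivial
  let R : Type u := Γ(S, U)
  let H := Red.bc hU.fromSpec T
  haveI : IsAffineHom T.hom := isMultTypeFT_isAffineHom hT
  haveI : IsAffine H.left :=
    haveI : IsAffineHom H.hom := inferInstanceAs (IsAffineHom (pullback.snd T.hom hU.fromSpec))
    isAffine_of_isAffineHom H.hom
  have hH : SGA3x.IsMultTypeFT H := isMultTypeFT_bc hU.fromSpec hT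
  haveI : LocallyOfFinitePresentation H.hom :=
    isMultTypeFT_prop @LocallyOfFinitePresentation hH fun W M _ hM => lfp_DS_of_fg W M hM
  obtain ⟨A, _, _, ψ, _⟩ := Hopf.exists_coord (k := R) H
  have hft : Algebra.FiniteType R A := by
    have : LocallyOfFiniteType (Spec.map (CommRingCat.ofHom (algebraMap R A))) := by
      rw [show Spec.map (CommRingCat.ofHom (algebraMap R A)) = ψ.hom.left ≫ H.hom from (Over.w ψ.hom).symm]
      haveI : IsIso ψ.hom.left := inferInstanceAs (IsIso ((Over.forget _).map ψ.hom))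
      exact (inferInstance : LocallyOfFiniteType (ψ.hom.left ≫ H.hom))
    rw [HasRingHomProperty.Spec_iff (P := @LocallyOfFiniteType)] at this
    exact RingHom.finiteType_algebraMap.mp this
  obtain ⟨F, hF, hFd⟩ := SGA3b53.isQuasiIsotrivial_of_finiteType hft (isMultType_of_isMultTypeFT_affine ψ hH)
  obtain ⟨p, hp⟩ : s ∈ Set.range hU.fromSpec := by rw [hU.range_fromSpec]; exact hsU
  obtain ⟨f, hfF, hfp⟩ : ∃ f ∈ F, f ∉ (p : PrimeSpectrum R).asIdeal := by
    by_contra hc
    refine (p : PrimeSpectrum R).isPrime.ne_top (top_le_iff.mp (hF ▸ Ideal.span_le.mpr fun f hf => ?_))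
    by_contra hn
    exact hc ⟨f, hf, hn⟩
  let Rf : Type u := Localization.Away f
  obtain ⟨R', _, _, het, hff, M, _, ⟨E⟩⟩ := hFd f hfF
  haveI := hff
  obtain ⟨q, hq⟩ : p ∈ Set.range (PrimeSpectrum.comap (algebraMap R Rf)) := by
    rw [PrimeSpectrum.localization_away_comap_range Rf f]; exact hfp
  obtain ⟨r, hr⟩ := PrimeSpectrum.comap_surjective_of_faithfullyFlat (A := Rf) (B := R') q
  haveI : Nontrivial R' := (PrimeSpectrum.nonempty_iff_nontrivial (R := R')).mp ⟨r⟩
  obtain ⟨ψ₁, _⟩ := Hopf.exists_coord_bc Rf ψ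
  obtain ⟨ψ₂, _⟩ := Hopf.exists_coord_bc R' ψ₁
  haveI : Algebra.FiniteType R' (MonoidAlgebra R' M) :=
    Algebra.FiniteType.equiv (inferInstance : Algebra.FiniteType R' (R' ⊗[Rf] (Rf ⊗[R] A)))
      (E : (R' ⊗[Rf] (Rf ⊗[R] A)) ≃ₐ[R'] MonoidAlgebra R' M)
  obtain ⟨M', _, hM', ⟨eM⟩⟩ := exists_small_model M
    ((MonoidAlgebra.finiteType_iff_group_fg (R := R')).1 inferInstance)
  obtain ⟨ψD, _⟩ := Hopf.exists_coord_DS R' M'
  obtain ⟨e⟩ := Hopf.nonempty_grpIso ψD ψ₂ (E.trans (MonoidAlgebra.domCongrBialgEquiv R' R' eM)).symm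
  let a₁ := Spec.map (CommRingCat.ofHom (algebraMap R Rf))
  let a₂ := Spec.map (CommRingCat.ofHom (algebraMap Rf R'))
  obtain ⟨i₁⟩ := AlgGrp33.nonempty_bc_comp a₂ a₁ H
  obtain ⟨i₂⟩ := AlgGrp33.nonempty_bc_comp (a₂ ≫ a₁) hU.fromSpec T
  haveI : IsOpenImmersion a₁ := IsOpenImmersion.of_isLocalization f
  haveI : Etale a₂ := by
    rw [HasRingHomProperty.Spec_iff (P := @Etale)]
    exact RingHom.etale_algebraMap.mpr het
  refine ⟨Spec (CommRingCat.of R'), (a₂ ≫ a₁) ≫ hU.fromSpec, r, M', inferInstance, hM', inferInstance, ?_,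
    ⟨i₂.symm ≪≫ i₁.symm ≪≫ e⟩⟩
  rw [Scheme.Hom.comp_apply, Scheme.Hom.comp_apply, ← hp, ← hq, ← hr]
  rfl

/-- Groups of multiplicative type and of finite type are diagonalisable etale locally. -/
theorem exists_etale_split {S : Scheme.{u}} {T : Over S} [GrpObj T] (hT : SGA3x.IsMultTypeFT T) (s : S) :
    ∃ (V : Scheme.{u}) (h : V ⟶ S) (v : V) (M : Type) (_ : AddCommGroup M),
      Etale h ∧ h v = s ∧ Nonempty (Grp.mk (Red.bc h T) ≅ Grp.mk (Red.DS V M)) := by
  obtain ⟨V, h, v, M, i, -, h1, h2, h3⟩ := exists_etale_split_fg hT s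
  exact ⟨V, h, v, M, i, h1, h2, h3⟩

section Glue

variable {S : Scheme.{u}} [IsIntegral S] [IsLocallyNoetherian S] {K : Type u} [Field K]
  (g : Spec (CommRingCat.of K) ⟶ S) [IsPreimmersion g] (hg : Set.range g = {genericPoint S})
  (hS : ∀ x : S, IsIntegrallyClosed (S.presheaf.stalk x))

omit [IsIntegral S] [IsLocallyNoetherian S] [IsPreimmersion g] in
theorem isReduced_generic (Y : Over S) [Smooth Y.hom] : IsReduced (pullback Y.hom g) := by
  let P := pullback Y.hom g
  have hn := FlatMor68.NormSmooth.isNormalScheme_of_smooth (pullback.snd Y.hom g) fun z => by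
    refine ⟨inferInstance, ?_⟩
    letI := (UnitExt.isField_stalk_of_eq (S := Spec (CommRingCat.of K)) (Subsingleton.elim z _)).toField
    infer_instance
  haveI : ∀ x : P, _root_.IsReduced (P.presheaf.stalk x) := fun x => by
    haveI := (hn x).1
    infer_instance
  exact isReduced_of_isReduced_stalk (X := P)

omit [IsIntegral S] [IsLocallyNoetherian S] [IsPreimmersion g] in
/-- Equality on the generic fibre can be tested on a scheme mapping onto it. -/
theorem map_eq_of_surjective {Y T : Over S} [Smooth Y.hom] [IsSeparated T.hom] {a b : Y ⟶ T}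
    {W : Scheme.{u}} (jw : W ⟶ pullback Y.hom g) [Surjective jw]
    (h : jw ≫ pullback.fst Y.hom g ≫ a.left = jw ≫ pullback.fst Y.hom g ≫ b.left) :
    (Over.pullback g).map a = (Over.pullback g).map b := by
  haveI := isReduced_generic g Y
  have e : pullback.fst Y.hom g ≫ a.left = pullback.fst Y.hom g ≫ b.left :=
    ext_of_isDominant_of_isSeparated T.hom (by rw [Category.assoc, Category.assoc, Over.w, Over.w]) jw h
  apply Over.OverMorphism.ext
  apply pullback.hom_ext
  · exact (pullback.lift_fst _ _ _).trans (e.trans (pullback.lift_fst _ _ _).symm)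
  · exact (pullback.lift_snd _ _ _).trans (pullback.lift_snd _ _ _).symm

omit [IsIntegral S] [IsLocallyNoetherian S] in
theorem map_fst_comp_eq (Y Z : Over S) {T : Over S} (uη : Red.bc g Y ⟶ Red.bc g T) (a : Z ⟶ Y) :
    ((Over.pullback g).map a ≫ uη).left ≫ pullback.fst T.hom g =
      ((Over.pullback g).map a).left ≫ (toBase g uη).left := by
  rw [toBase_left]; rfl

omit [IsLocallyNoetherian S] in
include hg in
theorem surjective_map_generic {Y Z : Over S} (c : Y ⟶ Z)
    (hc : ∀ z : Z.left, Z.hom z = genericPoint S → z ∈ Set.range c.left) :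
    Surjective ((Over.pullback g).map c).left := by
  refine ⟨fun z => ?_⟩
  have hz := (mem_range_fst_iff g hg Z _).mp (Set.mem_range_self z)
  obtain ⟨y, hy⟩ := hc _ hz
  obtain ⟨y', rfl⟩ := (mem_range_fst_iff g hg Y y).mpr (by
    rw [← Over.w c, Scheme.Hom.comp_apply, hy]; exact hz)
  refine ⟨y', (pullback.fst Z.hom g).isEmbedding.injective (Eq.trans ?_ hy)⟩
  rw [← Scheme.Hom.comp_apply, ← Scheme.Hom.comp_apply]
  have e : ((Over.pullback g).map c).left ≫ pullback.fst Z.hom g = pullback.fst Y.hom g ≫ c.left :=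
    pullback.lift_fst _ _ _
  rw [e]

omit [IsIntegral S] [IsLocallyNoetherian S] [IsPreimmersion g] in
theorem smooth_tensor (Y Z : Over S) [Smooth Y.hom] [Smooth Z.hom] : Smooth (Y ⊗ Z).hom := by
  show Smooth (pullback.fst Y.hom Z.hom ≫ Y.hom)
  infer_instance

include hg hS in
/-- The extension over an etale chart on which the target is diagonalisable. -/
theorem exists_ext_chart {H T : Over S} [GrpObj H] [GrpObj T] [Smooth H.hom] [IsSeparated T.hom]
    (hconn : ∀ s : S, ConnectedSpace ↥(pullback H.hom (S.fromSpecResidueField s)))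
    (uη : Red.bc g H ⟶ Red.bc g T) (hone : η[Red.bc g H] ≫ uη = η[Red.bc g T])
    {V : Scheme.{u}} [IsIntegral V] (h : V ⟶ S) [Etale h] (M : Type) [AddCommGroup M]
    (hsplit : Red.IsSplitTorusWith M (Red.bc h T)) :
    ∃ w : H ⊗ Over.mk h ⟶ T,
      (Over.pullback g).map w = (Over.pullback g).map (fst H (Over.mk h)) ≫ uη := by
  haveI : IsLocallyNoetherian V := LocallyOfFiniteType.isLocallyNoetherian h
  haveI : Smooth (Over.mk h).hom := inferInstanceAs (Smooth h)
  haveI := smooth_tensor H (Over.mk h)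
  have hV : ∀ x : V, IsIntegrallyClosed (V.presheaf.stalk x) := fun x =>
    (isNormal_of_smooth hS (Over.mk h) x).2
  let XV := Red.bc h H
  haveI : Smooth XV.hom := inferInstanceAs (Smooth (pullback.snd H.hom h))
  have hXV : ∀ v : V, ConnectedSpace ↥(pullback XV.hom (V.fromSpecResidueField v)) := by
    intro v
    let a : Spec (V.residueField v) ⟶ Spec (S.residueField (h v)) := Spec.map (h.residueFieldMap v)
    have hsq : a ≫ S.fromSpecResidueField (h v) = V.fromSpecResidueField v ≫ h :=
      h.SpecMap_residueFieldMap_fromSpecResidueField v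
    haveI := hconn (h v)
    let x₀ : Spec (CommRingCat.of (S.residueField (h v))) ⟶ pullback H.hom (S.fromSpecResidueField (h v)) :=
      pullback.lift (S.fromSpecResidueField (h v) ≫ (η[H] : 𝟙_ (Over S) ⟶ H).left) (𝟙 _)
        (by rw [Category.assoc, Over.w (η[H] : 𝟙_ (Over S) ⟶ H), Category.id_comp]; exact Category.comp_id _)
    haveI : ConnectedSpace ↥(pullback (pullback.snd H.hom (S.fromSpecResidueField (h v))) a) :=
      Groth.Agent.S5342.result _ _ _ (pullback.snd H.hom (S.fromSpecResidueField (h v))) a x₀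
        (pullback.lift_snd _ _ _)
    let i := pullbackLeftPullbackSndIso H.hom (S.fromSpecResidueField (h v)) a ≪≫
      pullback.congrHom rfl hsq ≪≫ (pullbackLeftPullbackSndIso H.hom h (V.fromSpecResidueField v)).symm
    exact i.hom.homeomorph.connectedSpace_iff.mp inferInstance
  obtain ⟨L, iL, gV, igV, hgV⟩ : ∃ (L : Type u) (_ : Field L) (gV : Spec (CommRingCat.of L) ⟶ V),
      IsPreimmersion gV ∧ Set.range gV = {genericPoint V} :=
    ⟨V.residueField (genericPoint V), inferInstance, V.fromSpecResidueField (genericPoint V),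
      (inferInstance : IsPreimmersion (V.fromSpecResidueField (genericPoint V))),
      V.range_fromSpecResidueField _⟩
  haveI := igV
  have hgo : g (IsLocalRing.closedPoint K) = genericPoint S := hg.le (Set.mem_range_self _)
  obtain ⟨φ, hφ⟩ := exists_factor g (gV ≫ h) (by
    rw [Scheme.Hom.comp_apply, show gV (IsLocalRing.closedPoint L) = genericPoint V from
      hgV.le (Set.mem_range_self _), hgo]
    exact UnitExt.map_genericPoint h)
  let q : pullback XV.hom gV ⟶ pullback H.hom g :=
    pullback.lift (pullback.fst XV.hom gV ≫ pullback.fst H.hom h) (pullback.snd XV.hom gV ≫ φ)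
      (by rw [Category.assoc, Category.assoc, pullback.condition, hφ, ← Category.assoc,
        ← Category.assoc, ← pullback.condition]; rfl)
  obtain ⟨ei⟩ := hsplit
  let tη := toBase g uη
  let t0 : (Over.map h).obj ((Over.map gV).obj (Red.bc gV XV)) ⟶ T := Over.homMk (q ≫ tη.left) (by
    rw [Category.assoc, Over.w tη]
    show q ≫ pullback.snd H.hom g ≫ g = (pullback.snd XV.hom gV ≫ gV) ≫ h
    rw [← Category.assoc, pullback.lift_snd, Category.assoc, hφ, Category.assoc])
  let t' : (Over.map gV).obj (Red.bc gV XV) ⟶ Red.DS V M := ofBase h t0 ≫ ei.hom.hom.hom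
  let oV : 𝟙_ (Over (Spec (CommRingCat.of L))) ⟶ Red.bc gV XV := η[Red.bc gV XV]
  have hone' : oV ≫ ofBase gV t' = η[Red.bc gV (Red.DS V M)] := by
    apply toBase_injective gV
    rw [toBase_comp, toBase_ofBase, MonObj.one_eq_one, toBase_one]
    rw [show t' = ofBase h t0 ≫ ei.hom.hom.hom from rfl, ← Category.assoc]
    have e1 : (Over.map gV).map oV ≫ ofBase h t0 = 1 := by
      apply toBase_injective h
      rw [toBase_comp, toBase_ofBase, toBase_one]
      apply Over.OverMorphism.ext
      show oV.left ≫ q ≫ tη.left = _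
      have e2 : (η[Red.bc g H] : _ ⟶ Red.bc g H).left ≫ tη.left = g ≫ (η[T] : 𝟙_ (Over S) ⟶ T).left := by
        have := congrArg (fun x => (toBase g x).left) hone
        simp only [toBase_comp] at this
        refine this.trans ?_
        rw [MonObj.one_eq_one, toBase_one, Hom.one_def]
        show _ ≫ (η[T] : 𝟙_ (Over S) ⟶ T).left = g ≫ _
        congr 1
      have e3 : oV.left ≫ q = φ ≫ (η[Red.bc g H] : _ ⟶ Red.bc g H).left := by
        have eH : (η[Red.bc g H] : _ ⟶ Red.bc g H).left ≫ pullback.fst H.hom g =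
            g ≫ (η[H] : 𝟙_ (Over S) ⟶ H).left := one_left_fst g H
        have eV : oV.left ≫ pullback.fst XV.hom gV ≫ pullback.fst H.hom h =
            gV ≫ h ≫ (η[H] : 𝟙_ (Over S) ⟶ H).left := by
          rw [← Category.assoc, one_left_fst gV XV, Category.assoc, one_left_fst h H]
        apply pullback.hom_ext
        · rw [Category.assoc, pullback.lift_fst, eV, Category.assoc, eH, ← Category.assoc φ, hφ,
            Category.assoc]
        · rw [Category.assoc, pullback.lift_snd, Category.assoc, ← Category.assoc]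
          erw [Over.w oV, Over.w (η[Red.bc g H] : _ ⟶ Red.bc g H)]
          simp
      rw [← Category.assoc, e3, Category.assoc, e2, ← Category.assoc, hφ, Hom.one_def]
      show _ = _ ≫ (η[T] : 𝟙_ (Over S) ⟶ T).left
      congr 1
    rw [e1]
    exact MonObj.one_comp _
  obtain ⟨u', hu'⟩ := exists_ext_DS gV hgV hV hXV M (ofBase gV t') hone'
  let z := toBase h (u' ≫ ei.inv.hom.hom)
  have hwz : z.left ≫ T.hom = pullback.fst H.hom h ≫ H.hom :=
    (Over.w z).trans pullback.condition.symm
  refine ⟨Over.homMk z.left hwz, ?_⟩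
  let jw : pullback XV.hom gV ⟶ pullback (H ⊗ Over.mk h).hom g :=
    pullback.lift (pullback.fst XV.hom gV) (pullback.snd XV.hom gV ≫ φ) (by
      rw [Category.assoc, hφ, ← Category.assoc, ← pullback.condition, Category.assoc]
      congr 1
      exact pullback.condition)
  haveI : Surjective jw := by
    refine ⟨fun p => ?_⟩
    let x := pullback.fst (H ⊗ Over.mk h).hom g p
    have hx := (mem_range_fst_iff g hg (H ⊗ Over.mk h) x).mp (Set.mem_range_self p)
    have hv : h (pullback.snd H.hom h x) = genericPoint S := by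
      rw [← hx, ← Scheme.Hom.comp_apply, ← pullback.condition]; rfl
    have hvη : pullback.snd H.hom h x = genericPoint V := by
      haveI : LocallyQuasiFinite h := (AlgSt88.unr_le_lqf h ⟨inferInstance, inferInstance⟩).1
      have hd : DiscreteTopology ↥(h ⁻¹' {genericPoint S}) :=
        isDiscrete_iff_discreteTopology.mp (h.isDiscrete_preimage_singleton _)
      have hs : (⟨genericPoint V, UnitExt.map_genericPoint h⟩ : ↥(h ⁻¹' {genericPoint S})) ⤳
          ⟨pullback.snd H.hom h x, hv⟩ :=
        (subtype_specializes_iff _ _).mpr (genericPoint_specializes _)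
      exact (congrArg Subtype.val hs.eq).symm
    obtain ⟨p', hp'⟩ : x ∈ Set.range (pullback.fst XV.hom gV) :=
      (mem_range_fst_iff gV hgV XV x).mpr hvη
    refine ⟨p', (pullback.fst (H ⊗ Over.mk h).hom g).isEmbedding.injective ?_⟩
    rw [← Scheme.Hom.comp_apply, pullback.lift_fst]
    exact hp'
  apply Over.OverMorphism.ext
  haveI : IsReduced ((Over.pullback g).obj (H ⊗ Over.mk h)).left := isReduced_generic g (H ⊗ Over.mk h)
  apply pullback.hom_ext
  · refine ext_of_isDominant_of_isSeparated T.hom ?_ jw ?_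
    · rw [Category.assoc, Category.assoc, pullback.condition, ← Category.assoc, ← Category.assoc]
      exact congrArg (· ≫ g) ((Over.w _).trans (Over.w _).symm)
    have e4 : pullback.fst XV.hom gV ≫ z.left = q ≫ tη.left := by
      have e5 : toBase gV (𝟙 (Red.bc gV XV)) ≫ u' = t' := by
        rw [← toBase_comp_map, Category.id_comp, hu', toBase_ofBase]
      have e7 : toBase gV (𝟙 (Red.bc gV XV)) ≫ (u' ≫ ei.inv.hom.hom) = ofBase h t0 := by
        rw [← Category.assoc, e5, show t' = ofBase h t0 ≫ ei.hom.hom.hom from rfl, Category.assoc]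
        have : ei.hom.hom.hom ≫ ei.inv.hom.hom = 𝟙 _ := ((Grp.forget _).mapIso ei).hom_inv_id
        rw [this, Category.comp_id]
      have e8 := congrArg (fun x => (toBase h x).left) e7
      simp only [toBase_comp, toBase_ofBase] at e8
      refine Eq.trans ?_ e8
      show _ = (toBase gV (𝟙 (Red.bc gV XV))).left ≫ z.left
      refine congrArg (· ≫ z.left) ?_
      exact ((toBase_left gV (𝟙 (Red.bc gV XV))).trans (Category.id_comp _)).symm
    rw [map_fst_comp_eq]
    refine Eq.trans ?_ ((congrArg (jw ≫ ·) (rfl : _ = ((Over.pullback g).map (fst H (Over.mk h))).left ≫ tη.left)))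
    rw [← Category.assoc jw]
    refine ((congrArg (jw ≫ ·) (pullback.lift_fst _ _ _)).trans ?_)
    rw [← Category.assoc, pullback.lift_fst]
    refine e4.trans ((congrArg (· ≫ tη.left) ?_).trans (Category.assoc _ _ _))
    apply pullback.hom_ext
    · rw [Category.assoc, pullback.lift_fst]
      erw [pullback.lift_fst]
      rw [← Category.assoc, pullback.lift_fst]
      rfl
    · rw [Category.assoc, pullback.lift_snd]
      erw [pullback.lift_snd]
      rw [pullback.lift_snd]
  · erw [Over.w, Over.w]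

include hg hS in
/-- Two morphisms from a product with an etale scheme which agree on the generic fibre agree. -/
theorem eq_of_map_eq {Y T : Over S} [Smooth Y.hom] [IsSeparated T.hom] {a b : Y ⟶ T}
    (h : (Over.pullback g).map a = (Over.pullback g).map b) : a = b := by
  haveI := isReduced_of_smooth' hS Y
  exact hom_ext_generic g hg h

include hg hS in
/-- **Extension of homomorphisms into groups of multiplicative type over normal bases.** -/
theorem exists_ext {H T : Over S} [GrpObj H] [GrpObj T] [Smooth H.hom]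
    (hconn : ∀ s : S, ConnectedSpace ↥(pullback H.hom (S.fromSpecResidueField s)))
    (hT : SGA3x.IsMultTypeFT T)
    (uη : Red.bc g H ⟶ Red.bc g T) [IsMonHom uη] :
    ∃ u : H ⟶ T, IsMonHom u ∧ (Over.pullback g).map u = uη := by
  haveI : IsAffineHom T.hom := isMultTypeFT_isAffineHom hT
  have hchart : ∀ s : S, ∃ (V : Scheme.{u}) (h : V ⟶ S), Etale h ∧ s ∈ Set.range h ∧
      ∃ w : H ⊗ Over.mk h ⟶ T,
        (Over.pullback g).map w = (Over.pullback g).map (fst H (Over.mk h)) ≫ uη := by
    intro s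
    obtain ⟨V₀, h₀, v, M, _, _, hv, hsplit⟩ := exists_etale_split hT s
    haveI : IsLocallyNoetherian V₀ := LocallyOfFiniteType.isLocallyNoetherian h₀
    haveI : Smooth (Over.mk h₀).hom := inferInstanceAs (Smooth h₀)
    haveI : IsDomain (V₀.presheaf.stalk v) := (isNormal_of_smooth hS (Over.mk h₀) v).1
    obtain ⟨W, hvW, hW⟩ := SchBasics.exists_isIntegral_nhd (X := V₀) v
    haveI := hW
    exact ⟨W, W.ι ≫ h₀, inferInstance, ⟨⟨v, hvW⟩, hv⟩,
      exists_ext_chart g hg hS hconn uη ‹IsMonHom uη›.one_hom (W.ι ≫ h₀) M (split_bc h₀ W.ι hsplit)⟩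
  have hU : ∀ s : S, ∃ (U : S.Opens) (w : H ⊗ Over.mk U.ι ⟶ T), s ∈ U ∧
      (Over.pullback g).map w = (Over.pullback g).map (fst H (Over.mk U.ι)) ≫ uη := by
    intro s
    obtain ⟨V, h, _, ⟨v, hv⟩, w, hw⟩ := hchart s
    let U : S.Opens := ⟨Set.range h, h.isOpenMap.isOpen_range⟩
    let c₀ : V ⟶ (U : Scheme.{u}) := IsOpenImmersion.lift U.ι h (by rw [Scheme.Opens.range_ι]; exact le_rfl)
    have hc₀ : c₀ ≫ U.ι = h := IsOpenImmersion.lift_fac _ _ _
    let c : Over.mk h ⟶ Over.mk U.ι := Over.homMk c₀ hc₀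
    have hcov : Cov c := by
      haveI : Etale (c₀ ≫ U.ι) := by rw [hc₀]; infer_instance
      haveI : Etale c₀ := MorphismProperty.of_postcomp (W := @Etale) (W' := @IsOpenImmersion)
        c₀ U.ι inferInstance ‹Etale (c₀ ≫ U.ι)›
      refine ⟨⟨fun x => ?_⟩, (inferInstance : Flat c₀), (inferInstance : LocallyOfFinitePresentation c₀)⟩
      obtain ⟨y, hy⟩ := x.2
      exact ⟨y, Subtype.ext ((congrArg (fun f => (ConcreteCategory.hom f.base) y) hc₀).trans hy)⟩
    have hcov' : Cov (H ◁ c) := hcov.whiskerLeft H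
    haveI : Smooth (Over.mk h).hom := inferInstanceAs (Smooth h)
    obtain ⟨d, hd, -⟩ := hcov'.desc w fun W a b hab => by
      have h1 : a ≫ fst H (Over.mk h) = b ≫ fst H (Over.mk h) := by
        have := congrArg (· ≫ fst H (Over.mk U.ι)) hab
        simpa using this
      let V2 := Over.mk h ⊗ Over.mk h
      haveI : Smooth V2.hom := smooth_tensor _ _
      haveI := smooth_tensor H V2
      let A : H ⊗ V2 ⟶ H ⊗ Over.mk h := lift (fst H V2) (snd H V2 ≫ fst _ _)
      let B : H ⊗ V2 ⟶ H ⊗ Over.mk h := lift (fst H V2) (snd H V2 ≫ snd _ _)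
      have hAB : A ≫ w = B ≫ w := eq_of_map_eq g hg hS (by
        rw [Functor.map_comp, Functor.map_comp, hw, ← Category.assoc, ← Category.assoc,
          ← Functor.map_comp, ← Functor.map_comp, lift_fst, lift_fst])
      let l : W ⟶ H ⊗ V2 := lift (a ≫ fst _ _) (lift (a ≫ snd _ _) (b ≫ snd _ _))
      have ha : a = l ≫ A := by apply CartesianMonoidalCategory.hom_ext <;> simp [l, A]
      have hb : b = l ≫ B := by apply CartesianMonoidalCategory.hom_ext <;> simp [l, B, h1]
      rw [ha, hb, Category.assoc, Category.assoc, hAB]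
    refine ⟨U, d, ⟨v, hv⟩, ?_⟩
    haveI : Surjective ((Over.pullback g).map (H ◁ c)).left :=
      surjective_map_generic g hg (H ◁ c) fun z _ => hcov'.surj.surj z
    haveI : Smooth (Over.mk U.ι).hom := inferInstanceAs (Smooth U.ι)
    haveI := smooth_tensor H (Over.mk U.ι)
    haveI : IsReduced ((Over.pullback g).obj (H ⊗ Over.mk U.ι)).left := isReduced_generic g _
    have hkey : (Over.pullback g).map (H ◁ c) ≫ (Over.pullback g).map d =
        (Over.pullback g).map (H ◁ c) ≫ (Over.pullback g).map (fst H (Over.mk U.ι)) ≫ uη := by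
      rw [← Functor.map_comp, hd, hw, ← Category.assoc, ← Functor.map_comp, whiskerLeft_fst]
    apply Over.OverMorphism.ext
    haveI : IsSeparated (Red.bc g T).hom := inferInstanceAs (IsSeparated (pullback.snd T.hom g))
    exact ext_of_isDominant_of_isSeparated (Red.bc g T).hom ((Over.w _).trans (Over.w _).symm)
      ((Over.pullback g).map (H ◁ c)).left (congrArg CommaMorphism.left hkey)
  choose U w hsU hw using hU
  haveI hsm : ∀ s, Smooth (Over.mk (U s).ι).hom := fun s => inferInstanceAs (Smooth (U s).ι)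
  let O : S → H.left.Opens := fun s => H.hom ⁻¹ᵁ U s
  have hcov : TopologicalSpace.IsOpenCover O :=
    eq_top_iff.mpr fun x _ => TopologicalSpace.Opens.mem_iSup.mpr ⟨H.hom x, hsU (H.hom x)⟩
  let k : ∀ s, Over.mk ((O s).ι ≫ H.hom) ⟶ H ⊗ Over.mk (U s).ι := fun s =>
    lift (Over.homMk (O s).ι rfl) (Over.homMk (H.hom ∣_ U s) (morphismRestrict_ι _ _))
  let f : ∀ s, (O s : Scheme.{u}) ⟶ T.left := fun s => (k s ≫ w s).left
  have hf : ∀ i j, pullback.fst (O i).ι (O j).ι ≫ f i = pullback.snd (O i).ι (O j).ι ≫ f j := by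
    intro i j
    let P : Over S := Over.mk (pullback.fst (O i).ι (O j).ι ≫ (O i).ι ≫ H.hom)
    let p₁ : P ⟶ Over.mk ((O i).ι ≫ H.hom) := Over.homMk (pullback.fst _ _) rfl
    let p₂ : P ⟶ Over.mk ((O j).ι ≫ H.hom) := Over.homMk (pullback.snd _ _) (by
      show pullback.snd (O i).ι (O j).ι ≫ (O j).ι ≫ H.hom = _
      rw [← Category.assoc, ← pullback.condition, Category.assoc]
      rfl)
    have h1 : p₁ ≫ k i ≫ fst _ _ = p₂ ≫ k j ≫ fst _ _ := by
      apply Over.OverMorphism.ext
      simpa [k, p₁, p₂] using (pullback.condition : pullback.fst (O i).ι (O j).ι ≫ _ = _)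
    let V2 := Over.mk (U i).ι ⊗ Over.mk (U j).ι
    haveI : Smooth V2.hom := smooth_tensor _ _
    haveI := smooth_tensor H V2
    let A : H ⊗ V2 ⟶ H ⊗ Over.mk (U i).ι := lift (fst H V2) (snd H V2 ≫ fst _ _)
    let B : H ⊗ V2 ⟶ H ⊗ Over.mk (U j).ι := lift (fst H V2) (snd H V2 ≫ snd _ _)
    have hAB : A ≫ w i = B ≫ w j := eq_of_map_eq g hg hS (by
      rw [Functor.map_comp, Functor.map_comp, hw, hw, ← Category.assoc, ← Category.assoc,
        ← Functor.map_comp, ← Functor.map_comp, lift_fst, lift_fst])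
    let l : P ⟶ H ⊗ V2 :=
      lift (p₁ ≫ k i ≫ fst _ _) (lift (p₁ ≫ k i ≫ snd _ _) (p₂ ≫ k j ≫ snd _ _))
    have ha : p₁ ≫ k i = l ≫ A := by apply CartesianMonoidalCategory.hom_ext <;> simp [l, A]
    have hb : p₂ ≫ k j = l ≫ B := by apply CartesianMonoidalCategory.hom_ext <;> simp [l, B, h1]
    have : p₁ ≫ k i ≫ w i = p₂ ≫ k j ≫ w j := by
      rw [← Category.assoc, ha, Category.assoc, hAB, ← Category.assoc, ← hb, Category.assoc]
    exact congrArg CommaMorphism.left this
  let C := H.left.openCoverOfIsOpenCover O hcov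
  let u₀ : H.left ⟶ T.left := C.glueMorphisms f hf
  have hu₀ : ∀ s, (O s).ι ≫ u₀ = f s := fun s => C.ι_glueMorphisms f hf s
  let u : H ⟶ T := Over.homMk u₀ (C.hom_ext _ _ fun s => by
    show (O s).ι ≫ u₀ ≫ T.hom = (O s).ι ≫ H.hom
    rw [← Category.assoc, hu₀]
    exact Over.w (k s ≫ w s))
  have hmap : (Over.pullback g).map u = uη := by
    let s₀ := genericPoint S
    let a : Over.mk ((O s₀).ι ≫ H.hom) ⟶ H := Over.homMk (O s₀).ι rfl
    have hau : a ≫ u = k s₀ ≫ w s₀ := Over.OverMorphism.ext (hu₀ s₀)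
    haveI : Surjective ((Over.pullback g).map a).left := surjective_map_generic g hg a fun z hz => by
      refine ⟨⟨z, ?_⟩, rfl⟩
      show H.hom z ∈ U s₀
      rw [hz]; exact hsU s₀
    have hkey : (Over.pullback g).map a ≫ (Over.pullback g).map u = (Over.pullback g).map a ≫ uη := by
      rw [← Functor.map_comp, hau, Functor.map_comp, hw, ← Category.assoc, ← Functor.map_comp, lift_fst]
    haveI : IsReduced ((Over.pullback g).obj H).left := isReduced_generic g H
    apply Over.OverMorphism.ext
    haveI : IsSeparated (Red.bc g T).hom := inferInstanceAs (IsSeparated (pullback.snd T.hom g))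
    exact ext_of_isDominant_of_isSeparated (Red.bc g T).hom ((Over.w _).trans (Over.w _).symm)
      ((Over.pullback g).map a).left (congrArg CommaMorphism.left hkey)
  haveI : IsMonHom ((Over.pullback g).map u) := by rw [hmap]; infer_instance
  exact ⟨u, isMonHom_of_generic g hg hS u, hmap⟩

end Glue

end Groth.Agent.RedPts82.HomExt
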