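import Groth.Agent.RedPts82.GmSmooth
import Groth.Agent.RedPts82.HomExtendMult
import Groth.Agent.RedPts82.SplitSub
import Groth.Agent.S19147

/-! Locally split tori over normal connected bases are split. -/

set_option autoImplicit false
universe u

open CategoryTheory MonoidalCategory CartesianMonoidalCategory MonObj GrpObj AlgebraicGeometry
open CategoryTheory.Limits

noncomputable section

namespace Groth.Agent.RedPts82

/-- The group algebra of a free abelian group of finite rank is formally smooth. -/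
theorem formallySmooth_free (R : Type u) [CommRing R] (r : ℕ) :
    Algebra.FormallySmooth R (MonoidAlgebra R (Multiplicative (Fin r → ℤ))) := by
  classical
  refine Algebra.FormallySmooth.of_comp_surjective fun B _ _ I hI φ => ?_
  have hu : ∀ i : Fin r, ∃ v : Bˣ, Ideal.Quotient.mk I v =
      φ (MonoidAlgebra.single (Multiplicative.ofAdd (Pi.single i 1)) 1) := fun i => by
    obtain ⟨b, hb⟩ := Ideal.Quotient.mk_surjective (I := I)
      (φ (MonoidAlgebra.single (Multiplicative.ofAdd (Pi.single i 1)) 1))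
    have hmul : IsUnit (φ (MonoidAlgebra.single (Multiplicative.ofAdd (Pi.single i (1 : ℤ))) 1)) :=
      IsUnit.map φ (IsUnit.of_mul_eq_one (b := MonoidAlgebra.single (Multiplicative.ofAdd (Pi.single i (-1 : ℤ))) (1 : R)) (by
        rw [MonoidAlgebra.single_mul_single, ← ofAdd_add, ← Pi.single_add, add_neg_cancel, Pi.single_zero,
          ofAdd_zero, _root_.one_mul]
        rfl))
    rw [← hb] at hmul
    exact ⟨((IsNilpotent.isUnit_quotient_mk_iff ⟨2, hI⟩).mp hmul).unit, by rw [IsUnit.unit_spec]; exact hb⟩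
  choose v hv using hu
  let ψ : Multiplicative (Fin r → ℤ) →* B :=
    { toFun := fun m => ((∏ i, v i ^ (Multiplicative.toAdd m i) : Bˣ) : B)
      map_one' := by simp
      map_mul' := fun a b => by
        rw [← Units.val_mul, ← Finset.prod_mul_distrib]
        simp only [toAdd_mul, Pi.add_apply, zpow_add] }
  refine ⟨MonoidAlgebra.lift R B (Multiplicative (Fin r → ℤ)) ψ, ?_⟩
  refine MonoidAlgebra.algHom_ext (fun m => ?_) (Subsingleton.elim _ _)
  let G : Multiplicative (Fin r → ℤ) →* (B ⧸ I) :=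
    (φ : MonoidAlgebra R (Multiplicative (Fin r → ℤ)) →* (B ⧸ I)).comp (MonoidAlgebra.of R _)
  have hG : ∀ i (n : ℤ), G (Multiplicative.ofAdd (Pi.single i n)) =
      ((Units.map (Ideal.Quotient.mk I : B →* B ⧸ I) (v i ^ n) : (B ⧸ I)ˣ) : B ⧸ I) := fun i n => by
    have h1 : (G.toHomUnits (Multiplicative.ofAdd (Pi.single i (1 : ℤ)))) =
        Units.map (Ideal.Quotient.mk I : B →* B ⧸ I) (v i) := Units.ext (hv i).symm
    rw [map_zpow, ← h1, ← map_zpow, ← ofAdd_zsmul, ← Pi.single_zsmul, smul_eq_mul, _root_.mul_one,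
      MonoidHom.coe_toHomUnits]
  show Ideal.Quotient.mk I (MonoidAlgebra.lift R B _ ψ (MonoidAlgebra.single m 1)) = φ _
  rw [MonoidAlgebra.lift_single, one_smul]
  have hm : m = ∏ i, Multiplicative.ofAdd (Pi.single i (Multiplicative.toAdd m i)) := by
    rw [← ofAdd_sum, Finset.univ_sum_single]
    rfl
  show _ = G m
  conv_rhs => rw [hm, map_prod]
  simp only [hG]
  rw [← Units.coe_prod, ← map_prod]
  rfl

/-- A split torus is smooth. -/
theorem smooth_DS_free (S : Scheme.{u}) (r : ℕ) : Smooth (Red.DS S (Fin r → ℤ)).hom := by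
  let R : Type u := ULift.{u} ℤ
  haveI := formallySmooth_free R r
  haveI : Monoid.FG (Multiplicative (Fin r → ℤ)) :=
    Monoid.fg_iff.mpr ((AddMonoid.fg_iff_mul_fg.mp ((AddGroup.fg_iff_addMonoid_fg).mp inferInstance)).fg_top |> Monoid.fg_def.mpr |> Monoid.fg_iff.mp)
  haveI : IsNoetherianRing R := isNoetherianRing_of_ringEquiv ℤ ULift.ringEquiv.symm
  haveI : Algebra.Smooth R (MonoidAlgebra R (Multiplicative (Fin r → ℤ))) :=
    ⟨inferInstance, Algebra.FinitePresentation.of_finiteType.mp inferInstance⟩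
  haveI : Smooth (Spec.map (CommRingCat.ofHom (algebraMap R (MonoidAlgebra R (Multiplicative (Fin r → ℤ)))))) := by
    rw [HasRingHomProperty.Spec_iff (P := @Smooth)]
    exact RingHom.smooth_algebraMap.mpr inferInstance
  exact MorphismProperty.pullback_snd (P := @Smooth) _ _ (by assumption)

theorem isTorus_DS_free (S : Scheme.{u}) (r : ℕ) : Red.IsTorus (Red.DS S (Fin r → ℤ)) :=
  ⟨S, 𝟙 S, inferInstance, inferInstance, fun V hV => ⟨V, hV.isCompact, by simp⟩,
    fun _ => ⟨⊤, trivial, r, GMod80.nonempty_bc_DS_iso _ (AddEquiv.refl _)⟩⟩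

theorem connectedSpace_fibre_DS (S : Scheme.{u}) (r : ℕ) (s : S) :
    ConnectedSpace ↥(pullback (Red.DS S (Fin r → ℤ)).hom (S.fromSpecResidueField s)) := by
  obtain ⟨e⟩ := GMod80.nonempty_bc_DS_iso (S.fromSpecResidueField s) (AddEquiv.refl (Fin r → ℤ))
  let i : Red.bc (S.fromSpecResidueField s) (Red.DS S (Fin r → ℤ)) ≅ Red.DS _ (Fin r → ℤ) :=
    (Grp.forget _).mapIso e
  haveI := (irreducible_reduced_of_isTorus (K := S.residueField s)
    (isTorus_DS_free (Spec (CommRingCat.of (S.residueField s))) r)).1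
  haveI : ConnectedSpace ↥(Red.DS (Spec (CommRingCat.of (S.residueField s))) (Fin r → ℤ)).left := inferInstance
  exact ((Over.forget _).mapIso i).hom.homeomorph.connectedSpace_iff.mpr this

variable {S : Scheme.{u}} [IsIntegral S] [IsLocallyNoetherian S]
  (hS : ∀ x : S, IsIntegrallyClosed (S.presheaf.stalk x))

include hS in
/-- Locally split tori over integral normal bases are split. -/
theorem isSplit_of_locSplit {E : Over S} [GrpObj E] (hE : LocSplit E) :
    ∃ r : ℕ, Red.IsSplitTorusWith (Fin r → ℤ) E := by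
  obtain ⟨r, ⟨e⟩⟩ := split_residue hE (genericPoint S)
  refine ⟨r, ?_⟩
  let g := S.fromSpecResidueField (genericPoint S)
  obtain ⟨a⟩ := grpIso_bc_DS g (Fin r → ℤ)
  haveI := smooth_DS_free S r
  let uη : Red.bc g (Red.DS S (Fin r → ℤ)) ⟶ Red.bc g E := (a ≪≫ e.symm).hom.hom.hom
  haveI : IsMonHom uη := (a ≪≫ e.symm).hom.hom.isMonHom_hom
  haveI : IsIso uη := inferInstanceAs (IsIso ((Grp.forget _).mapIso (a ≪≫ e.symm)).hom)
  obtain ⟨v, hv, hv'⟩ := HomExt.exists_ext (K := S.residueField (genericPoint S)) g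
    (S.range_fromSpecResidueField _) hS (connectedSpace_fibre_DS S r) (isMultTypeFT_of_locSplit hE) uη
  haveI := hv
  haveI : IsIso v := by
    refine isIso_of_fibre_connected (isMultTypeFT_DS S (Fin r → ℤ) inferInstance)
      (isMultTypeFT_of_locSplit hE) v (genericPoint S) ?_
    rw [hv']
    exact inferInstanceAs (IsIso ((Over.forget _).map uη))
  exact ⟨(Grp.mkIso' (asIso v)).symm⟩

include hS in
/-- The greatest split subtorus contains the images of homomorphisms from split tori. -/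
theorem exists_factor_greatest {T T₀ : Over S} [GrpObj T] [GrpObj T₀] (hT : SGA3x.IsMultTypeFT T)
    (j₀ : T₀ ⟶ T)
    (hmax : ∀ (T' : Over S) [GrpObj T'] (j' : T' ⟶ T) [IsMonHom j'] [Mono j'] (r' : ℕ),
      Red.IsSplitTorusWith (Fin r' → ℤ) T' → ∃ g : T' ⟶ T₀, g ≫ j₀ = j')
    (Γ' : Type) [AddCommGroup Γ'] [IsAddTorsionFree Γ'] (f : Red.DS S Γ' ⟶ T) [IsMonHom f] :
    ∃ c : Red.DS S Γ' ⟶ T₀, c ≫ j₀ = f := by
  haveI : IsAffineHom T.hom := isMultTypeFT_isAffineHom hT
  haveI : LocallyOfFinitePresentation T.hom :=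
    isMultTypeFT_prop @LocallyOfFinitePresentation hT fun W M _ hM => lfp_DS_of_fg W M hM
  obtain ⟨Q, _, j, _, f', _, hj, -, -, hf, hloc⟩ := Groth.Agent.S19147.result Γ' T f
  obtain ⟨r, hr⟩ := isSplit_of_locSplit hS (E := Q) hloc
  haveI := hj
  haveI : Mono j := (Over.forget S).mono_of_mono_map (inferInstanceAs (Mono j.left))
  obtain ⟨g, hg⟩ := hmax Q j r hr
  exact ⟨f' ≫ g, by rw [Category.assoc, hg, hf]⟩

include hS in
/-- Split subtori over an open come from split subtori. -/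
theorem exists_factor_over_open {T T₀ : Over S} [GrpObj T] [GrpObj T₀] (hT : SGA3x.IsMultTypeFT T)
    (j₀ : T₀ ⟶ T)
    (hmax : ∀ (T' : Over S) [GrpObj T'] (j' : T' ⟶ T) [IsMonHom j'] [Mono j'] (r' : ℕ),
      Red.IsSplitTorusWith (Fin r' → ℤ) T' → ∃ g : T' ⟶ T₀, g ≫ j₀ = j')
    (U : S.Opens) (hU : (U : Set S).Nonempty) (T' : Over (U : Scheme.{u})) [GrpObj T']
    (j' : T' ⟶ Red.bc U.ι T) [IsMonHom j'] {r' : ℕ} (hT' : Red.IsSplitTorusWith (Fin r' → ℤ) T') :
    ∃ g : T' ⟶ Red.bc U.ι T₀, g ≫ (Over.pullback U.ι).map j₀ = j' := by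
  haveI : IsAffineHom T.hom := isMultTypeFT_isAffineHom hT
  haveI : Nonempty U := hU.to_subtype
  haveI : IsIntegral (U : Scheme.{u}) := inferInstance
  haveI : IsLocallyNoetherian (U : Scheme.{u}) := LocallyOfFiniteType.isLocallyNoetherian U.ι
  obtain ⟨eT⟩ := hT'
  obtain ⟨d⟩ := grpIso_bc_DS U.ι (Fin r' → ℤ)
  let p := (d ≪≫ eT.symm).hom.hom.hom
  haveI : IsMonHom p := (d ≪≫ eT.symm).hom.hom.isMonHom_hom
  haveI : IsIso p := inferInstanceAs (IsIso ((Grp.forget _).mapIso (d ≪≫ eT.symm)).hom)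
  obtain ⟨gU, hgU, hgUp⟩ : ∃ gU : Spec (CommRingCat.of ((U : Scheme.{u}).residueField (genericPoint (U : Scheme.{u})))) ⟶ U,
      IsPreimmersion gU ∧ Set.range gU = {genericPoint (U : Scheme.{u})} :=
    ⟨(U : Scheme.{u}).fromSpecResidueField _,
      (inferInstance : IsPreimmersion ((U : Scheme.{u}).fromSpecResidueField (genericPoint (U : Scheme.{u})))),
      Scheme.range_fromSpecResidueField _⟩
  haveI := hgU
  let g₀ := gU ≫ U.ι
  have hg₀ : Set.range g₀ = {genericPoint S} := by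
    rw [show (⇑g₀ : _ → S) = U.ι ∘ gU from rfl, Set.range_comp, hgUp, Set.image_singleton,
      genericPoint_eq_of_isOpenImmersion U.ι]
  obtain ⟨e, hnat, he⟩ := exists_bc_comp_iso U.ι gU
  haveI := (he (Red.DS S (Fin r' → ℤ))).1
  haveI := (he T).2
  let a := p ≫ j'
  let uη := (e (Red.DS S (Fin r' → ℤ))).hom ≫ (Over.pullback gU).map a ≫ (e T).inv
  haveI := smooth_DS_free S r'
  obtain ⟨b, hb, hb'⟩ := HomExt.exists_ext g₀ hg₀ hS (connectedSpace_fibre_DS S r') hT uη
  haveI := hb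
  have hU' : ∀ x : (U : Scheme.{u}), IsIntegrallyClosed ((U : Scheme.{u}).presheaf.stalk x) := fun x =>
    (by haveI : Smooth (Over.mk U.ι).hom := inferInstanceAs (Smooth U.ι); exact (HomExt.isNormal_of_smooth hS (Over.mk U.ι) x).2)
  have hab : (Over.pullback U.ι).map b = a := by
    haveI : Smooth (Red.bc U.ι (Red.DS S (Fin r' → ℤ))).hom :=
      inferInstanceAs (Smooth (pullback.snd (Red.DS S (Fin r' → ℤ)).hom U.ι))
    haveI : IsSeparated (Red.bc U.ι T).hom := inferInstanceAs (IsSeparated (pullback.snd T.hom U.ι))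
    refine HomExt.eq_of_map_eq gU hgUp hU' ?_
    rw [← cancel_epi (e (Red.DS S (Fin r' → ℤ))).hom, hnat, hb']
    simp [uη]
  obtain ⟨c, hc⟩ := exists_factor_greatest hS hT j₀ hmax (Fin r' → ℤ) b
  refine ⟨CategoryTheory.inv p ≫ (Over.pullback U.ι).map c, ?_⟩
  rw [Category.assoc, ← Functor.map_comp, hc, hab, IsIso.inv_hom_id_assoc]

end Groth.Agent.RedPts82
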