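import Groth.Agent.RedPts82.GaCoord
import Groth.Prelude.Def_RedSub
import Mathlib.Algebra.MvPolynomial.Eval
import Mathlib.Data.List.OfFn

/-!
Powers of the additive group over an affine object as spectra of polynomial rings, and the points of
ordered products.
-/

universe u

open CategoryTheory MonoidalCategory CartesianMonoidalCategory MonObj GrpObj AlgebraicGeometry
open CategoryTheory.Limits

namespace Groth.Agent.RedPts82

variable {S : Scheme.{u}}

/-- The coordinates of a power. -/
noncomputable def powProj (X : Over S) : (m : ℕ) → Fin m → (RedSub.pow X m ⟶ X)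
  | 0 => fun k => k.elim0
  | m + 1 => Fin.cons (fst X (RedSub.pow X m)) fun k => snd X (RedSub.pow X m) ≫ powProj X m k

/-- The point of a power with given coordinates. -/
noncomputable def powTuple {W X : Over S} : {m : ℕ} → (Fin m → (W ⟶ X)) → (W ⟶ RedSub.pow X m)
  | 0, _ => toUnit W
  | _ + 1, f => lift (f 0) (powTuple fun k => f k.succ)

theorem powTuple_proj {W X : Over S} {m : ℕ} (f : Fin m → (W ⟶ X)) (k : Fin m) :
    powTuple f ≫ powProj X m k = f k := by
  induction m with
  | zero => exact k.elim0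
  | succ m ih =>
    refine Fin.cases ?_ (fun j => ?_) k
    · exact lift_fst _ _
    · show lift (f 0) (powTuple fun k => f k.succ) ≫ snd X (RedSub.pow X m) ≫ powProj X m j = _
      exact (lift_snd_assoc _ _ _).trans (ih (fun k => f k.succ) j)

theorem powProj_ext {W X : Over S} {m : ℕ} {p p' : W ⟶ RedSub.pow X m}
    (h : ∀ k, p ≫ powProj X m k = p' ≫ powProj X m k) : p = p' := by
  induction m with
  | zero => exact toUnit_unique _ _
  | succ m ih =>
    apply CartesianMonoidalCategory.hom_ext
    · exact h 0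
    · exact ih fun k => (Category.assoc _ _ _).trans ((h k.succ).trans (Category.assoc _ _ _).symm)

theorem prodMap_pt {G : Over S} [GrpObj G] {W X : Over S} {m : ℕ} (f : Fin m → (X ⟶ G))
    (w : W ⟶ RedSub.pow X m) :
    w ≫ RedSub.prodMap X m f = (List.ofFn fun k => (w ≫ powProj X m k) ≫ f k).prod := by
  induction m with
  | zero => simp [RedSub.prodMap, MonObj.comp_one]
  | succ m ih =>
    rw [List.ofFn_succ, List.prod_cons]
    show w ≫ ((fst X (RedSub.pow X m) ≫ f 0) *
      (snd X (RedSub.pow X m) ≫ RedSub.prodMap X m fun k => f k.succ)) = _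
    have key : ∀ (w : W ⟶ X ⊗ RedSub.pow X m),
        w ≫ ((fst X (RedSub.pow X m) ≫ f 0) *
          (snd X (RedSub.pow X m) ≫ RedSub.prodMap X m fun k => f k.succ)) =
        (w ≫ fst X (RedSub.pow X m) ≫ f 0) *
          (w ≫ snd X (RedSub.pow X m) ≫ RedSub.prodMap X m fun k => f k.succ) := fun w => by
      rw [MonObj.comp_mul]
    refine (key w).trans ?_
    congr 1
    refine ((Category.assoc _ _ _).symm.trans (ih (fun k => f k.succ) (w ≫ snd X (RedSub.pow X m)))).trans ?_
    congr 2

variable (Y : Over S) [IsAffine Y.left] (m : ℕ)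

/-- A power of the additive group over an affine object, as a spectrum. -/
noncomputable def polyMv : Over S :=
  Over.mk ((Spec.map (CommRingCat.ofHom (MvPolynomial.C : Gam Y →+* MvPolynomial (Fin m) (Gam Y))) ≫
    Y.left.isoSpec.inv) ≫ Y.hom)

/-- Its projection to the affine object. -/
noncomputable def mvProj : polyMv Y m ⟶ Y :=
  Over.homMk (Spec.map (CommRingCat.ofHom (MvPolynomial.C : Gam Y →+* MvPolynomial (Fin m) (Gam Y))) ≫
    Y.left.isoSpec.inv) rfl

instance : IsAffine (polyMv Y m).left :=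
  inferInstanceAs (IsAffine (Spec (CommRingCat.of (MvPolynomial (Fin m) (Gam Y)))))

/-- The identification of its global sections with the polynomial ring. -/
noncomputable def mvCoordHom : MvPolynomial (Fin m) (Gam Y) →+* Γ((polyMv Y m).left, ⊤) :=
  (Scheme.ΓSpecIso (CommRingCat.of (MvPolynomial (Fin m) (Gam Y)))).inv.hom

theorem mvCoordHom_bijective : Function.Bijective (mvCoordHom Y m) :=
  (Scheme.ΓSpecIso (CommRingCat.of (MvPolynomial (Fin m) (Gam Y)))).commRingCatIsoToRingEquiv.symm.bijective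

theorem mvProj_appTop (a : Gam Y) :
    (mvProj Y m).left.appTop a = mvCoordHom Y m (MvPolynomial.C a) := by
  show (Spec.map (CommRingCat.ofHom (MvPolynomial.C : Gam Y →+* MvPolynomial (Fin m) (Gam Y))) ≫
    Y.left.isoSpec.inv).appTop a = _
  rw [Scheme.Hom.comp_appTop, isoSpec_inv_appTop, ← Scheme.ΓSpecIso_inv_naturality]
  rfl

/-- The universal point. -/
noncomputable def mvTu : polyMv Y m ⟶ RedSub.pow (Red.Ga S) m :=
  powTuple fun k => (gaFn_surjective (mvCoordHom Y m (MvPolynomial.X k))).choose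

theorem gaFn_mvTu (k : Fin m) :
    Red.gaFn (mvTu Y m ≫ powProj (Red.Ga S) m k) = mvCoordHom Y m (MvPolynomial.X k) := by
  rw [mvTu, powTuple_proj]
  exact (gaFn_surjective (mvCoordHom Y m (MvPolynomial.X k))).choose_spec

variable {Y m} {Z : Over S}

/-- Evaluation of a polynomial at a pair of points. -/
noncomputable def evalMv (z : Z ⟶ Y) (x : Fin m → (Z ⟶ Red.Ga S)) :
    MvPolynomial (Fin m) (Gam Y) →+* Γ(Z.left, ⊤) :=
  MvPolynomial.eval₂Hom z.left.appTop.hom fun k => Red.gaFn (x k)

theorem polyMv_hom_ext {w w' : Z ⟶ polyMv Y m} (h₁ : w ≫ mvProj Y m = w' ≫ mvProj Y m)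
    (h₂ : w ≫ mvTu Y m = w' ≫ mvTu Y m) : w = w' := by
  apply Over.OverMorphism.ext
  apply ext_of_isAffine
  have : w.left.appTop.hom.comp (mvCoordHom Y m) = w'.left.appTop.hom.comp (mvCoordHom Y m) := by
    refine MvPolynomial.ringHom_ext (fun a => ?_) fun k => ?_
    · simp only [RingHom.comp_apply, ← mvProj_appTop]
      exact congrArg (fun k => k.left.appTop a) h₁
    · have e := congrArg (fun q => Red.gaFn (q ≫ powProj (Red.Ga S) m k)) h₂
      simp only [Category.assoc, gaFn_comp, ← Scheme.Hom.comp_appTop] at e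
      rw [RingHom.comp_apply, RingHom.comp_apply, ← gaFn_mvTu, ← gaFn_comp w, ← gaFn_comp w']
      simpa [gaFn_comp] using e
  refine CommRingCat.hom_ext (RingHom.ext fun x => ?_)
  obtain ⟨c, rfl⟩ := (mvCoordHom_bijective Y m).2 x
  exact congr($this c)

theorem exists_mvLift (z : Z ⟶ Y) (x : Fin m → (Z ⟶ Red.Ga S)) :
    ∃ w : Z ⟶ polyMv Y m, w ≫ mvProj Y m = z ∧ (∀ k, w ≫ mvTu Y m ≫ powProj (Red.Ga S) m k = x k) ∧
      ∀ c, w.left.appTop (mvCoordHom Y m c) = evalMv z x c := by
  let l : Z.left ⟶ (polyMv Y m).left :=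
    Z.left.toSpecΓ ≫ Spec.map (CommRingCat.ofHom (evalMv z x))
  have hl : ∀ c, l.appTop (mvCoordHom Y m c) = evalMv z x c := by
    intro c
    show (Z.left.toSpecΓ ≫ Spec.map (CommRingCat.ofHom (evalMv z x))).appTop (mvCoordHom Y m c) = _
    have e : (Scheme.ΓSpecIso (CommRingCat.of (MvPolynomial (Fin m) (Gam Y)))).inv ≫
        (Z.left.toSpecΓ ≫ Spec.map (CommRingCat.ofHom (evalMv z x))).appTop =
          CommRingCat.ofHom (evalMv z x) := by
      rw [Scheme.Hom.comp_appTop, ← Scheme.ΓSpecIso_inv_naturality_assoc, Scheme.toSpecΓ_appTop,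
        Iso.inv_hom_id]
      exact Category.comp_id _
    exact congr($e c)
  have hz : l ≫ (mvProj Y m).left = z.left := by
    apply ext_of_isAffine
    refine CommRingCat.hom_ext (RingHom.ext fun a => ?_)
    show l.appTop ((mvProj Y m).left.appTop a) = _
    rw [mvProj_appTop, hl]
    exact MvPolynomial.eval₂Hom_C _ _ a
  refine ⟨Over.homMk l ?_, Over.OverMorphism.ext hz, fun k => gaFn_injective ?_, hl⟩
  · show l ≫ (mvProj Y m).left ≫ Y.hom = Z.hom
    rw [← Category.assoc, hz]
    exact Over.w z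
  · rw [gaFn_comp, gaFn_mvTu]
    exact (hl _).trans (MvPolynomial.eval₂Hom_X' _ _ k)

/-- The object `polyMv Y m` is the product of `Y` and the power of the additive group. -/
noncomputable def mvIso (Y : Over S) [IsAffine Y.left] (m : ℕ) :
    polyMv Y m ≅ Y ⊗ RedSub.pow (Red.Ga S) m where
  hom := lift (mvProj Y m) (mvTu Y m)
  inv := (exists_mvLift (fst Y (RedSub.pow (Red.Ga S) m))
    (fun k => snd _ _ ≫ powProj (Red.Ga S) m k)).choose
  hom_inv_id := by
    obtain ⟨h₁, h₂, -⟩ := (exists_mvLift (fst Y (RedSub.pow (Red.Ga S) m))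
      (fun k => snd _ _ ≫ powProj (Red.Ga S) m k)).choose_spec
    refine polyMv_hom_ext ?_ (powProj_ext fun k => ?_)
    · rw [Category.assoc, h₁, lift_fst, Category.id_comp]
    · rw [Category.assoc, Category.assoc, h₂, lift_snd_assoc, Category.id_comp]
  inv_hom_id := by
    obtain ⟨h₁, h₂, -⟩ := (exists_mvLift (fst Y (RedSub.pow (Red.Ga S) m))
      (fun k => snd _ _ ≫ powProj (Red.Ga S) m k)).choose_spec
    apply CartesianMonoidalCategory.hom_ext
    · rw [Category.assoc, lift_fst, h₁, Category.id_comp]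
    · refine powProj_ext fun k => ?_
      simp only [Category.assoc, lift_snd_assoc, Category.id_comp]
      exact h₂ k

end Groth.Agent.RedPts82
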