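import Groth.Agent.RedPts82.SmoothDim
import Groth.Agent.RedPts82.MvCoord
import Groth.Agent.RedPts82.Extend
import Groth.Prelude.Def_RedSub
import Mathlib.Algebra.Polynomial.Laurent
import Mathlib.LinearAlgebra.SymmetricAlgebra.Basis

/-!
Relative dimensions of the additive group, of split tori and of reductive groups.
-/

universe u

open CategoryTheory MonoidalCategory CartesianMonoidalCategory MonObj GrpObj AlgebraicGeometry
open CategoryTheory.Limits Algebra

namespace Groth.Agent.RedPts82

theorem mvPolynomial_relDim (R : Type u) [CommRing R] (σ : Type) [Finite σ] :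
    IsStandardSmoothOfRelativeDimension (Nat.card σ) R (MvPolynomial σ R) := by
  let P : SubmersivePresentation R (MvPolynomial σ R) σ PEmpty.{1} :=
    { toGenerators := Generators.mvPolynomial R σ
      relation := PEmpty.elim
      span_range_relation_eq_ker := by
        simp only [Set.range_eq_empty, Ideal.span_empty]
        refine (Generators.ker_eq_ker_aeval_val _).trans ?_ |>.symm
        show RingHom.ker (MvPolynomial.aeval (R := R) (MvPolynomial.X : σ → MvPolynomial σ R)) = ⊥
        ext a
        simp
      map := PEmpty.elim
      map_inj := fun a => a.elim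
      jacobian_isUnit := by
        rw [PreSubmersivePresentation.jacobian]
        rw [LinearMap.det_eq_one_of_subsingleton, map_one]
        exact isUnit_one }
  exact P.isStandardSmoothOfRelativeDimension (by simp [Presentation.dimension])

theorem laurent_relDim (R : Type u) [CommRing R] :
    IsStandardSmoothOfRelativeDimension 1 R (MonoidAlgebra R (Multiplicative ℤ)) := by
  have h1 : IsStandardSmoothOfRelativeDimension 1 R (Polynomial R) := by
    have := mvPolynomial_relDim R PUnit.{1}
    rw [Nat.card_unique] at this
    exact IsStandardSmoothOfRelativeDimension.of_algEquiv 1 (MvPolynomial.pUnitAlgEquiv R)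
  have h0 : IsStandardSmoothOfRelativeDimension 0 (Polynomial R) (LaurentPolynomial R) :=
    IsStandardSmoothOfRelativeDimension.localization_away (Polynomial.X : Polynomial R)
  have : IsScalarTower R (Polynomial R) (LaurentPolynomial R) :=
    IsScalarTower.of_algebraMap_eq fun r => by
      rw [LaurentPolynomial.algebraMap_eq_toLaurent, Polynomial.algebraMap_eq,
        Polynomial.toLaurent_C, LaurentPolynomial.C_eq_algebraMap]
  have h2 : IsStandardSmoothOfRelativeDimension (0 + 1) R (LaurentPolynomial R) :=
    IsStandardSmoothOfRelativeDimension.trans (n := 1) (m := 0) R (Polynomial R) (LaurentPolynomial R)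
  exact IsStandardSmoothOfRelativeDimension.of_algEquiv 1
    (AddMonoidAlgebra.toMultiplicativeAlgEquiv R R ℤ)

theorem monoidAlgebra_relDim (r : ℕ) : ∀ (R : Type u) [CommRing R],
    IsStandardSmoothOfRelativeDimension r R (MonoidAlgebra R (Multiplicative (Fin r → ℤ))) := by
  induction r with
  | zero =>
    intro R _
    have := IsStandardSmoothOfRelativeDimension.id R
    exact IsStandardSmoothOfRelativeDimension.of_algEquiv 0
      (MonoidAlgebra.uniqueAlgEquiv R (A := R) (M := Multiplicative (Fin 0 → ℤ))).symm
  | succ r ih =>
    intro R _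
    let A := MonoidAlgebra R (Multiplicative ℤ)
    let B := MonoidAlgebra A (Multiplicative (Fin r → ℤ))
    have h1 : IsStandardSmoothOfRelativeDimension 1 R A := laurent_relDim R
    have h2 : IsStandardSmoothOfRelativeDimension r A B := ih A
    have h3 : IsStandardSmoothOfRelativeDimension (r + 1) R B :=
      IsStandardSmoothOfRelativeDimension.trans (n := 1) (m := r) R A B
    let e : (Multiplicative (Fin r → ℤ)) × Multiplicative ℤ ≃* Multiplicative (Fin (r + 1) → ℤ) :=
      { toFun := fun p => Multiplicative.ofAdd (Fin.cons p.2.toAdd p.1.toAdd)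
        invFun := fun q => (Multiplicative.ofAdd (Fin.tail q.toAdd), Multiplicative.ofAdd (q.toAdd 0))
        left_inv := fun p => by simp
        right_inv := fun q => by simp [Fin.cons_self_tail]
        map_mul' := fun p q => by
          apply Multiplicative.toAdd.injective
          funext k
          refine Fin.cases ?_ (fun j => ?_) k <;> simp }
    exact IsStandardSmoothOfRelativeDimension.of_algEquiv (r + 1)
      ((MonoidAlgebra.curryAlgEquiv R (A := R) (M := Multiplicative (Fin r → ℤ))
        (N := Multiplicative ℤ)).symm.trans (MonoidAlgebra.domCongr R R e))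

theorem monoidAlgebra_relDim_free (R : Type u) [CommRing R] (M : Type) [AddCommGroup M]
    [Module.Finite ℤ M] [Module.Free ℤ M] :
    IsStandardSmoothOfRelativeDimension (Module.finrank ℤ M) R (MonoidAlgebra R (Multiplicative M)) := by
  have := monoidAlgebra_relDim (Module.finrank ℤ M) R
  exact IsStandardSmoothOfRelativeDimension.of_algEquiv _
    (MonoidAlgebra.domCongr R R (AddEquiv.toMultiplicative
      (Module.finBasis ℤ M).equivFun.symm.toAddEquiv))

variable {S : Scheme.{u}}

theorem smoothOfRelativeDimension_asOver {n : ℕ} (A : Type u) [CommRing A] [Algebra ZU.{u} A]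
    (h : IsStandardSmoothOfRelativeDimension n ZU.{u} A) (k : S ⟶ Spec (CommRingCat.of ZU.{u})) :
    SmoothOfRelativeDimension n (pullback.snd (Spec.map (CommRingCat.ofHom (algebraMap ZU.{u} A))) k) := by
  have h1 : SmoothOfRelativeDimension n (Spec.map (CommRingCat.ofHom (algebraMap ZU.{u} A))) := by
    rw [HasRingHomProperty.Spec_iff (P := @SmoothOfRelativeDimension n)]
    exact RingHom.locally_of RingHom.isStandardSmoothOfRelativeDimension_respectsIso _
      ((RingHom.isStandardSmoothOfRelativeDimension_algebraMap n).2 h)
  have := smoothOfRelativeDimension_isStableUnderBaseChange.{u} n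
  exact MorphismProperty.pullback_snd _ _ h1

theorem relDim_ga : SmoothOfRelativeDimension 1 (Red.Ga S).hom := by
  refine smoothOfRelativeDimension_asOver _ ?_ _
  have h := mvPolynomial_relDim ZU.{u} PUnit.{1}
  rw [Nat.card_unique] at h
  exact IsStandardSmoothOfRelativeDimension.of_algEquiv 1
    (SymmetricAlgebra.equivMvPolynomial (Module.Basis.singleton PUnit.{1} ZU.{u})).symm

theorem relDim_DS (M : Type) [AddCommGroup M] [Module.Finite ℤ M] [Module.Free ℤ M] :
    SmoothOfRelativeDimension (Module.finrank ℤ M) (Red.DS S M).hom :=
  smoothOfRelativeDimension_asOver _ (monoidAlgebra_relDim_free _ M) _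

theorem relDim_tensor {A B : Over S} {a b : ℕ} (hA : SmoothOfRelativeDimension a A.hom)
    (hB : SmoothOfRelativeDimension b B.hom) : SmoothOfRelativeDimension (b + a) (A ⊗ B).hom := by
  have := smoothOfRelativeDimension_isStableUnderBaseChange.{u} b
  have : SmoothOfRelativeDimension b (pullback.fst A.hom B.hom) := MorphismProperty.pullback_fst _ _ hB
  show SmoothOfRelativeDimension (b + a) (pullback.fst A.hom B.hom ≫ A.hom)
  infer_instance

theorem relDim_pow {A : Over S} (hA : SmoothOfRelativeDimension 1 A.hom) :
    ∀ m : ℕ, SmoothOfRelativeDimension m (RedSub.pow A m).hom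
  | 0 => (inferInstance : SmoothOfRelativeDimension 0 (𝟙 S))
  | m + 1 => relDim_tensor hA (relDim_pow hA m)

/-- A reductive group of constant fibre dimension is smooth of that relative dimension. -/
theorem relDim_reductive {G : Over S} [GrpObj G] (hG : Red.IsReductive G) (d : ℕ)
    (hd : ∀ s : S, topologicalKrullDim ↥(Red.geomFibre s G).left = (d : WithBot ℕ∞)) :
    SmoothOfRelativeDimension d G.hom := by
  have : Smooth G.hom := hG.2.1
  refine smoothOfRelativeDimension_of_fibres G.hom d (fun s => AlgebraicClosure (S.residueField s))
    (fun s => Red.geomPt s) (fun s p => ?_) (fun s => ?_) hd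
  · show (S.fromSpecResidueField s) _ = s
    exact Scheme.fromSpecResidueField_apply s _
  · obtain ⟨haff, hsm, hconn, -⟩ := hG.2.2 s
    have : Smooth (Red.geomFibre s G).hom := hsm
    have : IsAffine (Red.geomFibre s G).left := haff
    have : ConnectedSpace (Red.geomFibre s G).left := hconn
    exact irreducibleSpace_of_connected_grp (Red.geomFibre s G)

end Groth.Agent.RedPts82
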