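import Groth.Agent.RedPts82.IsoMove

/-!
The map on the big cell extends to a homomorphism.
-/

universe u

open CategoryTheory MonoidalCategory CartesianMonoidalCategory MonObj GrpObj AlgebraicGeometry
open CategoryTheory.Limits

namespace Groth.Agent.RedPts82

variable {S : Scheme.{u}} {G G' : Over S} [GrpObj G] [GrpObj G']
  {D : Red.SplitRed G} {D' : Red.SplitRed G'} {b : D.P.Base} {b' : D'.P.Base}

namespace IsoSetup

variable (E : IsoSetup D D' b b') {l : D.M →+ ℤ} (hl : BaseChamber D b l)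
include hl

/-- Left multiplication by positive unipotent pairs. -/
theorem ext_pos_mul {X : Over S} {V : (X ⟶ G) × (X ⟶ G')} {g : X ⟶ G}
    (hV : V ∈ E.GR (posSet D l) X) (hg : InBig D l g) (hvg : InBig D l (V.1 * g)) :
    E.ext l (V.1 * g) = V.2 * E.ext l g := by
  classical
  obtain ⟨x, hx⟩ := hl.toChamber.exists_prod posEnum_injective posEnum_range (E.fst_mem_up hV)
  let m := Fintype.card {c // 0 < l (D.P.root c)}
  let P : Over S := RedSub.pow (Red.Ga S) m
  let F : Fin m → (P ⟶ G) × (P ⟶ G') := fun i =>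
    E.P (posEnum D l i) (Red.gaFn (powProj (Red.Ga S) m i))
  let pm : ℕ → (P ⟶ G) × (P ⟶ G') := fun k => ((List.ofFn F).take k).prod
  have hFpt : ∀ {Z : Over S} (y : Z ⟶ P) (i : Fin m),
      E.pc y (F i) = E.P (posEnum D l i) (Red.gaFn (y ≫ powProj (Red.Ga S) m i)) := fun y i => by
    simp only [F, E.pc_P, gaFn_comp]
  have hprod : ∀ {Z : Over S} (y : Z ⟶ P) (k : ℕ),
      E.pc y (pm k) = (((List.ofFn F).take k).map fun f => E.pc y f).prod := fun {Z} y k =>
    map_list_prod (E.pc y) _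
  have hmem : ∀ {Z : Over S} (y : Z ⟶ P) (k : ℕ), E.pc y (pm k) ∈ E.GR (posSet D l) Z := fun y k => by
    rw [hprod]
    refine list_prod_mem fun f hf => ?_
    obtain ⟨f', hf', rfl⟩ := List.mem_map.mp hf
    obtain ⟨i, rfl⟩ := (List.mem_ofFn' _ _).mp (List.mem_of_mem_take hf')
    rw [hFpt]
    exact E.P_mem (posEnum_pos i) _
  have hfst : ∀ {Z : Over S} (y : Z ⟶ P), (E.pc y (pm m)).1 =
      (List.ofFn fun i => rp D (posEnum D l i) (Red.gaFn (y ≫ powProj (Red.Ga S) m i))).prod := fun y => by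
    rw [hprod, ← MonoidHom.coe_fst, map_list_prod, List.take_of_length_le (by simp), List.map_ofFn,
      List.map_ofFn]
    congr 2
    exact funext fun i => congrArg Prod.fst (hFpt y i)
  -- along a chain of prefixes in the big cell the map is equivariant
  have chain : ∀ {Z : Over S} (y : Z ⟶ P) {h : Z ⟶ G},
      (∀ k : Fin (m + 1), InBig D l ((E.pc y (pm k)).1⁻¹ * h)) →
        E.ext l h = (E.pc y (pm m)).2 * E.ext l ((E.pc y (pm m)).1⁻¹ * h) := by
    intro Z y h hk
    suffices ∀ k, k ≤ m → E.ext l h = (E.pc y (pm k)).2 * E.ext l ((E.pc y (pm k)).1⁻¹ * h) from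
      this m le_rfl
    intro k
    induction k with
    | zero =>
      intro
      simp only [pm, List.take_zero, List.prod_nil, map_one, Prod.fst_one, Prod.snd_one, inv_one,
        _root_.one_mul]
    | succ k ih =>
      intro hk1
      have e : E.pc y (pm (k + 1)) =
          E.pc y (pm k) * E.P (posEnum D l ⟨k, hk1⟩) (Red.gaFn (y ≫ powProj (Red.Ga S) m ⟨k, hk1⟩)) := by
        rw [← hFpt, ← map_mul]
        simp only [pm]
        rw [List.prod_take_succ _ _ (by simpa using Nat.lt_of_succ_le hk1), List.getElem_ofFn]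
      have h1 := hk ⟨k + 1, by omega⟩
      have h2 := hk ⟨k, by omega⟩
      simp only at h1 h2
      have e2 : (E.pc y (pm k)).1⁻¹ * h =
          rp D (posEnum D l ⟨k, hk1⟩) (Red.gaFn (y ≫ powProj (Red.Ga S) m ⟨k, hk1⟩)) *
            ((E.pc y (pm (k + 1))).1⁻¹ * h) := by
        rw [e, Prod.fst_mul]
        simp only [IsoSetup.P]
        group
      rw [e2] at h2
      rw [ih (by omega), e2, E.ext_rp_mul hl _ h1 h2, e, Prod.snd_mul]
      simp only [IsoSetup.P]
      group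
  -- generic points of the positive part
  let A : Over S := RedSub.pow (Red.Ga S) (Fintype.card {c // 0 < (-l) (D.P.root c)}) ⊗ (D.T ⊗ P)
  let Y := X ⊗ A
  let y : Y ⟶ P := snd X A ≫ snd _ _ ≫ snd _ _
  have hy : (E.pc (fst X A) V).1⁻¹ * (E.pc y (pm m)).1 ∈ Up D l Y :=
    mul_mem (inv_mem (E.fst_mem_up (E.pc_mem _ hV))) (E.fst_mem_up (hmem _ _))
  obtain ⟨x', hx'⟩ := hl.toChamber.exists_prod posEnum_injective posEnum_range hy
  let y' : Y ⟶ P := powTuple fun i => gaPt (x' i)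
  have hy' : E.pc y' (pm m) = (E.pc (fst X A) V)⁻¹ * E.pc y (pm m) := by
    refine E.eq_of_fst hl.toChamber (hmem _ _) (mul_mem (inv_mem (E.pc_mem _ hV)) (hmem _ _)) ?_
    rw [hfst, Prod.fst_mul, Prod.fst_inv, hx']
    simp only [y', powTuple_proj, gaFn_gaPt]
  let L : Fin (m + 1) ⊕ Fin (m + 1) → (Y ⟶ G) := Sum.elim
    (fun k => (E.pc y (pm k)).1⁻¹ * (fst X A ≫ (V.1 * g))) (fun k => (E.pc y' (pm k)).1⁻¹ * (fst X A ≫ g))
  let pt : (Fin m → Γ(X.left, ⊤)) → (X ⟶ A) := fun c =>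
    lift (powTuple fun _ => gaPt 0) (lift 1 (powTuple fun i => gaPt (c i)))
  have hpc : ∀ {Z W : Over S} (q : Z ⟶ W) (w : W ⟶ P) (k : ℕ),
      E.pc q (E.pc w (pm k)) = E.pc (q ≫ w) (pm k) := fun q w k =>
    Prod.ext (Category.assoc _ _ _).symm (Category.assoc _ _ _).symm
  have hzero : ∀ {Z : Over S} (w : Z ⟶ P), (∀ i, Red.gaFn (w ≫ powProj (Red.Ga S) m i) = 0) →
      ∀ k, E.pc w (pm k) = 1 := fun w hw k => by
    rw [hprod]
    refine List.prod_eq_one fun f hf => ?_
    obtain ⟨f', hf', rfl⟩ := List.mem_map.mp hf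
    obtain ⟨i, rfl⟩ := (List.mem_ofFn' _ _).mp (List.mem_of_mem_take hf')
    rw [hFpt, hw, E.P_zero]
  have hpty : ∀ c i, Red.gaFn ((lift (𝟙 X) (pt c) ≫ y) ≫ powProj (Red.Ga S) m i) = c i := fun c i => by
    simp only [y, pt, lift_snd_assoc, lift_snd, powTuple_proj, gaFn_gaPt, Category.assoc]
  have hlift : ∀ {Z : Over S} (q : Z ⟶ X) (r : Z ⟶ A) (w : X ⟶ G),
      (lift q r : Z ⟶ Y) ≫ (fst X A ≫ w : Y ⟶ G) = q ≫ w := fun q r w => by simp [Y]
  have hcomp : ∀ {Z : Over S} (q : Z ⟶ Y) (w : Y ⟶ P) (k : ℕ) (h : X ⟶ G),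
      q ≫ ((E.pc w (pm k)).1⁻¹ * (fst X A ≫ h)) = (E.pc (q ≫ w) (pm k)).1⁻¹ * (q ≫ fst X A ≫ h) :=
    fun q w k h => by
      rw [MonObj.comp_mul, GrpObj.comp_inv, ← hpc]
      rfl
  have := hl.toChamber.openImmersion_bigMap
  obtain ⟨X', k, p, hf, hs, hL⟩ := exists_generic_point D.reductive (bigMap D l)
    (Chamber.one_range_bigMap D l) L
    (Sum.elim (fun _ => pt fun _ => 0) (fun _ => pt x)) (by
      rintro (i | i)
      · simp only [L, Sum.elim_inl, hcomp, hlift, Category.id_comp]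
        rw [hzero _ (hpty _) i, Prod.fst_one, inv_one, _root_.one_mul]
        exact hl.toChamber.range_of_inBig hvg
      · simp only [L, Sum.elim_inr, hcomp, hlift, Category.id_comp]
        rw [hzero _ (fun j => ?_) i, Prod.fst_one, inv_one, _root_.one_mul]
        · exact hl.toChamber.range_of_inBig hg
        · have e : (E.pc (lift (𝟙 X) (pt x) ≫ y') (pm m)).1 = 1 := by
            rw [← hpc, hy', map_mul, map_inv, hpc, Prod.fst_mul, Prod.fst_inv, hfst, inv_mul_eq_one]
            show lift (𝟙 X) (pt x) ≫ (fst X A ≫ V.1) = _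
            rw [hlift, Category.id_comp, hx]
            congr 2
            exact funext fun i => by rw [hpty]
          rw [hfst] at e
          exact hl.toChamber.coord_eq_zero e j)
  have := epi_of_flat_surjective k hf hs
  refine (cancel_epi k).mp ?_
  have hi : ∀ i, InBig D l (lift k p ≫ L i) := fun i => hl.toChamber.inBig_of_range (hL i)
  rw [MonObj.comp_mul, E.ext_comp hl.toChamber hvg, E.ext_comp hl.toChamber hg]
  have c1 := chain (lift k p ≫ y) (h := k ≫ (V.1 * g)) fun i => by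
    have := hi (Sum.inl i)
    simp only [L, Sum.elim_inl, hcomp, hlift] at this
    exact this
  have c2 := chain (lift k p ≫ y') (h := k ≫ g) fun i => by
    have := hi (Sum.inr i)
    simp only [L, Sum.elim_inr, hcomp, hlift] at this
    exact this
  have hVk : E.pc (lift k p) (E.pc (fst X A) V) = E.pc k V := by
    refine Prod.ext ?_ ?_
    · show lift k p ≫ (fst X A ≫ V.1) = k ≫ V.1
      rw [hlift]
    · show lift k p ≫ (fst X A ≫ V.2) = k ≫ V.2
      rw [← Category.assoc, lift_fst]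
  have ey : E.pc (lift k p ≫ y') (pm m) = (E.pc k V)⁻¹ * E.pc (lift k p ≫ y) (pm m) := by
    rw [← hpc, hy', map_mul, map_inv, hVk, hpc]
  rw [c1, c2, ey]
  simp only [Prod.fst_mul, Prod.fst_inv, Prod.snd_mul, Prod.snd_inv]
  have e1 : (E.pc k V).1 = k ≫ V.1 := rfl
  have e2 : (E.pc k V).2 = k ≫ V.2 := rfl
  rw [e1, e2, MonObj.comp_mul]
  simp only [_root_.mul_inv_rev, _root_.inv_inv, _root_.mul_assoc, mul_inv_cancel_left]

/-- The homomorphism. -/
theorem exists_hom : ∃ f : G ⟶ G', IsMonHom f ∧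
    ∀ {X : Over S} {p : (X ⟶ G) × (X ⟶ G')}, E.Tr l p → p.1 ≫ f = p.2 := by
  classical
  have := hl.toChamber.openImmersion_bigMap
  have hbig : ∀ {Z : Over S} (a : Z ⟶ _), InBig D l (a ≫ bigMap D l) := fun a =>
    hl.toChamber.inBig_of_range fun _ ⟨p, hp⟩ => ⟨_, hp⟩
  let φ := E.ext l (bigMap D l)
  have hj : InBig D l (bigMap D l) := by simpa using hbig (𝟙 _)
  obtain ⟨f, ⟨hf, hfj⟩, -⟩ := exists_extend D.reductive (Chamber.affineHom_bigMap_dom D l) (bigMap D l)
    (Chamber.one_range_bigMap D l) φ fun X a b' c e => by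
    rw [E.ext_comp hl.toChamber hj, E.ext_comp hl.toChamber hj, E.ext_comp hl.toChamber hj, e]
    have hb := hbig b'
    have hab := hbig c
    rw [e] at hab
    obtain ⟨U, hU, t, V, hV, ha⟩ := E.tr_ext hl.toChamber (hbig a)
    have ha1 := congrArg Prod.fst ha
    have ha2 := congrArg Prod.snd ha
    simp only at ha1 ha2
    rw [ha2]
    generalize b' ≫ bigMap D l = g at hb hab ⊢
    rw [ha1] at hab ⊢
    rw [show (U * E.T t * V).1 * g = U.1 * (tpt D t * (V.1 * g)) by
      simp only [Prod.fst_mul, IsoSetup.T, _root_.mul_assoc]] at hab ⊢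
    have hvg : InBig D l (V.1 * g) := by
      have := (InBig.up_mul (inv_mem (E.fst_mem_up hU)) hab).tpt_mul t⁻¹
      rw [tpt_inv] at this
      convert this using 1
      group
    have hvg' := E.ext_pos_mul hl hV hb hvg
    have htr : E.Tr l (U * (E.T t * (V.1 * g, E.ext l (V.1 * g)))) :=
      Tr.up_mul E hU (Tr.T_mul E t (E.tr_ext hl.toChamber hvg))
    have := E.ext_eq hl.toChamber htr
    simp only [Prod.fst_mul, Prod.snd_mul, IsoSetup.T] at this ⊢
    rw [this, hvg']
    simp only [_root_.mul_assoc]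
  refine ⟨f, hf, fun {X p} hp => ?_⟩
  obtain ⟨w, hw⟩ := hl.toChamber.exists_bigMap (E.tr_inBig hp)
  rw [← E.ext_eq hl.toChamber hp, ← hw, Category.assoc, hfj]
  exact E.ext_comp hl.toChamber hj w

omit hl

/-- The homomorphism induced by a morphism of pinned root data. -/
theorem exists_hom' : ∃ f : G ⟶ G', IsMonHom f ∧
    (∀ {X : Over S} (t : X ⟶ Red.DS S D.M), tpt D t ≫ f = tpt D' (E.F.fT t)) ∧
      ∀ (c : D.idx) {X : Over S} (r : Γ(X.left, ⊤)), rp D c r ≫ f = E.rpF c r := by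
  obtain ⟨l, hl⟩ := exists_baseChamber b
  obtain ⟨f, hf, h⟩ := E.exists_hom hl
  refine ⟨f, hf, fun {X} t => h (p := E.T t) ⟨1, one_mem _, t, 1, one_mem _, by group⟩,
    fun c {X} r => h (p := E.P c r) ?_⟩
  by_cases hc : 0 < l (D.P.root c)
  · exact ⟨1, one_mem _, 1, _, E.P_mem (show c ∈ posSet D l from hc) r, by rw [E.T_one]; group⟩
  · refine ⟨_, E.P_mem (show c ∈ posSet D (-l) from ?_) r, 1, 1, one_mem _, by rw [E.T_one]; group⟩
    have := hl.ne c
    show 0 < (-l) (D.P.root c)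
    rw [AddMonoidHom.neg_apply]
    omega

end IsoSetup

end Groth.Agent.RedPts82
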