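import Groth.Agent.RedPts82.Bruhat

/-!
Bruhat cells and translates of the big cell through points of the group scheme.
-/

universe u

open CategoryTheory MonoidalCategory CartesianMonoidalCategory MonObj GrpObj AlgebraicGeometry
open CategoryTheory.Limits

namespace Groth.Agent.RedPts82

variable {S : Scheme.{u}} {G : Over S} [GrpObj G] {D : Red.SplitRed G} {b : D.P.Base} {l : D.M →+ ℤ}

theorem BaseChamber.range_pos (h : BaseChamber D b l) {m : ℕ} {e : Fin m → D.idx}
    (he : RedSub.Enumerates (RedSub.posRoots D.P b) e) : Set.range e = {c | 0 < l (D.P.root c)} := by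
  rw [he.2]
  ext c
  rw [mem_posRoots_iff]
  exact (h.pos_iff c).symm

theorem BaseChamber.range_neg (h : BaseChamber D b l) {m : ℕ} {e : Fin m → D.idx}
    (he : RedSub.Enumerates (RedSub.negRoots D.P b) e) : Set.range e = {c | 0 < (-l) (D.P.root c)} := by
  rw [he.2]
  ext c
  rw [mem_negRoots_iff]
  exact (h.neg_iff c).symm

theorem wordPerm_symm_apply (w : List D.idx) (c : D.idx) :
    (RedSub.wordPerm D.P w).symm c = (Roots36.wprod D.P w)⁻¹ • c := by
  rw [Equiv.symm_apply_eq, wordPerm_apply_eq, smul_inv_smul]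

theorem BaseChamber.mem_negMeetNeg (h : BaseChamber D b l) (w : List D.idx) (c : D.idx) :
    c ∈ RedSub.negMeetNeg D.P b (RedSub.wordPerm D.P w) ↔
      0 < (-l) (D.P.root c) ∧ 0 < (-l) (D.P.root ((Roots36.wprod D.P w)⁻¹ • c)) := by
  rw [h.neg_iff, h.neg_iff, ← wordPerm_symm_apply, ← mem_negRoots_iff, ← mem_negRoots_iff]
  rfl

theorem acts_of_realises {nr : D.idx → (𝟙_ (Over S) ⟶ G)} (hnr : RedSub.RealisesReflections D nr)
    (a : D.idx) : Acts D (nr a) (RootPairing.Equiv.reflection D.P a) :=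
  acts_of_refl fun X t => hnr a X t

/-- The left translate of a map by a section. -/
noncomputable abbrev transl (N : 𝟙_ (Over S) ⟶ G) {A : Over S} (j : A ⟶ G) : A ⟶ G :=
  (toUnit _ ≫ N) * j

theorem transl_pt (N : 𝟙_ (Over S) ⟶ G) {A : Over S} (j : A ⟶ G) {X : Over S} (w : X ⟶ A) :
    w ≫ transl N j = np N X * (w ≫ j) := by
  rw [MonObj.comp_mul, comp_np]

theorem openImmersion_transl (N : 𝟙_ (Over S) ⟶ G) {A : Over S} (j : A ⟶ G) [IsOpenImmersion j.left] :
    IsOpenImmersion (transl N j).left := by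
  have h : ∀ N N' : 𝟙_ (Over S) ⟶ G, N * N' = 1 →
      transl N' (𝟙 G) ≫ transl N (𝟙 G) = 𝟙 G := fun N N' e => by
    rw [transl_pt, Category.comp_id, ← _root_.mul_assoc, ← np_mul, e, np, MonObj.comp_one, _root_.one_mul]
  let L : G ≅ G := ⟨transl N (𝟙 G), transl N⁻¹ (𝟙 G), h _ _ (inv_mul_cancel N), h _ _ (mul_inv_cancel N)⟩
  have e : transl N j = j ≫ L.hom := by
    show _ = j ≫ transl N (𝟙 G)
    rw [transl_pt, Category.comp_id]
  have : IsIso L.hom.left := inferInstanceAs (IsIso ((Over.forget S).mapIso L).hom)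
  rw [e, Over.comp_left]
  infer_instance

theorem cellMap_eq (D : Red.SplitRed G) {n m : ℕ} (en : Fin n → D.idx) (ep : Fin m → D.idx) :
    RedSub.cellMap D en ep = cellS D.i (fun k => D.u (en k)) (fun k => D.u (ep k)) := rfl

theorem bruhatMap_pt (D : Red.SplitRed G) (nr : D.idx → (𝟙_ (Over S) ⟶ G)) (w : List D.idx) {k m : ℕ}
    (e : Fin k → D.idx) (ep : Fin m → D.idx) {X : Over S}
    (z : X ⟶ RedSub.pow (Red.Ga S) k ⊗ (D.T ⊗ RedSub.pow (Red.Ga S) m)) :
    z ≫ RedSub.bruhatMap D nr w e ep =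
      (List.ofFn fun j => rp D (e j) (Red.gaFn ((z ≫ fst _ _) ≫ powProj (Red.Ga S) k j))).prod *
        nword nr w X * tpt D (z ≫ snd _ _ ≫ fst _ _ ≫ D.split.hom.hom.hom) *
        (List.ofFn fun j => rp D (ep j) (Red.gaFn ((z ≫ snd _ _ ≫ snd _ _) ≫ powProj (Red.Ga S) m j))).prod := by
  have e1 : z ≫ fst _ _ ≫ RedSub.prodMap (Red.Ga S) k (fun j => D.u (e j)) =
      (List.ofFn fun j => rp D (e j) (Red.gaFn ((z ≫ fst _ _) ≫ powProj (Red.Ga S) k j))).prod :=
    (Category.assoc _ _ _).symm.trans (prodMap_eq_list _ _)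
  have e2 : z ≫ toUnit _ ≫ (w.map nr).prod = nword nr w X := comp_np z _
  have e3 : z ≫ snd _ _ ≫ fst _ _ ≫ D.i = tpt D (z ≫ snd _ _ ≫ fst _ _ ≫ D.split.hom.hom.hom) := by
    rw [show z ≫ snd _ _ ≫ fst _ _ ≫ D.i = (z ≫ snd _ _ ≫ fst _ _) ≫ D.i by simp only [Category.assoc],
      i_eq_tpt]
    simp only [Category.assoc]
  have e4 : z ≫ snd _ _ ≫ snd _ _ ≫ RedSub.prodMap (Red.Ga S) m (fun j => D.u (ep j)) =
      (List.ofFn fun j => rp D (ep j) (Red.gaFn ((z ≫ snd _ _ ≫ snd _ _) ≫ powProj (Red.Ga S) m j))).prod := by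
    rw [← prodMap_eq_list]
    simp only [Category.assoc]
  simp only [RedSub.bruhatMap, MonObj.comp_mul]
  rw [e1, e2, e3, e4]
  group

theorem exists_bruhatMap (D : Red.SplitRed G) (nr : D.idx → (𝟙_ (Over S) ⟶ G)) (w : List D.idx) {k m : ℕ}
    (e : Fin k → D.idx) (ep : Fin m → D.idx) {X : Over S} (y : Fin k → Γ(X.left, ⊤))
    (t : X ⟶ Red.DS S D.M) (x : Fin m → Γ(X.left, ⊤)) :
    ∃ z, z ≫ RedSub.bruhatMap D nr w e ep =
      (List.ofFn fun j => rp D (e j) (y j)).prod * nword nr w X * tpt D t *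
        (List.ofFn fun j => rp D (ep j) (x j)).prod := by
  refine ⟨lift (powTuple fun j => gaPt (y j))
    (lift (t ≫ D.split.inv.hom.hom) (powTuple fun j => gaPt (x j))), ?_⟩
  simp only [RedSub.bruhatMap, MonObj.comp_mul, comp_np, ← Category.assoc, lift_fst, lift_snd, powTuple_prodMap]
  rw [toUnit_unique (lift _ _ ≫ toUnit _) (toUnit X), _root_.mul_assoc, _root_.mul_assoc]
  simp only [tpt, Category.assoc]

/-- An enumeration of a set of roots. -/
theorem exists_enumerates (R : Set D.idx) : ∃ (k : ℕ) (e : Fin k → D.idx), RedSub.Enumerates R e := by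
  classical
  refine ⟨Fintype.card R, fun j => ((Fintype.equivFin R).symm j).1,
    Subtype.val_injective.comp (Equiv.injective _), ?_⟩
  ext c
  exact ⟨fun ⟨j, hj⟩ => hj ▸ ((Fintype.equivFin R).symm j).2, fun hc => ⟨Fintype.equivFin R ⟨c, hc⟩, by simp⟩⟩

/-- The part of a contracted point outside `R_- ∩ w(R_-)` passes through the section of the word. -/
theorem BaseChamber.exists_reduced (h : BaseChamber D b l) {nr : D.idx → (𝟙_ (Over S) ⟶ G)}
    (w : List D.idx) (hw : Acts D (w.map nr).prod (Roots36.wprod D.P w)) {k : ℕ} {e : Fin k → D.idx}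
    (he : RedSub.Enumerates (RedSub.negMeetNeg D.P b (RedSub.wordPerm D.P w)) e) {X : Over S} {u : X ⟶ G}
    (hu : u ∈ Up D (-l) X) :
    ∃ (y : Fin k → Γ(X.left, ⊤)) (v : X ⟶ G), v ∈ Up D l X ∧
      u * nword nr w X = (List.ofFn fun j => rp D (e j) (y j)).prod * nword nr w X * v := by
  classical
  obtain ⟨q, f, hf⟩ := exists_enumerates (D := D)
    {c | 0 < (-l) (D.P.root c) ∧ 0 < l (D.P.root ((Roots36.wprod D.P w)⁻¹ • c))}
  have hfm : ∀ j, 0 < (-l) (D.P.root (f j)) ∧ 0 < l (D.P.root ((Roots36.wprod D.P w)⁻¹ • f j)) :=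
    fun j => (Set.ext_iff.mp hf.2 (f j)).mp ⟨j, rfl⟩
  have hem : ∀ j, _ := fun j => (h.mem_negMeetNeg w (e j)).mp ((Set.ext_iff.mp he.2 (e j)).mp ⟨j, rfl⟩)
  have hinj : Function.Injective (Fin.append e f) := by
    refine Fin.append_injective_iff.mpr ⟨he.1, hf.1, fun i j hij => ?_⟩
    have h1 := (hem i).2
    have h2 := (hfm j).2
    rw [hij, AddMonoidHom.neg_apply] at h1
    omega
  have hr : Set.range (Fin.append e f) = {c | 0 < (-l) (D.P.root c)} := by
    ext c
    constructor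
    · rintro ⟨j, rfl⟩
      refine Fin.addCases (fun i => ?_) (fun i => ?_) j
      · rw [Fin.append_left]; exact (hem i).1
      · rw [Fin.append_right]; exact (hfm i).1
    · intro hc
      by_cases hg : 0 < (-l) (D.P.root ((Roots36.wprod D.P w)⁻¹ • c))
      · obtain ⟨i, hi⟩ := (Set.ext_iff.mp he.2 c).mpr ((h.mem_negMeetNeg w c).mpr ⟨hc, hg⟩)
        exact ⟨Fin.castAdd q i, by rw [Fin.append_left]; exact hi⟩
      · obtain ⟨i, hi⟩ := (Set.ext_iff.mp hf.2 c).mpr ⟨hc, by
          have := h.ne ((Roots36.wprod D.P w)⁻¹ • c)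
          rw [AddMonoidHom.neg_apply] at hg
          omega⟩
        exact ⟨Fin.natAdd k i, by rw [Fin.append_right]; exact hi⟩
  obtain ⟨x, rfl⟩ := h.toChamber.neg.exists_prod hinj hr hu
  let C := (List.ofFn fun i => rp D (f i) (x (Fin.natAdd k i))).prod
  refine ⟨fun i => x (Fin.castAdd q i), (nword nr w X)⁻¹ * C * nword nr w X, ?_, ?_⟩
  · rw [show (nword nr w X)⁻¹ * C * nword nr w X = np ((w.map nr).prod)⁻¹ X * C * (np ((w.map nr).prod)⁻¹ X)⁻¹ by
      rw [np_inv, _root_.inv_inv]]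
    simp only [C]
    rw [conj_list_prod]
    refine list_prod_mem' fun i => ?_
    obtain ⟨c, hc⟩ := hw.inv.exists_moves b (f i)
    rw [hc.conj]
    exact rp_mem_up (hfm i).2 _
  · rw [show (List.ofFn fun j => rp D (Fin.append e f j) (x j)).prod =
        (List.ofFn fun i => rp D (e i) (x (Fin.castAdd q i))).prod * C by
      rw [List.ofFn_add, List.prod_append]
      simp only [C, Fin.append_right]
      congr 2
      refine congrArg List.ofFn (funext fun i => ?_)
      show rp D (Fin.append e f (Fin.castAdd q i)) (x (Fin.castAdd q i)) = _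
      rw [Fin.append_left]]
    group

/-- The part of `R_- ∩ w(R_-)` comes from the negative roots through the section of the word. -/
theorem BaseChamber.conj_reduced (h : BaseChamber D b l) {nr : D.idx → (𝟙_ (Over S) ⟶ G)}
    (w : List D.idx) (hw : Acts D (w.map nr).prod (Roots36.wprod D.P w)) {k : ℕ} {e : Fin k → D.idx}
    (he : RedSub.Enumerates (RedSub.negMeetNeg D.P b (RedSub.wordPerm D.P w)) e) {X : Over S}
    (y : Fin k → Γ(X.left, ⊤)) :
    (nword nr w X)⁻¹ * (List.ofFn fun j => rp D (e j) (y j)).prod * nword nr w X ∈ Up D (-l) X := by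
  rw [show (nword nr w X)⁻¹ * (List.ofFn fun j => rp D (e j) (y j)).prod * nword nr w X =
      np ((w.map nr).prod)⁻¹ X * (List.ofFn fun j => rp D (e j) (y j)).prod * (np ((w.map nr).prod)⁻¹ X)⁻¹ by
    rw [np_inv, _root_.inv_inv], conj_list_prod]
  refine list_prod_mem' fun i => ?_
  obtain ⟨c, hc⟩ := hw.inv.exists_moves b (e i)
  rw [hc.conj]
  exact rp_mem_up ((h.mem_negMeetNeg w (e i)).mp ((Set.ext_iff.mp he.2 (e i)).mp ⟨i, rfl⟩)).2 _

/-- Through every point passes a Bruhat cell of a word in the simple roots. -/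
theorem exists_bruhat_point {nr : D.idx → (𝟙_ (Over S) ⟶ G)}
    (hnr : ∀ a ∈ b.support, Acts D (nr a) (RootPairing.Equiv.reflection D.P a)) {m : ℕ}
    {epos : Fin m → D.idx} (hpos : RedSub.Enumerates (RedSub.posRoots D.P b) epos) (x : ↥G.left) :
    ∃ w : List D.idx, (∀ a ∈ w, a ∈ b.support) ∧ ∀ (k : ℕ) (e : Fin k → D.idx),
      RedSub.Enumerates (RedSub.negMeetNeg D.P b (RedSub.wordPerm D.P w)) e →
        x ∈ Set.range (RedSub.bruhatMap D nr w e epos).left.base := by
  obtain ⟨l, hl⟩ := exists_baseChamber b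
  obtain ⟨K, _, _, W, hW, eK, g, q, rfl⟩ := exists_field_point (X := G) x
  obtain ⟨w, hwmem, u, hu, t, v, hv, hg⟩ := exists_decomp hnr hl eK g
  refine ⟨w, hwmem, fun k e he => ?_⟩
  have hw := acts_word hnr hwmem
  obtain ⟨y, v', hv', huv⟩ := hl.exists_reduced w hw he hu
  have ht := hw.swap' (X := W) t
  let t' := tw (Roots36.wprod D.P w)⁻¹ t
  have hv'' : (tpt D t')⁻¹ * v' * tpt D t' * v ∈ Up D l W := by
    refine mul_mem ?_ hv
    have := fixed_conj_up (l := l) (tpt_mem_fixed (D := D) t'⁻¹) hv'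
    rwa [tpt_inv, _root_.inv_inv] at this
  obtain ⟨x', hx'⟩ := hl.exists_prod hpos.1 (hl.range_pos hpos) hv''
  obtain ⟨z, hz⟩ := exists_bruhatMap D nr w e epos y t' x'
  refine ⟨z.left q, ?_⟩
  show (z ≫ RedSub.bruhatMap D nr w e epos).left q = g.left q
  rw [hz, ← hx', show g = (List.ofFn fun j => rp D (e j) (y j)).prod * nword nr w W * tpt D t' *
      ((tpt D t')⁻¹ * v' * tpt D t' * v) by
    rw [hg, show u * tpt D t * np (w.map nr).prod W * v = u * (tpt D t * np (w.map nr).prod W) * v by group,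
      ht, show u * (np (w.map nr).prod W * tpt D t') * v = u * nword nr w W * tpt D t' * v by group, huv]
    group]

/-- Through every point passes a translate of the big cell by the section of a word in the simple roots. -/
theorem exists_translate_point {nr : D.idx → (𝟙_ (Over S) ⟶ G)}
    (hnr : ∀ a ∈ b.support, Acts D (nr a) (RootPairing.Equiv.reflection D.P a)) {n m : ℕ}
    {eneg : Fin n → D.idx} {epos : Fin m → D.idx}
    (hneg : RedSub.Enumerates (RedSub.negRoots D.P b) eneg)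
    (hpos : RedSub.Enumerates (RedSub.posRoots D.P b) epos) (x : ↥G.left) :
    ∃ w : List D.idx, (∀ a ∈ w, a ∈ b.support) ∧
      x ∈ Set.range (transl (w.map nr).prod (RedSub.cellMap D eneg epos)).left.base := by
  obtain ⟨l, hl⟩ := exists_baseChamber b
  obtain ⟨w, hwmem, hx⟩ := exists_bruhat_point hnr hpos x
  refine ⟨w, hwmem, ?_⟩
  obtain ⟨k, e, he⟩ := exists_enumerates (D := D) (RedSub.negMeetNeg D.P b (RedSub.wordPerm D.P w))
  obtain ⟨p, rfl⟩ := hx k e he
  obtain ⟨K, _, _, W, hW, eK, z, q, rfl⟩ := exists_field_point p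
  obtain ⟨y, hy⟩ := hl.toChamber.neg.exists_prod hneg.1 (hl.range_neg hneg)
    (hl.conj_reduced w (acts_word hnr hwmem) he
      (fun j => Red.gaFn ((z ≫ fst _ _) ≫ powProj (Red.Ga S) k j)))
  obtain ⟨c, hc⟩ := exists_cellS eneg epos y (z ≫ snd _ _ ≫ fst _ _ ≫ D.split.hom.hom.hom)
    (fun j => Red.gaFn ((z ≫ snd _ _ ≫ snd _ _) ≫ powProj (Red.Ga S) m j))
  refine ⟨c.left q, ?_⟩
  have key : c ≫ transl (w.map nr).prod (RedSub.cellMap D eneg epos) =
      z ≫ RedSub.bruhatMap D nr w e epos := by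
    rw [transl_pt, cellMap_eq, hc, bruhatMap_pt D nr w e epos z, ← hy]
    group
  exact congrArg (fun h : W ⟶ G => h.left q) key

end Groth.Agent.RedPts82
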