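import Groth.Agent.RedPts82.CentralNormal
import Groth.Agent.RedPts82.Transporter

/-!
The centralizer of a normal subgroup of multiplicative type is open and closed.
-/

universe u

open CategoryTheory MonoidalCategory CartesianMonoidalCategory MonObj GrpObj AlgebraicGeometry
open CategoryTheory.Limits

namespace Groth.Agent.RedPts82

variable {S : Scheme.{u}}

theorem exists_clopen_centralizer {K H : Over S} [GrpObj K] [GrpObj H] (i : H ⟶ K) [IsMonHom i]
    [Mono i] (hH : SGA3x.IsMultTypeFT H) (hn : AlgGrp.IsNormalHom i) :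
    ∃ (C : Over S) (c : C ⟶ K), IsClosedImmersion c.left ∧ IsOpenImmersion c.left ∧
      ∀ (X : Over S) (g : X ⟶ K), (∃ z : X ⟶ C, z ≫ c = g) ↔
        ∀ (X' : Over S) (x : X' ⟶ X) (h : X' ⟶ H), (x ≫ g) * (h ≫ i) = (h ≫ i) * (x ≫ g) := by
  have hH' := isMultType_of_isMultTypeFT hH
  haveI := isMultType_isAffineHom hH'
  haveI : LocallyOfFinitePresentation H.hom := by
    haveI : MorphismProperty.DescendsAlong (@LocallyOfFinitePresentation : MorphismProperty Scheme.{u})
        Unr55.fpqc.{u} := by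
      unfold Unr55.fpqc; infer_instance
    exact isMultTypeFT_prop (@LocallyOfFinitePresentation) hH
      fun U M _ hM => lfp_DS_of_fg U M hM
  haveI := Groth.Agent.SGA3a.isClosedImmersion_diag H
  obtain ⟨θ, hθ⟩ := hn (K ⊗ H) (fst K H) (snd K H)
  have hθ' : ∀ {X : Over S} (k : X ⟶ K) (h : X ⟶ H),
      (lift k h ≫ θ) ≫ i = k * (h ≫ i) * k⁻¹ := fun k h => by
    rw [Category.assoc, ← hθ]
    simp only [MonObj.comp_mul, GrpObj.comp_inv, lift_fst, lift_snd_assoc]
  -- the centralizer
  obtain ⟨C, c, hc, hC, hfp⟩ := exists_transporter_fp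
    (isEssentiallyFree_of_isMultType hH') (lift θ (snd K H)) (lift (𝟙 H) (𝟙 H))
  have hC' : ∀ (X : Over S) (g : X ⟶ K), (∃ z : X ⟶ C, z ≫ c = g) ↔
      ∀ (X' : Over S) (x : X' ⟶ X) (h : X' ⟶ H), (x ≫ g) * (h ≫ i) = (h ≫ i) * (x ≫ g) := by
    intro X g
    refine (hC X g).trans (forall_congr' fun X' => forall_congr' fun x => forall_congr' fun a => ?_)
    simp only [comp_lift, Category.comp_id, lift_snd]
    constructor
    · rintro ⟨w, hw⟩
      have e1 := congrArg (· ≫ fst H H) hw
      have e2 := congrArg (· ≫ snd H H) hw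
      simp only [lift_fst, lift_snd] at e1 e2
      rw [← mul_inv_eq_iff_eq_mul, ← hθ', e1, ← e2]
    · intro e
      refine ⟨a, ?_⟩
      have : lift (x ≫ g) a ≫ θ = a := by
        rw [← cancel_mono i, hθ', mul_inv_eq_iff_eq_mul]
        exact e
      rw [this]
  haveI : LocallyOfFinitePresentation c.left := by
    refine hfp inferInstance ?_
    rw [Over.lift_left]
    show LocallyOfFinitePresentation (pullback.diagonal H.hom)
    haveI : LocallyOfFinitePresentation
        (pullback.diagonal H.hom ≫ pullback.fst H.hom H.hom) := by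
      rw [pullback.diagonal_fst]; infer_instance
    exact Groth.Agent.LimDesc62.lfp_of_comp _ (pullback.fst H.hom H.hom)
  haveI : IsOpenImmersion c.left := isOpenImmersion_of_lifts c fun T _ J hJ g ⟨z, hz⟩ =>
    (hC' T g).mpr fun X' x h => centralizes_of_congr hH' i hJ g
      (fun Z z' t => hn Z (z' ≫ g) t)
      (fun Z z' t => (hC' _ _).mp ⟨z, hz⟩ Z z' t) x h
  exact ⟨C, c, hc, ‹_›, hC'⟩

end Groth.Agent.RedPts82
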