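import Groth.Agent.RedPts82.WeilAffineGlobal
import Groth.Agent.SchBasics.FPCancel
import Groth.Prelude.Def_AutFam

/-!
The scheme of morphisms, and of homomorphisms, from a finite locally free scheme to an affine scheme.
-/

set_option autoImplicit false
set_option backward.isDefEq.respectTransparency.types false
set_option linter.style.haveILetI false
universe u

open CategoryTheory CategoryTheory.Limits MonoidalCategory CartesianMonoidalCategory MonObj GrpObj AlgebraicGeometry

noncomputable section

namespace Groth.Agent.RedPts82.HomFF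

variable {S : Scheme.{u}}

theorem symm_symm {A B C : Scheme.{u}} (f : A ⟶ C) (g : B ⟶ C) :
    (pullbackSymmetry f g).hom ≫ (pullbackSymmetry g f).hom = 𝟙 _ := by
  refine pullback.hom_ext ?_ ?_ <;> simp

/-- The scheme of morphisms from a finite locally free scheme to a scheme affine over the base. -/
theorem exists_homScheme (X Y : Over S) [IsFinite X.hom] [Flat X.hom] [LocallyOfFinitePresentation X.hom]
    [IsAffineHom Y.hom] :
    ∃ (M : Over S) (ev : X ⊗ M ⟶ Y), IsAffineHom M.hom ∧
      (LocallyOfFiniteType Y.hom → LocallyOfFiniteType M.hom) ∧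
      (LocallyOfFinitePresentation Y.hom → LocallyOfFinitePresentation M.hom) ∧
      ∀ (T : Over S) (φ : X ⊗ T ⟶ Y), ∃! v : T ⟶ M, (X ◁ v) ≫ ev = φ := by
  let X' : Over X.left := Red.bc X.hom Y
  have : IsAffineHom X'.hom := MorphismProperty.pullback_snd (P := @IsAffineHom) Y.hom X.hom inferInstance
  obtain ⟨M, q, hq, haff, hlft, hlfp⟩ := WeilAff.exists_weilRes_affine X.hom X'
  let ev : X ⊗ M ⟶ Y := Over.homMk ((pullbackSymmetry X.hom M.hom).hom ≫ q.left ≫ pullback.fst Y.hom X.hom) (by
    show ((pullbackSymmetry X.hom M.hom).hom ≫ q.left ≫ pullback.fst Y.hom X.hom) ≫ Y.hom = pullback.fst X.hom M.hom ≫ X.hom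
    have hw : q.left ≫ pullback.snd Y.hom X.hom = pullback.snd M.hom X.hom := Over.w q
    rw [Category.assoc, Category.assoc, pullback.condition, reassoc_of% hw, pullbackSymmetry_hom_comp_snd_assoc])
  refine ⟨M, ev, haff, fun h => ?_, fun h => ?_, fun T φ => ?_⟩
  · exact hlft (inferInstanceAs (LocallyOfFiniteType (pullback.snd Y.hom X.hom)))
  · exact hlfp (inferInstanceAs (LocallyOfFinitePresentation (pullback.snd Y.hom X.hom)))
  have hφw : (pullbackSymmetry T.hom X.hom).hom ≫ φ.left ≫ Y.hom = pullback.snd T.hom X.hom ≫ X.hom := by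
    have h1 : φ.left ≫ Y.hom = pullback.fst X.hom T.hom ≫ X.hom := Over.w φ
    rw [h1, pullbackSymmetry_hom_comp_fst_assoc]
  let ψ : Red.bc X.hom T ⟶ X' := Over.homMk
    (pullback.lift ((pullbackSymmetry T.hom X.hom).hom ≫ φ.left) (pullback.snd T.hom X.hom)
      (by rw [Category.assoc]; exact hφw)) (pullback.lift_snd _ _ _)
  have key : ∀ v : T ⟶ M, WeilRes.restr X.hom q T v = ψ ↔ (X ◁ v) ≫ ev = φ := by
    intro v
    have hsym : (X ◁ v).left ≫ (pullbackSymmetry X.hom M.hom).hom =
        (pullbackSymmetry X.hom T.hom).hom ≫ ((Over.pullback X.hom).map v).left := by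
      refine pullback.hom_ext ?_ ?_
      · rw [Category.assoc, Category.assoc, pullbackSymmetry_hom_comp_fst, WeilRes57.map_left_fst,
          pullbackSymmetry_hom_comp_fst_assoc]
        exact Over.whiskerLeft_left_snd v
      · rw [Category.assoc, Category.assoc, pullbackSymmetry_hom_comp_snd]
        refine (Over.whiskerLeft_left_fst v).trans ?_
        refine Eq.trans ?_ (congrArg ((pullbackSymmetry X.hom T.hom).hom ≫ ·) (Over.w ((Over.pullback X.hom).map v))).symm
        exact (pullbackSymmetry_hom_comp_snd _ _).symm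
    have hev : ((X ◁ v) ≫ ev).left = (pullbackSymmetry X.hom T.hom).hom ≫
        (WeilRes.restr X.hom q T v).left ≫ pullback.fst Y.hom X.hom := by
      show (X ◁ v).left ≫ (pullbackSymmetry X.hom M.hom).hom ≫ q.left ≫ pullback.fst Y.hom X.hom = _
      rw [reassoc_of% hsym]
      simp [WeilRes.restr_apply]
    constructor
    · intro h
      ext1
      rw [hev, h]
      show (pullbackSymmetry X.hom T.hom).hom ≫ pullback.lift _ _ _ ≫ pullback.fst Y.hom X.hom = φ.left
      rw [pullback.lift_fst, ← Category.assoc, symm_symm]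
      exact Category.id_comp _
    · intro h
      ext1
      refine pullback.hom_ext ?_ ?_
      · show _ = pullback.lift _ _ _ ≫ pullback.fst Y.hom X.hom
        rw [pullback.lift_fst, ← congrArg Over.Hom.left h, hev, ← Category.assoc (pullbackSymmetry T.hom X.hom).hom,
          symm_symm]
        exact (Category.id_comp _).symm
      · exact (Over.w (WeilRes.restr X.hom q T v)).trans (pullback.lift_snd _ _ _).symm
  obtain ⟨v, hv⟩ := (hq T).2 ψ
  exact ⟨v, (key v).1 hv, fun v' hv' => (hq T).1 (((key v').2 hv').trans hv.symm)⟩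

/-- Equalizers in schemes over the base, of maps into a separated scheme. -/
theorem exists_equalizer {M N : Over S} [IsSeparated N.hom] (a b : M ⟶ N) :
    ∃ (E : Over S) (i : E ⟶ M), IsClosedImmersion i.left ∧
      (LocallyOfFiniteType N.hom → LocallyOfFinitePresentation i.left) ∧ i ≫ a = i ≫ b ∧
      ∀ (T : Over S) (v : T ⟶ M), v ≫ a = v ≫ b → ∃! w : T ⟶ E, w ≫ i = v := by
  let d : M.left ⟶ pullback N.hom N.hom := pullback.lift a.left b.left ((Over.w a).trans (Over.w b).symm)
  let E : Over S := Over.mk (pullback.snd (pullback.diagonal N.hom) d ≫ M.hom)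
  let i : E ⟶ M := Over.homMk (pullback.snd (pullback.diagonal N.hom) d) rfl
  have hci : IsClosedImmersion i.left :=
    MorphismProperty.pullback_snd (P := @IsClosedImmersion) (pullback.diagonal N.hom) d IsSeparated.isClosedImmersion_diagonal
  have hcond := pullback.condition (f := pullback.diagonal N.hom) (g := d)
  have hia : i.left ≫ a.left = pullback.fst (pullback.diagonal N.hom) d := by
    have h := congrArg (· ≫ pullback.fst N.hom N.hom) hcond
    simp only [Category.assoc, pullback.diagonal_fst, Category.comp_id, d, pullback.lift_fst] at h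
    exact h.symm
  have hib : i.left ≫ b.left = pullback.fst (pullback.diagonal N.hom) d := by
    have h := congrArg (· ≫ pullback.snd N.hom N.hom) hcond
    simp only [Category.assoc, pullback.diagonal_snd, Category.comp_id, d, pullback.lift_snd] at h
    exact h.symm
  refine ⟨E, i, hci, fun h => ?_, Over.OverMorphism.ext (hia.trans hib.symm), fun T v hv => ?_⟩
  · exact MorphismProperty.pullback_snd (P := @LocallyOfFinitePresentation) (pullback.diagonal N.hom) d
      (SchBasics.locallyOfFinitePresentation_diagonal N.hom)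
  · have : Mono i.left := inferInstance
    have hl : v.left ≫ a.left = v.left ≫ b.left := congrArg Over.Hom.left hv
    let w : T ⟶ E := Over.homMk (pullback.lift (v.left ≫ a.left) v.left (by
      refine pullback.hom_ext ?_ ?_
      · simp only [Category.assoc, pullback.diagonal_fst, Category.comp_id]
        exact congrArg (v.left ≫ ·) (pullback.lift_fst _ _ _).symm
      · simp only [Category.assoc, pullback.diagonal_snd, Category.comp_id, hl]
        exact congrArg (v.left ≫ ·) (pullback.lift_snd _ _ _).symm)) (by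
      show pullback.lift _ _ _ ≫ pullback.snd (pullback.diagonal N.hom) d ≫ M.hom = T.hom
      rw [pullback.lift_snd_assoc, Over.w v])
    refine ⟨w, Over.OverMorphism.ext (pullback.lift_snd _ _ _), fun w' hw' => ?_⟩
    ext1
    rw [← cancel_mono i.left]
    exact (congrArg Over.Hom.left hw').trans (pullback.lift_snd _ _ _).symm

/-- The scheme of homomorphisms from a finite locally free group to a group affine over the base. -/
theorem exists_homGrpScheme (G G' : Over S) [GrpObj G] [GrpObj G'] [IsFinite G.hom] [Flat G.hom]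
    [LocallyOfFinitePresentation G.hom] [IsAffineHom G'.hom] :
    ∃ (A : Over S) (υ : G ⊗ A ⟶ G'), AutFam.RepresentsHom G G' A υ ∧ IsAffineHom A.hom ∧
      (LocallyOfFiniteType G'.hom → LocallyOfFiniteType A.hom) ∧
      (LocallyOfFinitePresentation G'.hom → LocallyOfFinitePresentation A.hom) := by
  obtain ⟨M, ev, haff, hlft, hlfp, huniv⟩ := exists_homScheme G G'
  have : IsFinite (G ⊗ G).hom := inferInstanceAs (IsFinite (pullback.fst G.hom G.hom ≫ G.hom))
  have : Flat (G ⊗ G).hom := inferInstanceAs (Flat (pullback.fst G.hom G.hom ≫ G.hom))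
  have : LocallyOfFinitePresentation (G ⊗ G).hom :=
    inferInstanceAs (LocallyOfFinitePresentation (pullback.fst G.hom G.hom ≫ G.hom))
  obtain ⟨M₂, ev₂, haff₂, hlft₂, -, huniv₂⟩ := exists_homScheme (G ⊗ G) G'
  let g₁ : (G ⊗ G) ⊗ M ⟶ G := fst _ _ ≫ fst _ _
  let g₂ : (G ⊗ G) ⊗ M ⟶ G := fst _ _ ≫ snd _ _
  let t₀ : (G ⊗ G) ⊗ M ⟶ M := snd _ _
  obtain ⟨a, ha, -⟩ := huniv₂ M (lift (g₁ * g₂) t₀ ≫ ev)
  obtain ⟨b, hb, -⟩ := huniv₂ M ((lift g₁ t₀ ≫ ev) * (lift g₂ t₀ ≫ ev))
  obtain ⟨E, i, hci, hilfp, hiab, hE⟩ := exists_equalizer a b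
  -- a family over `T` is multiplicative iff the two classifying maps agree
  have key : ∀ (T : Over S) (v : T ⟶ M), AutFam.IsHomFamily G G' ((G ◁ v) ≫ ev) ↔ v ≫ a = v ≫ b := by
    intro T v
    have hl : ∀ (X : Over S) (g : X ⟶ G) (t : X ⟶ T), lift g t ≫ (G ◁ v) ≫ ev = lift g (t ≫ v) ≫ ev := by
      intro X g t
      rw [lift_whiskerLeft_assoc]
    constructor
    · intro h
      refine (huniv₂ T (lift (fst _ _ ≫ fst _ _ * fst _ _ ≫ snd _ _) (snd _ _) ≫ (G ◁ v) ≫ ev)).unique ?_ ?_
      · rw [MonoidalCategory.whiskerLeft_comp, Category.assoc, ha, hl, comp_lift_assoc, MonObj.comp_mul]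
        simp [g₁, g₂, t₀]
      · rw [MonoidalCategory.whiskerLeft_comp, Category.assoc, hb, h, hl, hl, MonObj.comp_mul, comp_lift_assoc,
          comp_lift_assoc]
        simp [g₁, g₂, t₀]
    · intro h X x₁ x₂ t
      have h' := congrArg (fun k => lift (lift x₁ x₂) t ≫ k)
        (congrArg (fun w => ((G ⊗ G) ◁ w) ≫ ev₂) h)
      simp only [MonoidalCategory.whiskerLeft_comp, Category.assoc, ha, hb, lift_whiskerLeft_assoc] at h'
      rw [MonObj.comp_mul] at h'
      simp only [comp_lift_assoc] at h'
      rw [MonObj.comp_mul] at h'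
      simp only [g₁, g₂, t₀, lift_fst_assoc, lift_fst, lift_snd] at h'
      rw [hl, hl, hl]
      exact h'
  refine ⟨E, (G ◁ i) ≫ ev, ⟨(key E i).2 hiab, fun T φ hφ => ?_⟩, ?_, fun h => ?_, fun h => ?_⟩
  · obtain ⟨v, hv, hvu⟩ := huniv T φ
    obtain ⟨w, hw, hwu⟩ := hE T v ((key T v).1 (by rw [hv]; exact hφ))
    refine ⟨w, ?_, fun w' hw' => hwu w' (hvu _ ?_)⟩
    · show (G ◁ w) ≫ (G ◁ i) ≫ ev = φ
      rw [← MonoidalCategory.whiskerLeft_comp_assoc, hw, hv]
    · show (G ◁ (w' ≫ i)) ≫ ev = φ
      rw [MonoidalCategory.whiskerLeft_comp_assoc]; exact hw'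
  · rw [← Over.w i]; infer_instance
  · have := hlft h
    rw [← Over.w i]; infer_instance
  · have := hlfp h
    have := hlft₂ inferInstance
    have := hilfp this
    rw [← Over.w i]; infer_instance

end Groth.Agent.RedPts82.HomFF
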