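import Groth.Agent.RedPts82.Quot

/-!
The group structure of a quotient by a normal subgroup.
-/

universe u

open CategoryTheory MonoidalCategory CartesianMonoidalCategory MonObj GrpObj AlgebraicGeometry

namespace Groth.Agent.RedPts82

variable {S : Scheme.{u}} {H G Q : Over S} [GrpObj H] [GrpObj G] {i : H ⟶ G} [IsMonHom i]
  {q : G ⟶ Q}

theorem mul_comp_congr (hn : AlgGrp.IsNormalHom i) (hq : RedSub.IsQuotient i q) {X : Over S}
    {a a' b b' : X ⟶ G} (ha : a ≫ q = a' ≫ q) (hb : b ≫ q = b' ≫ q) :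
    (a * b) ≫ q = (a' * b') ≫ q := by
  obtain ⟨h, rfl⟩ := exists_eq_mul_of_comp_eq hq ha
  obtain ⟨k, rfl⟩ := exists_eq_mul_of_comp_eq hq hb
  obtain ⟨h', hh'⟩ := hn X b⁻¹ h
  rw [_root_.inv_inv] at hh'
  have : a * (h ≫ i) * (b * (k ≫ i)) = a * b * ((h' * k) ≫ i) := by
    rw [MonObj.mul_comp h' k i, ← hh']; group
  rw [this, comp_mul_right hq]

theorem inv_comp_congr (hn : AlgGrp.IsNormalHom i) (hq : RedSub.IsQuotient i q) {X : Over S}
    {a a' : X ⟶ G} (ha : a ≫ q = a' ≫ q) : a⁻¹ ≫ q = a'⁻¹ ≫ q := by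
  obtain ⟨h, rfl⟩ := exists_eq_mul_of_comp_eq hq ha
  obtain ⟨h', hh'⟩ := hn X a h⁻¹
  have : (a * (h ≫ i))⁻¹ = a⁻¹ * (h' ≫ i) := by
    rw [← hh', GrpObj.inv_comp h i]; group
  rw [this, comp_mul_right hq]

theorem grpObj_quotient (hn : AlgGrp.IsNormalHom i) (hq : RedSub.IsQuotient i q) :
    ∃ s : GrpObj Q, @IsMonHom (Over S) _ _ G Q _ s.toMonObj q := by
  have hc := cov_of_isQuotient hq
  have hcc := hc.tensor hc
  obtain ⟨m, hm, -⟩ := hcc.desc (μ[G] ≫ q) (by
    intro W a b h
    have h1 : (a ≫ fst G G) ≫ q = (b ≫ fst G G) ≫ q := by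
      simpa using congrArg (· ≫ fst Q Q) h
    have h2 : (a ≫ snd G G) ≫ q = (b ≫ snd G G) ≫ q := by
      simpa using congrArg (· ≫ snd Q Q) h
    have h3 := mul_comp_congr hn hq h1 h2
    rw [Hom.mul_def, Hom.mul_def, Category.assoc, Category.assoc] at h3
    simpa [← CartesianMonoidalCategory.comp_lift] using h3)
  obtain ⟨ι', hι, -⟩ := hc.desc (ι[G] ≫ q) (by
    intro W a b h
    have h1 := inv_comp_congr hn hq h
    rwa [Hom.inv_def, Hom.inv_def, Category.assoc, Category.assoc] at h1)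
  let mm : MonObj Q :=
    { one := η[G] ≫ q
      mul := m
      one_mul := by
        have := (hc.whiskerLeft (𝟙_ (Over S))).epi
        rw [← cancel_epi (𝟙_ (Over S) ◁ q)]
        rw [← Category.assoc, MonoidalCategory.whisker_exchange, Category.assoc,
          MonoidalCategory.comp_whiskerRight, Category.assoc, ← MonoidalCategory.tensorHom_def_assoc,
          hm, MonObj.one_mul_assoc]
        exact (leftUnitor_naturality q).symm
      mul_one := by
        have := (hc.whiskerRight (𝟙_ (Over S))).epi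
        rw [← cancel_epi (q ▷ 𝟙_ (Over S))]
        rw [← Category.assoc, ← MonoidalCategory.whisker_exchange, Category.assoc,
          MonoidalCategory.whiskerLeft_comp, Category.assoc, ← MonoidalCategory.tensorHom_def'_assoc,
          hm, MonObj.mul_one_assoc]
        exact (rightUnitor_naturality q).symm
      mul_assoc := by
        have := (hcc.tensor hc).epi
        rw [← cancel_epi ((q ⊗ₘ q) ⊗ₘ q)]
        rw [← Category.assoc, tensorHom_comp_whiskerRight, hm,
          ← MonoidalCategory.whiskerRight_comp_tensorHom, Category.assoc, hm, MonObj.mul_assoc_assoc,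
          associator_naturality_assoc, tensorHom_comp_whiskerLeft_assoc, hm,
          ← MonoidalCategory.whiskerLeft_comp_tensorHom_assoc, hm] }
  letI := mm
  have hmul : μ[Q] = m := rfl
  refine ⟨{ mm with
      inv := ι'
      left_inv := ?_
      right_inv := ?_ }, ?_⟩
  · have := hc.epi
    rw [← cancel_epi q, comp_lift_assoc, hι, Category.comp_id, ← Category.assoc q (toUnit Q),
      toUnit_unique (q ≫ toUnit Q) (toUnit G)]
    show _ ≫ m = toUnit G ≫ η[G] ≫ q
    rw [show lift (ι[G] ≫ q) q = lift ι[G] (𝟙 G) ≫ (q ⊗ₘ q) by simp, Category.assoc, hm,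
      GrpObj.left_inv_assoc]
  · have := hc.epi
    rw [← cancel_epi q, comp_lift_assoc, hι, Category.comp_id, ← Category.assoc q (toUnit Q),
      toUnit_unique (q ≫ toUnit Q) (toUnit G)]
    show _ ≫ m = toUnit G ≫ η[G] ≫ q
    rw [show lift q (ι[G] ≫ q) = lift (𝟙 G) ι[G] ≫ (q ⊗ₘ q) by simp, Category.assoc, hm,
      GrpObj.right_inv_assoc]
  · exact ⟨rfl, hm.symm⟩

end Groth.Agent.RedPts82
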