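import Groth.Agent.RedPts82.MonoClosed
import Groth.Agent.RedPts82.Normalizer
import Groth.Agent.Unr55.DescProps

/-!
A subgroup of multiplicative type of an affine group is closed.
-/

universe u

open CategoryTheory MonoidalCategory CartesianMonoidalCategory MonObj GrpObj AlgebraicGeometry
open CategoryTheory.Limits

namespace Groth.Agent.RedPts82

variable {S : Scheme.{u}} {X Y : Over S}

theorem isPullback_bc_map (u : X ⟶ Y) {U : Scheme.{u}} (m : U ⟶ S) :
    IsPullback (pullback.fst X.hom m) ((Over.pullback m).map u).left u.left (pullback.fst Y.hom m) := by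
  have h : ((Over.pullback m).map u).left ≫ pullback.fst Y.hom m = pullback.fst X.hom m ≫ u.left :=
    pullback.lift_fst _ _ _
  refine IsPullback.of_bot (v₂₁ := pullback.snd Y.hom m) (v₂₂ := Y.hom) (h₃₁ := m) ?_ h.symm
    (IsPullback.of_hasPullback Y.hom m)
  rw [Over.w u, show ((Over.pullback m).map u).left ≫ pullback.snd Y.hom m = pullback.snd X.hom m
    from pullback.lift_snd _ _ _]
  exact IsPullback.of_hasPullback X.hom m

/-- The comparison of two base changes. -/
noncomputable abbrev bcTrans (X : Over S) {U V : Scheme.{u}} (m : U ⟶ S) (k : V ⟶ U) (n : V ⟶ S)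
    (hn : k ≫ m = n) : pullback X.hom n ⟶ pullback X.hom m :=
  pullback.lift (pullback.fst X.hom n) (pullback.snd X.hom n ≫ k)
    (by rw [Category.assoc, hn, pullback.condition])

theorem isPullback_bcTrans (X : Over S) {U V : Scheme.{u}} (m : U ⟶ S) (k : V ⟶ U) (n : V ⟶ S)
    (hn : k ≫ m = n) :
    IsPullback (bcTrans X m k n hn) (pullback.snd X.hom n) (pullback.snd X.hom m) k := by
  refine IsPullback.of_right ?_ (pullback.lift_snd _ _ _) (IsPullback.of_hasPullback X.hom m)
  rw [pullback.lift_fst, hn]
  exact IsPullback.of_hasPullback X.hom n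

theorem isPullback_bcTrans_map (u : X ⟶ Y) {U V : Scheme.{u}} (m : U ⟶ S) (k : V ⟶ U) (n : V ⟶ S)
    (hn : k ≫ m = n) :
    IsPullback (bcTrans X m k n hn) ((Over.pullback n).map u).left ((Over.pullback m).map u).left
      (bcTrans Y m k n hn) := by
  refine IsPullback.of_right ?_ ?_ (isPullback_bc_map u m)
  · rw [pullback.lift_fst, pullback.lift_fst]
    exact isPullback_bc_map u n
  · apply pullback.hom_ext
    · rw [Category.assoc, Category.assoc, pullback.lift_fst]
      erw [pullback.lift_fst, pullback.lift_fst]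
      rw [pullback.lift_fst_assoc]
    · rw [Category.assoc, Category.assoc, pullback.lift_snd]
      erw [pullback.lift_snd, pullback.lift_snd_assoc]
      rw [pullback.lift_snd]

/-- A property of a morphism over the base can be checked on an fpqc covering of the base. -/
theorem map_prop_of_fpqc_cover (P : MorphismProperty Scheme.{u}) [IsZariskiLocalAtTarget P]
    [P.IsStableUnderBaseChange] [P.DescendsAlong Unr55.fpqc.{u}] (u : X ⟶ Y)
    {S' : Scheme.{u}} (f : S' ⟶ S) [Flat f] [Surjective f]
    (hqc : ∀ V : S.Opens, IsAffineOpen V →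
      ∃ W : S'.Opens, IsCompact (W : Set S') ∧ f.base '' (W : Set S') = (V : Set S))
    (h : ∀ s' : S', ∃ U : S'.Opens, s' ∈ U ∧ P ((Over.pullback (U.ι ≫ f)).map u).left) :
    P u.left := by
  choose U hU hr using h
  have hcov : TopologicalSpace.IsOpenCover U := by
    rw [TopologicalSpace.IsOpenCover, eq_top_iff]
    exact fun x _ => TopologicalSpace.Opens.mem_iSup.mpr ⟨x, hU x⟩
  -- over the covering
  have h1 : P ((Over.pullback f).map u).left := by
    have hop : ∀ v, IsOpenImmersion (bcTrans Y f (U v).ι _ rfl) := fun v =>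
      MorphismProperty.of_isPullback (P := @IsOpenImmersion)
        (isPullback_bcTrans Y f (U v).ι _ rfl).flip inferInstance
    have hjs : ∀ y : (pullback Y.hom f : Scheme.{u}), ∃ v z, bcTrans Y f (U v).ι _ rfl z = y := by
      intro y
      obtain ⟨z, hz, -⟩ := Scheme.exists_preimage_of_isPullback
        (isPullback_bcTrans Y f (U (pullback.snd Y.hom f y)).ι _ rfl) y
        ⟨pullback.snd Y.hom f y, hU _⟩ rfl
      exact ⟨_, z, hz⟩
    refine IsZariskiLocalAtTarget.of_openCover (Scheme.Cover.mkOfCovers (P := @IsOpenImmersion) S'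
      (fun v => pullback Y.hom ((U v).ι ≫ f)) (fun v => bcTrans Y f (U v).ι _ rfl) hjs hop)
      fun (v : S') => ?_
    have e := isPullback_bcTrans_map u f (U v).ι _ rfl
    change P (pullback.snd ((Over.pullback f).map u).left (bcTrans Y f (U v).ι _ rfl))
    rw [← e.isoPullback_inv_snd, P.cancel_left_of_respectsIso]
    exact hr v
  refine IsZariskiLocalAtTarget.of_openCover (S.affineCover.pullback₁ Y.hom) fun j => ?_
  change P (pullback.snd u.left (pullback.fst Y.hom (S.affineCover.f j)))
  rw [← (isPullback_bc_map u (S.affineCover.f j)).isoPullback_inv_snd,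
    P.cancel_left_of_respectsIso]
  let V : S.Opens := (S.affineCover.f j).opensRange
  obtain ⟨W, hWc, hWV⟩ := hqc V (isAffineOpen_opensRange _)
  have hrange : Set.range (W.ι ≫ f).base ⊆ Set.range (S.affineCover.f j).base := by
    rintro _ ⟨w, rfl⟩
    have : f w.1 ∈ f.base '' (W : Set S') := ⟨w.1, w.2, rfl⟩
    rw [hWV] at this
    exact this
  let k : (W : Scheme.{u}) ⟶ S.affineCover.X j :=
    IsOpenImmersion.lift (S.affineCover.f j) (W.ι ≫ f) hrange
  have hk : k ≫ S.affineCover.f j = W.ι ≫ f := IsOpenImmersion.lift_fac _ _ hrange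
  have hfpqc : Unr55.fpqc k := by
    refine ⟨⟨⟨fun y => ?_⟩, ?_⟩, ?_⟩
    · obtain ⟨w, hw, hwy⟩ : (S.affineCover.f j) y ∈ f.base '' (W : Set S') := by
        rw [hWV]
        exact ⟨y, rfl⟩
      refine ⟨⟨w, hw⟩, (S.affineCover.f j).isOpenEmbedding.injective ?_⟩
      exact (congrArg (fun q => q ⟨w, hw⟩) hk).trans hwy
    · have hsq : IsPullback (𝟙 (W : Scheme.{u})) k (W.ι ≫ f) (S.affineCover.f j) :=
        IsPullback.of_horiz_isIso_mono ⟨by rw [Category.id_comp, hk]⟩
      exact MorphismProperty.of_isPullback (P := @Flat) hsq (inferInstance : Flat (W.ι ≫ f))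
    · have : CompactSpace (W : Scheme.{u}) := isCompact_iff_compactSpace.mp hWc
      exact (quasiCompact_iff_compactSpace k).mpr inferInstance
  have h2 : P ((Over.pullback (W.ι ≫ f)).map u).left :=
    MorphismProperty.of_isPullback (isPullback_bcTrans_map u f W.ι _ rfl) h1
  haveI : MorphismProperty.IsStableUnderBaseChange Unr55.fpqc.{u} := by
    unfold Unr55.fpqc; infer_instance
  exact MorphismProperty.of_isPullback_of_descendsAlong (P := P)
    (isPullback_bcTrans_map u (S.affineCover.f j) k _ hk).flip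
    (MorphismProperty.of_isPullback (isPullback_bcTrans Y (S.affineCover.f j) k _ hk).flip hfpqc) h2

/-- A monomorphism from a group of multiplicative type to an affine group is a closed immersion. -/
theorem isClosedImmersion_of_mono {H G : Over S} [GrpObj H] [GrpObj G] (hH : IsMultType H)
    [IsAffineHom G.hom] (i : H ⟶ G) [IsMonHom i] [Mono i] : IsClosedImmersion i.left := by
  have := Unr55.isClosedImmersion.{u}
  obtain ⟨S', f, hf, hs, hqc, hloc⟩ := hH
  refine map_prop_of_fpqc_cover (@IsClosedImmersion) i f hqc fun s' => ?_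
  obtain ⟨U₀, hU₀, M, hM, ⟨e⟩⟩ := hloc s'
  obtain ⟨W, hW, hsW, hWU⟩ := exists_isAffineOpen_mem_and_subset hU₀
  refine ⟨W, hsW, ?_⟩
  let φ : (W : Scheme.{u}) ⟶ S := W.ι ≫ f
  obtain ⟨a, ha, hmono, hsurj⟩ :=
    exists_ds_cover_mono (S'.homOfLE hWU) (U₀.ι ≫ f) φ (by simp [φ]) e
  haveI : IsIso a := by
    obtain ⟨r, hr⟩ := hsurj _ (𝟙 _)
    exact ⟨r, by rw [← cancel_mono a, Category.assoc, hr, Category.comp_id, Category.id_comp], hr⟩
  haveI : IsIso a.left := inferInstanceAs (IsIso ((Over.forget _).map a))
  haveI : Mono ((Over.pullback φ).map i) := inferInstance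
  have hGa : IsAffineHom (Red.bc φ G).hom :=
    have := isAffineHom_isStableUnderBaseChange.{u}
    MorphismProperty.pullback_snd (P := @IsAffineHom) _ _ ‹_›
  have h := isClosedImmersion_dsHom (a ≫ (Over.pullback φ).map i) hGa
  rw [Over.comp_left] at h
  exact (MorphismProperty.cancel_left_of_respectsIso (P := @IsClosedImmersion) _ _).mp h

end Groth.Agent.RedPts82
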