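import Groth.Agent.RedPts82.MultHopfSub

/-!
Flat closed subgroups of groups of multiplicative type over any base.
-/

set_option autoImplicit false

universe u

open CategoryTheory MonoidalCategory CartesianMonoidalCategory MonObj GrpObj AlgebraicGeometry
open CategoryTheory.Limits

namespace Groth.Agent.RedPts82

variable {S : Scheme.{u}}

/-- Being of multiplicative type is invariant under isomorphisms of groups. -/
theorem isMultTypeFT_of_grpIso {G G' : Over S} [GrpObj G] [GrpObj G'] (e : Grp.mk G' ≅ Grp.mk G)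
    (h : SGA3x.IsMultTypeFT G) : SGA3x.IsMultTypeFT G' := by
  obtain ⟨S', f, hf, hs, hqc, hloc⟩ := h
  refine ⟨S', f, hf, hs, hqc, fun s' => ?_⟩
  obtain ⟨U, hU, M, iM, hM, h⟩ := hloc s'
  letI := iM
  exact ⟨U, hU, M, iM, hM, ⟨(Over.pullback (U.ι ≫ f)).mapGrp.mapIso e ≪≫ h.some⟩⟩

/-- Multiplicative type over the affine charts gives multiplicative type. -/
theorem isMultTypeFT_of_affine_charts {G : Over S} [GrpObj G]
    (h : ∀ (U : S.Opens) (hU : IsAffineOpen U), SGA3x.IsMultTypeFT (Red.bc hU.fromSpec G)) :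
    SGA3x.IsMultTypeFT G := by
  refine isMultTypeFT_of_locally fun s => ?_
  obtain ⟨U, hU, hsU, -⟩ := exists_isAffineOpen_mem_and_subset (x := s) (U := ⊤) trivial
  obtain ⟨c, -, hc⟩ := exists_bc_comp_iso hU.fromSpec hU.isoSpec.hom
  haveI := (hc G).1
  have h1 := isMultTypeFT_of_grpIso (Grp.mkIso' (c G)) (isMultTypeFT_bc hU.isoSpec.hom (h U hU))
  rw [hU.isoSpec_hom_fromSpec] at h1
  exact ⟨U, hsU, h1⟩

/-- A flat finitely presented closed subgroup of a group of multiplicative type is of multiplicative type. -/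
theorem isMultTypeFT_of_closed {H H' : Over S} [GrpObj H] [GrpObj H'] (hH' : SGA3x.IsMultTypeFT H')
    (i : H ⟶ H') [IsMonHom i] [IsClosedImmersion i.left] [Flat H.hom] [LocallyOfFinitePresentation H.hom] :
    SGA3x.IsMultTypeFT H := by
  refine isMultTypeFT_of_affine_charts fun U hU => ?_
  haveI : IsClosedImmersion ((Over.pullback hU.fromSpec).map i).left :=
    MorphismProperty.of_isPullback (P := @IsClosedImmersion) (isPullback_bc_map i hU.fromSpec) ‹_›
  haveI : Flat (Red.bc hU.fromSpec H).hom := inferInstanceAs (Flat (pullback.snd _ _))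
  haveI : LocallyOfFinitePresentation (Red.bc hU.fromSpec H).hom :=
    inferInstanceAs (LocallyOfFinitePresentation (pullback.snd _ _))
  exact isMultTypeFT_of_closed_affine (isMultTypeFT_bc hU.fromSpec hH') ((Over.pullback hU.fromSpec).map i)

end Groth.Agent.RedPts82
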