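import Mathlib.AlgebraicGeometry.Group.Affine
import Mathlib.RingTheory.HopfAlgebra.Convolution
import Mathlib.RingTheory.Bialgebra.TensorProduct
import Mathlib.RingTheory.Bialgebra.MonoidAlgebra
import Mathlib.RingTheory.HopfAlgebra.GroupLike
import Groth.Agent.RedPts82.Coord
import Groth.Agent.RedPts82.DSChar
import Groth.Agent.RedPts82.TorusBasic
import Groth.Prelude.Def_VecGrp

/-!
Coordinate rings of affine group schemes over an affine base, as Hopf algebras.
-/

set_option autoImplicit false
set_option linter.unusedSectionVars false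
set_option linter.style.haveILetI false

universe u

open CategoryTheory MonoidalCategory CartesianMonoidalCategory MonObj GrpObj AlgebraicGeometry
open scoped TensorProduct
open WithConv TensorProduct

noncomputable section

namespace Groth.Agent.RedPts82.Hopf

variable {k : Type u} [CommRing k]

/-- The spectrum of an algebra as an object over the base. -/
abbrev sp (k : Type u) [CommRing k] (A : Type u) [CommRing A] [Algebra k A] :
    Over (Spec (CommRingCat.of k)) :=
  (Spec (CommRingCat.of A)).asOver (Spec (CommRingCat.of k))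

theorem exists_coord (G : Over (Spec (CommRingCat.of k))) [GrpObj G] [IsAffine G.left] :
    ∃ (A : Type u) (_ : CommRing A) (_ : HopfAlgebra k A) (ψ : sp k A ≅ G), IsMonHom ψ.hom := by
  obtain ⟨Hop, ⟨e⟩⟩ := (essImage_hopfSpec (G := Grp.mk G)).2 ‹_›
  exact ⟨Hop.unop, inferInstance, inferInstance, (Grp.forget _).mapIso e, e.hom.hom.isMonHom_hom⟩

variable {A : Type u} [CommRing A] [HopfAlgebra k A] {G : Over (Spec (CommRingCat.of k))} [GrpObj G]
  (ψ : sp k A ≅ G) [IsMonHom ψ.hom]

/-- The underlying isomorphism of schemes. -/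
def sch : Spec (CommRingCat.of A) ≅ G.left := (Over.forget _).mapIso ψ

/-- Composition with an isomorphism of monoid objects, on points. -/
def post (X : Over (Spec (CommRingCat.of k))) : (X ⟶ sp k A) ≃* (X ⟶ G) where
  toFun f := f ≫ ψ.hom
  invFun g := g ≫ ψ.inv
  left_inv f := by simp
  right_inv g := by simp
  map_mul' f g := MonObj.mul_comp f g ψ.hom

/-- Points of the group as algebra maps. -/
def e (B : Type u) [CommRing B] [Algebra k B] : WithConv (A →ₐ[k] B) ≃* (VecGrp.pt k B ⟶ G) :=
  Spec.mapMulEquiv.trans (post ψ (sp k B))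

omit [IsMonHom ψ.hom] in
theorem e_left [IsMonHom ψ.hom] (B : Type u) [CommRing B] [Algebra k B] (f : WithConv (A →ₐ[k] B)) :
    (e ψ B f).left = Spec.map (CommRingCat.ofHom f.ofConv.toRingHom) ≫ (sch ψ).hom := rfl

theorem e_natural {B B' : Type u} [CommRing B] [Algebra k B] [CommRing B'] [Algebra k B']
    (φ : B →ₐ[k] B') (f : WithConv (A →ₐ[k] B)) :
    VecGrp.ptMap φ ≫ e ψ B f = e ψ B' (toConv (φ.comp f.ofConv)) := by
  apply Over.OverMorphism.ext
  change Spec.map _ ≫ (e ψ B f).left = _
  rw [e_left, e_left, ← Category.assoc, ← Spec.map_comp]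
  rfl

/-- The coordinate ring as the ring of global functions. -/
def fn : A ≃+* Γ(G.left, ⊤) :=
  ((Scheme.ΓSpecIso (CommRingCat.of A)).symm ≪≫
    (Scheme.Γ.mapIso (sch ψ).symm.op)).commRingCatIsoToRingEquiv

theorem fn_apply (a : A) :
    fn ψ a = (sch ψ).inv.appTop.hom ((Scheme.ΓSpecIso (CommRingCat.of A)).inv.hom a) := rfl

theorem appTop_fn {B : Type u} [CommRing B] [Algebra k B] (f : WithConv (A →ₐ[k] B)) (a : A) :
    (e ψ B f).left.appTop.hom (fn ψ a) =
      (Scheme.ΓSpecIso (CommRingCat.of B)).inv.hom (f.ofConv a) := by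
  have h1 : (e ψ B f).left ≫ (sch ψ).inv =
      Spec.map (CommRingCat.ofHom f.ofConv.toRingHom) := by
    rw [e_left, Category.assoc, Iso.hom_inv_id]
    exact Category.comp_id _
  have h2 : (sch ψ).inv.appTop ≫ (e ψ B f).left.appTop =
      (Spec.map (CommRingCat.ofHom f.ofConv.toRingHom)).appTop := by
    rw [← h1]; rfl
  have h3 := Scheme.ΓSpecIso_inv_naturality (CommRingCat.ofHom f.ofConv.toRingHom)
  rw [fn_apply, ← CommRingCat.comp_apply, h2]
  exact (congrArg (fun q => q.hom a) h3).symm

theorem appTop_injective {X Y : Scheme.{u}} (f : X ⟶ Y) [IsIso f] :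
    Function.Injective f.appTop.hom := by
  have h : f.appTop ≫ (inv f).appTop = 𝟙 _ := by
    rw [← Scheme.Hom.comp_appTop, IsIso.inv_hom_id]; rfl
  intro x y hxy
  simpa using (congrArg (fun q => q.hom x) h).symm.trans
    ((congrArg (inv f).appTop.hom hxy).trans (congrArg (fun q => q.hom y) h))

theorem e_id : e ψ A (toConv (AlgHom.id k A)) = ψ.hom := by
  apply Over.OverMorphism.ext
  rw [e_left, show CommRingCat.ofHom (toConv (AlgHom.id k A)).ofConv.toRingHom = 𝟙 _ from rfl,
    Spec.map_id]
  exact Category.id_comp _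

section Pull

variable {A' : Type u} [CommRing A'] [HopfAlgebra k A']
  {H : Over (Spec (CommRingCat.of k))} [GrpObj H] (ψ' : sp k A' ≅ H) [IsMonHom ψ'.hom]
  (i : H ⟶ G)

/-- The algebra map of coordinates of a morphism. -/
def pull : A →ₐ[k] A' :=
  ((e ψ A').symm (e ψ' A' (toConv (AlgHom.id k A')) ≫ i)).ofConv

theorem e_comp {B : Type u} [CommRing B] [Algebra k B] (f : WithConv (A' →ₐ[k] B)) :
    e ψ' B f ≫ i = e ψ B (toConv (f.ofConv.comp (pull ψ ψ' i))) := by
  have h1 : e ψ' B f = VecGrp.ptMap f.ofConv ≫ e ψ' A' (toConv (AlgHom.id k A')) := by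
    rw [e_natural]; rfl
  rw [h1, Category.assoc, pull, ← MulEquiv.apply_symm_apply (e ψ A') (_ ≫ i), e_natural,
    MulEquiv.symm_apply_apply]

theorem appTop_i_fn (a : A) : i.left.appTop.hom (fn ψ a) = fn ψ' (pull ψ ψ' i a) := by
  have h := e_comp ψ ψ' i (toConv (AlgHom.id k A'))
  rw [ofConv_toConv, AlgHom.id_comp] at h
  have h1 : (e ψ' A' (toConv (AlgHom.id k A'))).left.appTop.hom (i.left.appTop.hom (fn ψ a)) =
      (Scheme.ΓSpecIso (CommRingCat.of A')).inv.hom (pull ψ ψ' i a) := by
    have h2 := appTop_fn ψ (toConv (pull ψ ψ' i)) a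
    rw [← h, Over.comp_left, Scheme.Hom.comp_appTop] at h2
    exact h2
  have h3 := appTop_fn ψ' (toConv (AlgHom.id k A')) (pull ψ ψ' i a)
  rw [ofConv_toConv, AlgHom.id_apply, ← h1] at h3
  refine Function.Injective.eq_iff ?_ |>.1 h3.symm
  rw [e_id]
  exact @appTop_injective _ _ ψ'.hom.left ((Over.forget _).mapIso ψ').isIso_hom

variable [IsMonHom i]

/-- The map of coordinates of a homomorphism is a map of bialgebras. -/
def pullBialg : A →ₐc[k] A' :=
  .ofAlgHom (pull ψ ψ' i)
    (by
      have h := e_comp ψ ψ' i (1 : WithConv (A' →ₐ[k] k))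
      rw [map_one, MonObj.one_comp] at h
      have h1 := (e ψ k).symm_apply_eq.2 h
      rw [map_one] at h1
      ext a
      exact (congrArg (fun q : WithConv (A →ₐ[k] k) => q.ofConv a) h1).symm)
    (by
      let l : WithConv (A' →ₐ[k] A' ⊗[k] A') := toConv Algebra.TensorProduct.includeLeft
      let r : WithConv (A' →ₐ[k] A' ⊗[k] A') := toConv Algebra.TensorProduct.includeRight
      have h := e_comp ψ ψ' i (l * r)
      rw [map_mul, MonObj.mul_comp, e_comp ψ ψ' i l, e_comp ψ ψ' i r, ← map_mul] at h
      have h1 := (e ψ _).injective h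
      refine AlgHom.ext fun a => ?_
      have h2 := congrArg (fun q : WithConv (A →ₐ[k] A' ⊗[k] A') => q.ofConv a) h1
      change _ = (l * r).ofConv (pull ψ ψ' i a) at h2
      rw [AlgHom.convMul_apply, AlgHom.convMul_apply] at h2
      simp only [AlgHom.comp_apply, Bialgebra.comulAlgHom_apply]
      have key : ∀ z : A' ⊗[k] A', Algebra.TensorProduct.lift l.ofConv r.ofConv
          (fun _ _ => Commute.all _ _) z = z := by
        intro z
        induction z using TensorProduct.induction_on with
        | zero => simp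
        | add p q hp hq => simp only [map_add, hp, hq]
        | tmul p q => simp [l, r]
      rw [key] at h2
      rw [← h2]
      generalize CoalgebraStruct.comul (R := k) a = z
      induction z using TensorProduct.induction_on with
      | zero => simp
      | add p q hp hq => simp only [map_add, hp, hq]
      | tmul p q => simp [l, r])

theorem pullBialg_apply (a : A) : pullBialg ψ ψ' i a = pull ψ ψ' i a := rfl

theorem pull_surjective [IsClosedImmersion i.left] : Function.Surjective (pull ψ ψ' i) := by
  intro a'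
  have : IsAffine G.left := IsAffine.of_isIso (sch ψ).inv
  obtain ⟨f, hf⟩ := (IsClosedImmersion.isAffine_surjective_of_isAffine (f := i.left)).2 (fn ψ' a')
  obtain ⟨a, rfl⟩ := (fn ψ).surjective f
  exact ⟨a, (fn ψ').injective ((appTop_i_fn ψ ψ' i a).symm.trans hf)⟩

end Pull

section SpecHom

variable {A : Type u} [CommRing A] [HopfAlgebra k A] {B : Type u} [CommRing B] [HopfAlgebra k B]

/-- The homomorphism of group schemes of a map of bialgebras. -/
def spHom (φ : B →ₐc[k] A) : sp k A ⟶ sp k B :=
  Spec.mapMulEquiv (toConv (φ : B →ₐ[k] A))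

instance (φ : B →ₐc[k] A) : IsMonHom (spHom φ) :=
  inferInstanceAs (IsMonHom ((bialgSpec (CommRingCat.of k)).map (CommBialgCat.ofHom φ).op).hom)

theorem spHom_left (φ : B →ₐc[k] A) :
    (spHom φ).left = Spec.map (CommRingCat.ofHom (φ : B →ₐ[k] A).toRingHom) := rfl

theorem comp_spHom {T : Type u} [CommRing T] [Algebra k T] (φ : B →ₐc[k] A)
    (f : WithConv (A →ₐ[k] T)) :
    Spec.mapMulEquiv f ≫ spHom φ = Spec.mapMulEquiv (toConv (f.ofConv.comp (φ : B →ₐ[k] A))) := by
  apply Over.OverMorphism.ext
  change Spec.map _ ≫ Spec.map _ = Spec.map _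
  rw [← Spec.map_comp]
  rfl

end SpecHom

theorem spHom_comp_spHom {A B C : Type u} [CommRing A] [HopfAlgebra k A] [CommRing B] [HopfAlgebra k B]
    [CommRing C] [HopfAlgebra k C] (φ : B →ₐc[k] A) (χ : C →ₐc[k] B) :
    spHom φ ≫ spHom χ = spHom (φ.comp χ) := by
  apply Over.OverMorphism.ext
  change Spec.map _ ≫ Spec.map _ = Spec.map _
  rw [← Spec.map_comp]
  rfl

theorem spHom_id {A : Type u} [CommRing A] [HopfAlgebra k A] : spHom (BialgHom.id k A) = 𝟙 (sp k A) := by
  apply Over.OverMorphism.ext
  exact Spec.map_id _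

/-- the isomorphism of spectra of a bialgebra isomorphism -/
def spIso {A B : Type u} [CommRing A] [HopfAlgebra k A] [CommRing B] [HopfAlgebra k B] (E : A ≃ₐc[k] B) :
    sp k B ≅ sp k A where
  hom := spHom (E : A →ₐc[k] B)
  inv := spHom (E.symm : B →ₐc[k] A)
  hom_inv_id := by
    rw [spHom_comp_spHom, ← spHom_id]
    congr 1
    exact BialgHom.ext fun a => E.apply_symm_apply a
  inv_hom_id := by
    rw [spHom_comp_spHom, ← spHom_id]
    congr 1
    exact BialgHom.ext fun a => E.symm_apply_apply a

instance {A B : Type u} [CommRing A] [HopfAlgebra k A] [CommRing B] [HopfAlgebra k B] (E : A ≃ₐc[k] B) :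
    IsMonHom (spIso E).hom := inferInstanceAs (IsMonHom (spHom _))

/-- isomorphic coordinate bialgebras give isomorphic groups -/
theorem nonempty_grpIso {A A' : Type u} [CommRing A] [HopfAlgebra k A] [CommRing A'] [HopfAlgebra k A']
    {G H : Over (Spec (CommRingCat.of k))} [GrpObj G] [GrpObj H] (ψ : sp k A ≅ G) [IsMonHom ψ.hom]
    (ψ' : sp k A' ≅ H) [IsMonHom ψ'.hom] (E : A ≃ₐc[k] A') : Nonempty (Grp.mk H ≅ Grp.mk G) := by
  have hm : IsMonHom (ψ'.symm ≪≫ spIso E ≪≫ ψ).hom :=
    inferInstanceAs (IsMonHom (ψ'.inv ≫ (spIso E).hom ≫ ψ.hom))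
  exact ⟨Grp.mkIso (ψ'.symm ≪≫ spIso E ≪≫ ψ) (by exact hm.one_hom) (by exact hm.mul_hom)⟩

section Points

theorem comulAlgHom_eq_lr : toConv (Bialgebra.comulAlgHom k A) =
    toConv (Algebra.TensorProduct.includeLeft : A →ₐ[k] A ⊗[k] A) *
      toConv Algebra.TensorProduct.includeRight := by
  apply WithConv.ofConv_injective
  refine AlgHom.ext fun a => ?_
  rw [AlgHom.convMul_apply]
  simp only [Bialgebra.comulAlgHom_apply]
  generalize CoalgebraStruct.comul (R := k) a = z
  induction z using TensorProduct.induction_on with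
  | zero => simp
  | add p q hp hq => simp only [map_add]; rw [← hp, ← hq]
  | tmul p q => simp

variable {B : Type u} [CommRing B] [HopfAlgebra k B]

/-- a natural multiplicative bijection on points comes from an isomorphism of Hopf algebras -/
theorem exists_bialgEquiv_of_points
    (v : ∀ (R : Type u) [CommRing R] [Algebra k R], WithConv (B →ₐ[k] R) → WithConv (A →ₐ[k] R))
    (vbij : ∀ (R : Type u) [CommRing R] [Algebra k R], Function.Bijective (v R))
    (vmul : ∀ (R : Type u) [CommRing R] [Algebra k R] (f g : WithConv (B →ₐ[k] R)),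
      v R (f * g) = v R f * v R g)
    (vnat : ∀ (R R' : Type u) [CommRing R] [Algebra k R] [CommRing R'] [Algebra k R'] (q : R →ₐ[k] R')
      (f : WithConv (B →ₐ[k] R)), v R' (toConv (q.comp f.ofConv)) = toConv (q.comp (v R f).ofConv)) :
    ∃ E : A ≃ₐc[k] B, ∀ (R : Type u) [CommRing R] [Algebra k R] (f : WithConv (B →ₐ[k] R)),
      v R f = toConv (f.ofConv.comp (E : A →ₐ[k] B)) := by
  let φ : A →ₐ[k] B := (v B (toConv (AlgHom.id k B))).ofConv
  have hv : ∀ (R : Type u) [CommRing R] [Algebra k R] (f : WithConv (B →ₐ[k] R)),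
      v R f = toConv (f.ofConv.comp φ) := fun R _ _ f => by
    have h := vnat B R f.ofConv (toConv (AlgHom.id k B))
    simp only [ofConv_toConv, AlgHom.comp_id] at h
    exact h
  obtain ⟨f₀, hf₀⟩ := (vbij A).2 (toConv (AlgHom.id k A))
  rw [hv] at hf₀
  have h2 : f₀.ofConv.comp φ = AlgHom.id k A := congrArg WithConv.ofConv hf₀
  have h1 : φ.comp f₀.ofConv = AlgHom.id k B := by
    refine congrArg WithConv.ofConv ((vbij B).1 (a₁ := toConv (φ.comp f₀.ofConv))
      (a₂ := toConv (AlgHom.id k B)) ?_)
    rw [hv, hv]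
    simp only [ofConv_toConv, AlgHom.comp_assoc, h2, AlgHom.comp_id, AlgHom.id_comp]
  have hbij : Function.Bijective φ :=
    ⟨Function.LeftInverse.injective (g := f₀.ofConv) fun a => AlgHom.congr_fun h2 a,
      fun b => ⟨f₀.ofConv b, AlgHom.congr_fun h1 b⟩⟩
  have hone : v k 1 = 1 := by
    have h := vmul k 1 1
    rw [_root_.one_mul] at h
    obtain ⟨w, hw⟩ := (vbij k).2 1
    have h' := vmul k 1 w
    rw [_root_.one_mul, hw, _root_.mul_one] at h'
    exact h'.symm
  have hε : (Bialgebra.counitAlgHom k B).comp φ = Bialgebra.counitAlgHom k A := by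
    rw [hv] at hone
    exact congrArg WithConv.ofConv hone
  have hΔ : (Algebra.TensorProduct.map φ φ).comp (Bialgebra.comulAlgHom k A) =
      (Bialgebra.comulAlgHom k B).comp φ := by
    have h := vmul (B ⊗[k] B) (toConv Algebra.TensorProduct.includeLeft)
      (toConv Algebra.TensorProduct.includeRight)
    rw [← comulAlgHom_eq_lr, hv, hv, hv] at h
    refine WithConv.toConv_injective ?_
    rw [ofConv_toConv] at h
    rw [h, show Bialgebra.comulAlgHom k A = (toConv (Bialgebra.comulAlgHom k A)).ofConv from rfl,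
      comulAlgHom_eq_lr, AlgHom.comp_convMul_distrib, toConv_ofConv]
    congr 2
    all_goals (apply AlgHom.ext; intro a; simp)
  let Φ : A →ₐc[k] B := BialgHom.ofAlgHom φ hε hΔ
  refine ⟨BialgEquiv.ofBijective Φ hbij, fun R _ _ f => ?_⟩
  rw [hv]
  rfl

end Points

/-- isomorphic groups have isomorphic coordinate bialgebras -/
theorem exists_bialgEquiv_of_grpIso {A A' : Type u} [CommRing A] [HopfAlgebra k A] [CommRing A']
    [HopfAlgebra k A'] {G H : Over (Spec (CommRingCat.of k))} [GrpObj G] [GrpObj H]
    (ψ : sp k A ≅ G) [IsMonHom ψ.hom] (ψ' : sp k A' ≅ H) [IsMonHom ψ'.hom] (e₀ : Grp.mk H ≅ Grp.mk G) :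
    Nonempty (A ≃ₐc[k] A') := by
  let i : H ⟶ G := ((Grp.forget _).mapIso e₀).hom
  have : IsMonHom i := e₀.hom.hom.isMonHom_hom
  obtain ⟨E, -⟩ := exists_bialgEquiv_of_points (A := A) (B := A')
    (fun R _ _ x => toConv (x.ofConv.comp (pull ψ ψ' i)))
    (fun R _ _ => by
      have h : ∀ x : WithConv (A' →ₐ[k] R),
          toConv (x.ofConv.comp (pull ψ ψ' i)) = (e ψ R).symm (e ψ' R x ≫ i) := fun x => by
        rw [e_comp ψ ψ' i x, MulEquiv.symm_apply_apply]
      simp only [funext h]
      exact (e ψ R).symm.bijective.comp (((Iso.homToEquiv ((Grp.forget _).mapIso e₀))).bijective.comp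
        (e ψ' R).bijective))
    (fun R _ _ x y => (e ψ R).injective (by
      rw [← e_comp, map_mul, map_mul, MonObj.mul_comp, ← e_comp, ← e_comp]))
    (fun R R' _ _ _ _ q x => by simp [AlgHom.comp_assoc])
  exact ⟨E⟩

/-- coordinates of a commutative group are cocommutative -/
theorem isCocomm_of_comm {A : Type u} [CommRing A] [HopfAlgebra k A] {G : Over (Spec (CommRingCat.of k))}
    [GrpObj G] [IsCommMonObj G] (ψ : sp k A ≅ G) [IsMonHom ψ.hom] : Coalgebra.IsCocomm k A := by
  have h : toConv (Algebra.TensorProduct.includeLeft : A →ₐ[k] A ⊗[k] A) *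
      toConv Algebra.TensorProduct.includeRight = toConv Algebra.TensorProduct.includeRight *
      toConv (Algebra.TensorProduct.includeLeft : A →ₐ[k] A ⊗[k] A) := (e ψ _).injective (by
    rw [map_mul, map_mul]
    exact _root_.mul_comm _ _)
  rw [← comulAlgHom_eq_lr] at h
  refine ⟨LinearMap.ext fun a => ?_⟩
  have h2 := congrArg (fun w : WithConv (A →ₐ[k] A ⊗[k] A) => w.ofConv a) h
  simp only [AlgHom.convMul_apply] at h2
  rw [show (toConv (Bialgebra.comulAlgHom k A)).ofConv a = CoalgebraStruct.comul (R := k) a from rfl] at h2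
  show TensorProduct.comm k A A (CoalgebraStruct.comul (R := k) a) = CoalgebraStruct.comul (R := k) a
  conv_rhs => rw [h2]
  generalize CoalgebraStruct.comul (R := k) a = z
  induction z using TensorProduct.induction_on with
  | zero => simp
  | add p q hp hq => simp only [map_add, hp, hq]
  | tmul p q => simp

/-- coordinates on a diagonalisable group -/
theorem exists_coord_DS (k : Type u) [CommRing k] (M : Type) [AddCommGroup M] :
    ∃ ψ : sp k (MonoidAlgebra k (Multiplicative M)) ≅ Red.DS (Spec (CommRingCat.of k)) M,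
      IsMonHom ψ.hom := by
  haveI : IsAffine (Red.DS (Spec (CommRingCat.of k)) M).left := by
    haveI := isAffineHom_DS (Spec (CommRingCat.of k)) M
    exact isAffine_of_isAffineHom (Red.DS (Spec (CommRingCat.of k)) M).hom
  obtain ⟨B, _, _, ψB, _⟩ := exists_coord (k := k) (Red.DS (Spec (CommRingCat.of k)) M)
  let c : ∀ (R : Type u) [CommRing R] [Algebra k R], WithConv (B →ₐ[k] R) → Multiplicative M →* R :=
    fun R _ _ f =>
    { toFun := fun m => (Scheme.ΓSpecIso (CommRingCat.of R)).hom.hom
        (dsFn (e ψB R f) (Multiplicative.toAdd m))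
      map_one' := by
        rw [show dsFn (e ψB R f) (Multiplicative.toAdd (1 : Multiplicative M)) = 1 from
          dsFn_zero _, map_one]
      map_mul' := fun a b => by
        rw [show dsFn (e ψB R f) (Multiplicative.toAdd (a * b)) =
          dsFn (e ψB R f) (Multiplicative.toAdd a) * dsFn (e ψB R f) (Multiplicative.toAdd b)
          from dsFn_add _ _ _, map_mul] }
  let v : ∀ (R : Type u) [CommRing R] [Algebra k R],
      WithConv (B →ₐ[k] R) → WithConv (MonoidAlgebra k (Multiplicative M) →ₐ[k] R) :=
    fun R _ _ f => toConv (MonoidAlgebra.lift k R (Multiplicative M) (c R f))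
  have hv : ∀ (R : Type u) [CommRing R] [Algebra k R] (f : WithConv (B →ₐ[k] R)) (m : Multiplicative M),
      (v R f).ofConv (MonoidAlgebra.single m 1) = (Scheme.ΓSpecIso (CommRingCat.of R)).hom.hom
        (dsFn (e ψB R f) (Multiplicative.toAdd m)) := fun R _ _ f m => by
    simp [v, c, MonoidAlgebra.lift_single]
  obtain ⟨E, -⟩ := exists_bialgEquiv_of_points v
    (fun R _ _ => ⟨fun f g hfg => (e ψB R).injective (dsFn_injective fun m => by
        refine (ConcreteCategory.bijective_of_isIso (Scheme.ΓSpecIso (CommRingCat.of R)).hom).1 ?_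
        have h := congrArg (fun w : WithConv (MonoidAlgebra k (Multiplicative M) →ₐ[k] R) =>
          w.ofConv (MonoidAlgebra.single (Multiplicative.ofAdd m) 1)) hfg
        simp only [hv] at h
        exact h),
      fun w => by
        obtain ⟨t, ht⟩ := dsFn_surjective (S := Spec (CommRingCat.of k)) (X := VecGrp.pt k R)
          ((Scheme.ΓSpecIso (CommRingCat.of R)).inv.hom.toMonoidHom.comp
            ((w.ofConv : _ →* R).comp (MonoidAlgebra.of k (Multiplicative M))))
        obtain ⟨f, rfl⟩ := (e ψB R).surjective t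
        refine ⟨f, WithConv.ofConv_injective (MonoidAlgebra.algHom_ext' (MonoidHom.ext fun m => ?_)
          (by ext))⟩
        refine (hv R f m).trans ?_
        rw [ht]
        simp⟩)
    (fun R _ _ f g => WithConv.ofConv_injective (MonoidAlgebra.algHom_ext' (MonoidHom.ext fun m => by
      refine (hv R (f * g) m).trans ?_
      simp only [map_mul, dsFn_mul]
      rw [← hv R f m, ← hv R g m, MonoidHom.comp_apply]
      simp [AlgHom.convMul_apply]) (by ext)))
    (fun R R' _ _ _ _ q f => WithConv.ofConv_injective (MonoidAlgebra.algHom_ext' (MonoidHom.ext fun m => by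
      refine (hv R' _ m).trans ?_
      rw [← e_natural, dsFn_comp]
      refine (congrArg (fun r => r.hom (dsFn (e ψB R f) (Multiplicative.toAdd m)))
        (Scheme.ΓSpecIso_naturality (CommRingCat.ofHom q.toRingHom))).trans ?_
      exact congrArg q (hv R f m).symm) (by ext)))
  exact ⟨(spIso E).symm ≪≫ ψB, inferInstanceAs (IsMonHom ((spIso E).inv ≫ ψB.hom))⟩

section BaseChange

variable (L : Type u) [CommRing L] [Algebra k L]

theorem liftEquiv_mul {R : Type u} [CommRing R] [Algebra k R] [Algebra L R] [IsScalarTower k L R]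
    (x y : WithConv (A →ₐ[k] R)) :
    (toConv (Algebra.TensorProduct.liftEquivRight k L A R (x * y).ofConv) : WithConv (L ⊗[k] A →ₐ[L] R)) =
      toConv (Algebra.TensorProduct.liftEquivRight k L A R x.ofConv) * toConv (Algebra.TensorProduct.liftEquivRight k L A R y.ofConv) := by
  apply WithConv.ofConv_injective
  refine Algebra.TensorProduct.ext (by ext) (AlgHom.ext fun a => ?_)
  simp only [AlgHom.comp_apply, AlgHom.restrictScalars_apply, Algebra.TensorProduct.includeRight_apply,
    AlgHom.convMul_apply, Algebra.TensorProduct.liftEquivRight_apply, Algebra.TensorProduct.lift_tmul, map_one,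
    _root_.one_mul]
  rw [TensorProduct.comul_tmul, CommSemiring.comul_apply]
  generalize CoalgebraStruct.comul (R := k) a = z
  induction z using TensorProduct.induction_on with
  | zero => simp
  | add p q hp hq => simp only [map_add, TensorProduct.tmul_add, hp, hq]
  | tmul p q => simp

/-- coordinates on the base change along a field extension -/
theorem exists_coord_bc (ψ : sp k A ≅ G) [IsMonHom ψ.hom] :
    ∃ ψ' : sp L (L ⊗[k] A) ≅ Red.bc (Spec.map (CommRingCat.ofHom (algebraMap k L))) G,
      IsMonHom ψ'.hom := by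
  let f := Spec.map (CommRingCat.ofHom (algebraMap k L))
  haveI : IsAffine G.left := IsAffine.of_isIso (sch ψ).inv
  haveI : IsAffine (Red.bc f G).left :=
    inferInstanceAs (IsAffine (Limits.pullback G.hom f))
  obtain ⟨B, _, _, ψB, _⟩ := exists_coord (k := L) (Red.bc f G)
  let j : ∀ (R : Type u) [CommRing R] [Algebra k R] [Algebra L R] [IsScalarTower k L R],
      VecGrp.pt k R ≅ (Over.map f).obj (VecGrp.pt L R) := fun R _ _ _ _ =>
    Over.isoMk (Iso.refl _) (by
      change 𝟙 _ ≫ (Spec.map _ ≫ Spec.map _) = Spec.map _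
      rw [Category.id_comp, ← Spec.map_comp, ← CommRingCat.ofHom_comp, ← IsScalarTower.algebraMap_eq])
  let pts : ∀ (R : Type u) [CommRing R] [Algebra k R] [Algebra L R] [IsScalarTower k L R],
      WithConv (B →ₐ[L] R) → WithConv (A →ₐ[k] R) := fun R _ _ _ _ x =>
    (e ψ R).symm ((j R).hom ≫ toBase f (e ψB R x))
  have pbij : ∀ (R : Type u) [CommRing R] [Algebra k R] [Algebra L R] [IsScalarTower k L R],
      Function.Bijective (pts R) := by
    intro R _ _ _ _
    refine ⟨fun x y h => ?_, fun a => ?_⟩
    · have h1 := (e ψ R).symm.injective h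
      have h1 := (cancel_epi _).1 h1
      exact (e ψB R).injective (toBase_injective f h1)
    · obtain ⟨x, hx⟩ := (e ψB R).surjective (ofBase f ((j R).inv ≫ e ψ R a))
      refine ⟨x, ?_⟩
      show (e ψ R).symm _ = a
      rw [hx, toBase_ofBase, Iso.hom_inv_id_assoc, MulEquiv.symm_apply_apply]
  obtain ⟨E, -⟩ := exists_bialgEquiv_of_points (A := L ⊗[k] A) (B := B)
    (fun R _ _ x =>
      letI : Algebra k R := Algebra.compHom R (algebraMap k L)
      haveI : IsScalarTower k L R := .of_algebraMap_eq' rfl
      toConv (Algebra.TensorProduct.liftEquivRight k L A R (pts R x).ofConv))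
    (fun R _ _ => by
      letI : Algebra k R := Algebra.compHom R (algebraMap k L)
      haveI : IsScalarTower k L R := .of_algebraMap_eq' rfl
      exact (WithConv.toConv_bijective.comp (Algebra.TensorProduct.liftEquivRight k L A R).bijective).comp
        (WithConv.ofConv_bijective.comp (pbij R)))
    (fun R _ _ x y => by
      letI : Algebra k R := Algebra.compHom R (algebraMap k L)
      haveI : IsScalarTower k L R := .of_algebraMap_eq' rfl
      show toConv (Algebra.TensorProduct.liftEquivRight k L A R (pts R (x * y)).ofConv) = _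
      rw [← liftEquiv_mul]
      simp only [pts, map_mul, toBase_mul, MonObj.comp_mul])
    (fun R R' _ _ _ _ q x => by
      letI : Algebra k R := Algebra.compHom R (algebraMap k L)
      haveI : IsScalarTower k L R := .of_algebraMap_eq' rfl
      letI : Algebra k R' := Algebra.compHom R' (algebraMap k L)
      haveI : IsScalarTower k L R' := .of_algebraMap_eq' rfl
      show toConv (Algebra.TensorProduct.liftEquivRight k L A R' (pts R' (toConv (q.comp x.ofConv))).ofConv) = _
      have h : pts R' (toConv (q.comp x.ofConv)) =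
          toConv ((q.restrictScalars k).comp (pts R x).ofConv) := by
        refine (e ψ R').injective ?_
        rw [← e_natural]
        simp only [pts, MulEquiv.apply_symm_apply]
        rw [← e_natural, toBase_comp, ← Category.assoc, ← Category.assoc]
        congr 1
      rw [h]
      refine congrArg toConv (Algebra.TensorProduct.ext (by ext) (AlgHom.ext fun a => ?_))
      simp)
  exact ⟨(spIso E).symm ≪≫ ψB, inferInstanceAs (IsMonHom ((spIso E).inv ≫ ψB.hom))⟩

end BaseChange

end Groth.Agent.RedPts82.Hopf
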