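import Groth.Agent.RedPts82.DSHomClopen
import Groth.Agent.RedPts82.Transporter

/-!
The locus of equality of two central subgroups of multiplicative type is open and closed.
-/

universe u

open CategoryTheory MonoidalCategory CartesianMonoidalCategory MonObj GrpObj AlgebraicGeometry
open CategoryTheory.Limits

namespace Groth.Agent.RedPts82

variable {S : Scheme.{u}}

/-- A pair of properties of morphisms over the base, locally constant over a cover, has a clopen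
locus. -/
theorem exists_clopen_of_charts (P : MorphismProperty Scheme.{u}) [IsZariskiLocalAtTarget P]
    [P.IsStableUnderBaseChange] [P.DescendsAlong Unr55.fpqc.{u}] {X Y X₂ Y₂ : Over S} (u : X ⟶ Y)
    (u₂ : X₂ ⟶ Y₂) {S' : Scheme.{u}} (f : S' ⟶ S) [hf : Flat f] [hsf : Surjective f]
    (hqc : IsQcCover f) {L : Set S} (hL : ∀ s : S, s ∈ L ↔
      P ((Over.pullback (S.fromSpecResidueField s)).map u).left ∧
        P ((Over.pullback (S.fromSpecResidueField s)).map u₂).left)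
    (hpt : ∀ p : S', ∃ (V : S'.Opens) (O : (V : Scheme.{u}).Opens) (good : Prop),
      (∃ x : (V : Scheme.{u}), x.1 = p ∧ x ∈ O) ∧
      (∀ x : (V : Scheme.{u}), x ∈ O → (f x.1 ∈ L ↔ good)) ∧
      (good → P ((Over.pullback (O.ι ≫ V.ι ≫ f)).map u).left ∧
        P ((Over.pullback (O.ι ≫ V.ι ≫ f)).map u₂).left)) :
    ∃ U : S.Opens, IsClosed (U : Set S) ∧ (∀ s : S, s ∈ U ↔ s ∈ L) ∧
      P ((Over.pullback U.ι).map u).left ∧ P ((Over.pullback U.ι).map u₂).left := by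
  choose V O good hmem hiff hgood using hpt
  have hopen : ∀ Q : Prop → Prop, IsOpen (f.base ⁻¹' {s | Q (s ∈ L)}) := by
    intro Q
    refine isOpen_iff_forall_mem_open.mpr fun p hp => ?_
    obtain ⟨x, hxp, hxO⟩ := hmem p
    refine ⟨(V p).ι '' (O p : Set (V p : Scheme.{u})), ?_,
      (V p).ι.isOpenEmbedding.isOpenMap _ (O p).2, ⟨x, hxO, hxp⟩⟩
    rintro _ ⟨y, hy, rfl⟩
    show Q (f y.1 ∈ L)
    rw [propext (hiff p y hy), ← propext (hiff p x hxO), hxp]
    exact hp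
  let U : S.Opens := ⟨L, isOpen_of_preimage f hqc (hopen id)⟩
  refine ⟨U, isOpen_compl_iff.mp (isOpen_of_preimage f hqc (hopen Not)), fun s => Iff.rfl, ?_⟩
  -- globally on the locus
  haveI : Surjective (f ∣_ U) := MorphismProperty.of_isPullback (P := @Surjective)
    (isPullback_morphismRestrict f U).flip hsf
  haveI : Flat (f ∣_ U) := MorphismProperty.of_isPullback (P := @Flat)
    (isPullback_morphismRestrict f U).flip hf
  have hqcU : IsQcCover (f ∣_ U) := ?_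
  refine ⟨map_prop_of_fpqc_cover P _ (f ∣_ U) hqcU fun t => ?_,
    map_prop_of_fpqc_cover P _ (f ∣_ U) hqcU fun t => ?_⟩
  · obtain ⟨x, hxp, hxO⟩ := hmem t.1
    let Ω : (f ⁻¹ᵁ U : Scheme.{u}).Opens := (f ⁻¹ᵁ U).ι ⁻¹ᵁ ((V t.1).ι ''ᵁ (O t.1))
    refine ⟨Ω, ⟨x, hxO, hxp⟩, (prop_bc_comp P u U.ι (Ω.ι ≫ f ∣_ U)).mpr ?_⟩
    have hg : good t.1 := (hiff t.1 x hxO).mp (by rw [hxp]; exact t.2)
    have hr : Set.range (Ω.ι ≫ (f ⁻¹ᵁ U).ι).base ⊆ Set.range ((O t.1).ι ≫ (V t.1).ι).base := by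
      rintro _ ⟨z, rfl⟩
      obtain ⟨y, hy, e⟩ := z.2
      exact ⟨⟨y, hy⟩, e⟩
    exact MorphismProperty.of_isPullback
      (isPullback_bcTrans_map u _ (IsOpenImmersion.lift _ _ hr) _ (by
        rw [← Category.assoc ((O t.1).ι), IsOpenImmersion.lift_fac_assoc, Category.assoc,
          Category.assoc, morphismRestrict_ι])) (hgood t.1 hg).1
  · obtain ⟨x, hxp, hxO⟩ := hmem t.1
    let Ω : (f ⁻¹ᵁ U : Scheme.{u}).Opens := (f ⁻¹ᵁ U).ι ⁻¹ᵁ ((V t.1).ι ''ᵁ (O t.1))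
    refine ⟨Ω, ⟨x, hxO, hxp⟩, (prop_bc_comp P u₂ U.ι (Ω.ι ≫ f ∣_ U)).mpr ?_⟩
    have hg : good t.1 := (hiff t.1 x hxO).mp (by rw [hxp]; exact t.2)
    have hr : Set.range (Ω.ι ≫ (f ⁻¹ᵁ U).ι).base ⊆ Set.range ((O t.1).ι ≫ (V t.1).ι).base := by
      rintro _ ⟨z, rfl⟩
      obtain ⟨y, hy, e⟩ := z.2
      exact ⟨⟨y, hy⟩, e⟩
    exact MorphismProperty.of_isPullback
      (isPullback_bcTrans_map u₂ _ (IsOpenImmersion.lift _ _ hr) _ (by
        rw [← Category.assoc ((O t.1).ι), IsOpenImmersion.lift_fac_assoc, Category.assoc,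
          Category.assoc, morphismRestrict_ι])) (hgood t.1 hg).2
  · intro A hA
    obtain ⟨W, hWc, hWA⟩ := hqc (U.ι ''ᵁ A) (hA.image_of_isOpenImmersion U.ι)
    have hWle : W ≤ f ⁻¹ᵁ U := fun w hw => by
      obtain ⟨a, -, ha⟩ : f w ∈ (U.ι ''ᵁ A : Set S) := hWA ▸ ⟨w, hw, rfl⟩
      show f w ∈ U
      rw [← ha]; exact a.2
    refine ⟨(f ⁻¹ᵁ U).ι ⁻¹ᵁ W, ?_, ?_⟩
    · refine (f ⁻¹ᵁ U).ι.isOpenEmbedding.isEmbedding.isInducing.isCompact_preimage' hWc ?_
      exact fun w hw => ⟨⟨w, hWle hw⟩, rfl⟩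
    · ext a
      constructor
      · rintro ⟨w, hw, rfl⟩
        obtain ⟨a', ha', e⟩ : f w.1 ∈ (U.ι ''ᵁ A : Set S) := hWA ▸ ⟨w.1, hw, rfl⟩
        have : a' = (f ∣_ U) w := U.ι.isOpenEmbedding.injective (e.trans
          (congrArg (fun k : (f ⁻¹ᵁ U : Scheme.{u}) ⟶ S => k w) (morphismRestrict_ι f U)).symm)
        exact this ▸ ha'
      · intro ha
        obtain ⟨w, hw, e⟩ : U.ι a ∈ f.base '' (W : Set S') := hWA ▸ ⟨a, ha, rfl⟩
        refine ⟨⟨w, hWle hw⟩, hw, U.ι.isOpenEmbedding.injective ?_⟩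
        exact (congrArg (fun k : (f ⁻¹ᵁ U : Scheme.{u}) ⟶ S => k ⟨w, hWle hw⟩)
          (morphismRestrict_ι f U)).trans e

/-- The points of two groups over the base have the same images. -/
def EqPts {T : Scheme.{u}} (ψ : T ⟶ S) {H₁ H₂ G : Over S} (i₁ : H₁ ⟶ G) (i₂ : H₂ ⟶ G) : Prop :=
  ∀ (Z : Over S) (_ : Z ⟶ Over.mk ψ), (∀ a : Z ⟶ H₁, ∃ b, a ≫ i₁ = b ≫ i₂) ∧
    (∀ b : Z ⟶ H₂, ∃ a, a ≫ i₁ = b ≫ i₂)

theorem EqPts.of_comp {T T' : Scheme.{u}} {ψ : T ⟶ S} {ψ' : T' ⟶ S} {H₁ H₂ G : Over S}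
    {i₁ : H₁ ⟶ G} {i₂ : H₂ ⟶ G} (h : EqPts ψ i₁ i₂) (k : T' ⟶ T) (hk : k ≫ ψ = ψ') :
    EqPts ψ' i₁ i₂ :=
  fun Z p => h Z (Over.homMk (p.left ≫ k) (by
    show (p.left ≫ k) ≫ ψ = Z.hom
    rw [Category.assoc, hk]; exact Over.w p))

/-- Equality on points is the bijectivity of the two projections of the fibre product. -/
theorem isIso_pullback_iff_eqPts {T : Scheme.{u}} (ψ : T ⟶ S) {E H₁ H₂ G : Over S} {p₁ : E ⟶ H₁}
    {p₂ : E ⟶ H₂} {i₁ : H₁ ⟶ G} {i₂ : H₂ ⟶ G} (h : IsPullback p₁ p₂ i₁ i₂) [Mono i₁] [Mono i₂] :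
    IsIso ((Over.pullback ψ).map p₁).left ∧ IsIso ((Over.pullback ψ).map p₂).left ↔
      EqPts ψ i₁ i₂ := by
  have hp₁ : Mono p₁ := ⟨fun a b e => h.hom_ext e (by
    rw [← cancel_mono i₂, Category.assoc, Category.assoc, ← h.w, ← Category.assoc, e, Category.assoc])⟩
  have hp₂ : Mono p₂ := ⟨fun a b e => h.hom_ext (by
    rw [← cancel_mono i₁, Category.assoc, Category.assoc, h.w, ← Category.assoc, e, Category.assoc]) e⟩
  constructor
  · rintro ⟨h₁, h₂⟩ Z p
    haveI := h₁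
    haveI := h₂
    haveI : IsIso ((Over.pullback ψ).map p₁) :=
      (isIso_iff_of_reflects_iso ((Over.pullback ψ).map p₁) (Over.forget T)).mp h₁
    haveI : IsIso ((Over.pullback ψ).map p₂) :=
      (isIso_iff_of_reflects_iso ((Over.pullback ψ).map p₂) (Over.forget T)).mp h₂
    obtain ⟨α, -⟩ := exists_over_iso ψ p.left (Over.w p)
    constructor
    · intro a
      let e := ofBase ψ (α.hom ≫ a) ≫ inv ((Over.pullback ψ).map p₁)
      refine ⟨α.inv ≫ toBase ψ e ≫ p₂, ?_⟩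
      have he : toBase ψ e ≫ p₁ = α.hom ≫ a := by
        rw [← toBase_comp_map]
        simp only [e, Category.assoc, IsIso.inv_hom_id, Category.comp_id, toBase_ofBase]
      rw [Category.assoc, Category.assoc, ← h.w, reassoc_of% he, Iso.inv_hom_id_assoc]
    · intro b
      let e := ofBase ψ (α.hom ≫ b) ≫ inv ((Over.pullback ψ).map p₂)
      refine ⟨α.inv ≫ toBase ψ e ≫ p₁, ?_⟩
      have he : toBase ψ e ≫ p₂ = α.hom ≫ b := by
        rw [← toBase_comp_map]
        simp only [e, Category.assoc, IsIso.inv_hom_id, Category.comp_id, toBase_ofBase]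
      rw [Category.assoc, Category.assoc, h.w, reassoc_of% he, Iso.inv_hom_id_assoc]
  · intro hk
    constructor
    · let Z := (Over.map ψ).obj ((Over.pullback ψ).obj H₁)
      obtain ⟨b, hb⟩ := (hk Z (Over.homMk ((Over.pullback ψ).obj H₁).hom rfl)).1 (toBase ψ (𝟙 _))
      let s := ofBase ψ (h.lift (toBase ψ (𝟙 _)) b hb)
      have hs : s ≫ (Over.pullback ψ).map p₁ = 𝟙 _ := toBase_injective ψ (by
        rw [toBase_comp_map, toBase_ofBase, h.lift_fst])
      haveI : IsIso ((Over.pullback ψ).map p₁) := ⟨s, by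
        rw [← cancel_mono ((Over.pullback ψ).map p₁), Category.assoc, hs, Category.comp_id,
          Category.id_comp], hs⟩
      exact inferInstanceAs (IsIso ((Over.forget T).map ((Over.pullback ψ).map p₁)))
    · let Z := (Over.map ψ).obj ((Over.pullback ψ).obj H₂)
      obtain ⟨a, ha⟩ := (hk Z (Over.homMk ((Over.pullback ψ).obj H₂).hom rfl)).2 (toBase ψ (𝟙 _))
      let s := ofBase ψ (h.lift a (toBase ψ (𝟙 _)) ha)
      have hs : s ≫ (Over.pullback ψ).map p₂ = 𝟙 _ := toBase_injective ψ (by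
        rw [toBase_comp_map, toBase_ofBase, h.lift_snd])
      haveI : IsIso ((Over.pullback ψ).map p₂) := ⟨s, by
        rw [← cancel_mono ((Over.pullback ψ).map p₂), Category.assoc, hs, Category.comp_id,
          Category.id_comp], hs⟩
      exact inferInstanceAs (IsIso ((Over.forget T).map ((Over.pullback ψ).map p₂)))

theorem eqPts_iso_comp_iff {T : Scheme.{u}} (ψ : T ⟶ S) {H₁ H₂ H₁' H₂' G : Over S} (a : H₁' ⟶ H₁)
    (b : H₂' ⟶ H₂) [IsIso a] [IsIso b] (i₁ : H₁ ⟶ G) (i₂ : H₂ ⟶ G) :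
    EqPts ψ (a ≫ i₁) (b ≫ i₂) ↔ EqPts ψ i₁ i₂ := by
  refine ⟨fun h Z p => ⟨fun x => ?_, fun y => ?_⟩, fun h Z p => ⟨fun x => ?_, fun y => ?_⟩⟩
  · obtain ⟨y, hy⟩ := (h Z p).1 (x ≫ inv a)
    exact ⟨y ≫ b, by rw [Category.assoc, ← hy, Category.assoc, IsIso.inv_hom_id_assoc]⟩
  · obtain ⟨x, hx⟩ := (h Z p).2 (y ≫ inv b)
    exact ⟨x ≫ a, by rw [Category.assoc, hx, Category.assoc, IsIso.inv_hom_id_assoc]⟩
  · obtain ⟨y, hy⟩ := (h Z p).1 (x ≫ a)
    exact ⟨y ≫ inv b, by rw [← Category.assoc, hy, Category.assoc, IsIso.inv_hom_id_assoc]⟩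
  · obtain ⟨x, hx⟩ := (h Z p).2 (y ≫ b)
    exact ⟨x ≫ inv a, by rw [Category.assoc, IsIso.inv_hom_id_assoc, ← Category.assoc, hx]⟩

/-- Quotients are multiplicative when the elements commute. -/
theorem mul_div_mul_of_commute {Γ : Type*} [Group Γ] {a a' b b' : Γ} (ha : ∀ g, g * a = a * g)
    (hb : b' * b = b * b') : (a' * a) * (b' * b)⁻¹ = (a' * b'⁻¹) * (a * b⁻¹) := by
  calc (a' * a) * (b' * b)⁻¹ = a' * (a * (b * b')⁻¹) := by rw [hb, _root_.mul_assoc]
    _ = a' * (a * b'⁻¹ * b⁻¹) := by rw [_root_.mul_inv_rev, _root_.mul_assoc a]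
    _ = (a' * b'⁻¹) * (a * b⁻¹) := by
      rw [← ha b'⁻¹, _root_.mul_assoc b'⁻¹, ← _root_.mul_assoc a']

theorem pts_mul_div_mul {Z G : Over S} [GrpObj G] (a a' b b' : Z ⟶ G) (ha : ∀ g, g * a = a * g)
    (hb : b' * b = b * b') : (a' * a) * (b' * b)⁻¹ = (a' * b'⁻¹) * (a * b⁻¹) :=
  mul_div_mul_of_commute ha hb

/-- Points of a diagonalisable group have commuting images. -/
theorem comp_mul_comm {M : Type} [AddCommGroup M] {Z G : Over S} [GrpObj G] (j : Red.DS S M ⟶ G)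
    [IsMonHom j] (a b : Z ⟶ Red.DS S M) : (a ≫ j) * (b ≫ j) = (b ≫ j) * (a ≫ j) := by
  rw [← MonObj.mul_comp _ _ j, ← MonObj.mul_comp _ _ j]
  refine congrArg (· ≫ j) (dsFn_injective fun m => ?_)
  rw [dsFn_mul, dsFn_mul, _root_.mul_comm]

section Local

variable {W : Scheme.{u}} [IsAffine W] {M₁ M₂ : Type} [AddCommGroup M₁] [AddCommGroup M₂]

theorem exists_pair {Z : Over W} (t₁ : Z ⟶ Red.DS W M₁) (t₂ : Z ⟶ Red.DS W M₂) :
    ∃ t : Z ⟶ Red.DS W (M₁ × M₂), t ≫ Red.DSmap W (AddMonoidHom.inl M₁ M₂) = t₁ ∧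
      t ≫ Red.DSmap W (AddMonoidHom.inr M₁ M₂) = t₂ ∧
      ∀ a b, dsFn t (a, b) = dsFn t₁ a * dsFn t₂ b := by
  obtain ⟨t, ht⟩ := dsFn_surjective (S := W) (X := Z) (M := M₁ × M₂)
    { toFun := fun g => dsFn t₁ (Multiplicative.toAdd g).1 * dsFn t₂ (Multiplicative.toAdd g).2
      map_one' := by
        show dsFn t₁ 0 * dsFn t₂ 0 = 1
        rw [dsFn_zero, dsFn_zero, _root_.one_mul]
      map_mul' := fun x y => by
        show dsFn t₁ (_ + _) * dsFn t₂ (_ + _) = _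
        rw [dsFn_add, dsFn_add]
        exact _root_.mul_mul_mul_comm _ _ _ _ }
  have ht' : ∀ a b, dsFn t (a, b) = dsFn t₁ a * dsFn t₂ b := fun a b => ht (a, b)
  refine ⟨t, dsFn_injective fun a => ?_, dsFn_injective fun b => ?_, ht'⟩
  · rw [dsFn_DSmap, AddMonoidHom.inl_apply, ht', dsFn_zero, _root_.mul_one]
  · rw [dsFn_DSmap, AddMonoidHom.inr_apply, ht', dsFn_zero, _root_.one_mul]

variable {G : Over W} [GrpObj G] [IsSeparated G.hom]
  (j₁ : Red.DS W M₁ ⟶ G) (j₂ : Red.DS W M₂ ⟶ G) [IsMonHom j₁] [IsMonHom j₂] [Mono j₁] [Mono j₂]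

/-- The map `(t₁, t₂) ↦ j₁ t₁ / j₂ t₂`. -/
noncomputable abbrev divHom : Red.DS W (M₁ × M₂) ⟶ G :=
  (Red.DSmap W (AddMonoidHom.inl M₁ M₂) ≫ j₁) * (Red.DSmap W (AddMonoidHom.inr M₁ M₂) ≫ j₂)⁻¹

omit [IsAffine W] [IsSeparated G.hom] [Mono j₁] [Mono j₂] [IsMonHom j₁] [IsMonHom j₂] in
theorem comp_divHom {Z : Over W} (t : Z ⟶ Red.DS W (M₁ × M₂)) : t ≫ divHom j₁ j₂ =
    (t ≫ Red.DSmap W (AddMonoidHom.inl M₁ M₂) ≫ j₁) *
      (t ≫ Red.DSmap W (AddMonoidHom.inr M₁ M₂) ≫ j₂)⁻¹ := by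
  rw [MonObj.comp_mul, GrpObj.comp_inv]

variable (hc : ∀ (Z : Over W) (a : Z ⟶ Red.DS W M₁) (g : Z ⟶ G), g * (a ≫ j₁) = (a ≫ j₁) * g)

include hc in
omit [IsAffine W] [IsSeparated G.hom] [Mono j₁] [Mono j₂] in
set_option backward.isDefEq.respectTransparency.types true in
theorem isMonHom_divHom : IsMonHom (divHom j₁ j₂) := by
  refine isMonHom_of_points _ fun Z x y => ?_
  rw [comp_divHom, comp_divHom, comp_divHom]
  simp only [← Category.assoc, MonObj.mul_comp _ _ (Red.DSmap W (AddMonoidHom.inl M₁ M₂)),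
    MonObj.mul_comp _ _ (Red.DSmap W (AddMonoidHom.inr M₁ M₂)), MonObj.mul_comp _ _ j₁,
    MonObj.mul_comp _ _ j₂]
  have h1 := hc Z (y ≫ Red.DSmap W (AddMonoidHom.inl M₁ M₂))
  have h2 := comp_mul_comm j₂ (x ≫ Red.DSmap W (AddMonoidHom.inr M₁ M₂))
    (y ≫ Red.DSmap W (AddMonoidHom.inr M₁ M₂))
  generalize (y ≫ Red.DSmap W (AddMonoidHom.inl M₁ M₂)) ≫ j₁ = a at h1 ⊢
  generalize (x ≫ Red.DSmap W (AddMonoidHom.inl M₁ M₂)) ≫ j₁ = a'
  generalize (y ≫ Red.DSmap W (AddMonoidHom.inr M₁ M₂)) ≫ j₂ = b at h2 ⊢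
  generalize (x ≫ Red.DSmap W (AddMonoidHom.inr M₁ M₂)) ≫ j₂ = b' at h2 ⊢
  exact pts_mul_div_mul a a' b b' h1 h2

include hc

set_option maxHeartbeats 1000000 in
/-- Near each point, equality of the images is either everywhere false or everywhere true. -/
theorem eqPts_nhd (hG : LocallyOfFiniteType G.hom ∨
    ∃ (Y : Over W) (y : Y ⟶ Red.DS W (M₁ × M₂)), IsClosedImmersion y.left ∧
      LocallyOfFinitePresentation y.left ∧ ∀ (X : Over W) (t : X ⟶ Red.DS W (M₁ × M₂)),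
        (∃ z, t = z ≫ y) ↔ t ≫ divHom j₁ j₂ = 1) {H : Over W} [GrpObj H]
    (hH : IsMultType H) (e : Red.DS W M₁ ⟶ H) [IsMonHom e] [IsIso e] (x : W) :
    ∃ (D : W.Opens) (good : Prop), x ∈ D ∧
      (∀ y, y ∈ D → (EqPts (W.fromSpecResidueField y) j₁ j₂ ↔ good)) ∧
      (good → EqPts D.ι j₁ j₂) := by
  classical
  haveI : IsAffine (𝟙_ (Over W)).left := inferInstanceAs (IsAffine W)
  haveI := isMonHom_divHom j₁ j₂ hc
  let q := divHom j₁ j₂
  let N : W → AddSubgroup (M₁ × M₂) := fun y => charTrivSubgroup q (W.fromSpecResidueField y)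
  -- where equality holds, the kernel meets the factors trivially
  have hA : ∀ y, EqPts (W.fromSpecResidueField y) j₁ j₂ →
      (∀ m, (m, (0 : M₂)) ∈ N y → m = 0) ∧ (∀ m, ((0 : M₁), m) ∈ N y → m = 0) := by
    intro y hy
    constructor
    · intro m hm
      let R := MonoidAlgebra (W.residueField y) (Multiplicative M₁)
      obtain ⟨Z, hZ, p, τ, hpt⟩ := exists_pt (M := M₁) (B := R) y MonoidAlgebra.singleOneRingHom
      obtain ⟨t₁, ht₁, -⟩ := hpt (RingHom.id R) fun _ => rfl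
      obtain ⟨t₂, ht₂⟩ := (hy Z p).1 t₁
      obtain ⟨t, h₁, h₂, h₁₂⟩ := exists_pair t₁ t₂
      have hq : t ≫ q = 1 := by
        rw [comp_divHom, reassoc_of% h₁, reassoc_of% h₂, ht₂, mul_inv_cancel]
      have h3 := hm Z p t hq
      rw [h₁₂, dsFn_zero, _root_.mul_one, ht₁, RingHom.id_apply, ← map_one τ,
        MonoidAlgebra.one_def] at h3
      rcases MonoidAlgebra.single_inj.mp (τ.injective h3) with ⟨h4, -⟩ | ⟨h4, -⟩
      · exact Multiplicative.ofAdd.injective h4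
      · exact absurd h4 one_ne_zero
    · intro m hm
      let R := MonoidAlgebra (W.residueField y) (Multiplicative M₂)
      obtain ⟨Z, hZ, p, τ, hpt⟩ := exists_pt (M := M₂) (B := R) y MonoidAlgebra.singleOneRingHom
      obtain ⟨t₂, ht₂, -⟩ := hpt (RingHom.id R) fun _ => rfl
      obtain ⟨t₁, ht₁⟩ := (hy Z p).2 t₂
      obtain ⟨t, h₁, h₂, h₁₂⟩ := exists_pair t₁ t₂
      have hq : t ≫ q = 1 := by
        rw [comp_divHom, reassoc_of% h₁, reassoc_of% h₂, ht₁, mul_inv_cancel]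
      have h3 := hm Z p t hq
      rw [h₁₂, dsFn_zero, _root_.one_mul, ht₂, RingHom.id_apply, ← map_one τ,
        MonoidAlgebra.one_def] at h3
      rcases MonoidAlgebra.single_inj.mp (τ.injective h3) with ⟨h4, -⟩ | ⟨h4, -⟩
      · exact Multiplicative.ofAdd.injective h4
      · exact absurd h4 one_ne_zero
  by_cases h₁ : ∃ m, (m, (0 : M₂)) ∈ N x ∧ m ≠ 0
  · obtain ⟨m, hm, hm0⟩ := h₁
    obtain ⟨D, hxD, hD⟩ := charTriv_nhd q x _ hm
    exact ⟨D, False, hxD, fun y hy => iff_false_intro fun h => hm0 ((hA y h).1 m (hD y hy)),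
      False.elim⟩
  by_cases h₂ : ∃ m, ((0 : M₁), m) ∈ N x ∧ m ≠ 0
  · obtain ⟨m, hm, hm0⟩ := h₂
    obtain ⟨D, hxD, hD⟩ := charTriv_nhd q x _ hm
    exact ⟨D, False, hxD, fun y hy => iff_false_intro fun h => hm0 ((hA y h).2 m (hD y hy)),
      False.elim⟩
  push Not at h₁ h₂
  -- the kernel at `x` maps onto the character groups of the factors
  let ν₁ := QuotientAddGroup.mk' (N x ⊔ (AddMonoidHom.inl M₁ M₂).range)
  let ν₂ := QuotientAddGroup.mk' (N x ⊔ (AddMonoidHom.inr M₁ M₂).range)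
  have hsur : ∀ {Q : Type} [AddCommGroup Q] (ν : M₁ × M₂ →+ Q), (∀ n ∈ N x, ν n = 0) →
      ((∀ a, ν (a, 0) = 0) ∨ ∀ b, ν (0, b) = 0) → ν = 0 := by
    intro Q _ ν hνN hν
    let R := MonoidAlgebra (W.residueField x) (Multiplicative Q)
    obtain ⟨Z, hZ, p, τ, hpt⟩ := exists_pt (M := M₁ × M₂) (B := R) x MonoidAlgebra.singleOneRingHom
    obtain ⟨t, ht, -⟩ := hpt (MonoidAlgebra.mapDomainRingHom _ (AddMonoidHom.toMultiplicative ν))
      fun k => by
        show MonoidAlgebra.mapDomain _ _ = _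
        rw [MonoidAlgebra.mapDomain_single, map_one]
        rfl
    have ht' : ∀ n, dsFn t n = τ (MonoidAlgebra.single (Multiplicative.ofAdd (ν n)) 1) := fun n => by
      rw [ht]
      show τ (MonoidAlgebra.mapDomain _ _) = _
      rw [MonoidAlgebra.mapDomain_single]
      rfl
    have hzero : ∀ n, ν n = 0 → dsFn t n = 1 := fun n hn => by
      rw [ht', hn, ofAdd_zero, ← MonoidAlgebra.one_def, map_one]
    have hq : t ≫ q = 1 :=
      comp_eq_one_of_charTriv q x Z p t fun n hn => hzero n (hνN n hn)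
    rw [comp_divHom, mul_inv_eq_one] at hq
    have hall : ∀ n, dsFn t n = 1 := by
      rcases hν with hν | hν
      · have h4 : t ≫ Red.DSmap W (AddMonoidHom.inl M₁ M₂) = 1 := dsFn_injective fun a => by
          rw [dsFn_DSmap, dsFn_one]; exact hzero _ (hν a)
        have h5 : t ≫ Red.DSmap W (AddMonoidHom.inr M₁ M₂) = 1 := by
          rw [← cancel_mono j₂, Category.assoc, ← hq, ← Category.assoc, h4, MonObj.one_comp,
            MonObj.one_comp]
        intro n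
        have e1 := congrArg (fun k => dsFn k n.1) h4
        have e2 := congrArg (fun k => dsFn k n.2) h5
        simp only [dsFn_DSmap, dsFn_one, AddMonoidHom.inl_apply, AddMonoidHom.inr_apply] at e1 e2
        rw [show n = (n.1, 0) + ((0 : M₁), n.2) by simp, dsFn_add, e1, e2, _root_.one_mul]
      · have h5 : t ≫ Red.DSmap W (AddMonoidHom.inr M₁ M₂) = 1 := dsFn_injective fun a => by
          rw [dsFn_DSmap, dsFn_one]; exact hzero _ (hν a)
        have h4 : t ≫ Red.DSmap W (AddMonoidHom.inl M₁ M₂) = 1 := by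
          rw [← cancel_mono j₁, Category.assoc, hq, ← Category.assoc, h5, MonObj.one_comp,
            MonObj.one_comp]
        intro n
        have e1 := congrArg (fun k => dsFn k n.1) h4
        have e2 := congrArg (fun k => dsFn k n.2) h5
        simp only [dsFn_DSmap, dsFn_one, AddMonoidHom.inl_apply, AddMonoidHom.inr_apply] at e1 e2
        rw [show n = (n.1, 0) + ((0 : M₁), n.2) by simp, dsFn_add, e1, e2, _root_.one_mul]
    refine AddMonoidHom.ext fun n => ?_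
    have h6 := hall n
    rw [ht', ← map_one τ, MonoidAlgebra.one_def] at h6
    rcases MonoidAlgebra.single_inj.mp (τ.injective h6) with ⟨h7, -⟩ | ⟨h7, -⟩
    · exact Multiplicative.ofAdd.injective h7
    · exact absurd h7 one_ne_zero
  have hex₁ : ∀ b : M₂, ∃ a : M₁, (a, -b) ∈ N x := by
    intro b
    have h := hsur ν₁ (fun n hn => (QuotientAddGroup.eq_zero_iff n).mpr (AddSubgroup.mem_sup_left hn))
      (.inl fun a => (QuotientAddGroup.eq_zero_iff _).mpr (AddSubgroup.mem_sup_right ⟨a, rfl⟩))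
    obtain ⟨n, hn, _, ⟨a, rfl⟩, he⟩ := AddSubgroup.mem_sup.mp
      ((QuotientAddGroup.eq_zero_iff ((0 : M₁), -b)).mp (DFunLike.congr_fun h (0, -b)))
    refine ⟨-a, ?_⟩
    rwa [show ((-a, -b) : M₁ × M₂) = n by
      have := eq_sub_of_add_eq he
      rw [this]; simp]
  have hex₂ : ∀ a : M₁, ∃ b : M₂, (a, -b) ∈ N x := by
    intro a
    have h := hsur ν₂ (fun n hn => (QuotientAddGroup.eq_zero_iff n).mpr (AddSubgroup.mem_sup_left hn))
      (.inr fun b => (QuotientAddGroup.eq_zero_iff _).mpr (AddSubgroup.mem_sup_right ⟨b, rfl⟩))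
    obtain ⟨n, hn, _, ⟨b, rfl⟩, he⟩ := AddSubgroup.mem_sup.mp
      ((QuotientAddGroup.eq_zero_iff (a, (0 : M₂))).mp (DFunLike.congr_fun h (a, 0)))
    refine ⟨b, ?_⟩
    rwa [show ((a, -b) : M₁ × M₂) = n by
      have := eq_sub_of_add_eq he
      rw [this]; simp]
  choose φ₀ hφ₀ using hex₁
  have huniq₁ : ∀ a a' b, (a, -b) ∈ N x → (a', -b) ∈ N x → a = a' := fun a a' b h h' =>
    sub_eq_zero.mp (h₁ _ (by simpa using sub_mem h h'))
  have huniq₂ : ∀ a b b', (a, -b) ∈ N x → (a, -b') ∈ N x → b = b' := fun a b b' h h' =>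
    sub_eq_zero.mp (h₂ _ (by simpa [sub_eq_add_neg, add_comm] using sub_mem h' h))
  let φ : M₂ →+ M₁ := AddMonoidHom.mk' φ₀ fun b b' => huniq₁ _ _ _ (hφ₀ (b + b'))
    (by simpa [add_comm] using add_mem (hφ₀ b) (hφ₀ b'))
  have hφ : Function.Bijective φ := ⟨fun b b' h => huniq₂ _ _ _ (hφ₀ b) (by
      rw [show φ₀ b = φ₀ b' from h]; exact hφ₀ b'),
    fun a => by obtain ⟨b, hb⟩ := hex₂ a; exact ⟨b, huniq₁ _ _ _ (hφ₀ b) hb⟩⟩
  let ε := AddEquiv.ofBijective φ hφ
  -- the difference vanishes at `x`, hence near `x`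
  haveI : IsMonHom (Red.DSmap W φ ≫ j₂) := isMonHom_of_points _ fun Z a b => by
    rw [← Category.assoc, ← Category.assoc, ← Category.assoc,
      MonObj.mul_comp _ _ (Red.DSmap W φ), MonObj.mul_comp _ _ j₂]
  let v : Red.DS W M₁ ⟶ G := j₁ * (Red.DSmap W φ ≫ j₂)⁻¹
  have hv : ∀ {Z : Over W} (t : Z ⟶ Red.DS W M₁),
      t ≫ v = 1 ↔ t ≫ j₁ = (t ≫ Red.DSmap W φ) ≫ j₂ := fun t => by
    rw [MonObj.comp_mul, GrpObj.comp_inv, mul_inv_eq_one, Category.assoc]
  haveI : IsMonHom v := isMonHom_of_points _ fun Z a b => by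
    simp only [v, MonObj.comp_mul, GrpObj.comp_inv, MonObj.mul_comp _ _ j₁,
      MonObj.mul_comp _ _ (Red.DSmap W φ ≫ j₂)]
    exact pts_mul_div_mul _ _ _ _ (hc Z _) (by
      rw [← Category.assoc a, ← Category.assoc b]; exact comp_mul_comm j₂ _ _)
  have hvx : Kills (W.fromSpecResidueField x) v := by
    intro Z g hg t
    refine hom_ext_of_nhds _ _ fun z => ?_
    obtain ⟨V, hV, hzV, -⟩ := exists_isAffineOpen_mem_and_subset (x := z) (U := ⊤) trivial
    refine ⟨V, hzV, ?_⟩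
    let Z' : Over W := Over.mk (V.ι ≫ Z.hom)
    haveI : IsAffine Z'.left := hV
    let r : Z' ⟶ Z := Over.homMk V.ι rfl
    have key : r ≫ t ≫ v = r ≫ 1 := by
      rw [MonObj.comp_one, ← Category.assoc, hv]
      obtain ⟨w, hw₁, hw₂, hw₁₂⟩ := exists_pair (r ≫ t) ((r ≫ t) ≫ Red.DSmap W φ)
      have h5 := comp_eq_one_of_charTriv q x Z' (Over.homMk (V.ι ≫ g) (by
        show (V.ι ≫ g) ≫ W.fromSpecResidueField x = V.ι ≫ Z.hom
        rw [Category.assoc, hg])) w ?_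
      · rw [comp_divHom, reassoc_of% hw₁, reassoc_of% hw₂, mul_inv_eq_one] at h5
        simpa only [Category.assoc] using h5
      · rintro ⟨a, b⟩ hab
        have h6 : (a + φ b, (0 : M₂)) ∈ N x := by
          show (a + φ₀ b, (0 : M₂)) ∈ N x
          simpa using add_mem hab (hφ₀ b)
        rw [hw₁₂, dsFn_DSmap, ← dsFn_add, h₁ _ h6, dsFn_zero]
    exact congrArg CommaMorphism.left key
  let v' : H ⟶ G := inv e ≫ v
  have hie : ∀ (Z : Over W) (a b : Z ⟶ H), (a * b) ≫ inv e = (a ≫ inv e) * (b ≫ inv e) :=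
    fun Z a b => by
      rw [← cancel_mono e, MonObj.mul_comp _ _ e, Category.assoc, Category.assoc, Category.assoc,
        IsIso.inv_hom_id, Category.comp_id, Category.comp_id, Category.comp_id]
  haveI : IsMonHom v' := isMonHom_of_points _ fun Z a b => by
    simp only [v', ← Category.assoc, hie, MonObj.mul_comp _ _ v]
  obtain ⟨U, -, hU, hkill⟩ : ∃ U : W.Opens, IsClosed (U : Set W) ∧
      (∀ s : W, s ∈ U ↔ Kills (W.fromSpecResidueField s) v') ∧ Kills U.ι v' := by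
    rcases hG with h | ⟨Y, y, hy₁, hy₂, hy⟩
    · exact exists_trivial_locus hH (.inr h) v'
    · let ψ : M₁ × M₂ →+ M₁ := AddMonoidHom.coprod (AddMonoidHom.id M₁) φ
      refine exists_trivial_locus_of_fp hH v' (inv e ≫ Red.DSmap W ψ) y fun X t => ?_
      rw [hy]
      have e1 : (t ≫ inv e ≫ Red.DSmap W ψ) ≫ Red.DSmap W (AddMonoidHom.inl M₁ M₂) = t ≫ inv e :=
        dsFn_injective fun a => by
          rw [dsFn_DSmap, ← Category.assoc, dsFn_DSmap]
          simp [ψ]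
      have e2 : (t ≫ inv e ≫ Red.DSmap W ψ) ≫ Red.DSmap W (AddMonoidHom.inr M₁ M₂) =
          (t ≫ inv e) ≫ Red.DSmap W φ :=
        dsFn_injective fun a => by
          rw [dsFn_DSmap, ← Category.assoc, dsFn_DSmap, dsFn_DSmap]
          simp [ψ]
      rw [comp_divHom, ← Category.assoc (t ≫ inv e ≫ Red.DSmap W ψ) _ j₁,
        ← Category.assoc (t ≫ inv e ≫ Red.DSmap W ψ) _ j₂, e1, e2, mul_inv_eq_one]
      refine Iff.trans ?_ (show (t ≫ inv e) ≫ v = 1 ↔ t ≫ v' = 1 by rw [Category.assoc])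
      rw [hv]
  have hxU : x ∈ U := (hU x).mpr fun Z g hg t => by
    rw [← Category.assoc]; exact hvx Z g hg _
  have heq : EqPts U.ι j₁ j₂ := by
    intro Z p
    have hk : ∀ t : Z ⟶ Red.DS W M₁, t ≫ j₁ = (t ≫ Red.DSmap W φ) ≫ j₂ := fun t => by
      rw [← hv]
      have := hkill Z p.left (Over.w p) (t ≫ e)
      simpa only [v', Category.assoc, IsIso.hom_inv_id_assoc] using this
    refine ⟨fun t => ⟨_, hk t⟩, fun t₂ => ⟨t₂ ≫ Red.DSmap W ε.symm.toAddMonoidHom, ?_⟩⟩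
    rw [hk]
    refine congrArg (· ≫ j₂) (dsFn_injective fun m => ?_)
    rw [dsFn_DSmap, dsFn_DSmap]
    exact congrArg (dsFn t₂) (ε.symm_apply_apply m)
  refine ⟨U, True, hxU, fun y hy => iff_true_intro ?_, fun _ => heq⟩
  refine heq.of_comp (IsOpenImmersion.lift U.ι (W.fromSpecResidueField y) ?_)
    (IsOpenImmersion.lift_fac _ _ _)
  rintro _ ⟨z, rfl⟩
  refine ⟨⟨y, hy⟩, ?_⟩
  exact (Scheme.fromSpecResidueField_apply y z).symm

end Local

/-- Equality of subgroups through the projections of their intersection. -/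
theorem exists_iso_iff {T : Scheme.{u}} (ψ : T ⟶ S) {E H₁ H₂ G : Over S} {p₁ : E ⟶ H₁}
    {p₂ : E ⟶ H₂} {i₁ : H₁ ⟶ G} {i₂ : H₂ ⟶ G} (h : IsPullback p₁ p₂ i₁ i₂) [Mono i₁] [Mono i₂] :
    (∃ e : Red.bc ψ H₁ ≅ Red.bc ψ H₂, e.hom ≫ (Over.pullback ψ).map i₂ = (Over.pullback ψ).map i₁) ↔
      IsIso ((Over.pullback ψ).map p₁).left ∧ IsIso ((Over.pullback ψ).map p₂).left := by
  constructor
  · rintro ⟨e, he⟩
    refine (isIso_pullback_iff_eqPts ψ h).mpr fun Z p => ?_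
    obtain ⟨α, -⟩ := exists_over_iso ψ p.left (Over.w p)
    constructor
    · intro a
      refine ⟨α.inv ≫ toBase ψ (ofBase ψ (α.hom ≫ a) ≫ e.hom), ?_⟩
      rw [Category.assoc, ← toBase_comp_map, Category.assoc, he, toBase_comp_map, toBase_ofBase,
        Category.assoc, Iso.inv_hom_id_assoc]
    · intro b
      refine ⟨α.inv ≫ toBase ψ (ofBase ψ (α.hom ≫ b) ≫ e.inv), ?_⟩
      rw [Category.assoc, ← toBase_comp_map, Category.assoc, ← he, Iso.inv_hom_id_assoc,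
        toBase_comp_map, toBase_ofBase, Category.assoc, Iso.inv_hom_id_assoc]
  · rintro ⟨h₁, h₂⟩
    haveI := h₁
    haveI := h₂
    haveI : IsIso ((Over.pullback ψ).map p₁) :=
      (isIso_iff_of_reflects_iso ((Over.pullback ψ).map p₁) (Over.forget T)).mp h₁
    haveI : IsIso ((Over.pullback ψ).map p₂) :=
      (isIso_iff_of_reflects_iso ((Over.pullback ψ).map p₂) (Over.forget T)).mp h₂
    refine ⟨(asIso ((Over.pullback ψ).map p₁)).symm ≪≫ asIso ((Over.pullback ψ).map p₂), ?_⟩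
    rw [Iso.trans_hom, Iso.symm_hom, asIso_hom, asIso_inv, Category.assoc, IsIso.inv_comp_eq,
      ← Functor.map_comp, ← Functor.map_comp, h.w]

theorem locallyOfFiniteType_of_isMultTypeFT {H : Over S} [GrpObj H] (hH : SGA3x.IsMultTypeFT H) :
    LocallyOfFiniteType H.hom := by
  haveI : MorphismProperty.DescendsAlong (@LocallyOfFinitePresentation : MorphismProperty Scheme.{u})
      Unr55.fpqc.{u} := by
    unfold Unr55.fpqc; infer_instance
  haveI := isMultTypeFT_prop (@LocallyOfFinitePresentation) hH fun U M _ hM => lfp_DS_of_fg U M hM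
  infer_instance

/-- Over a noetherian base, or for a group locally of finite type, the pairs of points with equal
images form a closed subscheme of finite presentation. -/
theorem kernel_fp_of_noetherian_or_lft {G E H₁ H₂ : Over S} [GrpObj G] [GrpObj H₁] [GrpObj H₂]
    [IsSeparated G.hom] (hG : IsLocallyNoetherian S ∨ LocallyOfFiniteType G.hom)
    (hfst : LocallyOfFiniteType H₁.hom) (hsnd : LocallyOfFiniteType H₂.hom)
    {i₁ : H₁ ⟶ G} {i₂ : H₂ ⟶ G} {p₁ : E ⟶ H₁} {p₂ : E ⟶ H₂} (hpb : IsPullback p₁ p₂ i₁ i₂)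
    {V : Scheme.{u}} [IsAffine V] {M₁ M₂ : Type} [AddCommGroup M₁] [AddCommGroup M₂] (hFG₁ : AddGroup.FG M₁)
    (hFG₂ : AddGroup.FG M₂) (φ : V ⟶ S) (a : Red.DS V M₁ ⟶ Red.bc φ H₁) (b : Red.DS V M₂ ⟶ Red.bc φ H₂)
    [IsIso a] [IsIso b] :
    LocallyOfFiniteType (Red.bc φ G).hom ∨
      ∃ (Y : Over V) (y : Y ⟶ Red.DS V (M₁ × M₂)), IsClosedImmersion y.left ∧
        LocallyOfFinitePresentation y.left ∧ ∀ (X : Over V) (t : X ⟶ Red.DS V (M₁ × M₂)),
          (∃ z, t = z ≫ y) ↔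
            t ≫ divHom (a ≫ (Over.pullback φ).map i₁) (b ≫ (Over.pullback φ).map i₂) = 1 := by
  rcases hG with hN | hG
  · right
    let j₁ := a ≫ (Over.pullback φ).map i₁
    let j₂ := b ≫ (Over.pullback φ).map i₂
    let q := divHom j₁ j₂
    haveI : IsSeparated (Red.bc φ G).hom := inferInstanceAs (IsSeparated (pullback.snd G.hom φ))
    haveI : IsClosedImmersion η[Red.bc φ G].left := by
      haveI : IsClosedImmersion (η[Red.bc φ G].left ≫ (Red.bc φ G).hom) := by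
        rw [Over.w η[Red.bc φ G]]
        exact inferInstanceAs (IsClosedImmersion (𝟙 V))
      exact IsClosedImmersion.of_comp η[Red.bc φ G].left (Red.bc φ G).hom
    let y : pullback q η[Red.bc φ G] ⟶ Red.DS V (M₁ × M₂) := pullback.fst _ _
    have hy : IsClosedImmersion y.left := MorphismProperty.of_isPullback (P := @IsClosedImmersion)
      ((IsPullback.of_hasPullback q η[Red.bc φ G]).map (Over.forget V)).flip ‹_›
    have hiff : ∀ (X : Over V) (t : X ⟶ Red.DS V (M₁ × M₂)), (∃ z, t = z ≫ y) ↔ t ≫ q = 1 := by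
      intro X t
      constructor
      · rintro ⟨z, rfl⟩
        rw [Category.assoc, pullback.condition, ← Category.assoc, Hom.one_def,
          toUnit_unique (z ≫ pullback.snd _ _) (toUnit X)]
      · intro h
        exact ⟨pullback.lift t (toUnit X) (by rw [h, Hom.one_def]), (pullback.lift_fst _ _ _).symm⟩
    refine ⟨_, y, hy, ?_, hiff⟩
    -- the kernel is the base change of the fibre product, which is of finite presentation
    let φE := (Over.pullback φ)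
    obtain ⟨t₀, h₁, h₂, -⟩ := exists_pair (φE.map p₁ ≫ inv a) (φE.map p₂ ≫ inv b)
    have ht₀ : t₀ ≫ q = 1 := by
      rw [comp_divHom, reassoc_of% h₁, reassoc_of% h₂, mul_inv_eq_one]
      simp only [j₁, j₂, IsIso.inv_hom_id_assoc]
      rw [← Functor.map_comp, ← Functor.map_comp, hpb.w]
    obtain ⟨z₀, hz₀⟩ := (hiff _ t₀).mpr ht₀
    have hpb' := hpb.map (Over.pullback φ)
    let Y := pullback q η[Red.bc φ G]
    have hw : (y ≫ Red.DSmap V (AddMonoidHom.inl M₁ M₂) ≫ a) ≫ (Over.pullback φ).map i₁ =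
        (y ≫ Red.DSmap V (AddMonoidHom.inr M₁ M₂) ≫ b) ≫ (Over.pullback φ).map i₂ := by
      have := (hiff Y y).mp ⟨𝟙 _, (Category.id_comp y).symm⟩
      rw [comp_divHom, mul_inv_eq_one] at this
      simpa only [j₁, j₂, Category.assoc] using this
    let r : Y ⟶ (Over.pullback φ).obj E := hpb'.lift _ _ hw
    haveI : Mono y := Over.mono_of_mono_left _
    have hrz : r ≫ z₀ = 𝟙 Y := by
      rw [← cancel_mono y, Category.assoc, ← hz₀, Category.id_comp]
      refine dsFn_injective fun n => ?_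
      have e1 : (r ≫ t₀) ≫ Red.DSmap V (AddMonoidHom.inl M₁ M₂) =
          y ≫ Red.DSmap V (AddMonoidHom.inl M₁ M₂) := by
        rw [← cancel_mono a, Category.assoc, Category.assoc, reassoc_of% h₁]
        simp only [φE, Category.assoc, IsIso.inv_hom_id, Category.comp_id, r, IsPullback.lift_fst]
      have e2 : (r ≫ t₀) ≫ Red.DSmap V (AddMonoidHom.inr M₁ M₂) =
          y ≫ Red.DSmap V (AddMonoidHom.inr M₁ M₂) := by
        rw [← cancel_mono b, Category.assoc, Category.assoc, reassoc_of% h₂]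
        simp only [φE, Category.assoc, IsIso.inv_hom_id, Category.comp_id, r, IsPullback.lift_snd]
      have d1 := congrArg (fun k => dsFn k n.1) e1
      have d2 := congrArg (fun k => dsFn k n.2) e2
      simp only [dsFn_DSmap, AddMonoidHom.inl_apply, AddMonoidHom.inr_apply] at d1 d2
      rw [show n = (n.1, 0) + ((0 : M₁), n.2) by simp, dsFn_add, dsFn_add, d1, d2]
    have hzr : z₀ ≫ r = 𝟙 _ := by
      apply hpb'.hom_ext
      · rw [Category.assoc, IsPullback.lift_fst, Category.id_comp, ← Category.assoc, ← hz₀,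
          reassoc_of% h₁]
        simp only [φE, IsIso.inv_hom_id, Category.comp_id]
      · rw [Category.assoc, IsPullback.lift_snd, Category.id_comp, ← Category.assoc, ← hz₀,
          reassoc_of% h₂]
        simp only [φE, IsIso.inv_hom_id, Category.comp_id]
    haveI : IsIso r := ⟨z₀, hrz, hzr⟩
    haveI : LocallyOfFinitePresentation E.hom := by
      haveI := hN
      haveI := hfst
      haveI := hsnd
      have hsq := hpb.map (Over.forget S)
      have h1 : pullback.mapDesc i₁.left i₂.left G.hom = pullback.mapDesc i₁.left i₂.left G.hom := rfl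
      haveI : LocallyOfFiniteType (pullback.fst i₁.left i₂.left ≫ H₁.hom) := by
        have e : pullback.fst i₁.left i₂.left ≫ H₁.hom = pullback.mapDesc i₁.left i₂.left G.hom ≫
            pullback.fst (i₁.left ≫ G.hom) (i₂.left ≫ G.hom) ≫ H₁.hom := by
          rw [pullback.lift_fst_assoc, Category.comp_id]
        rw [e]
        haveI : LocallyOfFiniteType (i₂.left ≫ G.hom) := by rw [Over.w i₂]; exact hsnd
        haveI : LocallyOfFiniteType H₁.hom := hfst
        infer_instance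
      haveI : LocallyOfFiniteType E.hom := by
        rw [← Over.w p₁, show p₁.left = hsq.isoPullback.hom ≫ pullback.fst i₁.left i₂.left from
          (hsq.isoPullback_hom_fst).symm]
        erw [Category.assoc]
        exact (MorphismProperty.cancel_left_of_respectsIso (P := @LocallyOfFiniteType) _ _).mpr ‹_›
      exact LocallyOfFinitePresentation.iff_locallyOfFiniteType.mpr inferInstance
    haveI : LocallyOfFinitePresentation ((Over.pullback φ).obj E).hom :=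
      MorphismProperty.pullback_snd (P := @LocallyOfFinitePresentation) _ _ ‹_›
    haveI : IsIso r.left := inferInstanceAs (IsIso ((Over.forget V).map r))
    haveI : LocallyOfFinitePresentation (y.left ≫ (Red.DS V (M₁ × M₂)).hom) := by
      rw [Over.w y, ← Over.w r]
      infer_instance
    haveI := lfp_DS_of_fg V (M₁ × M₂) (haveI := hFG₁; haveI := hFG₂; inferInstance)
    exact Groth.Agent.LimDesc62.lfp_of_comp y.left (Red.DS V (M₁ × M₂)).hom
  · exact .inl (MorphismProperty.pullback_snd (P := @LocallyOfFiniteType) _ _ hG)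

/-- The locus where two subgroups of multiplicative type, the first one central, are equal is
open and closed, and they are equal over it. -/
theorem exists_eq_locus {G H₁ H₂ : Over S} [GrpObj G] [GrpObj H₁] [GrpObj H₂] [IsSeparated G.hom]
    (hG : IsLocallyNoetherian S ∨ LocallyOfFiniteType G.hom) (hF₁ : SGA3x.IsMultTypeFT H₁)
    (hF₂ : SGA3x.IsMultTypeFT H₂)
    (i₁ : H₁ ⟶ G) [IsMonHom i₁] [Mono i₁] (i₂ : H₂ ⟶ G) [IsMonHom i₂] [Mono i₂]
    (hc : ∀ (X : Over S) (g : X ⟶ G) (h : X ⟶ H₁), g * (h ≫ i₁) = (h ≫ i₁) * g) :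
    ∃ U : S.Opens, IsClosed (U : Set S) ∧
      (∀ s : S, s ∈ U ↔ ∃ ψ : Red.bc (S.fromSpecResidueField s) H₁ ≅
          Red.bc (S.fromSpecResidueField s) H₂,
        ψ.hom ≫ (Over.pullback (S.fromSpecResidueField s)).map i₂ =
          (Over.pullback (S.fromSpecResidueField s)).map i₁) ∧
      ∃ ψ : Red.bc U.ι H₁ ≅ Red.bc U.ι H₂,
        ψ.hom ≫ (Over.pullback U.ι).map i₂ = (Over.pullback U.ι).map i₁ := by
  let p₁ : pullback i₁ i₂ ⟶ H₁ := pullback.fst i₁ i₂
  let p₂ : pullback i₁ i₂ ⟶ H₂ := pullback.snd i₁ i₂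
  have hpb : IsPullback p₁ p₂ i₁ i₂ := IsPullback.of_hasPullback i₁ i₂
  let P := MorphismProperty.isomorphisms Scheme.{u}
  haveI : P.DescendsAlong Unr55.fpqc.{u} := by unfold Unr55.fpqc; infer_instance
  have h₁' : IsMultType H₁ := isMultType_of_isMultTypeFT hF₁
  have hfst : LocallyOfFiniteType H₁.hom := locallyOfFiniteType_of_isMultTypeFT hF₁
  have hsnd : LocallyOfFiniteType H₂.hom := locallyOfFiniteType_of_isMultTypeFT hF₂
  obtain ⟨S₁, f₁, hf₁, hs₁, hq₁, hl₁⟩ := hF₁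
  obtain ⟨S₂, f₂, hf₂, hs₂, hq₂, hl₂⟩ := hF₂
  let f := pullback.fst f₁ f₂ ≫ f₁
  have hqc : IsQcCover f := (IsQcCover.pullback_fst hq₂).comp hq₁
  obtain ⟨L, hL⟩ : ∃ L : Set S, ∀ s : S, s ∈ L ↔
      P ((Over.pullback (S.fromSpecResidueField s)).map p₁).left ∧
        P ((Over.pullback (S.fromSpecResidueField s)).map p₂).left := ⟨_, fun s => Iff.rfl⟩
  obtain ⟨U, hUc, hU, hU₁, hU₂⟩ := exists_clopen_of_charts P p₁ p₂ f hqc hL fun p => by
    obtain ⟨U₁, hU₁, M₁, _, hFG₁, ⟨e₁⟩⟩ := hl₁ (pullback.fst f₁ f₂ p)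
    obtain ⟨U₂, hU₂, M₂, _, hFG₂, ⟨e₂⟩⟩ := hl₂ (pullback.snd f₁ f₂ p)
    obtain ⟨V, hV, hpV, hVU⟩ := exists_isAffineOpen_mem_and_subset (x := p)
      (U := pullback.fst f₁ f₂ ⁻¹ᵁ U₁ ⊓ pullback.snd f₁ f₂ ⁻¹ᵁ U₂) ⟨hU₁, hU₂⟩
    haveI : IsAffine (V : Scheme.{u}) := hV
    obtain ⟨a, ha, hma, hsa⟩ := exists_ds_cover_mono
      ((pullback.fst f₁ f₂).resLE U₁ V (fun x hx => (hVU hx).1)) (U₁.ι ≫ f₁)
      (V.ι ≫ f) (by rw [Scheme.Hom.resLE_comp_ι_assoc]) e₁
    obtain ⟨b, hb, hmb, hsb⟩ := exists_ds_cover_mono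
      ((pullback.snd f₁ f₂).resLE U₂ V (fun x hx => (hVU hx).2)) (U₂.ι ≫ f₂)
      (V.ι ≫ f) (by rw [Scheme.Hom.resLE_comp_ι_assoc]; simp only [f]; rw [pullback.condition]) e₂
    haveI := ha
    haveI := hb
    haveI : IsIso a := by
      obtain ⟨r, hr⟩ := hsa _ (𝟙 _)
      exact ⟨r, by rw [← cancel_mono a, Category.assoc, hr, Category.comp_id, Category.id_comp], hr⟩
    haveI : IsIso b := by
      obtain ⟨r, hr⟩ := hsb _ (𝟙 _)
      exact ⟨r, by rw [← cancel_mono b, Category.assoc, hr, Category.comp_id, Category.id_comp], hr⟩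
    let φ := V.ι ≫ f
    let j₁ := a ≫ (Over.pullback φ).map i₁
    let j₂ := b ≫ (Over.pullback φ).map i₂
    haveI : IsSeparated (Red.bc φ G).hom := inferInstanceAs (IsSeparated (pullback.snd G.hom φ))
    have hG' := kernel_fp_of_noetherian_or_lft hG hfst hsnd hpb hFG₁ hFG₂ φ a b
    have hc' : ∀ (Z : Over (V : Scheme.{u})) (x : Z ⟶ Red.DS (V : Scheme.{u}) M₁)
        (g : Z ⟶ Red.bc φ G), g * (x ≫ j₁) = (x ≫ j₁) * g := fun Z x g => by
      apply toBase_injective φ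
      rw [toBase_mul, toBase_mul, ← Category.assoc, toBase_comp_map]
      exact hc _ _ _
    obtain ⟨D, good, hpD, hiff, hgood⟩ := eqPts_nhd j₁ j₂ hc' hG' (isMultType_bc φ h₁') a ⟨p, hpV⟩
    have hpb' : IsPullback ((Over.pullback φ).map p₁) ((Over.pullback φ).map p₂)
        ((Over.pullback φ).map i₁) ((Over.pullback φ).map i₂) := hpb.map (Over.pullback φ)
    have key : ∀ {T : Scheme.{u}} (ψ : T ⟶ (V : Scheme.{u})),
        (P ((Over.pullback (ψ ≫ φ)).map p₁).left ∧ P ((Over.pullback (ψ ≫ φ)).map p₂).left) ↔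
          EqPts ψ j₁ j₂ := fun ψ => by
      rw [eqPts_iso_comp_iff, ← isIso_pullback_iff_eqPts ψ hpb', ← prop_bc_comp P p₁ φ ψ,
        ← prop_bc_comp P p₂ φ ψ]
    refine ⟨V, D, good, ⟨⟨p, hpV⟩, rfl, hpD⟩, fun x hx => ?_, fun h => ?_⟩
    · have e : f x.1 = φ x := rfl
      rw [e, hL, prop_residue_iff P φ x p₁, prop_residue_iff P φ x p₂, key, hiff x hx]
    · exact (key D.ι).mpr (hgood h)
  exact ⟨U, hUc, fun s => ((hU s).trans (hL s)).trans (exists_iso_iff _ hpb).symm,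
    (exists_iso_iff U.ι hpb).mpr ⟨hU₁, hU₂⟩⟩

end Groth.Agent.RedPts82
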