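import Groth.Agent.RedPts82.SmoothTransporter

/-!
Fixed points of an action of a group of multiplicative type on a smooth separated scheme are closed
and smooth.
-/

universe u

open CategoryTheory MonoidalCategory CartesianMonoidalCategory MonObj GrpObj AlgebraicGeometry
open CategoryTheory.Limits

namespace Groth.Agent.RedPts82

variable {S : Scheme.{u}}

theorem redMap_surjective {P : Over S} [IsAffine P.left] {J : Ideal (Gam P)} (hJ : J * J = ⊥) :
    Surjective (redMap P J).left := by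
  refine ⟨fun y => ?_⟩
  obtain ⟨q, hq⟩ : (P.left.isoSpec.hom y : PrimeSpectrum Γ(P.left, ⊤)) ∈
      Set.range (PrimeSpectrum.comap (Ideal.Quotient.mk J)) := by
    rw [range_comap_of_surjective _ _ Ideal.Quotient.mk_surjective, Ideal.mk_ker]
    intro a ha
    have h2 : a * a = 0 := (Submodule.mem_bot _).mp (hJ ▸ Ideal.mul_mem_mul ha ha)
    have h3 : a * a ∈ (P.left.isoSpec.hom y : PrimeSpectrum Γ(P.left, ⊤)).asIdeal := by
      rw [h2]; exact Ideal.zero_mem _
    exact ((P.left.isoSpec.hom y : PrimeSpectrum Γ(P.left, ⊤)).isPrime.mem_or_mem h3).elim id id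
  refine ⟨q, ?_⟩
  show (Spec.map (CommRingCat.ofHom (Ideal.Quotient.mk J)) ≫ P.left.isoSpec.inv) q = y
  rw [Scheme.Hom.comp_apply]
  have e : Spec.map (CommRingCat.ofHom (Ideal.Quotient.mk J)) q = P.left.isoSpec.hom y := hq
  rw [e, ← Scheme.Hom.comp_apply, Iso.hom_inv_id]
  rfl

/-- A point congruent to one lying in an open lies in it. -/
theorem exists_factor_open {P X Xu : Over S} [IsAffine P.left] {J : Ideal (Gam P)} (hJ : J * J = ⊥)
    (j : Xu ⟶ X) [IsOpenImmersion j.left] (φ : P ⟶ X) (ψ : P ⟶ Xu)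
    (h : redMap P J ≫ φ = redMap P J ≫ ψ ≫ j) :
    ∃ φ' : P ⟶ Xu, φ' ≫ j = φ ∧ redMap P J ≫ φ' = redMap P J ≫ ψ := by
  have hs := redMap_surjective (P := P) hJ
  have hr : Set.range φ.left.base ⊆ Set.range j.left.base := by
    rintro _ ⟨y, rfl⟩
    obtain ⟨z, rfl⟩ := (redMap P J).left.surjective y
    refine ⟨ψ.left ((redMap P J).left z), ?_⟩
    have := congrArg (fun k => k.left z) h
    simpa using this.symm
  haveI : Mono j := Over.mono_of_mono_left j
  let φ' : P ⟶ Xu := Over.homMk (IsOpenImmersion.lift j.left φ.left hr) (by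
    rw [← Over.w j, IsOpenImmersion.lift_fac_assoc, Over.w φ])
  have hφ' : φ' ≫ j = φ := Over.OverMorphism.ext (IsOpenImmersion.lift_fac _ _ _)
  exact ⟨φ', hφ', by rw [← cancel_mono j, Category.assoc, hφ', h, Category.assoc]⟩

theorem upIdeal_map_mem {T : Over S} [IsAffine T.left] {M : Type} [AddCommGroup M]
    {J : Ideal (Gam T)} (w : polyDS (polyDS T M) M ⟶ polyDS T M)
    (hw : w ≫ polyProj T M = polyProj (polyDS T M) M ≫ polyProj T M) {x : Γ((polyDS T M).left, ⊤)}
    (hx : x ∈ upIdeal T M J) :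
    w.left.appTop x ∈ upIdeal (polyDS T M) M (upIdeal T M J) := by
  unfold upIdeal Ideal.map at hx
  refine Submodule.span_induction
    (p := fun x _ => w.left.appTop x ∈ upIdeal (polyDS T M) M (upIdeal T M J)) ?_ ?_ ?_ ?_ hx
  · rintro _ ⟨a, ha, rfl⟩
    have e : w.left.appTop ((polyProj T M).left.appTop a) =
        (polyProj (polyDS T M) M).left.appTop ((polyProj T M).left.appTop a) :=
      congrArg (fun v => v.left.appTop a) hw
    show w.left.appTop ((polyProj T M).left.appTop a) ∈ _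
    rw [e]
    exact Ideal.mem_map_of_mem _ (Ideal.mem_map_of_mem _ ha)
  · rw [map_zero]; exact Ideal.zero_mem _
  · intro a b _ _ ha hb; rw [map_add]; exact Ideal.add_mem _ ha hb
  · intro r a _ ha; rw [smul_eq_mul, map_mul]; exact Ideal.mul_mem_left _ _ ha

/-- Functoriality of the closed subobjects defined by ideals. -/
theorem exists_redMap_comp {P Q : Over S} [IsAffine P.left] [IsAffine Q.left] {J : Ideal (Gam P)}
    {J' : Ideal (Gam Q)} (w : P ⟶ Q) (h : ∀ x ∈ J', w.left.appTop x ∈ J) :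
    ∃ v : redObj P J ⟶ redObj Q J', v ≫ redMap Q J' = redMap P J ≫ w := by
  have h0 : Spec.map (CommRingCat.ofHom (Ideal.quotientMap J w.left.appTop.hom h)) ≫
      (redMap Q J').left = (redMap P J).left ≫ w.left := by
    show _ ≫ Spec.map _ ≫ Q.left.isoSpec.inv = (Spec.map _ ≫ P.left.isoSpec.inv) ≫ w.left
    rw [Category.assoc, ← Scheme.isoSpec_inv_naturality, ← Spec.map_comp_assoc,
      ← Spec.map_comp_assoc]
    rfl
  refine ⟨Over.homMk (Spec.map (CommRingCat.ofHom (Ideal.quotientMap J w.left.appTop.hom h))) ?_,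
    Over.OverMorphism.ext h0⟩
  exact (congrArg (_ ≫ ·) (Over.w (redMap Q J'))).symm.trans ((Category.assoc _ _ _).symm.trans
    ((congrArg (· ≫ Q.hom) h0).trans ((Category.assoc _ _ _).trans
      ((congrArg (_ ≫ ·) (Over.w w)).trans (Over.w (redMap P J))))))

/-- A closed subset of an open in an affine scheme lies in a smaller affine open. -/
theorem exists_affine_between {A : Scheme.{u}} [IsAffine A] {C : Set A} (hC : IsClosed C)
    (O : A.Opens) (h : C ⊆ O) : ∃ D : A.Opens, IsAffineOpen D ∧ C ⊆ D ∧ D ≤ O := by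
  have hcl : ∀ Z : Set A, IsClosed Z → IsClosed (A.toSpecΓ.base '' Z) :=
    fun Z hZ => A.toSpecΓ.isClosedEmbedding.isClosedMap Z hZ
  obtain ⟨I, hI⟩ := (PrimeSpectrum.isClosed_iff_zeroLocus_ideal _).mp (hcl C hC)
  obtain ⟨K, hK⟩ := (PrimeSpectrum.isClosed_iff_zeroLocus_ideal _).mp
    (hcl (O : Set A)ᶜ O.2.isClosed_compl)
  have htop : I ⊔ K = ⊤ := by
    rw [← PrimeSpectrum.zeroLocus_empty_iff_eq_top, PrimeSpectrum.zeroLocus_sup, ← hI, ← hK,
      Set.eq_empty_iff_forall_notMem]
    rintro _ ⟨⟨x, hx, rfl⟩, ⟨y, hy, hxy⟩⟩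
    exact hy (A.toSpecΓ.isClosedEmbedding.injective hxy ▸ h hx)
  obtain ⟨a, ha, b, hb, hab⟩ := Submodule.mem_sup.mp ((Ideal.eq_top_iff_one _).mp htop)
  have hmem : ∀ x : A, x ∈ A.basicOpen b ↔ b ∉ (A.toSpecΓ x).asIdeal := fun x => by
    rw [← Scheme.toSpecΓ_preimage_basicOpen]
    rfl
  refine ⟨A.basicOpen b, (isAffineOpen_top A).basicOpen b, fun x hx => (hmem x).mpr fun hbx => ?_,
    fun x hx => ?_⟩
  · have hax : (A.toSpecΓ x : PrimeSpectrum Γ(A, ⊤)) ∈ PrimeSpectrum.zeroLocus (I : Set Γ(A, ⊤)) :=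
      hI ▸ ⟨x, hx, rfl⟩
    exact (A.toSpecΓ x).isPrime.ne_top ((Ideal.eq_top_iff_one _).mpr
      (hab ▸ Ideal.add_mem _ (hax ha) hbx))
  · by_contra hxO
    have hbx : (A.toSpecΓ x : PrimeSpectrum Γ(A, ⊤)) ∈ PrimeSpectrum.zeroLocus (K : Set Γ(A, ⊤)) :=
      hK ▸ ⟨x, hxO, rfl⟩
    exact (hmem x).mp hx (hbx hb)

section Split

variable [IsAffine S] {X : Over S} [Smooth X.hom] {M : Type} [AddCommGroup M]
  (act : Red.DS S M ⊗ X ⟶ X)
  (hact : ∀ (Z : Over S) (h h' : Z ⟶ Red.DS S M) (p : Z ⟶ X),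
    CartesianMonoidalCategory.lift (h * h') p ≫ act =
      CartesianMonoidalCategory.lift h (CartesianMonoidalCategory.lift h' p ≫ act) ≫ act)

omit [Smooth X.hom] in
include hact in
set_option maxHeartbeats 1000000 in
/-- Points fixed modulo an ideal of square zero lift to fixed points with the same invariants. -/
theorem exists_fixed_lift_inv {Xu : Over S} [IsAffine Xu.left] (j : Xu ⟶ X) [IsOpenImmersion j.left]
    {T : Over S} [IsAffine T.left] {J : Ideal (Gam T)} (hJ : J * J = ⊥) (g : T ⟶ Xu)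
    (hg : redMap (polyDS T M) (upIdeal T M J) ≫
        CartesianMonoidalCategory.lift (polyTu T M) (polyProj T M ≫ g ≫ j) ≫ act =
      redMap (polyDS T M) (upIdeal T M J) ≫ polyProj T M ≫ g ≫ j) :
    ∃ k : T ⟶ Xu, redMap T J ≫ k = redMap T J ≫ g ∧
      (∀ (Z : Over S) (x : Z ⟶ T) (h : Z ⟶ Red.DS S M),
        CartesianMonoidalCategory.lift h (x ≫ k ≫ j) ≫ act = x ≫ k ≫ j) ∧
      ∀ (X' : Over S) [IsAffine X'.left] (π : X ⟶ X'), act ≫ π = snd _ _ ≫ π →
        k ≫ j ≫ π = g ≫ j ≫ π := by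
  have hJ1 := upIdeal_sq T M hJ
  obtain ⟨c, hcj, hc⟩ := exists_factor_open hJ1 j _ (polyProj T M ≫ g)
    (hg.trans (by simp only [Category.assoc]))
  obtain ⟨k, hk, hkJ⟩ := exists_av hJ c ⟨g, hc⟩
  refine ⟨k, hkJ g hc, ?_, fun X' _ π hπ => ?_⟩
  swap
  · have h1 := hk.comp (j ≫ π)
    rw [reassoc_of% hcj, hπ, lift_snd_assoc, Category.assoc, Category.assoc] at h1
    exact h1.unique (isAv_proj (M := M) (g ≫ j ≫ π))
  obtain ⟨mm, hm1, hm2, -⟩ := exists_polyLift (M := M)
    (polyProj (polyDS T M) M ≫ polyProj T M)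
    ((polyProj (polyDS T M) M ≫ polyTu T M) * polyTu (polyDS T M) M)
  obtain ⟨qq, hq1, hq2, -⟩ := exists_polyLift (M := M)
    (polyProj (polyDS T M) M ≫ polyProj T M) (polyTu (polyDS T M) M)
  have hm : IsAv (mm ≫ c) (polyProj T M ≫ k) := by
    refine isAv_pullback c k hk mm hm1 (fun m => dsFn (polyTu T M) m) (dsFn_zero _) fun m => ?_
    rw [hm2, dsFn_mul, dsFn_comp]
  have hq : IsAv (qq ≫ c) (polyProj T M ≫ k) := by
    refine isAv_pullback c k hk qq hq1 (fun _ => 1) rfl fun m => ?_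
    rw [hq2, map_one, _root_.one_mul]
  -- the affine object of triples `(t, h, p)`
  let A : Over S := T ⊗ (Red.DS S M ⊗ Xu)
  haveI : IsAffine (Red.DS S M).left := by
    haveI := isAffineHom_DS S M
    exact isAffine_of_isAffineHom (Red.DS S M).hom
  haveI : IsAffine (Red.DS S M ⊗ Xu).left := isAffine_tensor
  haveI : IsAffine A.left := isAffine_tensor
  let z₁ : polyDS T M ⟶ A := CartesianMonoidalCategory.lift (polyProj T M)
    (CartesianMonoidalCategory.lift (polyTu T M) (polyProj T M ≫ g))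
  haveI : IsClosedImmersion z₁.left := by
    haveI : IsAffine (T ⊗ Red.DS S M).left := isAffine_tensor
    have e : z₁ ≫ (T ◁ fst _ _) = (polyIso T M).hom := by
      show _ ≫ _ = CartesianMonoidalCategory.lift (polyProj T M) (polyTu T M)
      simp only [z₁, lift_whiskerLeft, lift_fst]
    haveI : IsIso (polyIso T M).hom.left :=
      inferInstanceAs (IsIso ((Over.forget S).map (polyIso T M).hom))
    haveI : IsClosedImmersion (z₁.left ≫ (T ◁ fst (Red.DS S M) Xu).left) := by
      rw [← Over.comp_left, e]; infer_instance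
    exact IsClosedImmersion.of_comp z₁.left (T ◁ fst (Red.DS S M) Xu).left
  let θ : A ⟶ X := snd _ _ ≫ (Red.DS S M ◁ j) ≫ act
  have hz₁ : z₁ ≫ θ = c ≫ j := by
    simp only [z₁, θ, lift_snd_assoc, lift_whiskerLeft_assoc, Category.assoc, hcj]
  -- an affine open of it carried into the affine open
  obtain ⟨D, hD, hzD, hDO⟩ := exists_affine_between
    (z₁.left.isClosedEmbedding.isClosed_range) (θ.left ⁻¹ᵁ j.left.opensRange) (by
      rintro _ ⟨y, rfl⟩
      refine ⟨c.left y, ?_⟩
      have := congrArg (fun v => v.left y) hz₁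
      simpa using this.symm)
  let R' : Over S := Over.mk (D.ι ≫ A.hom)
  let q₁ : R' ⟶ A := Over.homMk D.ι rfl
  haveI : IsAffine R'.left := hD
  haveI : IsOpenImmersion q₁.left := inferInstanceAs (IsOpenImmersion D.ι)
  have hr : Set.range (q₁ ≫ θ).left.base ⊆ Set.range j.left.base := by
    rintro _ ⟨y, rfl⟩
    exact hDO (y : D).2
  let q₂ : R' ⟶ Xu := Over.homMk (IsOpenImmersion.lift j.left (q₁ ≫ θ).left hr) (by
    rw [← Over.w j, IsOpenImmersion.lift_fac_assoc, Over.w (q₁ ≫ θ)])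
  have hq' : q₁ ≫ θ = q₂ ≫ j := Over.OverMorphism.ext (IsOpenImmersion.lift_fac _ _ hr).symm
  haveI : Mono q₁ := Over.mono_of_mono_left q₁
  haveI : Mono j := Over.mono_of_mono_left j
  obtain ⟨z, hz⟩ : ∃ z : polyDS T M ⟶ R', z ≫ q₁ = z₁ := by
    have hr₁ : Set.range z₁.left.base ⊆ Set.range D.ι.base := by
      rintro x hx
      exact ⟨⟨x, hzD hx⟩, rfl⟩
    refine ⟨Over.homMk (IsOpenImmersion.lift D.ι z₁.left hr₁) ?_,
      Over.OverMorphism.ext (IsOpenImmersion.lift_fac _ _ hr₁)⟩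
    show IsOpenImmersion.lift _ _ hr₁ ≫ D.ι ≫ A.hom = _
    rw [IsOpenImmersion.lift_fac_assoc, Over.w z₁]
  -- the triple `(t, x, c(y))` and its image `c(xy)`
  let e : polyDS (polyDS T M) M ⟶ A :=
    CartesianMonoidalCategory.lift (polyProj (polyDS T M) M ≫ polyProj T M)
      (CartesianMonoidalCategory.lift (polyProj (polyDS T M) M ≫ polyTu T M) (qq ≫ c))
  have he : e ≫ θ = (mm ≫ c) ≫ j := by
    simp only [e, θ, lift_snd_assoc, lift_whiskerLeft_assoc, Category.assoc, hcj]
    rw [comp_lift_assoc, comp_lift_assoc, hq2, reassoc_of% hq1, reassoc_of% hm1, hm2, hact]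
  have hcong : redMap (polyDS (polyDS T M) M) (upIdeal (polyDS T M) M (upIdeal T M J)) ≫ e =
      redMap (polyDS (polyDS T M) M) (upIdeal (polyDS T M) M (upIdeal T M J)) ≫
        (polyProj (polyDS T M) M ≫ z) ≫ q₁ := by
    obtain ⟨v, hv⟩ : ∃ v : redObj (polyDS (polyDS T M) M) (upIdeal (polyDS T M) M (upIdeal T M J)) ⟶
        redObj (polyDS T M) (upIdeal T M J), v ≫ redMap (polyDS T M) (upIdeal T M J) =
        redMap (polyDS (polyDS T M) M) (upIdeal (polyDS T M) M (upIdeal T M J)) ≫ qq :=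
      exists_redMap_comp qq (fun x hx => upIdeal_map_mem qq hq1 hx)
    rw [Category.assoc, hz]
    simp only [e, z₁, comp_lift]
    refine congrArg₂ CartesianMonoidalCategory.lift rfl (congrArg₂ CartesianMonoidalCategory.lift rfl ?_)
    rw [← reassoc_of% hv, hc, reassoc_of% hv, reassoc_of% hq1]
  obtain ⟨r, hre, hrJ⟩ := exists_factor_open (upIdeal_sq (polyDS T M) M hJ1) q₁ e
    (polyProj (polyDS T M) M ≫ z) hcong
  have hrm : r ≫ q₂ = mm ≫ c := by
    rw [← cancel_mono j, Category.assoc, ← hq', reassoc_of% hre, he]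
  obtain ⟨rv, hrv, -⟩ := exists_av hJ1 r ⟨z, hrJ⟩
  have e1 : rv ≫ q₁ = CartesianMonoidalCategory.lift (polyProj T M)
      (CartesianMonoidalCategory.lift (polyTu T M) (polyProj T M ≫ k)) := by
    have hA := hrv.comp q₁
    rw [hre] at hA
    apply CartesianMonoidalCategory.hom_ext
    · have h := hA.comp (fst _ _)
      simp only [e, lift_fst] at h
      rw [h.unique (isAv_proj (M := M) (polyProj T M)), lift_fst]
    · have h := hA.comp (snd _ _)
      simp only [e, lift_snd] at h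
      rw [lift_snd]
      apply CartesianMonoidalCategory.hom_ext
      · have h' := h.comp (fst _ _)
        simp only [lift_fst] at h'
        rw [h'.unique (isAv_proj (M := M) (polyTu T M)), lift_fst]
      · have h' := h.comp (snd _ _)
        simp only [lift_snd] at h'
        rw [h'.unique hq, lift_snd]
  have e2 : rv ≫ q₂ = polyProj T M ≫ k := by
    have hB := hrv.comp q₂
    rw [hrm] at hB
    exact hB.unique hm
  have huniv : CartesianMonoidalCategory.lift (polyTu T M) (polyProj T M ≫ k ≫ j) ≫ act =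
      polyProj T M ≫ k ≫ j := by
    have := congrArg (fun v => rv ≫ v) hq'
    simp only [θ, reassoc_of% e1, reassoc_of% e2, lift_snd_assoc, lift_whiskerLeft_assoc,
      Category.assoc] at this
    exact this
  intro Z x h
  obtain ⟨w, hw1, hw2, -⟩ := exists_polyLift (M := M) x h
  have := congrArg (fun q => w ≫ q) huniv
  simp only [comp_lift_assoc, reassoc_of% hw1, hw2] at this
  exact this

omit [Smooth X.hom] in
include hact in
/-- Points fixed modulo an ideal of square zero lift to fixed points. -/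
theorem exists_fixed_lift {Xu : Over S} [IsAffine Xu.left] (j : Xu ⟶ X) [IsOpenImmersion j.left]
    {T : Over S} [IsAffine T.left] {J : Ideal (Gam T)} (hJ : J * J = ⊥) (g : T ⟶ Xu)
    (hg : redMap (polyDS T M) (upIdeal T M J) ≫
        CartesianMonoidalCategory.lift (polyTu T M) (polyProj T M ≫ g ≫ j) ≫ act =
      redMap (polyDS T M) (upIdeal T M J) ≫ polyProj T M ≫ g ≫ j) :
    ∃ k : T ⟶ Xu, redMap T J ≫ k = redMap T J ≫ g ∧
      ∀ (Z : Over S) (x : Z ⟶ T) (h : Z ⟶ Red.DS S M),
        CartesianMonoidalCategory.lift h (x ≫ k ≫ j) ≫ act = x ≫ k ≫ j := by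
  obtain ⟨k, h1, h2, -⟩ := exists_fixed_lift_inv act hact j hJ g hg
  exact ⟨k, h1, h2⟩

include hact in
set_option maxHeartbeats 1000000 in
/-- The fixed points of an action of a diagonalisable group are smooth. -/
theorem smooth_fixedPts_split {C : Over S} (c : C ⟶ X) [IsClosedImmersion c.left]
    [LocallyOfFinitePresentation C.hom]
    (hC : ∀ (Z : Over S) (p : Z ⟶ X), (∃ z : Z ⟶ C, z ≫ c = p) ↔
      ∀ (Z' : Over S) (x : Z' ⟶ Z) (h : Z' ⟶ Red.DS S M),
        CartesianMonoidalCategory.lift h (x ≫ p) ≫ act = x ≫ p) : Smooth C.hom := by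
  refine IsZariskiLocalAtSource.of_openCover (P := @Smooth)
    (X.left.affineCover.pullback₁ c.left) fun i => ?_
  let Xu : Over S := Over.mk (X.left.affineCover.f i ≫ X.hom)
  let j : Xu ⟶ X := Over.homMk (X.left.affineCover.f i) rfl
  haveI : IsAffine Xu.left := inferInstanceAs (IsAffine (X.left.affineCover.X i))
  haveI : IsOpenImmersion j.left := inferInstanceAs (IsOpenImmersion (X.left.affineCover.f i))
  haveI : Smooth Xu.hom := inferInstanceAs (Smooth (X.left.affineCover.f i ≫ X.hom))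
  let CU : Over S := Over.mk (pullback.fst c.left j.left ≫ C.hom)
  let d : CU ⟶ C := Over.homMk (pullback.fst c.left j.left) rfl
  let cu : CU ⟶ Xu := Over.homMk (pullback.snd c.left j.left) (by
    show pullback.snd c.left j.left ≫ Xu.hom = pullback.fst c.left j.left ≫ C.hom
    rw [← Over.w j, ← pullback.condition_assoc, Over.w c])
  have hsq : cu ≫ j = d ≫ c := Over.OverMorphism.ext pullback.condition.symm
  haveI : IsClosedImmersion cu.left :=
    MorphismProperty.pullback_snd (P := @IsClosedImmersion) _ _ ‹_›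
  haveI : IsAffine CU.left := isAffine_of_isAffineHom cu.left
  haveI : LocallyOfFinitePresentation CU.hom := by
    haveI : IsOpenImmersion (pullback.fst c.left j.left) := inferInstance
    exact inferInstanceAs (LocallyOfFinitePresentation (pullback.fst c.left j.left ≫ C.hom))
  show Smooth CU.hom
  refine smooth_of_lifts fun T _ J hJ g₀ => ?_
  obtain ⟨g, hg⟩ := exists_lift_of_smooth hJ (g₀ ≫ cu)
  obtain ⟨v, hv⟩ := exists_redMap_comp (J := upIdeal T M J) (J' := J) (polyProj T M)
    fun a ha => Ideal.mem_map_of_mem _ ha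
  have hmem := (hC _ (g₀ ≫ d ≫ c)).mp ⟨g₀ ≫ d, Category.assoc _ _ _⟩ _ v
    (redMap (polyDS T M) (upIdeal T M J) ≫ polyTu T M)
  have e : redMap (polyDS T M) (upIdeal T M J) ≫ polyProj T M ≫ g ≫ j = v ≫ g₀ ≫ d ≫ c := by
    rw [← reassoc_of% hv, reassoc_of% hg, hsq]
  obtain ⟨k, hk, hfix⟩ := exists_fixed_lift act hact j hJ g (by
    rw [comp_lift_assoc, e]; exact hmem)
  obtain ⟨z, hz⟩ := (hC T (k ≫ j)).mpr fun Z' x h => hfix Z' x h
  let w : T ⟶ CU := Over.homMk (pullback.lift z.left k.left (congrArg CommaMorphism.left hz)) (by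
    show pullback.lift z.left k.left _ ≫ pullback.fst _ _ ≫ C.hom = T.hom
    rw [pullback.lift_fst_assoc, Over.w z])
  have hw : w ≫ cu = k := Over.OverMorphism.ext (pullback.lift_snd _ _ _)
  haveI : Mono cu := Over.mono_of_mono_left cu
  exact ⟨w, by rw [← cancel_mono cu, Category.assoc, hw, hk, hg]⟩

end Split

set_option maxHeartbeats 1000000 in
/-- The fixed points of an action of a group of multiplicative type on a smooth separated scheme form
a closed subscheme, smooth over the base. -/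
theorem exists_smooth_fixedPts {H X : Over S} [GrpObj H] (hH : IsMultType H) [IsSeparated X.hom]
    [Smooth X.hom] (act : H ⊗ X ⟶ X)
    (hact : ∀ (Z : Over S) (h h' : Z ⟶ H) (p : Z ⟶ X),
      CartesianMonoidalCategory.lift (h * h') p ≫ act =
        CartesianMonoidalCategory.lift h (CartesianMonoidalCategory.lift h' p ≫ act) ≫ act) :
    ∃ (C : Over S) (c : C ⟶ X), IsClosedImmersion c.left ∧ Smooth C.hom ∧
      ∀ (Z : Over S) (p : Z ⟶ X), (∃ z : Z ⟶ C, z ≫ c = p) ↔
        ∀ (Z' : Over S) (x : Z' ⟶ Z) (h : Z' ⟶ H),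
          CartesianMonoidalCategory.lift h (x ≫ p) ≫ act = x ≫ p := by
  haveI := isMultType_isAffineHom hH
  haveI := Groth.Agent.SGA3a.isClosedImmersion_diag X
  obtain ⟨C, c, hc, hC, hfp⟩ := exists_transporter_fp (isEssentiallyFree_of_isMultType hH)
    (CartesianMonoidalCategory.lift
      (CartesianMonoidalCategory.lift (snd X H) (fst X H) ≫ act) (fst X H))
    (CartesianMonoidalCategory.lift (𝟙 X) (𝟙 X))
  have hC' : ∀ (Z : Over S) (p : Z ⟶ X), (∃ z : Z ⟶ C, z ≫ c = p) ↔
      ∀ (Z' : Over S) (x : Z' ⟶ Z) (h : Z' ⟶ H),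
        CartesianMonoidalCategory.lift h (x ≫ p) ≫ act = x ≫ p := by
    intro Z p
    refine (hC Z p).trans (forall_congr' fun Z' => forall_congr' fun x => forall_congr' fun a => ?_)
    simp only [comp_lift, comp_lift_assoc, Category.comp_id, lift_fst, lift_snd]
    refine ⟨fun ⟨x', hx'⟩ => ?_, fun e => ⟨x ≫ p, by rw [e]⟩⟩
    have e1 := congrArg (· ≫ fst X X) hx'
    have e2 := congrArg (· ≫ snd X X) hx'
    simp only [lift_fst, lift_snd] at e1 e2
    exact e1.trans e2.symm
  haveI : LocallyOfFinitePresentation c.left := by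
    refine hfp inferInstance ?_
    rw [Over.lift_left]
    show LocallyOfFinitePresentation (pullback.diagonal X.hom)
    haveI : LocallyOfFiniteType X.hom := inferInstance
    haveI : LocallyOfFinitePresentation (pullback.diagonal X.hom ≫ pullback.fst X.hom X.hom) := by
      rw [pullback.diagonal_fst]; infer_instance
    exact Groth.Agent.LimDesc62.lfp_of_comp _ (pullback.fst X.hom X.hom)
  haveI : LocallyOfFinitePresentation C.hom := by rw [← Over.w c]; infer_instance
  refine ⟨C, c, hc, ?_, hC'⟩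
  obtain ⟨S', f, hf, hs, hqc, hloc⟩ := hH
  haveI : MorphismProperty.DescendsAlong (@Smooth : MorphismProperty Scheme.{u}) Unr55.fpqc.{u} := by
    unfold Unr55.fpqc; infer_instance
  refine prop_of_fpqc_cover (@Smooth) C.hom f hqc fun s' => ?_
  obtain ⟨U₀, hU₀, M, hM, ⟨e⟩⟩ := hloc s'
  obtain ⟨W, hW, hsW, hWU⟩ := exists_isAffineOpen_mem_and_subset hU₀
  refine ⟨W, hsW, ?_⟩
  let φ : (W : Scheme.{u}) ⟶ S := W.ι ≫ f
  haveI : IsAffine (W : Scheme.{u}) := hW
  obtain ⟨a, ha, hsurj⟩ := exists_ds_cover (S'.homOfLE hWU) (U₀.ι ≫ f) φ (by simp [φ]) e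
  haveI : Smooth (Red.bc φ X).hom := MorphismProperty.pullback_snd (P := @Smooth) _ _ ‹_›
  haveI : IsSeparated (Red.bc φ X).hom := MorphismProperty.pullback_snd (P := @IsSeparated) _ _ ‹_›
  haveI : LocallyOfFinitePresentation (Red.bc φ C).hom :=
    MorphismProperty.pullback_snd (P := @LocallyOfFinitePresentation) _ _ ‹_›
  haveI : IsClosedImmersion ((Over.pullback φ).map c).left :=
    MorphismProperty.baseChange_map φ c inferInstance
  let actW : Red.DS (W : Scheme.{u}) M ⊗ Red.bc φ X ⟶ Red.bc φ X :=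
    ofBase φ (CartesianMonoidalCategory.lift (toBase φ (fst _ _ ≫ a)) (toBase φ (snd _ _)) ≫ act)
  have hW' : ∀ {Z : Over (W : Scheme.{u})} (h : Z ⟶ Red.DS (W : Scheme.{u}) M) (p : Z ⟶ Red.bc φ X),
      toBase φ (CartesianMonoidalCategory.lift h p ≫ actW) =
        CartesianMonoidalCategory.lift (toBase φ (h ≫ a)) (toBase φ p) ≫ act := by
    intro Z h p
    rw [toBase_comp, toBase_ofBase, comp_lift_assoc, ← toBase_comp, ← toBase_comp, lift_fst_assoc,
      lift_snd]
  show Smooth (Red.bc φ C).hom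
  refine smooth_fixedPts_split actW (fun Z h h' p => ?_) ((Over.pullback φ).map c) fun Z p => ?_
  · apply toBase_injective φ
    rw [hW', hW', hW', MonObj.mul_comp _ _ a, toBase_mul]
    exact hact _ _ _ _
  constructor
  · rintro ⟨z, rfl⟩ Z' x h
    apply toBase_injective φ
    rw [hW', toBase_comp φ x, toBase_comp_map]
    exact (hC' _ _).mp ⟨toBase φ z, rfl⟩ _ ((Over.map φ).map x) (toBase φ (h ≫ a))
  · intro h
    have key : ∀ (Z' : Over S) (x : Z' ⟶ (Over.map φ).obj Z) (t : Z' ⟶ H),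
        CartesianMonoidalCategory.lift t (x ≫ toBase φ p) ≫ act = x ≫ toBase φ p := by
      intro Z' x t
      let Z₁ : Over (W : Scheme.{u}) := Over.mk (x.left ≫ Z.hom)
      have hw : x.left ≫ Z.hom ≫ φ = Z'.hom := Over.w x
      let α : (Over.map φ).obj Z₁ ≅ Z' := Over.isoMk (Iso.refl _) (by simpa [Z₁] using hw.symm)
      let x₁ : Z₁ ⟶ Z := Over.homMk x.left rfl
      obtain ⟨t₁, ht₁⟩ := hsurj Z₁ (ofBase φ (α.hom ≫ t))
      have := congrArg (toBase φ) (h Z₁ x₁ t₁)
      rw [hW', ht₁, toBase_ofBase] at this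
      have hx₁ : toBase φ (x₁ ≫ p) = α.hom ≫ x ≫ toBase φ p := by
        rw [toBase_comp, ← Category.assoc α.hom]
        congr 1
      rw [hx₁] at this
      rw [← cancel_epi α.hom, comp_lift_assoc]
      exact this
    obtain ⟨z, hz⟩ := (hC' _ _).mpr key
    exact ⟨ofBase φ z, toBase_injective φ (by rw [toBase_comp_map, toBase_ofBase, hz])⟩

/-- Associativity of an action on points. -/
theorem action_assoc {G X : Over S} [GrpObj G] (a : G ⊗ X ⟶ X)
    (ha : (μ[G] ▷ X) ≫ a = (α_ G G X).hom ≫ (G ◁ a) ≫ a) {Z : Over S} (h h' : Z ⟶ G) (p : Z ⟶ X) :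
    CartesianMonoidalCategory.lift (h * h') p ≫ a =
      CartesianMonoidalCategory.lift h (CartesianMonoidalCategory.lift h' p ≫ a) ≫ a := by
  have := congrArg
    (fun v => CartesianMonoidalCategory.lift (CartesianMonoidalCategory.lift h h') p ≫ v) ha
  simp only [lift_whiskerRight_assoc, lift_lift_associator_hom_assoc, lift_whiskerLeft_assoc,
    ← Hom.mul_def] at this
  exact this

end Groth.Agent.RedPts82
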