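import Groth.Agent.RedPts82.AvgBase

/-!
Subgroups of multiplicative type conjugate modulo a nilpotent ideal are isomorphic compatibly.
-/

universe u

open CategoryTheory MonoidalCategory CartesianMonoidalCategory MonObj GrpObj AlgebraicGeometry
open CategoryTheory.Limits

namespace Groth.Agent.RedPts82

variable {S : Scheme.{u}} [IsAffine S] {H K G : Over S} [GrpObj H] [GrpObj K] [GrpObj G]

set_option maxHeartbeats 1000000 in
/-- Subgroups of multiplicative type conjugate modulo a nilpotent ideal are isomorphic compatibly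
with the conjugation. -/
theorem exists_iso_of_conj_mod (hH : IsMultType H) (hK : IsMultType K) (i : H ⟶ G) [IsMonHom i]
    [Mono i] (j : K ⟶ G) [IsMonHom j] [Mono j] [IsAffine (𝟙_ (Over S)).left]
    {J : Ideal (Gam (𝟙_ (Over S)))} (hJ : IsNilpotent J) (g₀ : redObj (𝟙_ (Over S)) J ⟶ G)
    (h₀ : ∀ (X : Over S) (x : X ⟶ redObj (𝟙_ (Over S)) J),
      (∀ h : X ⟶ H, ∃ h' : X ⟶ K, (x ≫ g₀) * (h ≫ i) * (x ≫ g₀)⁻¹ = h' ≫ j) ∧
      (∀ h' : X ⟶ K, ∃ h : X ⟶ H, (x ≫ g₀)⁻¹ * (h' ≫ j) * (x ≫ g₀) = h ≫ i)) :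
    ∃ ψ : H ≅ K, IsMonHom (ψ.hom ≫ j) ∧ ∀ (X : Over S) (x : X ⟶ redObj (𝟙_ (Over S)) J) (k : X ⟶ H),
      (x ≫ g₀) * (k ≫ i) * (x ≫ g₀)⁻¹ = k ≫ ψ.hom ≫ j := by
  let U := 𝟙_ (Over S)
  let T₀ := redObj U J
  obtain ⟨a, ha⟩ := (h₀ (T₀ ⊗ H) (fst _ _)).1 (snd _ _)
  obtain ⟨b, hb⟩ := (h₀ (T₀ ⊗ K) (fst _ _)).2 (snd _ _)
  have ha' : ∀ (Z : Over S) (x : Z ⟶ T₀) (k : Z ⟶ H),
      (CartesianMonoidalCategory.lift x k ≫ a) ≫ j = (x ≫ g₀) * (k ≫ i) * (x ≫ g₀)⁻¹ := fun Z x k => by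
    rw [Category.assoc, ← ha]
    simp only [MonObj.comp_mul, GrpObj.comp_inv, lift_fst_assoc, lift_snd_assoc]
  have hb' : ∀ (Z : Over S) (x : Z ⟶ T₀) (k : Z ⟶ K),
      (CartesianMonoidalCategory.lift x k ≫ b) ≫ i = (x ≫ g₀)⁻¹ * (k ≫ j) * (x ≫ g₀) := fun Z x k => by
    rw [Category.assoc, ← hb]
    simp only [MonObj.comp_mul, GrpObj.comp_inv, lift_fst_assoc, lift_snd_assoc]
  have hma : IsRelMul a := fun Z x k k' => by
    rw [← cancel_mono j, MonObj.mul_comp _ _ j, ha', ha', ha', MonObj.mul_comp _ _ i]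
    group
  have hmb : IsRelMul b := fun Z x k k' => by
    rw [← cancel_mono i, MonObj.mul_comp _ _ i, hb', hb', hb', MonObj.mul_comp _ _ j]
    group
  obtain ⟨f, hf, hfm⟩ := exists_mult_hom_lift hH hK U hJ a hma
  obtain ⟨f', hf', hfm'⟩ := exists_mult_hom_lift hK hH U hJ b hmb
  let p := CartesianMonoidalCategory.lift (toUnit H) (𝟙 H) ≫ f
  let q := CartesianMonoidalCategory.lift (toUnit K) (𝟙 K) ≫ f'
  haveI : IsMonHom p := isMonHom_of_relMul hfm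
  haveI : IsMonHom q := isMonHom_of_relMul hfm'
  have hp : ∀ (Z : Over S) (x : Z ⟶ T₀) (k : Z ⟶ H), k ≫ p = CartesianMonoidalCategory.lift x k ≫ a :=
    fun Z x k => by
    rw [← hf, lift_whiskerRight_assoc, toUnit_unique (x ≫ redMap U J) (toUnit Z)]
    simp [p, U, comp_lift_assoc]
  have hq : ∀ (Z : Over S) (x : Z ⟶ T₀) (k : Z ⟶ K), k ≫ q = CartesianMonoidalCategory.lift x k ≫ b :=
    fun Z x k => by
    rw [← hf', lift_whiskerRight_assoc, toUnit_unique (x ≫ redMap U J) (toUnit Z)]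
    simp [q, U, comp_lift_assoc]
  have hpj : ∀ (Z : Over S) (x : Z ⟶ T₀) (k : Z ⟶ H),
      k ≫ p ≫ j = (x ≫ g₀) * (k ≫ i) * (x ≫ g₀)⁻¹ := fun Z x k => by
    rw [← ha', ← hp]
    simp only [p, Category.assoc]
  have hqi : ∀ (Z : Over S) (x : Z ⟶ T₀) (k : Z ⟶ K),
      k ≫ q ≫ i = (x ≫ g₀)⁻¹ * (k ≫ j) * (x ≫ g₀) := fun Z x k => by
    rw [← hb', ← hq]
    simp only [q, Category.assoc]
  have hid : ∀ {A : Over S} [GrpObj A], IsMultType A → ∀ (e : A ⟶ A) [IsMonHom e],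
      (∀ (Z : Over S) (_ : Z ⟶ T₀) (k : Z ⟶ A), k ≫ e = k) → e = 𝟙 A := by
    intro A _ hA e _ he
    have hrel : ∀ (c : A ⟶ A) [IsMonHom c], IsRelMul (snd U A ≫ c) := fun c _ Z x k k' => by
      simp only [lift_snd_assoc]
      exact MonObj.mul_comp _ _ c
    have h1 := relMul_eq_of_nilpotent hA hA U hJ (hrel e) (hrel (𝟙 A)) (by
      rw [whiskerRight_snd_assoc, whiskerRight_snd_assoc, Category.comp_id, he _ (fst T₀ A)])
    have := congrArg (fun c => CartesianMonoidalCategory.lift (toUnit A) (𝟙 A) ≫ c) h1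
    simpa [U] using this
  have h1 : p ≫ q = 𝟙 H := hid hH (p ≫ q) fun Z x k => by
    rw [← cancel_mono i, Category.assoc, Category.assoc, ← Category.assoc k p, hqi Z x,
      Category.assoc, hpj Z x]
    group
  have h2 : q ≫ p = 𝟙 K := hid hK (q ≫ p) fun Z x k => by
    rw [← cancel_mono j, Category.assoc, Category.assoc, ← Category.assoc k q, hpj Z x,
      Category.assoc, hqi Z x]
    group
  exact ⟨⟨p, q, h1, h2⟩, inferInstanceAs (IsMonHom (p ≫ j)), fun X x k => (hpj X x k).symm⟩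

end Groth.Agent.RedPts82
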