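import Groth.Agent.RedPts82.Transporter
import Groth.Agent.RedPts82.MultBc
import Groth.Agent.RedPts82.FinTransporter
import Groth.Agent.RedPts82.FixedPts
import Groth.Agent.S5273
import Groth.Agent.S1488
import Groth.Agent.SpPts86.SmoothSection

/-!
The scheme of points conjugating one homomorphism from a group of multiplicative type to another.
-/

universe u

open CategoryTheory MonoidalCategory CartesianMonoidalCategory MonObj GrpObj AlgebraicGeometry
open CategoryTheory.Limits

namespace Groth.Agent.RedPts82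

variable {S : Scheme.{u}}

/-- A smooth surjective object has points etale-locally on the base. -/
theorem exists_etale_points {C : Over S} [Smooth C.hom] (s : S) (hs : ∃ x, C.hom x = s) :
    ∃ (S' : Scheme.{u}) (f : S' ⟶ S), Etale f ∧ s ∈ Set.range f.base ∧ Nonempty (Over.mk f ⟶ C) := by
  obtain ⟨x, rfl⟩ := hs
  obtain ⟨S', g, s', hg, hs', h, hh⟩ := SpPts86.exists_etale_section C.hom x
  exact ⟨S', g, hg, ⟨s', hs'⟩, ⟨Over.homMk h hh⟩⟩

/-- An object over `W` from one over `S` mapping to `Over.mk φ`. -/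
theorem exists_over_iso {W : Scheme.{u}} (φ : W ⟶ S) {X : Over S} (x : X.left ⟶ W)
    (hx : x ≫ φ = X.hom) : ∃ α : (Over.map φ).obj (Over.mk x) ≅ X, α.hom.left = 𝟙 X.left :=
  ⟨Over.isoMk (Iso.refl _) (by simpa using hx.symm), rfl⟩

set_option maxHeartbeats 1000000 in
/-- The points conjugating `u₁` into `u₂` form a smooth closed subscheme. -/
theorem exists_smooth_conjTransporter {H G : Over S} [GrpObj H] [GrpObj G]
    (hH : SGA3x.IsMultTypeFT H) [Smooth G.hom] [IsSeparated G.hom] (u₁ u₂ : H ⟶ G) [IsMonHom u₁]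
    [IsMonHom u₂] :
    ∃ (C : Over S) (c : C ⟶ G), IsClosedImmersion c.left ∧ Smooth C.hom ∧
      ∀ (X : Over S) (g : X ⟶ G), (∃ z : X ⟶ C, z ≫ c = g) ↔
        ∀ (X' : Over S) (x : X' ⟶ X) (h : X' ⟶ H),
          h ≫ u₂ = (x ≫ g) * (h ≫ u₁) * (x ≫ g)⁻¹ := by
  have hH' := isMultType_of_isMultTypeFT hH
  haveI := isMultType_isAffineHom hH'
  haveI := Groth.Agent.SGA3a.isClosedImmersion_diag G
  obtain ⟨C, c, hc, hC, hfp⟩ := exists_transporter_fp (isEssentiallyFree_of_isMultType hH')
    (CartesianMonoidalCategory.lift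
      ((fst G H) * (snd G H ≫ u₁) * (fst G H)⁻¹) (snd G H ≫ u₂))
    (CartesianMonoidalCategory.lift (𝟙 G) (𝟙 G))
  have hC' : ∀ (X : Over S) (g : X ⟶ G), (∃ z : X ⟶ C, z ≫ c = g) ↔
      ∀ (X' : Over S) (x : X' ⟶ X) (h : X' ⟶ H),
        h ≫ u₂ = (x ≫ g) * (h ≫ u₁) * (x ≫ g)⁻¹ := by
    intro X g
    refine (hC X g).trans (forall_congr' fun X' => forall_congr' fun x => forall_congr' fun a => ?_)
    simp only [comp_lift, Category.comp_id, MonObj.comp_mul, GrpObj.comp_inv, lift_fst,
      lift_snd_assoc]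
    refine ⟨fun ⟨x', hx'⟩ => ?_, fun e => ⟨a ≫ u₂, by rw [e]⟩⟩
    have e1 := congrArg (· ≫ fst G G) hx'
    have e2 := congrArg (· ≫ snd G G) hx'
    simp only [lift_fst, lift_snd] at e1 e2
    exact e2.trans e1.symm
  haveI : LocallyOfFinitePresentation c.left := by
    refine hfp inferInstance ?_
    rw [Over.lift_left]
    show LocallyOfFinitePresentation (pullback.diagonal G.hom)
    haveI : LocallyOfFinitePresentation (pullback.diagonal G.hom ≫ pullback.fst G.hom G.hom) := by
      rw [pullback.diagonal_fst]; infer_instance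
    exact Groth.Agent.LimDesc62.lfp_of_comp _ (pullback.fst G.hom G.hom)
  haveI : LocallyOfFinitePresentation C.hom := by rw [← Over.w c]; infer_instance
  refine ⟨C, c, hc, ?_, hC'⟩
  haveI : Mono c := Over.mono_of_mono_left c
  refine (Groth.Agent.S1488.result C.hom).mpr ⟨inferInstance, ?_⟩
  intro A _ I hI a b hab
  let f₀ : Spec (CommRingCat.of (A ⧸ I)) ⟶ Spec (CommRingCat.of A) :=
    Spec.map (CommRingCat.ofHom (Ideal.Quotient.mk I))
  let X₀ : Over (Spec (CommRingCat.of A)) := Over.mk f₀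
  let α : (Over.map b).obj X₀ ⟶ C := Over.homMk a hab.symm
  have hα := (hC' _ (α ≫ c)).mp ⟨α, rfl⟩
  haveI : Smooth (Red.bc b G).hom := MorphismProperty.pullback_snd (P := @Smooth) _ _ ‹_›
  obtain ⟨g, hg, hgu⟩ := Groth.Agent.S5273.result I ⟨2, hI⟩ (Red.bc b H) (Red.bc b G)
    (isMultType_bc b hH') inferInstance ((Over.pullback b).map u₁) ((Over.pullback b).map u₂)
    (ofBase b (α ≫ c)) fun X p h => toBase_injective b (by
      have := hα _ ((Over.map b).map p) (toBase b h)
      rw [toBase_mul, toBase_mul, toBase_inv, toBase_comp_map, toBase_comp_map, toBase_comp,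
        toBase_ofBase]
      exact this)
  obtain ⟨z, hz⟩ := (hC' _ (toBase b g)).mpr fun X' x h => by
    obtain ⟨β, hβ⟩ := exists_over_iso b (x.left ≫ (𝟙_ (Over (Spec (CommRingCat.of A)))).hom)
      ((Category.assoc _ _ _).trans (Over.w x))
    have h1 := congrArg (toBase b) (hgu _ (ofBase b (β.hom ≫ h)))
    simp only [toBase_mul, toBase_inv, toBase_comp_map, toBase_ofBase] at h1
    rw [toBase_comp] at h1
    have e : (Over.map b).map (toUnit (Over.mk (x.left ≫ (𝟙_ (Over (Spec (CommRingCat.of A)))).hom))) =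
        β.hom ≫ x := by
      refine Over.OverMorphism.ext ?_
      haveI : Mono (𝟙_ (Over (Spec (CommRingCat.of A)))).hom := inferInstanceAs (Mono (𝟙 _))
      rw [← cancel_mono (𝟙_ (Over (Spec (CommRingCat.of A)))).hom]
      simp [hβ]
    rw [e] at h1
    simp only [Category.assoc] at h1
    rw [← cancel_epi β.hom, MonObj.comp_mul, MonObj.comp_mul, GrpObj.comp_inv]
    exact h1
  refine ⟨z.left, ?_, Over.w z⟩
  have e1 : (Over.map b).map (toUnit X₀) ≫ z = α := by
    rw [← cancel_mono c, Category.assoc, hz, ← toBase_comp, hg, toBase_ofBase]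
  have e2 := congrArg CommaMorphism.left e1
  have e3 : ((Over.map b).map (toUnit X₀)).left = f₀ := (Category.comp_id _).symm.trans (Over.w (toUnit X₀))
  exact (congrArg (· ≫ z.left) e3).symm.trans e2

end Groth.Agent.RedPts82
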