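import Groth.Agent.RedPts82.SmoothTransporter
import Groth.Agent.RedPts82.Normalizer
import Groth.Agent.RedPts82.RelHom
import Groth.Agent.RedPts82.MultBc
import Groth.Agent.RedPts82.ConjTrans
import Groth.Agent.S5261

/-!
The points over which a homomorphism from a group of multiplicative type of finite type is a
monomorphism form an open set.
-/

universe u

open CategoryTheory MonoidalCategory CartesianMonoidalCategory MonObj GrpObj AlgebraicGeometry
open CategoryTheory.Limits TensorProduct

namespace Groth.Agent.RedPts82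

section Algebra

/-- Dedekind: if every linear relation between the values of a character holds in the tensor
square, then the classes of the relation sum to zero. -/
theorem coset_sum_eq_zero {K A : Type u} [Field K] [CommRing A] [Algebra K A] {G : Type} [CommGroup G]
    (χ : G →* A) (h : ∀ v : G →₀ K, (v.sum fun g c => c • χ g) = 0 →
      (v.sum fun g c => c • (χ g ⊗ₜ[K] χ g)) = 0)
    (v : G →₀ K) (hv : (v.sum fun g c => c • χ g) = 0) (a : A) [DecidableEq A] (ha : a ∈ Set.range χ)
    (hne : (1 : A) ≠ 0) : (∑ g ∈ v.support with χ g = a, v g) = 0 := by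
  classical
  -- the distinct values are linearly independent
  have hunit : ∀ g, χ g ≠ 0 := fun g h0 => hne (by
    rw [← map_one χ, ← mul_inv_cancel g, map_mul, h0, zero_mul])
  have key : ∀ s : Finset A, (∀ x ∈ s, x ∈ Set.range χ) → LinearIndependent K (fun x : s => (x : A)) := by
    intro s
    induction s using Finset.induction with
    | empty => intro _; exact linearIndependent_empty_type
    | insert x s hx ih =>
      intro hs
      have hli := ih fun y hy => hs y (Finset.mem_insert_of_mem hy)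
      have hli' : LinearIndepOn K id (s : Set A) := hli
      show LinearIndepOn K id ((insert x s : Finset A) : Set A)
      rw [Finset.coe_insert]
      refine (linearIndepOn_id_insert (by exact_mod_cast hx)).mpr ⟨hli', fun hmem => ?_⟩
      obtain ⟨c, hc⟩ := Submodule.mem_span_finset'.mp hmem
      obtain ⟨g₀, rfl⟩ := hs x (Finset.mem_insert_self x s)
      choose g hg using fun y : s => hs y (Finset.mem_insert_of_mem y.2)
      let w : G →₀ K := Finsupp.single g₀ (-1) + ∑ y : s, Finsupp.single (g y) (c y)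
      have hw : ∀ {P : Type u} [AddCommGroup P] [Module K P] (F : G → P),
          (w.sum fun g b => b • F g) = -F g₀ + ∑ y : s, c y • F (g y) := by
        intro P _ _ F
        show Finsupp.linearCombination K F w = _
        simp only [w, map_add, map_sum, Finsupp.linearCombination_single, neg_one_smul]
      have h1 := h w (by
        rw [hw]
        simp only [hg]
        rw [hc, neg_add_cancel])
      rw [hw (fun g => χ g ⊗ₜ[K] χ g)] at h1
      simp only [hg] at h1
      rw [← hc, TensorProduct.sum_tmul] at h1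
      simp only [TensorProduct.tmul_sum, TensorProduct.smul_tmul', TensorProduct.tmul_smul] at h1
      -- compare coefficients in the tensor square
      have hind := LinearIndependent.tmul_of_flat_left (R := K) hli hli
      have h2 : ∀ p : s × s, -(c p.1 * c p.2) + (if p.1 = p.2 then c p.1 else 0) = 0 := by
        refine Fintype.linearIndependent_iff.mp hind _ ?_
        rw [← h1]
        simp only [add_smul, neg_smul, Finset.sum_add_distrib, Finset.sum_neg_distrib, ite_smul,
          zero_smul, Fintype.sum_prod_type, Finset.sum_ite_eq, Finset.mem_univ, if_true]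
        congr 2
        refine Finset.sum_congr rfl fun i _ => ?_
        simp only [Finset.smul_sum, smul_smul, TensorProduct.smul_tmul']
        exact Finset.sum_congr rfl fun j _ => by rw [_root_.mul_comm]
      have h3 : ∃ y, c y ≠ 0 := by
        by_contra hall
        push Not at hall
        exact hunit g₀ (by rw [← hc]; simp [hall])
      obtain ⟨y, hy⟩ := h3
      have hy1 : c y = 1 := by
        have := h2 (y, y)
        rw [if_pos rfl, neg_add_eq_zero] at this
        exact mul_left_cancel₀ hy (this.trans (_root_.mul_one _).symm)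
      refine hx ?_
      rw [← hc, Finset.sum_eq_single y (fun z _ hz => by
        have := h2 (y, z)
        rw [if_neg (Ne.symm hz), add_zero, neg_eq_zero, hy1, _root_.one_mul] at this
        rw [this, zero_smul]) (fun h => absurd (Finset.mem_univ y) h), hy1, one_smul]
      exact y.2
  let s := insert a (v.support.image χ)
  have hli := key s fun x hx => by
    rcases Finset.mem_insert.mp hx with rfl | hx
    · exact ha
    · obtain ⟨g, -, rfl⟩ := Finset.mem_image.mp hx
      exact ⟨g, rfl⟩
  have h0 : ∑ x : s, (∑ g ∈ v.support with χ g = x.1, v g) • (x : A) = 0 := by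
    rw [Finset.sum_coe_sort s (fun x => (∑ g ∈ v.support with χ g = x, v g) • x)]
    rw [← hv, Finsupp.sum, ← Finset.sum_fiberwise_of_maps_to (t := s) (g := χ)
      (fun g hg => Finset.mem_insert_of_mem (Finset.mem_image_of_mem χ hg))]
    refine Finset.sum_congr rfl fun x _ => ?_
    rw [Finset.sum_smul]
    exact Finset.sum_congr rfl fun g hg => by rw [(Finset.mem_filter.mp hg).2]
  exact Fintype.linearIndependent_iff.mp hli _ h0 ⟨a, Finset.mem_insert_self a _⟩

end Algebra

variable {S : Scheme.{u}}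

/-- The homomorphism `u` has trivial kernel over `φ`. -/
def KerTriv {T : Scheme.{u}} (φ : T ⟶ S) {H G : Over S} [GrpObj H] [GrpObj G] (u : H ⟶ G) : Prop :=
  ∀ (Z : Over S) (_ : Z ⟶ Over.mk φ) (h : Z ⟶ H), h ≫ u = 1 → h = 1

theorem mono_iff_kerTriv {T : Scheme.{u}} (φ : T ⟶ S) {H G : Over S} [GrpObj H] [GrpObj G]
    (u : H ⟶ G) [IsMonHom u] : Mono ((Over.pullback φ).map u).left ↔ KerTriv φ u := by
  constructor
  · intro hm Z p h hu
    haveI : Mono ((Over.pullback φ).map u) := Over.mono_of_mono_left _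
    obtain ⟨α, -⟩ := exists_over_iso' φ p.left (Over.w p)
    have e : ofBase φ (α.hom ≫ h) = ofBase φ 1 := by
      rw [← cancel_mono ((Over.pullback φ).map u)]
      apply toBase_injective φ
      rw [toBase_comp_map, toBase_comp_map, toBase_ofBase, toBase_ofBase, Category.assoc, hu,
        MonObj.comp_one, MonObj.one_comp]
    have e' := congrArg (toBase φ) e
    rw [toBase_ofBase, toBase_ofBase] at e'
    rw [← cancel_epi α.hom, e', MonObj.comp_one]
  · intro hk
    haveI : Mono ((Over.pullback φ).map u) := ⟨fun {X} x y e => toBase_injective φ (by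
      have e1 := congrArg (toBase φ) e
      rw [toBase_comp_map, toBase_comp_map] at e1
      rw [← mul_inv_eq_one]
      refine hk _ (Over.homMk X.hom (by simp)) _ ?_
      rw [MonObj.mul_comp _ _ u, GrpObj.inv_comp, e1, mul_inv_cancel])⟩
    exact inferInstanceAs (Mono ((Over.forget T).map ((Over.pullback φ).map u)))
where
  exists_over_iso' {W : Scheme.{u}} (φ : W ⟶ S) {X : Over S} (x : X.left ⟶ W)
      (hx : x ≫ φ = X.hom) : ∃ α : (Over.map φ).obj (Over.mk x) ≅ X, α.hom.left = 𝟙 X.left :=
    ⟨Over.isoMk (Iso.refl _) (by simpa using hx.symm), rfl⟩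

theorem KerTriv.of_comp {T T' : Scheme.{u}} {φ : T ⟶ S} {φ' : T' ⟶ S} {H G : Over S} [GrpObj H]
    [GrpObj G] {u : H ⟶ G} (hk : KerTriv φ u) (g : T' ⟶ T) (hg : g ≫ φ = φ') : KerTriv φ' u :=
  fun Z p h hu => hk Z (Over.homMk (p.left ≫ g) (by
    show (p.left ≫ g) ≫ φ = Z.hom
    rw [Category.assoc, hg]; exact Over.w p)) h hu

theorem KerTriv.descend {T T' : Scheme.{u}} {φ : T ⟶ S} {H G : Over S} [GrpObj H] [GrpObj G]
    {u : H ⟶ G} (g : T' ⟶ T) [Flat g] [Surjective g] (hk : KerTriv (g ≫ φ) u) : KerTriv φ u := by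
  intro Z p h hu
  let Z' : Over S := Over.mk (pullback.fst p.left g ≫ Z.hom)
  let q : Z' ⟶ Z := Over.homMk (pullback.fst p.left g) rfl
  haveI : Epi q.left := Flat.epi_of_flat_of_surjective (pullback.fst p.left g)
  haveI : Epi q := (Over.forget S).epi_of_epi_map (f := q) ‹_›
  rw [← cancel_epi q, MonObj.comp_one]
  exact hk Z' (Over.homMk (pullback.snd p.left g) (by
    show _ ≫ g ≫ φ = pullback.fst p.left g ≫ Z.hom
    rw [← pullback.condition_assoc]
    exact congrArg _ (Over.w p))) _ (by rw [Category.assoc, hu, MonObj.comp_one])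

theorem fromSpecResidueField_appTop' {W : Scheme.{u}} (x : W) (a : Γ(W, ⊤)) :
    (W.fromSpecResidueField x).appTop a =
      (Scheme.ΓSpecIso (W.residueField x)).inv (W.evaluation ⊤ x trivial a) := by
  simp [Scheme.fromSpecResidueField, Scheme.evaluation, Scheme.fromSpecStalk_appTop,
    ← Scheme.ΓSpecIso_inv_naturality]

/-- Evaluation of functions at a point, on the coefficient ring of the base. -/
noncomputable abbrev evalAt (W : Scheme.{u}) (x : W) : Gam (𝟙_ (Over W)) →+* W.residueField x :=
  (W.evaluation ⊤ x trivial).hom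

/-- Points of a diagonalisable group with values in an algebra over a residue field. -/
theorem exists_pt {W : Scheme.{u}} [IsAffine W] [IsAffine (𝟙_ (Over W)).left] {M : Type}
    [AddCommGroup M] (x : W) {B : Type u} [CommRing B] (f : W.residueField x →+* B) :
    ∃ (Z : Over W) (_ : IsAffine Z.left) (_ : Z ⟶ Over.mk (W.fromSpecResidueField x))
      (τ : B ≃+* Γ(Z.left, ⊤)),
      ∀ ψ : MonoidAlgebra (W.residueField x) (Multiplicative M) →+* B,
        (∀ k, ψ (MonoidAlgebra.single 1 k) = f k) → ∃ t : Z ⟶ Red.DS W M,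
        (∀ m, dsFn t m = τ (ψ (MonoidAlgebra.single (Multiplicative.ofAdd m) 1))) ∧
        evalDS (toUnit Z) t =
          τ.toRingHom.comp (ψ.comp (MonoidAlgebra.mapRingHom _ (evalAt W x))) := by
  let γ : Spec (CommRingCat.of B) ⟶ Spec (W.residueField x) := Spec.map (CommRingCat.ofHom f)
  let Z : Over W := Over.mk (γ ≫ W.fromSpecResidueField x)
  let τ := (Scheme.ΓSpecIso (CommRingCat.of B)).commRingCatIsoToRingEquiv.symm
  have hz : ∀ a : Gam (𝟙_ (Over W)), (toUnit Z).left.appTop a = τ (f (evalAt W x a)) := by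
    intro a
    have e : (toUnit Z).left = γ ≫ W.fromSpecResidueField x :=
      (Category.comp_id _).symm.trans (Over.w (toUnit Z))
    rw [e, Scheme.Hom.comp_appTop, CommRingCat.comp_apply]
    refine (congrArg γ.appTop (fromSpecResidueField_appTop' x a)).trans ?_
    exact (congr($(Scheme.ΓSpecIso_inv_naturality (CommRingCat.ofHom f)) (evalAt W x a))).symm
  refine ⟨Z, inferInstanceAs (IsAffine (Spec _)), Over.homMk γ rfl, τ, fun ψ hψ => ?_⟩
  obtain ⟨t, ht⟩ := dsFn_surjective (S := W) (M := M) (X := Z)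
    (τ.toMonoidHom.comp (ψ.toMonoidHom.comp (MonoidAlgebra.of _ _)))
  have ht' : ∀ m, dsFn t m = τ (ψ (MonoidAlgebra.single (Multiplicative.ofAdd m) 1)) := ht
  refine ⟨t, ht', MonoidAlgebra.ringHom_ext (fun a => ?_) fun g => ?_⟩
  · refine (evalDS_single _ _ 0 a).trans ?_
    rw [dsFn_zero, _root_.mul_one, hz, ← hψ]
    show _ = τ (ψ _)
    rw [MonoidAlgebra.mapRingHom_single]
  · refine (evalDS_single _ _ (Multiplicative.toAdd g) 1).trans ?_
    rw [map_one, _root_.one_mul, ht']
    show _ = τ (ψ _)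
    rw [MonoidAlgebra.mapRingHom_single, map_one]
    rfl

/-- The character `m` is trivial on the kernel of `q` over `ψ`. -/
def CharTriv {W T : Scheme.{u}} {G : Over W} [GrpObj G] {M : Type} [AddCommGroup M] (ψ : T ⟶ W)
    (q : Red.DS W M ⟶ G) (m : M) : Prop :=
  ∀ (Z : Over W) (_ : Z ⟶ Over.mk ψ) (t : Z ⟶ Red.DS W M), t ≫ q = 1 → dsFn t m = 1

section KernelChar

variable {W : Scheme.{u}} [IsAffine W] {G : Over W} [GrpObj G] [IsSeparated G.hom]
  {M : Type} [AddCommGroup M] (q : Red.DS W M ⟶ G) [IsMonHom q]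

omit [IsMonHom q] in
theorem exists_kerIdeal [IsAffine (𝟙_ (Over W)).left] :
    ∃ I : Ideal (DSRing (𝟙_ (Over W)) M),
      (∀ (Z : Over W) (t : Z ⟶ Red.DS W M), t ≫ q = 1 → ∀ v ∈ I, evalDS (toUnit Z) t v = 0) ∧
      (∀ (Z : Over W) [IsAffine Z.left] (t : Z ⟶ Red.DS W M),
        (∀ v ∈ I, evalDS (toUnit Z) t v = 0) → t ≫ q = 1) ∧
      (LocallyOfFiniteType G.hom → I.FG) := by
  classical
  let Y := 𝟙_ (Over W)
  let P := polyDS Y M
  haveI : IsClosedImmersion η[G].left := by
    haveI : IsClosedImmersion (η[G].left ≫ G.hom) := by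
      rw [Over.w η[G]]
      exact inferInstanceAs (IsClosedImmersion (𝟙 W))
    exact IsClosedImmersion.of_comp η[G].left G.hom
  let c : pullback (polyTu Y M ≫ q).left η[G].left ⟶ P.left := pullback.fst _ _
  haveI : IsClosedImmersion c := MorphismProperty.pullback_fst (P := @IsClosedImmersion) _ _ ‹_›
  haveI : IsAffine (pullback (polyTu Y M ≫ q).left η[G].left) := isAffine_of_isAffineHom c
  let I : Ideal (DSRing Y M) := (RingHom.ker c.appTop.hom).comap (polyCoord Y M)
  -- the ideal of the kernel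
  have hI₁ : ∀ (Z : Over W) (t : Z ⟶ Red.DS W M), t ≫ q = 1 → ∀ v ∈ I, evalDS (toUnit Z) t v = 0 := by
    intro Z t ht v hv
    obtain ⟨p, hp₁, hp₂, hp₃⟩ := exists_polyLift (toUnit Z) t
    have e : p.left ≫ (polyTu Y M ≫ q).left = (toUnit Z).left ≫ η[G].left := by
      rw [← Over.comp_left, ← Over.comp_left, reassoc_of% hp₂, ht, Hom.one_def]
    rw [← hp₃, ← pullback.lift_fst p.left (toUnit Z).left e]
    show (pullback.lift p.left (toUnit Z).left e ≫ c).appTop _ = _
    rw [Scheme.Hom.comp_appTop, CommRingCat.comp_apply, (hv : c.appTop (polyCoord Y M v) = 0), map_zero]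
  have hI₂ : ∀ (Z : Over W) [IsAffine Z.left] (t : Z ⟶ Red.DS W M),
      (∀ v ∈ I, evalDS (toUnit Z) t v = 0) → t ≫ q = 1 := by
    intro Z _ t ht
    obtain ⟨p, hp₁, hp₂, hp₃⟩ := exists_polyLift (toUnit Z) t
    have hle : c.ker ≤ p.left.ker := by
      refine Scheme.IdealSheafData.le_of_isAffine ?_
      rw [Scheme.Hom.ker_apply, Scheme.Hom.ker_apply]
      intro x hx
      obtain ⟨v, rfl⟩ := (polyCoord_bijective Y M).2 x
      show p.left.appTop (polyCoord Y M v) = 0
      rw [hp₃]
      exact ht v hx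
    let l := IsClosedImmersion.lift c p.left hle
    rw [← hp₂, Category.assoc, Hom.one_def]
    apply Over.OverMorphism.ext
    refine Eq.trans (congrArg (· ≫ (polyTu Y M ≫ q).left) (IsClosedImmersion.lift_fac c p.left hle).symm) ?_
    refine (Category.assoc _ _ _).trans ((congrArg (l ≫ ·) pullback.condition).trans ?_)
    refine (Category.assoc _ _ _).symm.trans (congrArg (· ≫ η[G].left) ?_)
    haveI : Mono (𝟙_ (Over W)).hom := inferInstanceAs (Mono (𝟙 W))
    rw [← cancel_mono (𝟙_ (Over W)).hom, Category.assoc, Over.w (toUnit Z)]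
    have h1 : pullback.snd (polyTu Y M ≫ q).left η[G].left ≫ (𝟙_ (Over W)).hom = c ≫ P.hom := by
      rw [← Over.w η[G], ← pullback.condition_assoc, Over.w]
    rw [h1, ← Category.assoc, IsClosedImmersion.lift_fac, Over.w p]
  refine ⟨I, hI₁, hI₂, fun hG => ?_⟩
  haveI := hG
  haveI : LocallyOfFinitePresentation η[G].left := by
    haveI : LocallyOfFinitePresentation (η[G].left ≫ G.hom) := by
      rw [Over.w η[G]]
      exact inferInstanceAs (LocallyOfFinitePresentation (𝟙 W))
    exact Groth.Agent.LimDesc62.lfp_of_comp η[G].left G.hom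
  haveI : LocallyOfFinitePresentation c :=
    MorphismProperty.pullback_fst (P := @LocallyOfFinitePresentation) _ _ inferInstance
  haveI : IsAffine P.left := inferInstance
  have h1 : c.appTop.hom.FinitePresentation :=
    (HasRingHomProperty.iff_of_isAffine (P := @LocallyOfFinitePresentation)).mp inferInstance
  have h2 : Function.Surjective c.appTop := (IsClosedImmersion.isAffine_surjective_of_isAffine c).2
  have h3 : (RingHom.ker c.appTop.hom).FG := by
    letI := c.appTop.hom.toAlgebra
    haveI : Algebra.FinitePresentation Γ(P.left, ⊤) Γ(pullback (polyTu Y M ≫ q).left η[G].left, ⊤) := h1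
    exact Algebra.FinitePresentation.ker_fG_of_surjective (Algebra.ofId _ _) h2
  let e := RingEquiv.ofBijective _ (polyCoord_bijective Y M)
  have h4 : I = (RingHom.ker c.appTop.hom).map e.symm.toRingHom :=
    (Ideal.map_comap_of_equiv (I := RingHom.ker c.appTop.hom) e.symm).symm
  rw [h4]
  exact h3.map _

set_option maxHeartbeats 1000000 in
/-- The algebra of the kernel over a residue field: the characters are linearly independent outside
the classes of the characters trivial on the kernel. -/
theorem exists_univ_char [IsAffine (𝟙_ (Over W)).left] {I : Ideal (DSRing (𝟙_ (Over W)) M)}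
    (hI₁ : ∀ (Z : Over W) (t : Z ⟶ Red.DS W M), t ≫ q = 1 → ∀ v ∈ I, evalDS (toUnit Z) t v = 0)
    (hI₂ : ∀ (Z : Over W) [IsAffine Z.left] (t : Z ⟶ Red.DS W M),
      (∀ v ∈ I, evalDS (toUnit Z) t v = 0) → t ≫ q = 1) (x : W) :
    ∃ (B : Type u) (_ : CommRing B) (χ : Multiplicative M →* B),
      (∀ m, CharTriv (W.fromSpecResidueField x) q m →
        MonoidAlgebra.single (Multiplicative.ofAdd m) 1 - 1 ∈
          I.map (MonoidAlgebra.mapRingHom (Multiplicative M) (evalAt W x))) ∧
      (∀ m, χ (Multiplicative.ofAdd m) = 1 ↔ CharTriv (W.fromSpecResidueField x) q m) ∧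
      ∀ v ∈ I, ∀ [DecidableEq B] (a : B), a ∈ Set.range χ →
        ∀ F : Finset (Multiplicative M), (v : DSRing (𝟙_ (Over W)) M).coeff.support ⊆ F →
          ∑ g ∈ F with χ g = a, evalAt W x (v.coeff g) = 0 := by
  classical
  let Y := 𝟙_ (Over W)
  let σ : ∀ x : W, Gam Y →+* W.residueField x := evalAt W
  let sX := MonoidAlgebra.mapRingHom (Multiplicative M) (σ x)
  obtain ⟨B, hB, π, hπker⟩ : ∃ (B : Type u) (_ : CommRing B)
      (π : MonoidAlgebra (W.residueField x) (Multiplicative M) →+* B), RingHom.ker π = I.map sX :=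
    ⟨_, inferInstance, Ideal.Quotient.mk (I.map sX), Ideal.mk_ker⟩
  have hπI : ∀ b, π b = 0 ↔ b ∈ I.map sX := fun b => by rw [← hπker, RingHom.mem_ker]
  let χ : Multiplicative M →* B := π.toMonoidHom.comp (MonoidAlgebra.of _ _)
  letI : Algebra (W.residueField x) B := (π.comp MonoidAlgebra.singleOneRingHom).toAlgebra
  let L : B →ₐ[W.residueField x] (B ⊗[W.residueField x] B) := Algebra.TensorProduct.includeLeft
  let R : B →ₐ[W.residueField x] (B ⊗[W.residueField x] B) := Algebra.TensorProduct.includeRight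
  obtain ⟨Z₂, hZ₂, -, τ, hpt⟩ := exists_pt (M := M) x (algebraMap (W.residueField x) (B ⊗[W.residueField x] B))
  obtain ⟨a₁, ha₁, ha₁'⟩ := hpt (L.toRingHom.comp π) fun k => L.commutes k
  obtain ⟨a₂, ha₂, ha₂'⟩ := hpt (R.toRingHom.comp π) fun k => R.commutes k
  let Φ : MonoidAlgebra (W.residueField x) (Multiplicative M) →+* (B ⊗[W.residueField x] B) :=
    MonoidAlgebra.liftNCRingHom (algebraMap (W.residueField x) (B ⊗[W.residueField x] B))
      ((L.toMonoidHom.comp χ) * (R.toMonoidHom.comp χ)) fun _ _ => mul_comm _ _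
  have hΦ : ∀ g k, Φ (MonoidAlgebra.single g k) = k • (χ g ⊗ₜ[W.residueField x] χ g) := by
    intro g k
    refine (MonoidAlgebra.liftNC_single _ _ _ _).trans ?_
    rw [Algebra.smul_def]
    show _ * ((χ g ⊗ₜ[W.residueField x] 1) * (1 ⊗ₜ[W.residueField x] χ g)) = _
    rw [Algebra.TensorProduct.tmul_mul_tmul, _root_.mul_one, _root_.one_mul]
    rfl
  obtain ⟨a₃, ha₃, ha₃'⟩ := hpt Φ fun k => by
    rw [hΦ, map_one]; exact (Algebra.algebraMap_eq_smul_one k).symm
  have h3 : a₁ * a₂ = a₃ := dsFn_injective fun m => by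
    rw [dsFn_mul, ha₁, ha₂, ha₃, ← map_mul, hΦ, one_smul]
    refine congrArg τ ?_
    show (χ _ ⊗ₜ[W.residueField x] 1) * (1 ⊗ₜ[W.residueField x] χ _) = _
    rw [Algebra.TensorProduct.tmul_mul_tmul, _root_.mul_one, _root_.one_mul]
  have hkill : I.map sX ≤ RingHom.ker Φ := by
    refine Ideal.map_le_iff_le_comap.mpr fun b hb => ?_
    have hL : ∀ (F : B →ₐ[W.residueField x] (B ⊗[W.residueField x] B)) (a : Z₂ ⟶ Red.DS W M),
        evalDS (toUnit Z₂) a = τ.toRingHom.comp ((F.toRingHom.comp π).comp sX) → a ≫ q = 1 :=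
      fun F a ha => hI₂ Z₂ a fun c hc => by
        rw [ha]
        show τ (F (π (sX c))) = 0
        rw [show π (sX c) = 0 from (hπI _).mpr (Ideal.mem_map_of_mem _ hc),
          map_zero, map_zero]
    have := hI₁ Z₂ a₃ (by
      rw [← h3, MonObj.mul_comp _ _ q, hL L a₁ ha₁', hL R a₂ ha₂', _root_.one_mul]) b hb
    rw [ha₃'] at this
    show Φ (sX b) = 0
    exact τ.injective (this.trans (map_zero τ).symm)
  have hsum : ∀ {P : Type u} [CommRing P] (F : MonoidAlgebra (W.residueField x) (Multiplicative M) →+* P)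
      (b : Multiplicative M →₀ W.residueField x),
      F (MonoidAlgebra.ofCoeff b) = b.sum fun g c => F (MonoidAlgebra.single g c) := by
    intro P _ F b
    conv_lhs => rw [← MonoidAlgebra.sum_coeff_single (MonoidAlgebra.ofCoeff b)]
    rw [map_finsuppSum]
  have hπ : ∀ g k, π (MonoidAlgebra.single g k) = k • χ g := by
    intro g k
    rw [Algebra.smul_def]
    show _ = π (MonoidAlgebra.single 1 k) * π (MonoidAlgebra.single g 1)
    rw [← map_mul, MonoidAlgebra.single_mul_single, _root_.one_mul, _root_.mul_one]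
  have hrelB : ∀ b : Multiplicative M →₀ W.residueField x, (b.sum fun g c => c • χ g) = 0 →
      (b.sum fun g c => c • (χ g ⊗ₜ[W.residueField x] χ g)) = 0 := by
    intro b hb
    simp only [← hΦ]
    rw [← hsum Φ]
    refine hkill ((hπI _).mp ?_)
    rw [hsum π]
    simpa only [hπ] using hb
  -- the kernel contains the unit
  obtain ⟨Z₀, hZ₀, p₀, τ₀, hpt₀⟩ := exists_pt (M := M) x (π.comp MonoidAlgebra.singleOneRingHom)
  obtain ⟨u₀, hu₀, hu₀'⟩ := hpt₀ π fun _ => rfl
  have hu₀q : u₀ ≫ q = 1 := hI₂ Z₀ u₀ fun v hv => by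
    rw [hu₀']
    show τ₀ (π (sX v)) = 0
    rw [(hπI _).mpr (Ideal.mem_map_of_mem _ hv), map_zero]
  have hne1 : (1 : B) ≠ 0 := by
    intro h
    obtain ⟨Z₁, hZ₁, -, τ₁, hpt₁⟩ := exists_pt (M := M) x (RingHom.id (W.residueField x))
    obtain ⟨t₁, ht₁, ht₁'⟩ := hpt₁ (MonoidAlgebra.liftNCRingHom (RingHom.id _)
      (1 : Multiplicative M →* W.residueField x) fun _ _ => mul_comm _ _) fun k => by
      refine (MonoidAlgebra.liftNC_single _ _ _ _).trans ?_
      rw [map_one, _root_.mul_one]
      rfl
    have h1 : t₁ = 1 := dsFn_injective fun m => by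
      rw [ht₁, dsFn_one]
      refine (congrArg τ₁ ((MonoidAlgebra.liftNC_single _ _ _ _).trans ?_)).trans (map_one τ₁)
      simp
    have hmem : (1 : MonoidAlgebra (W.residueField x) (Multiplicative M)) ∈ I.map sX :=
      (hπI _).mp (by rw [map_one, h])
    have hle : I.map sX ≤ RingHom.ker (τ₁.toRingHom.comp (MonoidAlgebra.liftNCRingHom
        (RingHom.id _) (1 : Multiplicative M →* W.residueField x) fun _ _ => mul_comm _ _)) :=
      Ideal.map_le_iff_le_comap.mpr fun v hv => by
        have h2 := hI₁ Z₁ t₁ (by rw [h1, MonObj.one_comp]) v hv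
        rw [ht₁'] at h2
        exact h2
    have h3 := hle hmem
    rw [RingHom.mem_ker, map_one] at h3
    exact one_ne_zero (τ₁.injective (by rw [map_one, map_zero]; exact h3) : (1 : W.residueField x) = 0)
  have hfwd : ∀ m, CharTriv (W.fromSpecResidueField x) q m → χ (Multiplicative.ofAdd m) = 1 := by
    intro m hm
    apply τ₀.injective
    rw [map_one]
    exact (hu₀ m).symm.trans (hm Z₀ p₀ u₀ hu₀q)
  refine ⟨B, inferInstance, χ, fun m hm => ?_, fun m => ⟨fun hm => ?_, hfwd m⟩,
    fun v hv _ a ha F hF => ?_⟩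
  · rw [← hπI, map_sub, map_one, sub_eq_zero]
    exact hfwd m hm
  · intro Z p t ht
    let ρ : W.residueField x →+* Γ(Z.left, ⊤) :=
      (p.left.appTop.hom).comp (Scheme.ΓSpecIso (W.residueField x)).inv.hom
    let χt : Multiplicative M →* Γ(Z.left, ⊤) :=
      { toFun := fun g => dsFn t (Multiplicative.toAdd g)
        map_one' := dsFn_zero t
        map_mul' := fun a b => dsFn_add t _ _ }
    let ψ : MonoidAlgebra (W.residueField x) (Multiplicative M) →+* Γ(Z.left, ⊤) :=
      MonoidAlgebra.liftNCRingHom ρ χt fun _ _ => mul_comm _ _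
    have hψ : ψ.comp sX = evalDS (toUnit Z) t := by
      refine MonoidAlgebra.ringHom_ext (fun a => ?_) fun g => ?_
      · refine Eq.trans ?_ (evalDS_single _ _ 0 a).symm
        have e : (toUnit Z).left = p.left ≫ W.fromSpecResidueField x :=
          (Category.comp_id _).symm.trans ((Over.w (toUnit Z)).trans (Over.w p).symm)
        rw [dsFn_zero, _root_.mul_one, e, Scheme.Hom.comp_appTop, CommRingCat.comp_apply]
        refine Eq.trans ?_ (congrArg p.left.appTop (fromSpecResidueField_appTop' x a)).symm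
        show ψ (sX _) = _
        simp only [sX, MonoidAlgebra.mapRingHom_single]
        refine (MonoidAlgebra.liftNC_single _ _ _ _).trans ?_
        rw [map_one, _root_.mul_one]
        rfl
      · refine Eq.trans ?_ (evalDS_single _ _ (Multiplicative.toAdd g) 1).symm
        show ψ (sX _) = _
        simp only [sX, MonoidAlgebra.mapRingHom_single, map_one, _root_.one_mul]
        refine (MonoidAlgebra.liftNC_single _ _ _ _).trans ?_
        rw [show ((ρ : W.residueField x →+ Γ(Z.left, ⊤))) 1 = 1 from map_one ρ, _root_.one_mul]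
        rfl
    have hψI : I.map sX ≤ RingHom.ker ψ := Ideal.map_le_iff_le_comap.mpr fun b hb => by
      show ψ (sX b) = 0
      rw [← RingHom.comp_apply, hψ]
      exact hI₁ Z t ht b hb
    have h1 := hψI ((hπI (MonoidAlgebra.single (Multiplicative.ofAdd m) 1 - 1)).mp (by
      rw [map_sub, sub_eq_zero]
      exact hm.trans (map_one π).symm))
    rw [RingHom.mem_ker, map_sub, map_one, sub_eq_zero] at h1
    rw [← h1]
    refine ((MonoidAlgebra.liftNC_single _ _ _ _).trans ?_).symm
    rw [show ((ρ : W.residueField x →+ Γ(Z.left, ⊤))) 1 = 1 from map_one ρ, _root_.one_mul]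
    rfl
  · let vx : Multiplicative M →₀ W.residueField x := v.coeff.mapRange (σ x) (map_zero _)
    have hv0 : (vx.sum fun g c => c • χ g) = 0 := by
      simp only [← hπ]
      rw [← hsum π]
      refine (hπI _).mpr ?_
      have e : MonoidAlgebra.ofCoeff vx = sX v := by
        apply MonoidAlgebra.coeff_injective
        ext g
        simp [vx, sX, σ]
      rw [e]
      exact Ideal.mem_map_of_mem _ hv
    rw [← coset_sum_eq_zero χ hrelB vx hv0 a ha hne1]
    refine (Finset.sum_subset (fun g hg => ?_) fun g hg hg' => ?_).symm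
    · simp only [Finset.mem_filter] at hg ⊢
      exact ⟨hF (Finsupp.support_mapRange hg.1), hg.2⟩
    · simp only [Finset.mem_filter, not_and_or] at hg'
      refine hg'.elim (fun h => ?_) fun h => absurd (Finset.mem_filter.mp hg).2 h
      exact Finsupp.notMem_support_iff.mp h

/-- A character trivial on the kernel at a point is trivial on it near the point. -/
theorem charTriv_nhd (w : W) (m : M) (hw : CharTriv (W.fromSpecResidueField w) q m) :
    ∃ D : W.Opens, w ∈ D ∧ ∀ x, x ∈ D → CharTriv (W.fromSpecResidueField x) q m := by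
  classical
  haveI : IsAffine (𝟙_ (Over W)).left := inferInstanceAs (IsAffine W)
  let Y := 𝟙_ (Over W)
  obtain ⟨I, hI₁, hI₂, -⟩ := exists_kerIdeal q
  by_cases hm0 : m = 0
  · exact ⟨⊤, trivial, fun x _ Z p t _ => by rw [hm0, dsFn_zero]⟩
  let σ : ∀ x : W, Gam Y →+* W.residueField x := evalAt W
  have hsurj : ∀ k : W.residueField w, ∃ a r : Gam Y, σ w r ≠ 0 ∧ k * σ w r = σ w a := by
    intro k
    obtain ⟨z, rfl⟩ := Scheme.residue_surjective W w k
    letI := (W.presheaf.germ ⊤ w trivial).hom.toAlgebra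
    haveI := (isAffineOpen_top W).isLocalization_stalk ⟨w, trivial⟩
    obtain ⟨⟨a, r⟩, hr⟩ := IsLocalization.surj
      ((isAffineOpen_top W).primeIdealOf ⟨w, trivial⟩).asIdeal.primeCompl z
    refine ⟨a, r.1, ((IsLocalization.map_units (W.presheaf.stalk w) r).map (W.residue w).hom).ne_zero, ?_⟩
    have := congrArg (W.residue w) hr
    rw [map_mul] at this
    exact this
  obtain ⟨v, r, hvI, hr, hv⟩ : ∃ (v : DSRing Y M) (r : Gam Y), v ∈ I ∧ σ w r ≠ 0 ∧ ∀ g,
      σ w (v.coeff g) = σ w r * ((if g = Multiplicative.ofAdd m then 1 else 0) - if g = 1 then 1 else 0) := by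
    let sM := MonoidAlgebra.mapRingHom (Multiplicative M) (σ w)
    obtain ⟨B, hB, χ, hmem, -, -⟩ := exists_univ_char q hI₁ hI₂ w
    have hm := hmem m hw
    obtain ⟨v, hv, r, hr, hvr⟩ : ∃ v ∈ I, ∃ r, σ w r ≠ 0 ∧
        sM v = MonoidAlgebra.single 1 (σ w r) * (MonoidAlgebra.single (Multiplicative.ofAdd m) 1 - 1) := by
      unfold Ideal.map at hm
      refine Submodule.span_induction (p := fun x _ => ∃ v ∈ I, ∃ r, σ w r ≠ 0 ∧
        sM v = MonoidAlgebra.single 1 (σ w r) * x) ?_ ?_ ?_ ?_ hm
      · rintro _ ⟨v, hv, rfl⟩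
        exact ⟨v, hv, 1, by simp, by simp [sM, σ, ← MonoidAlgebra.one_def]⟩
      · exact ⟨0, I.zero_mem, 1, by simp, by simp⟩
      · rintro x y - - ⟨v, hv, r, hr, hx⟩ ⟨v', hv', r', hr', hy⟩
        refine ⟨MonoidAlgebra.single 1 r' * v + MonoidAlgebra.single 1 r * v',
          I.add_mem (I.mul_mem_left _ hv) (I.mul_mem_left _ hv'), r * r', by simp [hr, hr'], ?_⟩
        rw [map_add, map_mul, map_mul, hx, hy, MonoidAlgebra.mapRingHom_single,
          MonoidAlgebra.mapRingHom_single, ← _root_.mul_assoc, ← _root_.mul_assoc,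
          MonoidAlgebra.single_mul_single, MonoidAlgebra.single_mul_single, _root_.one_mul, map_mul,
          _root_.mul_comm (σ w r') (σ w r), mul_add]
      · rintro b x - ⟨v, hv, r, hr, hx⟩
        obtain ⟨b', r', hr', hb⟩ : ∃ b' r', σ w r' ≠ 0 ∧ sM b' = MonoidAlgebra.single 1 (σ w r') * b := by
          induction b using MonoidAlgebra.induction_linear with
          | zero => exact ⟨0, 1, by simp, by simp⟩
          | add p p' hp hp' =>
            obtain ⟨b₁, r₁, hr₁, h₁⟩ := hp
            obtain ⟨b₂, r₂, hr₂, h₂⟩ := hp'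
            refine ⟨MonoidAlgebra.single 1 r₂ * b₁ + MonoidAlgebra.single 1 r₁ * b₂, r₁ * r₂,
              by simp [hr₁, hr₂], ?_⟩
            rw [map_add, map_mul, map_mul, h₁, h₂, MonoidAlgebra.mapRingHom_single,
              MonoidAlgebra.mapRingHom_single, ← _root_.mul_assoc, ← _root_.mul_assoc,
              MonoidAlgebra.single_mul_single, MonoidAlgebra.single_mul_single, _root_.one_mul,
              map_mul, _root_.mul_comm (σ w r₂) (σ w r₁), mul_add]
          | single g k =>
            obtain ⟨a, r', hr', hk⟩ := hsurj k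
            refine ⟨MonoidAlgebra.single g a, r', hr', ?_⟩
            rw [MonoidAlgebra.mapRingHom_single, MonoidAlgebra.single_mul_single, _root_.one_mul, ← hk,
              _root_.mul_comm]
        refine ⟨b' * v, I.mul_mem_left _ hv, r' * r, by simp [hr, hr'], ?_⟩
        rw [smul_eq_mul, map_mul, hb, hx, map_mul, _root_.mul_mul_mul_comm,
          MonoidAlgebra.single_mul_single, _root_.one_mul]
    refine ⟨v, r, hv, hr, fun g => ?_⟩
    have := congrArg (fun x => x.coeff g) hvr
    simp only [sM, MonoidAlgebra.coeff_mapRingHom, MonoidAlgebra.coeff_single_one_mul,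
      MonoidAlgebra.coeff_sub, Finsupp.sub_apply, MonoidAlgebra.one_def,
      MonoidAlgebra.coeff_single, Finsupp.single_apply] at this
    rw [this]
    simp only [eq_comm]
  let sets : Finset (Finset (Multiplicative M)) :=
    ((insert (Multiplicative.ofAdd m) v.coeff.support).powerset).filter
      fun T => Multiplicative.ofAdd m ∈ T ∧ (1 : Multiplicative M) ∉ T
  let prd : Gam Y := ∏ T ∈ sets, ∑ g ∈ T, v.coeff g
  refine ⟨W.basicOpen prd, (Scheme.evaluation_ne_zero_iff_mem_basicOpen (U := ⊤) W w trivial prd).mp ?_,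
    fun x hx => ?_⟩
  · show σ w prd ≠ 0
    rw [map_prod]
    refine Finset.prod_ne_zero_iff.mpr fun T hT => ?_
    simp only [sets, Finset.mem_filter] at hT
    rw [map_sum, Finset.sum_congr rfl fun g _ => hv g, ← Finset.mul_sum, Finset.sum_sub_distrib,
      Finset.sum_ite_eq', Finset.sum_ite_eq', if_pos hT.2.1, if_neg hT.2.2, sub_zero, _root_.mul_one]
    exact hr
  -- triviality at `x`
  obtain ⟨B, hB, χ, -, hiff, hsums⟩ := exists_univ_char q hI₁ hI₂ x
  rw [← hiff]
  by_contra hne
  have hx' : σ x prd ≠ 0 :=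
    (Scheme.evaluation_ne_zero_iff_mem_basicOpen (U := ⊤) W x trivial prd).mpr hx
  let T := (insert (Multiplicative.ofAdd m) v.coeff.support).filter
    fun g => χ g = χ (Multiplicative.ofAdd m)
  have hT : T ∈ sets := by
    simp only [sets, Finset.mem_filter, Finset.mem_powerset]
    refine ⟨Finset.filter_subset _ _, Finset.mem_filter.mpr ⟨Finset.mem_insert_self _ _, rfl⟩,
      fun h1 => hne ?_⟩
    rw [← (Finset.mem_filter.mp h1).2, map_one]
  rw [map_prod] at hx'
  refine Finset.prod_ne_zero_iff.mp hx' T hT ?_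
  rw [map_sum]
  exact hsums v hvI _ ⟨_, rfl⟩ _ (Finset.subset_insert _ _)

/-- Over a residue field the kernel is cut out by the characters trivial on it. -/
theorem comp_eq_one_of_charTriv (x : W) (Z : Over W) [IsAffine Z.left]
    (p : Z ⟶ Over.mk (W.fromSpecResidueField x)) (t : Z ⟶ Red.DS W M)
    (ht : ∀ m, CharTriv (W.fromSpecResidueField x) q m → dsFn t m = 1) : t ≫ q = 1 := by
  classical
  haveI : IsAffine (𝟙_ (Over W)).left := inferInstanceAs (IsAffine W)
  obtain ⟨I, hI₁, hI₂, -⟩ := exists_kerIdeal q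
  obtain ⟨B, hB, χ, -, hiff, hsums⟩ := exists_univ_char q hI₁ hI₂ x
  refine hI₂ Z t fun v hv => ?_
  let ρ : W.residueField x →+* Γ(Z.left, ⊤) :=
    (p.left.appTop.hom).comp (Scheme.ΓSpecIso (W.residueField x)).inv.hom
  have hz : ∀ a, (toUnit Z).left.appTop a = ρ (evalAt W x a) := by
    intro a
    have e : (toUnit Z).left = p.left ≫ W.fromSpecResidueField x :=
      (Category.comp_id _).symm.trans ((Over.w (toUnit Z)).trans (Over.w p).symm)
    rw [e, Scheme.Hom.comp_appTop, CommRingCat.comp_apply]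
    exact congrArg p.left.appTop (fromSpecResidueField_appTop' x a)
  have hconst : ∀ g g₀, χ g = χ g₀ →
      dsFn t (Multiplicative.toAdd g) = dsFn t (Multiplicative.toAdd g₀) := by
    intro g g₀ h
    have h1 : χ (g * g₀⁻¹) = 1 := by
      rw [map_mul, h, ← map_mul, mul_inv_cancel, map_one]
    have h2 := ht (Multiplicative.toAdd g - Multiplicative.toAdd g₀) ((hiff _).mp (by
      rw [← toAdd_div, ofAdd_toAdd, div_eq_mul_inv]; exact h1))
    rw [← _root_.one_mul (dsFn t (Multiplicative.toAdd g₀)), ← h2, ← dsFn_add, sub_add_cancel]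
  rw [evalDS_eq_sum, Finsupp.sum, ← Finset.sum_fiberwise_of_maps_to (t := v.coeff.support.image χ)
    (g := χ) (fun g hg => Finset.mem_image_of_mem χ hg)]
  refine Finset.sum_eq_zero fun a ha => ?_
  obtain ⟨g₀, -, rfl⟩ := Finset.mem_image.mp ha
  rw [Finset.sum_congr rfl fun g hg => by rw [hz, hconst g g₀ (Finset.mem_filter.mp hg).2],
    ← Finset.sum_mul, ← map_sum, hsums v hv _ ⟨g₀, rfl⟩ _ subset_rfl, map_zero, zero_mul]

/-- The characters trivial on the kernel. -/
def charTrivSubgroup {T : Scheme.{u}} (ψ : T ⟶ W) : AddSubgroup M where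
  carrier := {m | CharTriv ψ q m}
  zero_mem' := fun _ _ t _ => dsFn_zero t
  add_mem' := fun {a b} ha hb Z p t ht => by
    rw [dsFn_add, ha Z p t ht, hb Z p t ht, _root_.one_mul]
  neg_mem' := fun {a} ha Z p t ht => by
    have e := dsFn_add t (-a) a
    rw [ha Z p t ht, neg_add_cancel, dsFn_zero, _root_.mul_one] at e
    exact e.symm

/-- For a diagonalisable group over an affine base, the kernel is trivial near a point where it is
trivial. -/
theorem kerTriv_nhd (hM : AddGroup.FG M) (w : W) (hw : KerTriv (W.fromSpecResidueField w) q) :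
    ∃ D : W.Opens, w ∈ D ∧ ∀ x, x ∈ D → KerTriv (W.fromSpecResidueField x) q := by
  classical
  obtain ⟨gens, hgens⟩ : ∃ s : Finset M, AddSubgroup.closure (s : Set M) = ⊤ := hM.out
  choose D hwD hD using fun m => charTriv_nhd q w m fun Z p t ht => by rw [hw Z p t ht, dsFn_one]
  refine ⟨gens.inf D, ?_, fun x hx Z p t ht => dsFn_injective fun m => ?_⟩
  · rw [← SetLike.mem_coe, TopologicalSpace.Opens.coe_finset_inf]
    simp only [Finset.inf_set_eq_iInter, Set.mem_iInter, Function.comp_apply, SetLike.mem_coe]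
    exact fun m _ => hwD m
  · have hN : charTrivSubgroup q (W.fromSpecResidueField x) = ⊤ := by
      rw [eq_top_iff, ← hgens, AddSubgroup.closure_le]
      intro k hk
      exact hD k x ((Finset.inf_le hk : gens.inf D ≤ D k) hx)
    rw [dsFn_one]
    exact (show m ∈ charTrivSubgroup q (W.fromSpecResidueField x) from hN ▸ AddSubgroup.mem_top m) Z p t ht

end KernelChar

/-- A flat surjective map such that every affine open is the image of a quasi-compact open detects
open subsets. -/
theorem isOpen_of_preimage {X Y : Scheme.{u}} (f : X ⟶ Y) [Flat f]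
    (hqc : ∀ V : Y.Opens, IsAffineOpen V →
      ∃ W : X.Opens, IsCompact (W : Set X) ∧ f.base '' (W : Set X) = (V : Set Y))
    {L : Set Y} (hL : IsOpen (f.base ⁻¹' L)) : IsOpen L := by
  rw [isOpen_iff_forall_mem_open]
  intro y hy
  obtain ⟨V, hV, hyV, -⟩ := exists_isAffineOpen_mem_and_subset (x := y) (U := (⊤ : Y.Opens)) trivial
  obtain ⟨W, hWc, himg⟩ := hqc V hV
  have hle : W ≤ f ⁻¹ᵁ V := fun x hx => by
    show f x ∈ (V : Set Y)
    rw [← himg]; exact ⟨x, hx, rfl⟩
  let g := f.resLE V W hle
  haveI : Surjective g := ⟨fun v => by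
    obtain ⟨x, hx, hxv⟩ := himg.ge v.2
    exact ⟨⟨x, hx⟩, Subtype.ext (by rw [← hxv]; simp [g])⟩⟩
  haveI : CompactSpace (W : Scheme.{u}) := isCompact_iff_compactSpace.mp hWc
  haveI : IsAffine (V : Scheme.{u}) := hV
  haveI : QuasiCompact g := (quasiCompact_iff_compactSpace g).mpr inferInstance
  refine ⟨V.ι '' (V.ι ⁻¹' L), Set.image_preimage_subset _ _, ?_, ⟨⟨y, hyV⟩, hy, rfl⟩⟩
  refine V.ι.isOpenEmbedding.isOpenMap _ ((Flat.isQuotientMap_of_surjective g).isOpen_preimage.mp ?_)
  rw [← Set.preimage_comp, ← TopCat.coe_comp, ← Scheme.Hom.comp_base, Scheme.Hom.resLE_comp_ι,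
    Scheme.Hom.comp_base, TopCat.coe_comp, Set.preimage_comp]
  exact hL.preimage W.ι.continuous

theorem kerTriv_residue_iff {W : Scheme.{u}} (φ : W ⟶ S) (w : W) {H G : Over S} [GrpObj H]
    [GrpObj G] (u : H ⟶ G) :
    KerTriv (W.fromSpecResidueField w ≫ φ) u ↔ KerTriv (S.fromSpecResidueField (φ w)) u := by
  refine ⟨fun h => ?_, fun h => h.of_comp _ (Scheme.Hom.SpecMap_residueFieldMap_fromSpecResidueField φ w)⟩
  letI := (φ.residueFieldMap w).hom.toAlgebra
  haveI : Flat (Spec.map (φ.residueFieldMap w)) := by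
    rw [HasRingHomProperty.Spec_iff (P := @Flat)]
    exact (inferInstance : Module.Flat (S.residueField (φ w)) (W.residueField w))
  haveI : Surjective (Spec.map (φ.residueFieldMap w)) :=
    ⟨fun _ => ⟨default, Subsingleton.elim _ _⟩⟩
  refine KerTriv.descend (Spec.map (φ.residueFieldMap w)) ?_
  rw [Scheme.Hom.SpecMap_residueFieldMap_fromSpecResidueField]
  exact h

/-- Triviality of the kernel of a homomorphism, tested after a base change and an isomorphism of
the source. -/
theorem kerTriv_bc_iff {W T : Scheme.{u}} (φ : W ⟶ S) (ψ : T ⟶ W) {H G : Over S} [GrpObj H]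
    [GrpObj G] (u : H ⟶ G) {D : Over W} [GrpObj D] (a : D ⟶ Red.bc φ H) [IsMonHom a] [Mono a]
    (hs : ∀ (X : Over W) (h : X ⟶ Red.bc φ H), ∃ t, t ≫ a = h) :
    KerTriv ψ (a ≫ (Over.pullback φ).map u) ↔ KerTriv (ψ ≫ φ) u := by
  constructor
  · intro hk Z p h hu
    obtain ⟨α, -⟩ := exists_over_iso φ (p.left ≫ ψ) (by rw [Category.assoc]; exact Over.w p)
    obtain ⟨t, ht⟩ := hs _ (ofBase φ (α.hom ≫ h))
    have ht1 : t = 1 := hk _ (Over.homMk p.left rfl) t (by
      rw [← Category.assoc, ht]
      apply toBase_injective φ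
      rw [toBase_comp_map, toBase_ofBase, Category.assoc, hu, MonObj.comp_one, toBase_one])
    rw [ht1, MonObj.one_comp] at ht
    have e := congrArg (toBase φ) ht
    rw [toBase_ofBase, toBase_one] at e
    rw [← cancel_epi α.hom, MonObj.comp_one]
    exact e.symm
  · intro hk Z p t ht
    have h1 : toBase φ (t ≫ a) = 1 := hk _ (Over.homMk p.left (by
        show p.left ≫ ψ ≫ φ = Z.hom ≫ φ
        rw [← Category.assoc]; exact congrArg (· ≫ φ) (Over.w p))) _ (by
      rw [← toBase_comp_map, Category.assoc, ht, toBase_one])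
    rw [← cancel_mono a, MonObj.one_comp]
    apply toBase_injective φ
    rw [h1, toBase_one]

/-- The points over which a homomorphism from a group of multiplicative type of finite type to a
separated group is a monomorphism form an open set. -/
theorem isOpen_monoLocus {H G : Over S} [GrpObj H] [GrpObj G] (hH : SGA3x.IsMultTypeFT H)
    [IsSeparated G.hom] (u : H ⟶ G) [IsMonHom u] :
    IsOpen {s : S | Mono ((Over.pullback (S.fromSpecResidueField s)).map u).left} := by
  obtain ⟨S', f, hf, hsf, hqc, hloc⟩ := hH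
  haveI := hf
  simp_rw [mono_iff_kerTriv]
  refine isOpen_of_preimage f hqc (isOpen_iff_forall_mem_open.mpr fun p hp => ?_)
  obtain ⟨U, hpU, M, _, hM, ⟨e⟩⟩ := hloc p
  obtain ⟨V, hV, hpV, hVU⟩ := exists_isAffineOpen_mem_and_subset hpU
  haveI : IsAffine (V : Scheme.{u}) := hV
  obtain ⟨a, ha, hm, hsa⟩ := exists_ds_cover_mono (S'.homOfLE (show V ≤ U from hVU)) (U.ι ≫ f)
    (V.ι ≫ f) (by simp) e
  haveI : IsSeparated (Red.bc (V.ι ≫ f) G).hom :=
    inferInstanceAs (IsSeparated (pullback.snd G.hom (V.ι ≫ f)))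
  let q := a ≫ (Over.pullback (V.ι ≫ f)).map u
  have key : ∀ v : V, KerTriv ((V : Scheme.{u}).fromSpecResidueField v) q ↔
      KerTriv (S.fromSpecResidueField (f v.1)) u := fun v => by
    rw [kerTriv_bc_iff _ _ _ a hsa, kerTriv_residue_iff]
    rfl
  obtain ⟨D, hpD, hD⟩ := kerTriv_nhd q hM ⟨p, hpV⟩ ((key ⟨p, hpV⟩).mpr hp)
  refine ⟨V.ι '' (D : Set (V : Scheme.{u})), ?_, V.ι.isOpenEmbedding.isOpenMap _ D.2,
    ⟨⟨p, hpV⟩, hpD, rfl⟩⟩
  rintro _ ⟨v, hv, rfl⟩
  exact (key v).mp (hD v hv)

/-- A homomorphism from a group of multiplicative type of finite type to a separated group whose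
fibre at a point is a monomorphism is a monomorphism near this point. -/
theorem exists_nhd_mono {H G : Over S} [GrpObj H] [GrpObj G] (hH : SGA3x.IsMultTypeFT H)
    [IsSeparated G.hom] (hG : IsLocallyNoetherian S ∨ LocallyOfFinitePresentation G.hom)
    (u : H ⟶ G) [IsMonHom u] (s : S)
    (hs : Mono ((Over.pullback (S.fromSpecResidueField s)).map u).left) :
    ∃ U : S.Opens, s ∈ U ∧ Mono ((Over.pullback U.ι).map u).left := by
  refine ⟨⟨_, isOpen_monoLocus hH u⟩, hs, ?_⟩
  set U : S.Opens := ⟨_, isOpen_monoLocus hH u⟩ with hU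
  have hG' : IsLocallyNoetherian (U : Scheme.{u}) ∨
      LocallyOfFinitePresentation (Red.bc U.ι G).hom := by
    rcases hG with h | h
    · exact .inl (isLocallyNoetherian_of_isOpenImmersion U.ι)
    · exact .inr (MorphismProperty.pullback_snd (P := @LocallyOfFinitePresentation) _ _ h)
  refine Groth.Agent.S5261.result (Red.bc U.ι H) (Red.bc U.ι G) (isMultTypeFT_bc _ hH) hG' _
    fun x => ?_
  have hx : Mono ((Over.pullback (S.fromSpecResidueField x.1)).map u).left := x.2
  rw [mono_iff_kerTriv] at hx ⊢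
  rw [show (Over.pullback U.ι).map u = 𝟙 _ ≫ (Over.pullback U.ι).map u from (Category.id_comp _).symm,
    kerTriv_bc_iff _ _ _ (𝟙 (Red.bc U.ι H)) (fun X h => ⟨h, Category.comp_id h⟩), kerTriv_residue_iff]
  exact hx

end Groth.Agent.RedPts82
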