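import Groth.Agent.RedPts82.Normalizer
import Groth.Agent.SGA3a.GrpSep
import Mathlib.AlgebraicGeometry.Morphisms.FlatMono

/-!
Open and closed loci defined by groups of multiplicative type.
-/

universe u

open CategoryTheory MonoidalCategory CartesianMonoidalCategory MonObj GrpObj AlgebraicGeometry
open CategoryTheory.Limits

namespace Groth.Agent.RedPts82

variable {S : Scheme.{u}}

/-- A closed immersion of finite presentation to which points lift along ideals of square zero is
open. -/
theorem isOpenImmersion_of_lifts {C X : Over S} (c : C ⟶ X) [IsClosedImmersion c.left]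
    [LocallyOfFinitePresentation c.left]
    (H : ∀ (T : Over S) [IsAffine T.left] (J : Ideal (Gam T)), J * J = ⊥ → ∀ g : T ⟶ X,
      (∃ z, z ≫ c = redMap T J ≫ g) → ∃ z, z ≫ c = g) : IsOpenImmersion c.left := by
  haveI : Smooth c.left := by
    refine IsZariskiLocalAtTarget.of_openCover (P := @Smooth) X.left.affineCover fun i => ?_
    let f := X.left.affineCover.f i
    let C' : Over (X.left.affineCover.X i) := Over.mk (pullback.snd c.left f)
    haveI : IsClosedImmersion C'.hom := MorphismProperty.pullback_snd (P := @IsClosedImmersion) _ _ ‹_›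
    haveI : LocallyOfFinitePresentation C'.hom :=
      MorphismProperty.pullback_snd (P := @LocallyOfFinitePresentation) _ _ ‹_›
    haveI : IsAffine C'.left := isAffine_of_isAffineHom C'.hom
    show Smooth C'.hom
    refine smooth_of_lifts fun T _ J hJ g₀ => ?_
    let T' : Over S := Over.mk (T.hom ≫ f ≫ X.hom)
    haveI : IsAffine T'.left := inferInstanceAs (IsAffine T.left)
    let g : T' ⟶ X := Over.homMk (T.hom ≫ f) (Category.assoc _ _ _)
    obtain ⟨z, hz⟩ := H T' J hJ g ⟨Over.homMk (g₀.left ≫ pullback.fst c.left f) (by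
        have h1 : g₀.left ≫ pullback.snd c.left f = (redObj T J).hom := Over.w g₀
        refine Eq.trans ?_ ((congrArg (· ≫ f ≫ X.hom) h1).trans (Category.assoc _ _ _))
        rw [← Over.w c]
        simp only [Category.assoc, pullback.condition_assoc]
        rfl), Over.OverMorphism.ext (by
        have h1 : g₀.left ≫ pullback.snd c.left f = (redObj T J).hom := Over.w g₀
        show (g₀.left ≫ pullback.fst c.left f) ≫ c.left = (redMap T J).left ≫ T.hom ≫ f
        rw [Category.assoc, pullback.condition, reassoc_of% h1, ← Over.w (redMap T J),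
          Category.assoc])⟩
    refine ⟨Over.homMk (pullback.lift z.left T.hom (congrArg CommaMorphism.left hz))
      (pullback.lift_snd _ _ _), ?_⟩
    haveI : Mono C'.hom := inferInstance
    apply Over.OverMorphism.ext
    rw [← cancel_mono C'.hom, Over.w g₀]
    exact Over.w _
  exact IsOpenImmersion.of_flat_of_mono c.left

/-- Equality of morphisms can be checked on an affine open cover. -/
theorem hom_ext_of_nhds {X P : Over S} (a b : X ⟶ P)
    (H : ∀ x : X.left, ∃ V : X.left.Opens, x ∈ V ∧ V.ι ≫ a.left = V.ι ≫ b.left) : a = b := by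
  choose V hV he using H
  have hcov : TopologicalSpace.IsOpenCover V := by
    rw [TopologicalSpace.IsOpenCover, eq_top_iff]
    exact fun x _ => TopologicalSpace.Opens.mem_iSup.mpr ⟨x, hV x⟩
  exact Over.OverMorphism.ext (Scheme.Cover.hom_ext (X.left.openCoverOfIsOpenCover V hcov) _ _ he)

/-- Equality of morphisms can be checked on affine schemes over the members of a flat cover. -/
theorem hom_ext_of_cover {S' : Scheme.{u}} (f : S' ⟶ S) [Flat f] [Surjective f]
    (W : S' → S'.Opens) (hW : ∀ s', s' ∈ W s') {X P : Over S} (a b : X ⟶ P)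
    (H : ∀ (s' : S') (Z : Over (W s' : Scheme.{u})) [IsAffine Z.left]
      (y : (Over.map ((W s').ι ≫ f)).obj Z ⟶ X), y ≫ a = y ≫ b) : a = b := by
  let X' : Over S := Over.mk (pullback.fst X.hom f ≫ X.hom)
  let q : X' ⟶ X := Over.homMk (pullback.fst X.hom f) rfl
  haveI : Epi q.left := Flat.epi_of_flat_of_surjective (pullback.fst X.hom f)
  haveI : Epi q := (Over.forget S).epi_of_epi_map (f := q) ‹_›
  rw [← cancel_epi q]
  refine hom_ext_of_nhds _ _ fun x => ?_
  let w := pullback.snd X.hom f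
  obtain ⟨V, hV, hxV, hVW⟩ := exists_isAffineOpen_mem_and_subset (x := x)
    (U := w ⁻¹ᵁ W (w x)) (hW (w x))
  refine ⟨V, hxV, ?_⟩
  have hr : Set.range (V.ι ≫ w).base ⊆ Set.range (W (w x)).ι.base := by
    rintro _ ⟨v, rfl⟩
    exact ⟨⟨_, hVW v.2⟩, rfl⟩
  let Z : Over (W (w x) : Scheme.{u}) := Over.mk (IsOpenImmersion.lift (W (w x)).ι (V.ι ≫ w) hr)
  haveI : IsAffine Z.left := hV
  let y : (Over.map ((W (w x)).ι ≫ f)).obj Z ⟶ X := Over.homMk (V.ι ≫ pullback.fst X.hom f) (by
    show (V.ι ≫ _) ≫ X.hom = IsOpenImmersion.lift _ _ hr ≫ (W (w x)).ι ≫ f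
    rw [IsOpenImmersion.lift_fac_assoc, Category.assoc, Category.assoc, pullback.condition])
  exact congrArg CommaMorphism.left (H (w x) Z y)

section Split

variable [IsAffine S] {G : Over S} [GrpObj G] {M : Type} [AddCommGroup M]

/-- A homomorphism trivial modulo an ideal of square zero is trivial. -/
theorem rigid_one (w : Red.DS S M ⟶ G) [IsMonHom w] {T : Over S} [IsAffine T.left]
    {J : Ideal (Gam T)} (hJ : J * J = ⊥)
    (h : ∀ (Z : Over S) (_ : Z ⟶ redObj T J) (t : Z ⟶ Red.DS S M), t ≫ w = 1)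
    {Z : Over S} (x : Z ⟶ T) (t : Z ⟶ Red.DS S M) : t ≫ w = 1 := by
  refine hom_ext_of_nhds _ _ fun z => ?_
  let p : T ⟶ G := 1
  obtain ⟨U, hU, hpU, -⟩ := exists_isAffineOpen_mem_and_subset (x := p.left (x.left z))
    (U := (⊤ : G.left.Opens)) trivial
  obtain ⟨V, hV, hxV, hVU⟩ := exists_isAffineOpen_mem_and_subset (x := x.left z)
    (U := p.left ⁻¹ᵁ U) hpU
  refine ⟨x.left ⁻¹ᵁ V, hxV, ?_⟩
  let Z' : Over S := Over.mk ((x.left ⁻¹ᵁ V).ι ≫ Z.hom)
  let i : Z' ⟶ Z := Over.homMk (x.left ⁻¹ᵁ V).ι rfl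
  suffices i ≫ t ≫ w = i ≫ 1 from congrArg CommaMorphism.left this
  let T' : Over S := Over.mk (V.ι ≫ T.hom)
  let k : T' ⟶ T := Over.homMk V.ι rfl
  haveI : IsAffine T'.left := hV
  let x' : Z' ⟶ T' := Over.homMk (x.left ∣_ V) (by
    show (x.left ∣_ V) ≫ V.ι ≫ T.hom = (x.left ⁻¹ᵁ V).ι ≫ Z.hom
    rw [morphismRestrict_ι_assoc, Over.w x])
  let J' : Ideal (Gam T') := J.map k.left.appTop.hom
  have hJ' : J' * J' = ⊥ := by rw [← Ideal.map_mul, hJ, Ideal.map_bot]
  obtain ⟨v, -⟩ := exists_redMap_comp (J := J') k fun a ha => Ideal.mem_map_of_mem _ ha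
  let Xu : Over S := Over.mk (U.ι ≫ G.hom)
  let j : Xu ⟶ G := Over.homMk U.ι rfl
  haveI : IsAffine Xu.left := hU
  haveI : IsOpenImmersion j.left := inferInstanceAs (IsOpenImmersion U.ι)
  have hr : Set.range (V.ι ≫ p.left).base ⊆ Set.range U.ι.base := by
    rintro _ ⟨a, rfl⟩
    exact ⟨⟨_, hVU a.2⟩, rfl⟩
  let g : T' ⟶ Xu := Over.homMk (IsOpenImmersion.lift U.ι (V.ι ≫ p.left) hr) (by
    show IsOpenImmersion.lift _ _ hr ≫ U.ι ≫ G.hom = V.ι ≫ T.hom
    rw [IsOpenImmersion.lift_fac_assoc, Category.assoc, Over.w p])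
  have hgj : g ≫ j = 1 := by
    refine Eq.trans (Over.OverMorphism.ext ?_) (MonObj.comp_one k)
    exact IsOpenImmersion.lift_fac _ _ _
  let act : Red.DS S M ⊗ G ⟶ G := (fst _ _ ≫ w) * snd _ _
  obtain ⟨q, hq⟩ := exists_redMap_comp (J := upIdeal T' M J') (J' := J') (polyProj T' M)
    fun a ha => Ideal.mem_map_of_mem _ ha
  obtain ⟨c, -, hfix⟩ := exists_fixed_lift act (fun Y a b r => by
      simp only [act, MonObj.comp_mul, lift_fst_assoc, lift_snd, MonObj.mul_comp, _root_.mul_assoc])
    j hJ' g (by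
      simp only [act, hgj, MonObj.comp_one, MonObj.comp_mul, lift_fst_assoc, lift_snd,
        _root_.mul_one]
      exact (Category.assoc _ _ _).symm.trans
        (h _ (q ≫ v) (redMap (polyDS T' M) (upIdeal T' M J') ≫ polyTu T' M)))
  have h1 := hfix Z' x' (i ≫ t)
  simp only [act, MonObj.comp_mul, lift_fst_assoc, lift_snd, Category.assoc] at h1
  rw [MonObj.comp_one]
  exact mul_eq_right.mp h1

/-- A point normalising a diagonalisable subgroup and centralising it modulo an ideal of square zero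
centralises it. -/
theorem rigid_centralizer (q : Red.DS S M ⟶ G) [IsMonHom q] [Mono q] {T : Over S} [IsAffine T.left]
    {J : Ideal (Gam T)} (hJ : J * J = ⊥) (g : T ⟶ G)
    (hn : ∀ (Z : Over S) (x : Z ⟶ T) (t : Z ⟶ Red.DS S M),
      ∃ t', (x ≫ g) * (t ≫ q) * (x ≫ g)⁻¹ = t' ≫ q)
    (h : ∀ (Z : Over S) (x : Z ⟶ redObj T J) (t : Z ⟶ Red.DS S M),
      (x ≫ redMap T J ≫ g) * (t ≫ q) = (t ≫ q) * (x ≫ redMap T J ≫ g))
    {Z : Over S} (x : Z ⟶ T) (t : Z ⟶ Red.DS S M) : (x ≫ g) * (t ≫ q) = (t ≫ q) * (x ≫ g) := by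
  obtain ⟨f, hf⟩ := hn _ (fst T (Red.DS S M)) (snd _ _)
  have hf' : ∀ {Z : Over S} (z : Z ⟶ T) (t : Z ⟶ Red.DS S M),
      (CartesianMonoidalCategory.lift z t ≫ f) ≫ q = (z ≫ g) * (t ≫ q) * (z ≫ g)⁻¹ := fun z t => by
    rw [Category.assoc, ← hf]
    simp only [MonObj.comp_mul, GrpObj.comp_inv, lift_fst_assoc, lift_snd_assoc]
  have e : f = snd T (Red.DS S M) := by
    refine IsRelHom.eq_of_congr hJ (fun Z z t t' => ?_) (fun Z z t t' => ?_) fun Z z t => ?_
    · rw [← cancel_mono q]
      simp only [MonObj.mul_comp, hf']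
      group
    · simp only [lift_snd]
    · rw [← cancel_mono q, hf', lift_snd, Category.assoc, mul_inv_eq_iff_eq_mul]
      exact h Z z t
  have := hf' x t
  rw [e, lift_snd] at this
  exact (eq_mul_inv_iff_mul_eq.mp this).symm

end Split

/-- Points over a closed subobject, seen over the base. -/
theorem exists_red_map {W : Scheme.{u}} (φ : W ⟶ S) {T : Over S} [IsAffine T.left] {Z : Over W}
    [IsAffine Z.left] (y : (Over.map φ).obj Z ⟶ T) (J : Ideal (Gam T)) :
    ∃ v : (Over.map φ).obj (redObj Z (J.map y.left.appTop.hom)) ⟶ redObj T J,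
      v ≫ redMap T J = (Over.map φ).map (redMap Z (J.map y.left.appTop.hom)) ≫ y := by
  haveI : IsAffine ((Over.map φ).obj Z).left := inferInstanceAs (IsAffine Z.left)
  let J₁ : Ideal (Gam ((Over.map φ).obj Z)) := J.map y.left.appTop.hom
  obtain ⟨v, hv⟩ := exists_redMap_comp (J := J₁) (J' := J) y fun a ha => Ideal.mem_map_of_mem _ ha
  let e : (Over.map φ).obj (redObj Z (J.map y.left.appTop.hom)) ⟶
      redObj ((Over.map φ).obj Z) J₁ := Over.homMk (𝟙 _) (by
    refine (Category.id_comp _).trans ?_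
    exact (Category.assoc _ _ _).symm)
  refine ⟨e ≫ v, ?_⟩
  rw [Category.assoc, hv, ← Category.assoc]
  congr 1

/-- The locus of triviality of a homomorphism from a group of multiplicative type to a separated
group is open and closed. -/
theorem exists_trivial_locus_of_noetherian {H G : Over S} [GrpObj H] [GrpObj G] (hH : IsMultType H)
    [IsSeparated G.hom] [hS : IsLocallyNoetherian S] (u : H ⟶ G)
    [IsMonHom u] :
    ∃ U : S.Opens, IsClosed (U : Set S) ∧
      (∀ s : S, s ∈ U ↔ Kills (S.fromSpecResidueField s) u) ∧ Kills U.ι u := by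
  haveI := isMultType_isAffineHom hH
  haveI : IsClosedImmersion η[G].left := by
    haveI : IsClosedImmersion (η[G].left ≫ G.hom) := by
      rw [Over.w η[G]]
      exact inferInstanceAs (IsClosedImmersion (𝟙 S))
    exact IsClosedImmersion.of_comp η[G].left G.hom
  obtain ⟨C, c, hc, hC, hfp⟩ := exists_transporter_fp (isEssentiallyFree_of_isMultType hH)
    (snd (𝟙_ (Over S)) H ≫ u) η[G]
  have hC' : ∀ (X : Over S), Nonempty (X ⟶ C) ↔
      ∀ (X' : Over S) (_ : X' ⟶ X) (h : X' ⟶ H), h ≫ u = 1 := by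
    intro X
    constructor
    · rintro ⟨z⟩ X' x h
      obtain ⟨x', hx'⟩ := (hC X (toUnit X)).mp ⟨z, toUnit_unique _ _⟩ X' x h
      rw [lift_snd_assoc] at hx'
      rw [hx', Hom.one_def, toUnit_unique x' (toUnit X')]
    · intro h
      obtain ⟨z, -⟩ := (hC X (toUnit X)).mpr fun X' x a => ⟨toUnit X', by
        rw [lift_snd_assoc, h X' x a, Hom.one_def]⟩
      exact ⟨z⟩
  haveI : LocallyOfFinitePresentation c.left := by
    haveI : IsLocallyNoetherian (𝟙_ (Over S)).left := hS
    exact LocallyOfFinitePresentation.iff_locallyOfFiniteType.mpr inferInstance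
  haveI hopen : IsOpenImmersion c.left := isOpenImmersion_of_lifts c fun T _ J hJ g ⟨z, hz⟩ => by
    suffices Nonempty (T ⟶ C) from this.elim fun z => ⟨z, toUnit_unique _ _⟩
    refine (hC' T).mpr fun X' x h => ?_
    have h0 := (hC' _).mp ⟨z⟩
    obtain ⟨S', f, hf, hs, hqc, hloc⟩ := hH
    choose U₀ hU₀ M hM he using hloc
    choose W hW hsW hWU using fun s' => exists_isAffineOpen_mem_and_subset (hU₀ s')
    refine hom_ext_of_cover f W hsW _ _ fun s' Z _ y => ?_
    obtain ⟨e⟩ := he s'
    haveI : IsAffine (W s' : Scheme.{u}) := hW s'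
    let φ : (W s' : Scheme.{u}) ⟶ S := (W s').ι ≫ f
    obtain ⟨a, ha, hsurj⟩ :=
      exists_ds_cover (S'.homOfLE (hWU s')) ((U₀ s').ι ≫ f) φ (by simp [φ]) e
    haveI : IsSeparated (Red.bc φ G).hom :=
      MorphismProperty.pullback_snd (P := @IsSeparated) _ _ ‹_›
    obtain ⟨t, ht⟩ := hsurj Z (ofBase φ (y ≫ h))
    obtain ⟨v, -⟩ := exists_red_map φ (y ≫ x) J
    have hJ' : J.map (y ≫ x).left.appTop.hom * J.map (y ≫ x).left.appTop.hom = ⊥ := by
      rw [← Ideal.map_mul, hJ, Ideal.map_bot]
    have h1 := rigid_one (a ≫ (Over.pullback φ).map u) hJ' (fun Z' z t' => by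
      apply toBase_injective φ
      rw [← Category.assoc, toBase_comp_map, toBase_one]
      exact h0 _ ((Over.map φ).map z ≫ v) _) (𝟙 Z) t
    have h2 := congrArg (toBase φ) h1
    rw [← Category.assoc, toBase_comp_map, ht, toBase_ofBase, toBase_one, Category.assoc] at h2
    rw [MonObj.comp_one]
    exact h2
  refine ⟨c.left.opensRange, c.left.isClosedEmbedding.isClosed_range, fun s => ⟨fun hs => ?_, ?_⟩,
    ?_⟩
  · intro Z k hk t
    let R : Over S := Over.mk (S.fromSpecResidueField s)
    have hr : Set.range (S.fromSpecResidueField s).base ⊆ Set.range c.left.base := by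
      rw [Scheme.range_fromSpecResidueField]
      simpa using hs
    have hw : c.left = C.hom := (Category.comp_id _).symm.trans (Over.w c)
    let z : R ⟶ C := Over.homMk (IsOpenImmersion.lift c.left (S.fromSpecResidueField s) hr) (by
      rw [← hw]; exact IsOpenImmersion.lift_fac _ _ _)
    exact (hC' R).mp ⟨z⟩ Z (Over.homMk k hk) t
  · intro hk
    let R : Over S := Over.mk (S.fromSpecResidueField s)
    obtain ⟨z⟩ := (hC' R).mpr fun Z x t => hk Z x.left (Over.w x) t
    refine ⟨z.left (IsLocalRing.closedPoint _), ?_⟩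
    have hw : c.left = C.hom := (Category.comp_id _).symm.trans (Over.w c)
    refine Eq.trans ?_ (S.fromSpecResidueField_apply s (IsLocalRing.closedPoint _))
    show c.left (z.left _) = _
    rw [← Scheme.Hom.comp_apply, hw, Over.w z]
    rfl
  · intro Z k hk t
    have hw : c.left = C.hom := (Category.comp_id _).symm.trans (Over.w c)
    let z : Z ⟶ C := Over.homMk (k ≫ c.left.isoOpensRange.inv) (by
      rw [← hw, Category.assoc, Scheme.Hom.isoOpensRange_inv_comp]
      exact hk)
    exact (hC' Z).mp ⟨z⟩ Z (𝟙 Z) t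

/-- The locus of triviality of a homomorphism from a group of multiplicative type to a separated
group is open and closed, as soon as its kernel is cut out by a closed immersion of finite
presentation. -/
theorem exists_trivial_locus_of_fp {H G P Y : Over S} [GrpObj H] [GrpObj G] (hH : IsMultType H)
    [IsSeparated G.hom] (u : H ⟶ G) [IsMonHom u] (Φ : H ⟶ P) (y : Y ⟶ P) [IsClosedImmersion y.left]
    [LocallyOfFinitePresentation y.left]
    (hy : ∀ (X : Over S) (h : X ⟶ H), (∃ z, h ≫ Φ = z ≫ y) ↔ h ≫ u = 1) :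
    ∃ U : S.Opens, IsClosed (U : Set S) ∧
      (∀ s : S, s ∈ U ↔ Kills (S.fromSpecResidueField s) u) ∧ Kills U.ι u := by
  haveI := isMultType_isAffineHom hH
  obtain ⟨C, c, hc, hC, hfp⟩ := exists_transporter_fp (isEssentiallyFree_of_isMultType hH)
    (snd (𝟙_ (Over S)) H ≫ Φ) y
  have hC' : ∀ (X : Over S), Nonempty (X ⟶ C) ↔
      ∀ (X' : Over S) (_ : X' ⟶ X) (h : X' ⟶ H), h ≫ u = 1 := by
    intro X
    constructor
    · rintro ⟨z⟩ X' x h
      obtain ⟨x', hx'⟩ := (hC X (toUnit X)).mp ⟨z, toUnit_unique _ _⟩ X' x h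
      rw [lift_snd_assoc] at hx'
      exact (hy X' h).mp ⟨x', hx'⟩
    · intro h
      obtain ⟨z, -⟩ := (hC X (toUnit X)).mpr fun X' x a => by
        obtain ⟨z, hz⟩ := (hy X' a).mpr (h X' x a)
        exact ⟨z, by rw [lift_snd_assoc, hz]⟩
      exact ⟨z⟩
  haveI : LocallyOfFinitePresentation c.left := hfp inferInstance inferInstance
  haveI hopen : IsOpenImmersion c.left := isOpenImmersion_of_lifts c fun T _ J hJ g ⟨z, hz⟩ => by
    suffices Nonempty (T ⟶ C) from this.elim fun z => ⟨z, toUnit_unique _ _⟩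
    refine (hC' T).mpr fun X' x h => ?_
    have h0 := (hC' _).mp ⟨z⟩
    obtain ⟨S', f, hf, hs, hqc, hloc⟩ := hH
    choose U₀ hU₀ M hM he using hloc
    choose W hW hsW hWU using fun s' => exists_isAffineOpen_mem_and_subset (hU₀ s')
    refine hom_ext_of_cover f W hsW _ _ fun s' Z _ y => ?_
    obtain ⟨e⟩ := he s'
    haveI : IsAffine (W s' : Scheme.{u}) := hW s'
    let φ : (W s' : Scheme.{u}) ⟶ S := (W s').ι ≫ f
    obtain ⟨a, ha, hsurj⟩ :=
      exists_ds_cover (S'.homOfLE (hWU s')) ((U₀ s').ι ≫ f) φ (by simp [φ]) e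
    haveI : IsSeparated (Red.bc φ G).hom :=
      MorphismProperty.pullback_snd (P := @IsSeparated) _ _ ‹_›
    obtain ⟨t, ht⟩ := hsurj Z (ofBase φ (y ≫ h))
    obtain ⟨v, -⟩ := exists_red_map φ (y ≫ x) J
    have hJ' : J.map (y ≫ x).left.appTop.hom * J.map (y ≫ x).left.appTop.hom = ⊥ := by
      rw [← Ideal.map_mul, hJ, Ideal.map_bot]
    have h1 := rigid_one (a ≫ (Over.pullback φ).map u) hJ' (fun Z' z t' => by
      apply toBase_injective φ
      rw [← Category.assoc, toBase_comp_map, toBase_one]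
      exact h0 _ ((Over.map φ).map z ≫ v) _) (𝟙 Z) t
    have h2 := congrArg (toBase φ) h1
    rw [← Category.assoc, toBase_comp_map, ht, toBase_ofBase, toBase_one, Category.assoc] at h2
    rw [MonObj.comp_one]
    exact h2
  refine ⟨c.left.opensRange, c.left.isClosedEmbedding.isClosed_range, fun s => ⟨fun hs => ?_, ?_⟩,
    ?_⟩
  · intro Z k hk t
    let R : Over S := Over.mk (S.fromSpecResidueField s)
    have hr : Set.range (S.fromSpecResidueField s).base ⊆ Set.range c.left.base := by
      rw [Scheme.range_fromSpecResidueField]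
      simpa using hs
    have hw : c.left = C.hom := (Category.comp_id _).symm.trans (Over.w c)
    let z : R ⟶ C := Over.homMk (IsOpenImmersion.lift c.left (S.fromSpecResidueField s) hr) (by
      rw [← hw]; exact IsOpenImmersion.lift_fac _ _ _)
    exact (hC' R).mp ⟨z⟩ Z (Over.homMk k hk) t
  · intro hk
    let R : Over S := Over.mk (S.fromSpecResidueField s)
    obtain ⟨z⟩ := (hC' R).mpr fun Z x t => hk Z x.left (Over.w x) t
    refine ⟨z.left (IsLocalRing.closedPoint _), ?_⟩
    have hw : c.left = C.hom := (Category.comp_id _).symm.trans (Over.w c)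
    refine Eq.trans ?_ (S.fromSpecResidueField_apply s (IsLocalRing.closedPoint _))
    show c.left (z.left _) = _
    rw [← Scheme.Hom.comp_apply, hw, Over.w z]
    rfl
  · intro Z k hk t
    have hw : c.left = C.hom := (Category.comp_id _).symm.trans (Over.w c)
    let z : Z ⟶ C := Over.homMk (k ≫ c.left.isoOpensRange.inv) (by
      rw [← hw, Category.assoc, Scheme.Hom.isoOpensRange_inv_comp]
      exact hk)
    exact (hC' Z).mp ⟨z⟩ Z (𝟙 Z) t

/-- The locus of triviality of a homomorphism from a group of multiplicative type to a separated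
group is open and closed. -/
theorem exists_trivial_locus {H G : Over S} [GrpObj H] [GrpObj G] (hH : IsMultType H)
    [IsSeparated G.hom] (hG : IsLocallyNoetherian S ∨ LocallyOfFiniteType G.hom) (u : H ⟶ G)
    [IsMonHom u] :
    ∃ U : S.Opens, IsClosed (U : Set S) ∧
      (∀ s : S, s ∈ U ↔ Kills (S.fromSpecResidueField s) u) ∧ Kills U.ι u := by
  haveI : IsClosedImmersion η[G].left := by
    haveI : IsClosedImmersion (η[G].left ≫ G.hom) := by
      rw [Over.w η[G]]
      exact inferInstanceAs (IsClosedImmersion (𝟙 S))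
    exact IsClosedImmersion.of_comp η[G].left G.hom
  have hy : ∀ (X : Over S) (h : X ⟶ H),
      (∃ z, h ≫ u = z ≫ η[G]) ↔ h ≫ u = 1 := fun X h =>
    ⟨fun ⟨z, hz⟩ => by rw [hz, Hom.one_def, toUnit_unique z (toUnit X)],
      fun hh => ⟨toUnit X, by rw [hh, Hom.one_def]⟩⟩
  rcases hG with h | h
  · -- over a noetherian base the transporter is automatically of finite presentation
    exact exists_trivial_locus_of_noetherian hH u
  · haveI : LocallyOfFinitePresentation η[G].left := by
      haveI : LocallyOfFinitePresentation (η[G].left ≫ G.hom) := by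
        rw [Over.w η[G]]
        exact inferInstanceAs (LocallyOfFinitePresentation (𝟙 S))
      exact Groth.Agent.LimDesc62.lfp_of_comp η[G].left G.hom
    exact exists_trivial_locus_of_fp hH u u η[G] hy

end Groth.Agent.RedPts82
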