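import Groth.Agent.RedPts82.Transporter
import Groth.Agent.RedPts82.OpenClosed
import Mathlib.AlgebraicGeometry.Morphisms.FlatDescent

/-!
A central subgroup of multiplicative type is determined by its reduction modulo a nilpotent ideal.
-/

universe u

open CategoryTheory MonoidalCategory CartesianMonoidalCategory MonObj GrpObj AlgebraicGeometry
open CategoryTheory.Limits

namespace Groth.Agent.RedPts82

variable {S : Scheme.{u}}

/-- A property propagating along ideals of square zero propagates along nilpotent ideals. -/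
theorem nilpotent_induction (P : Over S → Prop)
    (step : ∀ (T : Over S) [IsAffine T.left] (J : Ideal (Gam T)), J * J = ⊥ →
      (∀ Z, (Z ⟶ redObj T J) → P Z) → ∀ Z, (Z ⟶ T) → P Z) (k : ℕ) :
    ∀ (T : Over S) [IsAffine T.left] (J : Ideal (Gam T)), J ^ (2 ^ k) = ⊥ →
      (∀ Z, (Z ⟶ redObj T J) → P Z) → ∀ Z, (Z ⟶ T) → P Z := by
  induction k with
  | zero =>
    intro T _ J hJ h Z x
    refine step T J ?_ h Z x
    have hb : J = ⊥ := by simpa using hJ
    rw [hb, Ideal.bot_mul]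
  | succ k ih =>
    intro T _ J hJ h
    refine ih T (J * J) (by rw [← pow_two, ← pow_mul, ← pow_succ']; exact hJ)
      fun Z z => ?_
    let T' := redObj T (J * J)
    let J' : Ideal (Gam T') := J.map (redMap T (J * J)).left.appTop.hom
    have hJ' : J' * J' = ⊥ := by
      rw [← Ideal.map_mul, Ideal.map_eq_bot_iff_le_ker]
      intro a ha
      rw [RingHom.mem_ker, ← map_zero (redMap T (J * J)).left.appTop.hom]
      exact (redMap_appTop_eq_iff T (J * J) a 0).mpr (by rwa [sub_zero])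
    obtain ⟨v, -⟩ := exists_redMap_comp (J := J') (J' := J) (redMap T (J * J))
      fun a ha => Ideal.mem_map_of_mem _ ha
    exact step T' J' hJ' (fun Z' z' => h Z' (z' ≫ v)) Z z

section Split

variable [IsAffine S] {G : Over S} [GrpObj G] {M N : Type} [AddCommGroup M] [AddCommGroup N]

/-- A family of homomorphisms trivial modulo an ideal of square zero is trivial. -/
theorem rigid_family {T : Over S} [IsAffine T.left] (w : T ⊗ Red.DS S M ⟶ G)
    (hw : ∀ (Z : Over S) (z : Z ⟶ T) (t t' : Z ⟶ Red.DS S M),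
      CartesianMonoidalCategory.lift z (t * t') ≫ w =
        (CartesianMonoidalCategory.lift z t ≫ w) * (CartesianMonoidalCategory.lift z t' ≫ w))
    {J : Ideal (Gam T)} (hJ : J * J = ⊥)
    (h : ∀ (Z : Over S) (z : Z ⟶ redObj T J) (t : Z ⟶ Red.DS S M),
      CartesianMonoidalCategory.lift (z ≫ redMap T J) t ≫ w = 1)
    {Z : Over S} (x : Z ⟶ T) (t : Z ⟶ Red.DS S M) :
    CartesianMonoidalCategory.lift x t ≫ w = 1 := by
  refine hom_ext_of_nhds _ _ fun z => ?_
  let p : T ⟶ G := 1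
  obtain ⟨U, hU, hpU, -⟩ := exists_isAffineOpen_mem_and_subset (x := p.left (x.left z))
    (U := (⊤ : G.left.Opens)) trivial
  obtain ⟨V, hV, hxV, hVU⟩ := exists_isAffineOpen_mem_and_subset (x := x.left z)
    (U := p.left ⁻¹ᵁ U) hpU
  refine ⟨x.left ⁻¹ᵁ V, hxV, ?_⟩
  let Z' : Over S := Over.mk ((x.left ⁻¹ᵁ V).ι ≫ Z.hom)
  let i : Z' ⟶ Z := Over.homMk (x.left ⁻¹ᵁ V).ι rfl
  suffices i ≫ CartesianMonoidalCategory.lift x t ≫ w = i ≫ 1 from
    congrArg CommaMorphism.left this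
  let T' : Over S := Over.mk (V.ι ≫ T.hom)
  let k : T' ⟶ T := Over.homMk V.ι rfl
  haveI : IsAffine T'.left := hV
  let x' : Z' ⟶ T' := Over.homMk (x.left ∣_ V) (by
    show (x.left ∣_ V) ≫ V.ι ≫ T.hom = (x.left ⁻¹ᵁ V).ι ≫ Z.hom
    rw [morphismRestrict_ι_assoc, Over.w x])
  have hx' : x' ≫ k = i ≫ x := Over.OverMorphism.ext (morphismRestrict_ι _ _)
  let J' : Ideal (Gam T') := J.map k.left.appTop.hom
  have hJ' : J' * J' = ⊥ := by rw [← Ideal.map_mul, hJ, Ideal.map_bot]
  obtain ⟨v, hv⟩ := exists_redMap_comp (J := J') k fun a ha => Ideal.mem_map_of_mem _ ha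
  let Xu : Over S := Over.mk (U.ι ≫ G.hom)
  let j : Xu ⟶ G := Over.homMk U.ι rfl
  haveI : IsAffine Xu.left := hU
  haveI : IsOpenImmersion j.left := inferInstanceAs (IsOpenImmersion U.ι)
  have hr : Set.range (V.ι ≫ p.left).base ⊆ Set.range U.ι.base := by
    rintro _ ⟨a, rfl⟩
    exact ⟨⟨_, hVU a.2⟩, rfl⟩
  let g : T' ⟶ Xu := Over.homMk (IsOpenImmersion.lift U.ι (V.ι ≫ p.left) hr) (by
    show IsOpenImmersion.lift _ _ hr ≫ U.ι ≫ G.hom = V.ι ≫ T.hom
    rw [IsOpenImmersion.lift_fac_assoc, Category.assoc, Over.w p])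
  have hgj : g ≫ j = 1 := by
    refine Eq.trans (Over.OverMorphism.ext ?_) (MonObj.comp_one k)
    exact IsOpenImmersion.lift_fac _ _ _
  haveI : IsOpenImmersion (T' ◁ j).left := by
    rw [Over.whiskerLeft_left]
    infer_instance
  haveI : IsAffine (T' ⊗ Xu).left := isAffine_tensor
  let act : Red.DS S M ⊗ (T' ⊗ G) ⟶ T' ⊗ G := CartesianMonoidalCategory.lift (snd _ _ ≫ fst _ _)
    ((CartesianMonoidalCategory.lift (snd _ _ ≫ fst T' G ≫ k) (fst _ _) ≫ w) * (snd _ _ ≫ snd _ _))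
  have hact : ∀ {Y : Over S} (a : Y ⟶ Red.DS S M) (r : Y ⟶ T' ⊗ G),
      CartesianMonoidalCategory.lift a r ≫ act = CartesianMonoidalCategory.lift (r ≫ fst _ _)
        ((CartesianMonoidalCategory.lift (r ≫ fst _ _ ≫ k) a ≫ w) * (r ≫ snd _ _)) := fun a r => by
    simp only [act, comp_lift, comp_lift_assoc, MonObj.comp_mul, lift_snd_assoc, lift_fst]
  obtain ⟨q, hq⟩ := exists_redMap_comp (J := upIdeal T' M J') (J' := J') (polyProj T' M)
    fun a ha => Ideal.mem_map_of_mem _ ha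
  obtain ⟨c, -, hfix, hinv⟩ := exists_fixed_lift_inv act (fun Y a b r => by
      simp only [hact, lift_fst_assoc, lift_fst, lift_snd]
      refine congrArg₂ CartesianMonoidalCategory.lift rfl ?_
      simp only [Category.assoc]
      rw [hw, _root_.mul_assoc])
    (T' ◁ j) hJ' (CartesianMonoidalCategory.lift (𝟙 T') g) (by
      simp only [hact, comp_lift, comp_lift_assoc, lift_whiskerLeft, Category.assoc, lift_fst,
        lift_fst_assoc, lift_snd, Category.comp_id, Category.id_comp, hgj, MonObj.comp_one,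
        _root_.mul_one]
      refine congrArg₂ CartesianMonoidalCategory.lift rfl ?_
      rw [← reassoc_of% hq, ← hv, ← Category.assoc q v]
      exact h _ (q ≫ v) _)
  have hc : c ≫ fst T' Xu = 𝟙 _ := by
    have := hinv T' (fst T' G) (by simp only [act, lift_fst])
    simpa only [whiskerLeft_fst, lift_fst] using this
  have h1 := congrArg (fun r => r ≫ snd T' G) (hfix Z' x' (i ≫ t))
  simp only [hact, Category.assoc, lift_snd, whiskerLeft_fst_assoc, reassoc_of% hc, hx'] at h1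
  rw [MonObj.comp_one, ← Category.assoc i, comp_lift]
  exact mul_eq_right.mp h1

variable (q₁ : Red.DS S M ⟶ G) [IsMonHom q₁] [Mono q₁] (q₂ : Red.DS S N ⟶ G) [IsMonHom q₂]
  [Mono q₂] (hc : ∀ (Z : Over S) (g : Z ⟶ G) (t : Z ⟶ Red.DS S M), g * (t ≫ q₁) = (t ≫ q₁) * g)

/-- The points of the two subgroups over `Z` are the same. -/
def SamePts (Z : Over S) : Prop :=
  (∀ t : Z ⟶ Red.DS S M, ∃ t', t' ≫ q₂ = t ≫ q₁) ∧ ∀ t' : Z ⟶ Red.DS S N, ∃ t, t ≫ q₁ = t' ≫ q₂

include hc in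
theorem samePts_step (T : Over S) [IsAffine T.left] (J : Ideal (Gam T)) (hJ : J * J = ⊥)
    (h : ∀ Z, (Z ⟶ redObj T J) → SamePts q₁ q₂ Z) :
    ∀ Z, (Z ⟶ T) → SamePts q₁ q₂ Z := by
  obtain ⟨f₀, hf₀'⟩ := (h _ (fst (redObj T J) (Red.DS S M))).1 (snd _ _)
  obtain ⟨e₀, he₀'⟩ := (h _ (fst (redObj T J) (Red.DS S N))).2 (snd _ _)
  have hf₀ : ∀ {Z : Over S} (z : Z ⟶ redObj T J) (t : Z ⟶ Red.DS S M),
      (CartesianMonoidalCategory.lift z t ≫ f₀) ≫ q₂ = t ≫ q₁ := fun z t => by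
    rw [Category.assoc, hf₀', lift_snd_assoc]
  have he₀ : ∀ {Z : Over S} (z : Z ⟶ redObj T J) (t : Z ⟶ Red.DS S N),
      (CartesianMonoidalCategory.lift z t ≫ e₀) ≫ q₁ = t ≫ q₂ := fun z t => by
    rw [Category.assoc, he₀', lift_snd_assoc]
  obtain ⟨f, hf, hff⟩ := exists_relHom_lift hJ f₀ fun Z z t t' => by
    rw [← cancel_mono q₂]
    simp only [MonObj.mul_comp, hf₀]
  obtain ⟨e, he, hee⟩ := exists_relHom_lift hJ e₀ fun Z z t t' => by
    rw [← cancel_mono q₁]
    simp only [MonObj.mul_comp, he₀]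
  let w : T ⊗ Red.DS S M ⟶ G := (f ≫ q₂) * (snd _ _ ≫ q₁)⁻¹
  have hw' : ∀ {Z : Over S} (z : Z ⟶ T) (t : Z ⟶ Red.DS S M),
      CartesianMonoidalCategory.lift z t ≫ w =
        ((CartesianMonoidalCategory.lift z t ≫ f) ≫ q₂) * (t ≫ q₁)⁻¹ := fun z t => by
    simp only [w, MonObj.comp_mul, GrpObj.comp_inv, lift_snd_assoc, Category.assoc]
  have key : ∀ {Z : Over S} (z : Z ⟶ T) (t : Z ⟶ Red.DS S M),
      (CartesianMonoidalCategory.lift z t ≫ f) ≫ q₂ = t ≫ q₁ := fun {Z} z t => by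
    have := rigid_family w (fun Y y a b => by
      rw [hw', hw', hw', hf, MonObj.mul_comp, MonObj.mul_comp, _root_.mul_inv_rev]
      simp only [_root_.mul_assoc]
      refine congrArg (_ * ·) ?_
      rw [← _root_.mul_assoc]
      have ha := (Commute.inv_right (hc Y _ a : Commute ((CartesianMonoidalCategory.lift y b ≫ f) ≫ q₂ *
        (b ≫ q₁)⁻¹) (a ≫ q₁))).eq
      exact ha) hJ (fun Y y a => by
      rw [hw', hff, hf₀, mul_inv_cancel]) z t
    rwa [hw', mul_inv_eq_one] at this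
  have hef : CartesianMonoidalCategory.lift (fst T (Red.DS S N)) e ≫ f = snd _ _ := by
    refine IsRelHom.eq_of_congr hJ (fun Z z t t' => ?_) (fun Z z t t' => ?_) fun Z z t => ?_
    · simp only [comp_lift_assoc, lift_fst]
      rw [he, hf]
    · simp only [lift_snd]
    · rw [comp_lift_assoc, lift_fst, hee, lift_snd, ← cancel_mono q₂, key, he₀]
  intro Z x
  refine ⟨fun t => ⟨_, key x t⟩, fun t' => ⟨CartesianMonoidalCategory.lift x t' ≫ e, ?_⟩⟩
  have h3 := congrArg (fun w => CartesianMonoidalCategory.lift x t' ≫ w) hef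
  simp only [comp_lift_assoc, lift_fst, lift_snd] at h3
  have h2 := key x (CartesianMonoidalCategory.lift x t' ≫ e)
  rw [h3] at h2
  exact h2.symm

include hc in
theorem samePts_of_nilpotent (T : Over S) [IsAffine T.left] (J : Ideal (Gam T)) (hJ : IsNilpotent J)
    (h : ∀ Z, (Z ⟶ redObj T J) → SamePts q₁ q₂ Z) : ∀ Z, (Z ⟶ T) → SamePts q₁ q₂ Z := by
  obtain ⟨n, hn⟩ := hJ
  refine nilpotent_induction (SamePts q₁ q₂) (fun T' _ J' => samePts_step q₁ q₂ hc T' J') n T J ?_ h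
  exact le_bot_iff.mp ((Ideal.pow_le_pow_right n.lt_two_pow_self.le).trans hn.le)

end Split


/-- Points over a thickened base: from an isomorphism of base changes to the points. -/
theorem points_of_bc_iso {H H' G : Over S} {S₀ : Scheme.{u}} (m : S₀ ⟶ S) (i : H ⟶ G) (i' : H' ⟶ G)
    (ψ : Red.bc m H ⟶ Red.bc m H') (hψ : ψ ≫ (Over.pullback m).map i' = (Over.pullback m).map i)
    {X : Over S} (p : X ⟶ Over.mk m) (h : X ⟶ H) : ∃ h', h' ≫ i' = h ≫ i := by
  let Y : Over S₀ := Over.mk p.left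
  have hw : p.left ≫ m = X.hom := Over.w p
  let α : (Over.map m).obj Y ≅ X := Over.isoMk (Iso.refl _) (by simpa [Y] using hw.symm)
  refine ⟨α.inv ≫ toBase m (ofBase m (α.hom ≫ h) ≫ ψ), ?_⟩
  rw [Category.assoc, ← toBase_comp_map, Category.assoc, hψ, toBase_comp_map, toBase_ofBase,
    Category.assoc, Iso.inv_hom_id_assoc]

/-- A monomorphism is an isomorphism if, on an fpqc covering, every point factors through it. -/
theorem isIso_of_cover {P H : Over S} (p : P ⟶ H) [Mono p] {S' : Scheme.{u}} (f : S' ⟶ S) [Flat f]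
    [Surjective f]
    (hqc : ∀ V : S.Opens, IsAffineOpen V →
      ∃ W : S'.Opens, IsCompact (W : Set S') ∧ f.base '' (W : Set S') = (V : Set S))
    (h : ∀ s' : S', ∃ U : S'.Opens, s' ∈ U ∧ ∀ (X : Over (U : Scheme.{u}))
      (t : X ⟶ Red.bc (U.ι ≫ f) H), ∃ z, z ≫ p = toBase (U.ι ≫ f) t) : IsIso p := by
  haveI : IsIso p.left := by
    refine map_prop_of_fpqc_cover (MorphismProperty.isomorphisms Scheme.{u}) p f hqc fun s' => ?_
    obtain ⟨U, hU, hp⟩ := h s'
    refine ⟨U, hU, ?_⟩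
    obtain ⟨z, hz⟩ := hp _ (𝟙 (Red.bc (U.ι ≫ f) H))
    have h1 : ofBase (U.ι ≫ f) z ≫ (Over.pullback (U.ι ≫ f)).map p = 𝟙 _ :=
      toBase_injective _ (by rw [toBase_comp_map, toBase_ofBase, hz])
    haveI : IsIso ((Over.pullback (U.ι ≫ f)).map p) := ⟨ofBase (U.ι ≫ f) z, by
      apply toBase_injective (U.ι ≫ f)
      apply (cancel_mono p).mp
      rw [← toBase_comp_map, ← toBase_comp_map, Category.assoc, h1, Category.comp_id, Category.id_comp],
      h1⟩
    exact inferInstanceAs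
      (IsIso ((Over.forget _).map ((Over.pullback (U.ι ≫ f)).map p)))
  haveI : IsIso ((Over.forget S).map p) := ‹_›
  exact isIso_of_reflects_iso p (Over.forget S)

set_option maxHeartbeats 2000000 in
/-- A central subgroup of multiplicative type is determined by its reduction modulo a nilpotent
ideal. -/
theorem exists_iso_of_central {H H' G : Over S} [GrpObj H] [GrpObj H'] [GrpObj G] [IsAffine S]
    (hH : IsMultType H) (hH' : IsMultType H') (i : H ⟶ G) [IsMonHom i] [Mono i] (i' : H' ⟶ G)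
    [IsMonHom i'] [Mono i'] (hc : ∀ (X : Over S) (g : X ⟶ G) (h : X ⟶ H), g * (h ≫ i) = (h ≫ i) * g)
    {S₀ : Scheme.{u}} (m : S₀ ⟶ S) (J : Ideal Γ(S, ⊤)) (hJ : IsNilpotent J)
    (hm : ∀ (Z : Over S) [IsAffine Z.left], J.map Z.hom.appTop.hom = ⊥ → Nonempty (Z ⟶ Over.mk m))
    (h : ∀ (X : Over S) (_ : X ⟶ Over.mk m),
      (∀ h : X ⟶ H, ∃ h', h' ≫ i' = h ≫ i) ∧ ∀ h' : X ⟶ H', ∃ h, h ≫ i = h' ≫ i') :
    ∃ φ : H ≅ H', φ.hom ≫ i' = i := by
  obtain ⟨S', f, hf, hs, hqc, hloc⟩ := exists_common_cover hH hH'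
  -- on the covering, the points agree
  have main : ∀ s' : S', ∃ W : S'.Opens, s' ∈ W ∧ ∀ (X : Over (W : Scheme.{u})),
      (∀ t : X ⟶ Red.bc (W.ι ≫ f) H, ∃ h', h' ≫ i' = toBase (W.ι ≫ f) t ≫ i) ∧
      ∀ t : X ⟶ Red.bc (W.ι ≫ f) H', ∃ h, h ≫ i = toBase (W.ι ≫ f) t ≫ i' := by
    intro s'
    obtain ⟨W, hsW, hW, ⟨M, _, a₁, ha₁, hm₁, hs₁⟩, ⟨N, _, a₂, ha₂, hm₂, hs₂⟩⟩ := hloc s'
    refine ⟨W, hsW, fun X => ?_⟩
    let φ : (W : Scheme.{u}) ⟶ S := W.ι ≫ f
    haveI : IsAffine (W : Scheme.{u}) := hW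
    let T : Over (W : Scheme.{u}) := Over.mk (𝟙 _)
    haveI : IsAffine T.left := hW
    let J' : Ideal (Gam T) := J.map φ.appTop.hom
    have hJ' : IsNilpotent J' := by
      obtain ⟨n, hn⟩ := hJ
      exact ⟨n, by rw [← Ideal.map_pow, hn]; exact Ideal.map_bot⟩
    have hred : ∀ Z, (Z ⟶ redObj T J') →
        SamePts (a₁ ≫ (Over.pullback φ).map i) (a₂ ≫ (Over.pullback φ).map i') Z := fun Z z => by
      have hz : Ideal.map ((Over.map φ).obj (redObj T J')).hom.appTop.hom J = ⊥ := by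
        have e : ((Over.map φ).obj (redObj T J')).hom = (redMap T J').left ≫ φ := by
          show (redObj T J').hom ≫ φ = _
          rw [← Over.w (redMap T J')]
          exact congrArg (· ≫ φ) (Category.comp_id _)
        rw [e, Scheme.Hom.comp_appTop, Ideal.map_eq_bot_iff_le_ker]
        intro a ha
        rw [RingHom.mem_ker]
        exact ((redMap_appTop_eq_iff T J' _ 0).mpr (by
          rw [sub_zero]; exact Ideal.mem_map_of_mem _ ha)).trans (map_zero _)
      haveI : IsAffine ((Over.map φ).obj (redObj T J')).left :=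
        inferInstanceAs (IsAffine (redObj T J').left)
      obtain ⟨p⟩ := hm _ hz
      obtain ⟨h1, h2⟩ := h _ ((Over.map φ).map z ≫ p)
      refine ⟨fun t => ?_, fun t => ?_⟩
      · obtain ⟨h', e⟩ := h1 (toBase φ (t ≫ a₁))
        obtain ⟨t', ht'⟩ := hs₂ Z (ofBase φ h')
        refine ⟨t', toBase_injective φ ?_⟩
        simp only [← Category.assoc, toBase_comp_map, ht', toBase_ofBase]
        exact e
      · obtain ⟨h', e⟩ := h2 (toBase φ (t ≫ a₂))
        obtain ⟨t', ht'⟩ := hs₁ Z (ofBase φ h')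
        refine ⟨t', toBase_injective φ ?_⟩
        simp only [← Category.assoc, toBase_comp_map, ht', toBase_ofBase]
        exact e
    obtain ⟨h1, h2⟩ := samePts_of_nilpotent (a₁ ≫ (Over.pullback φ).map i)
      (a₂ ≫ (Over.pullback φ).map i') (fun Z g t => by
        apply toBase_injective φ
        simp only [← Category.assoc, toBase_mul, toBase_comp_map]
        exact hc _ _ _) T J' hJ' hred X (Over.homMk X.hom)
    refine ⟨fun t => ?_, fun t => ?_⟩
    · obtain ⟨t₁, ht₁⟩ := hs₁ X t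
      obtain ⟨t₂, e⟩ := h1 t₁
      refine ⟨toBase φ (t₂ ≫ a₂), ?_⟩
      have := congrArg (toBase φ) e
      simp only [← Category.assoc, toBase_comp_map, ht₁] at this
      exact this
    · obtain ⟨t₁, ht₁⟩ := hs₂ X t
      obtain ⟨t₂, e⟩ := h2 t₁
      refine ⟨toBase φ (t₂ ≫ a₁), ?_⟩
      have := congrArg (toBase φ) e
      simp only [← Category.assoc, toBase_comp_map, ht₁] at this
      exact this
  -- the two projections from the intersection are isomorphisms
  let P : Over S := Over.mk (pullback.fst i.left i'.left ≫ H.hom)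
  let p : P ⟶ H := Over.homMk (pullback.fst i.left i'.left) rfl
  let p' : P ⟶ H' := Over.homMk (pullback.snd i.left i'.left) (by
    show pullback.snd i.left i'.left ≫ H'.hom = pullback.fst i.left i'.left ≫ H.hom
    rw [← Over.w i, pullback.condition_assoc, Over.w i'])
  have hP : p ≫ i = p' ≫ i' := Over.OverMorphism.ext pullback.condition
  haveI : Mono i.left := (Over.forget S).map_mono i
  haveI : Mono i'.left := (Over.forget S).map_mono i'
  haveI : Mono p := by
    haveI : Mono p.left := inferInstanceAs (Mono (pullback.fst i.left i'.left))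
    exact Over.mono_of_mono_left p
  haveI : Mono p' := by
    haveI : Mono p'.left := inferInstanceAs (Mono (pullback.snd i.left i'.left))
    exact Over.mono_of_mono_left p'
  have hlift : ∀ {X : Over S} (h : X ⟶ H) (h' : X ⟶ H'), h ≫ i = h' ≫ i' →
      ∃ z, z ≫ p = h ∧ z ≫ p' = h' := fun {X} h h' e => by
    refine ⟨Over.homMk (pullback.lift h.left h'.left (congrArg CommaMorphism.left e)) ?_, ?_, ?_⟩
    · show pullback.lift h.left h'.left _ ≫ pullback.fst _ _ ≫ H.hom = X.hom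
      rw [pullback.lift_fst_assoc, Over.w h]
    · exact Over.OverMorphism.ext (pullback.lift_fst _ _ _)
    · exact Over.OverMorphism.ext (pullback.lift_snd _ _ _)
  haveI : IsIso p := isIso_of_cover p f hqc fun s' => by
    obtain ⟨W, hsW, hW⟩ := main s'
    refine ⟨W, hsW, fun X t => ?_⟩
    obtain ⟨h', e⟩ := (hW X).1 t
    obtain ⟨z, hz, -⟩ := hlift _ _ e.symm
    exact ⟨z, hz⟩
  haveI : IsIso p' := isIso_of_cover p' f hqc fun s' => by
    obtain ⟨W, hsW, hW⟩ := main s'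
    refine ⟨W, hsW, fun X t => ?_⟩
    obtain ⟨h', e⟩ := (hW X).2 t
    obtain ⟨z, -, hz⟩ := hlift _ _ e
    exact ⟨z, hz⟩
  exact ⟨(asIso p).symm ≪≫ asIso p', by
    rw [Iso.trans_hom, Iso.symm_hom, asIso_inv, asIso_hom, Category.assoc, ← hP, IsIso.inv_hom_id_assoc]⟩

end Groth.Agent.RedPts82
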