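import Groth.Agent.RedPts82.TrivialAction
import Groth.Agent.RedPts82.FixedPts

/-!
Reduction of the triviality of actions of groups of multiplicative type to diagonalisable groups
over affine bases; actions by conjugation.
-/

universe u

open CategoryTheory MonoidalCategory CartesianMonoidalCategory MonObj GrpObj AlgebraicGeometry
open CategoryTheory.Limits

namespace Groth.Agent.RedPts82

variable {S : Scheme.{u}}

/-- Triviality of an action of a group of multiplicative type can be checked fpqc-locally. -/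
theorem trivial_of_locally {G X : Over S} [GrpObj G]
    (hG : TwC.Locally S TwC.Topology.fpqc (fun S' f => ∃ (M : Type) (_ : AddCommGroup M),
      Nonempty (Grp.mk (Red.bc f G) ≅ Grp.mk (Red.DS S' M))))
    (act : G ⊗ X ⟶ X)
    (hact : ∀ (Z : Over S) (h h' : Z ⟶ G) (p : Z ⟶ X),
      CartesianMonoidalCategory.lift (h * h') p ≫ act =
        CartesianMonoidalCategory.lift h (CartesianMonoidalCategory.lift h' p ≫ act) ≫ act)
    (hone : ∀ (Z : Over S) (p : Z ⟶ X), CartesianMonoidalCategory.lift 1 p ≫ act = p)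
    (U : S → S.Opens) (hU : ∀ x, x ∈ U x)
    (key : ∀ {W : Scheme.{u}} [IsAffine W] (φ : W ⟶ S) (x : S), (∀ w, φ w ∈ U x) →
      ∀ (M : Type) [AddCommGroup M] (actW : Red.DS W M ⊗ Red.bc φ X ⟶ Red.bc φ X),
      (∀ (Z : Over W) (h h' : Z ⟶ Red.DS W M) (p : Z ⟶ Red.bc φ X),
        CartesianMonoidalCategory.lift (h * h') p ≫ actW =
          CartesianMonoidalCategory.lift h (CartesianMonoidalCategory.lift h' p ≫ actW) ≫ actW) →
      (∀ (Z : Over W) (p : Z ⟶ Red.bc φ X), CartesianMonoidalCategory.lift 1 p ≫ actW = p) →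
      (∀ (Y : Over W) (h : Y ⟶ Red.DS W M) (p : Y ⟶ Red.bc φ X),
        (∀ g : (Over.map φ).obj Y ⟶ G,
          CartesianMonoidalCategory.lift g (toBase φ p) ≫ act = toBase φ p) →
        CartesianMonoidalCategory.lift h p ≫ actW = p) →
      ∀ (Y : Over W) (h : Y ⟶ Red.DS W M) (p : Y ⟶ Red.bc φ X),
        CartesianMonoidalCategory.lift h p ≫ actW = p)
    (Y : Over S) (g : Y ⟶ G) (x : Y ⟶ X) : CartesianMonoidalCategory.lift g x ≫ act = x := by
  obtain ⟨S', f, hf, hs, -, hloc⟩ := hG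
  choose U₀ hU₀ M hM e using hloc
  have hW : ∀ s' : S', ∃ W : S'.Opens, IsAffineOpen W ∧ s' ∈ W ∧ W ≤ U₀ s' ⊓ f ⁻¹ᵁ U (f s') := by
    intro s'
    obtain ⟨W, hW, hsW, hWU⟩ :=
      exists_isAffineOpen_mem_and_subset (x := s') (U := U₀ s' ⊓ f ⁻¹ᵁ U (f s')) ⟨hU₀ s', hU (f s')⟩
    exact ⟨W, hW, hsW, hWU⟩
  choose W hW hsW hWU using hW
  suffices act = snd G X by rw [this, lift_snd]
  refine hom_ext_of_cover f W hsW _ _ fun s' Z _ y => ?_
  letI := hM s'
  let φ : (W s' : Scheme.{u}) ⟶ S := (W s').ι ≫ f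
  haveI : IsAffine (W s' : Scheme.{u}) := hW s'
  obtain ⟨a, ha, -, hsurj⟩ := exists_ds_cover_mono (S'.homOfLE ((hWU s').trans inf_le_left))
    ((U₀ s').ι ≫ f) φ (by simp [φ]) (e s').some
  let actW : Red.DS (W s' : Scheme.{u}) (M s') ⊗ Red.bc φ X ⟶ Red.bc φ X :=
    ofBase φ (CartesianMonoidalCategory.lift (toBase φ (fst _ _ ≫ a)) (toBase φ (snd _ _)) ≫ act)
  have hW' : ∀ {Z : Over (W s' : Scheme.{u})} (h : Z ⟶ Red.DS (W s' : Scheme.{u}) (M s'))
      (p : Z ⟶ Red.bc φ X), toBase φ (CartesianMonoidalCategory.lift h p ≫ actW) =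
        CartesianMonoidalCategory.lift (toBase φ (h ≫ a)) (toBase φ p) ≫ act := by
    intro Z h p
    rw [toBase_comp, toBase_ofBase, comp_lift_assoc, ← toBase_comp, ← toBase_comp, lift_fst_assoc,
      lift_snd]
  have hφ : ∀ w, φ w ∈ U (f s') := fun w => (hWU s' w.2).2
  obtain ⟨t, ht⟩ := hsurj Z (ofBase φ (y ≫ fst G X))
  have h1 := congrArg (toBase φ) (key φ (f s') hφ (M s') actW (fun Z h h' p => ?_) (fun Z p => ?_)
    (fun Z h p hp => ?_) Z t (ofBase φ (y ≫ snd G X)))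
  · rw [hW', ht, toBase_ofBase, toBase_ofBase] at h1
    calc y ≫ act = CartesianMonoidalCategory.lift (y ≫ fst G X) (y ≫ snd G X) ≫ act := by
          rw [← comp_lift_assoc, lift_fst_snd, Category.id_comp]
      _ = y ≫ snd G X := h1
  · apply toBase_injective φ
    rw [hW', hW', hW', MonObj.mul_comp _ _ a, toBase_mul]
    exact hact _ _ _ _
  · apply toBase_injective φ
    rw [hW', MonObj.one_comp, toBase_one]
    exact hone _ _
  · exact toBase_injective φ ((hW' h p).trans (hp _))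

/-- The action by conjugation through a homomorphism. -/
noncomputable def conjAct {G H : Over S} [GrpObj H] (u : G ⟶ H) : G ⊗ H ⟶ H :=
  (fst G H ≫ u) * snd G H * (fst G H ≫ u)⁻¹

theorem lift_conjAct {G H : Over S} [GrpObj H] (u : G ⟶ H) {Z : Over S} (g : Z ⟶ G) (h : Z ⟶ H) :
    CartesianMonoidalCategory.lift g h ≫ conjAct u = (g ≫ u) * h * (g ≫ u)⁻¹ := by
  simp only [conjAct, MonObj.comp_mul, GrpObj.comp_inv, lift_fst_assoc, lift_snd]

theorem conjAct_assoc {G H : Over S} [GrpObj G] [GrpObj H] (u : G ⟶ H) [IsMonHom u] (Z : Over S)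
    (g g' : Z ⟶ G) (p : Z ⟶ H) :
    CartesianMonoidalCategory.lift (g * g') p ≫ conjAct u =
      CartesianMonoidalCategory.lift g (CartesianMonoidalCategory.lift g' p ≫ conjAct u) ≫ conjAct u := by
  rw [lift_conjAct, lift_conjAct, lift_conjAct, MonObj.mul_comp _ _ u, _root_.mul_inv_rev]
  simp only [_root_.mul_assoc]

theorem conjAct_one {G H : Over S} [GrpObj G] [GrpObj H] (u : G ⟶ H) [IsMonHom u] (Z : Over S)
    (p : Z ⟶ H) : CartesianMonoidalCategory.lift 1 p ≫ conjAct u = p := by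
  rw [lift_conjAct, MonObj.one_comp, _root_.one_mul, inv_one, _root_.mul_one]

theorem conjAct_eq_iff {G H : Over S} [GrpObj H] (u : G ⟶ H) {Z : Over S} (g : Z ⟶ G) (h : Z ⟶ H) :
    CartesianMonoidalCategory.lift g h ≫ conjAct u = h ↔ (g ≫ u) * h = h * (g ≫ u) := by
  rw [lift_conjAct, mul_inv_eq_iff_eq_mul]

/-- An action trivial modulo a locally nilpotent ideal of the base is trivial. -/
theorem trivial_of_mod_nilpotent {S₀ : Scheme.{u}} (i₀ : S₀ ⟶ S) [IsClosedImmersion i₀]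
    (hnil : ∀ x : S, ∃ U : S.affineOpens, x ∈ (U : S.Opens) ∧ IsNilpotent (i₀.ker.ideal U))
    {G X : Over S} [GrpObj G]
    (hG : TwC.Locally S TwC.Topology.fpqc (fun S' f => ∃ (M : Type) (_ : AddCommGroup M),
      Nonempty (Grp.mk (Red.bc f G) ≅ Grp.mk (Red.DS S' M))))
    (act : G ⊗ X ⟶ X)
    (hact : ∀ (Z : Over S) (h h' : Z ⟶ G) (p : Z ⟶ X),
      CartesianMonoidalCategory.lift (h * h') p ≫ act =
        CartesianMonoidalCategory.lift h (CartesianMonoidalCategory.lift h' p ≫ act) ≫ act)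
    (hone : ∀ (Z : Over S) (p : Z ⟶ X), CartesianMonoidalCategory.lift 1 p ≫ act = p)
    (h0 : ∀ (Y : Over S) (_ : Y ⟶ Over.mk i₀) (g : Y ⟶ G) (x : Y ⟶ X),
      CartesianMonoidalCategory.lift g x ≫ act = x)
    (Y : Over S) (g : Y ⟶ G) (x : Y ⟶ X) : CartesianMonoidalCategory.lift g x ≫ act = x := by
  choose U hxU hn using hnil
  refine trivial_of_locally hG act hact hone (fun x => (U x : S.Opens)) hxU ?_ Y g x
  intro W _ φ x hφ M _ actW hact' hone' hfix
  let V : S.Opens := (U x : S.Opens)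
  haveI : IsAffine (V : Scheme.{u}) := (U x).2
  let ψ : W ⟶ (V : Scheme.{u}) := IsOpenImmersion.lift V.ι φ (by
    rw [Scheme.Opens.range_ι]; rintro _ ⟨w, rfl⟩; exact hφ w)
  have hψ : ψ ≫ V.ι = φ := IsOpenImmersion.lift_fac _ _ _
  let r := i₀ ∣_ V
  haveI : IsAffine (i₀ ⁻¹ᵁ V : S₀.Opens).toScheme := (U x).2.preimage i₀
  have hr : IsNilpotent (RingHom.ker r.appTop.hom) := by
    obtain ⟨n, hn⟩ := hn x
    refine ⟨n, le_bot_iff.mp ?_⟩
    let e := V.topIso.commRingCatIsoToRingEquiv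
    have h1 : RingHom.ker r.appTop.hom ≤ (i₀.ker.ideal (U x)).map e.symm.toRingHom := by
      intro a ha
      rw [← e.symm_apply_apply a]
      refine Ideal.mem_map_of_mem _ ?_
      rw [Scheme.Hom.ker_apply, RingHom.mem_ker]
      have ha' : r.appTop a = 0 := ha
      simp only [r, Scheme.Hom.appTop, morphismRestrict_app, CommRingCat.comp_apply] at ha'
      have h2 := congrArg ((i₀ ⁻¹ᵁ V).topIso.hom) ha'
      rw [map_zero] at h2
      rw [← h2]
      simp only [e, V, Scheme.Opens.topIso_hom]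
      show (V.topIso.hom ≫ i₀.app V) a =
        ((i₀.app (V.ι ''ᵁ ⊤) ≫ S₀.presheaf.map _) ≫ S₀.presheaf.map _) a
      congr 2
      refine (i₀.naturality (eqToHom V.ι_image_top.symm).op).trans ?_
      rw [Category.assoc, ← Functor.map_comp]
      congr 2
    refine (Ideal.pow_right_mono h1 n).trans ?_
    rw [← Ideal.map_pow, hn]
    simp
  let J : Ideal Γ(W, ⊤) := (RingHom.ker r.appTop.hom).map ψ.appTop.hom
  have hJ : IsNilpotent J := by
    obtain ⟨n, hn⟩ := hr
    exact ⟨n, by rw [← Ideal.map_pow, hn]; exact Ideal.map_bot⟩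
  refine fun Y h p => fixed_of_nilpotent actW hact' hone' hJ (fun Z hZ hZJ => ?_) Y h p
  intro Y' y h' p'
  haveI := hZ
  have hle : r.ker ≤ (Z.hom ≫ ψ).ker := by
    refine Scheme.IdealSheafData.le_of_isAffine ?_
    rw [Scheme.Hom.ker_apply, Scheme.ker_of_isAffine (Z.hom ≫ ψ)]
    simp only [Scheme.IdealSheafData.ofIdealTop_ideal]
    intro a ha
    have h1 : (Z.hom ≫ ψ).appTop a = 0 := by
      rw [Scheme.Hom.comp_appTop]
      exact (Ideal.map_eq_bot_iff_le_ker _).mp hZJ (Ideal.mem_map_of_mem _ ha)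
    simpa using! Ideal.mem_map_of_mem _ (RingHom.mem_ker.mpr h1)
  refine hfix Y' h' p' fun g => h0 _ (Over.homMk
    (y.left ≫ IsClosedImmersion.lift r (Z.hom ≫ ψ) hle ≫ (i₀ ⁻¹ᵁ V).ι) ?_) g _
  show (y.left ≫ _ ≫ _) ≫ i₀ = Y'.hom ≫ φ
  rw [Category.assoc, Category.assoc, ← morphismRestrict_ι, IsClosedImmersion.lift_fac_assoc,
    Category.assoc, hψ, ← Category.assoc, Over.w y]

end Groth.Agent.RedPts82
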