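import Groth.Agent.RedPts82.AvgMultHom

/-!
Deformations of conjugations and homomorphisms along nilpotent ideals of an affine base.
-/

universe u

open CategoryTheory MonoidalCategory CartesianMonoidalCategory MonObj GrpObj AlgebraicGeometry
open CategoryTheory.Limits

namespace Groth.Agent.RedPts82

variable {S : Scheme.{u}} [IsAffine S] {H K G : Over S} [GrpObj H] [GrpObj K] [GrpObj G]

omit [IsAffine S] [GrpObj K] in
theorem IsRelMul.restrict {A B : Over S} (g : A ⟶ B) {f : B ⊗ H ⟶ G} (hf : IsRelMul f) :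
    IsRelMul ((g ▷ H) ≫ f) := fun Z x k k' => by
  simp only [lift_whiskerRight_assoc]
  exact hf Z _ k k'

omit [GrpObj K] in
/-- Homomorphisms into a smooth group lift along nilpotent ideals. -/
theorem exists_hom_lift (hH : IsMultType H) [Smooth G.hom] (T : Over S) [IsAffine T.left]
    {J : Ideal (Gam T)} (hJ : IsNilpotent J) (f₀ : redObj T J ⊗ H ⟶ G) (hf₀ : IsRelMul f₀) :
    ∃ f : T ⊗ H ⟶ G, (redMap T J ▷ H) ≫ f = f₀ ∧ IsRelMul f :=
  lift_induction (fun A => A ⊗ H ⟶ G) (fun g c => (g ▷ H) ≫ c)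
    (fun f g c => comp_whiskerRight_assoc f g H c) (fun A c => by simp)
    (fun _ c => IsRelMul c) (fun g _ hc => IsRelMul.restrict g hc)
    (fun T _ _ hJ c₀ h₀ => exists_hom_lift_sq hH T hJ c₀ h₀) T hJ f₀ hf₀

omit [GrpObj G] in
/-- Homomorphisms between groups of multiplicative type lift along nilpotent ideals. -/
theorem exists_mult_hom_lift (hH : IsMultType H) (hK : IsMultType K) (T : Over S) [IsAffine T.left]
    {J : Ideal (Gam T)} (hJ : IsNilpotent J) (f₀ : redObj T J ⊗ H ⟶ K) (hf₀ : IsRelMul f₀) :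
    ∃ f : T ⊗ H ⟶ K, (redMap T J ▷ H) ≫ f = f₀ ∧ IsRelMul f :=
  lift_induction (fun A => A ⊗ H ⟶ K) (fun g c => (g ▷ H) ≫ c)
    (fun f g c => comp_whiskerRight_assoc f g H c) (fun A c => by simp)
    (fun _ c => IsRelMul c) (fun g _ hc => IsRelMul.restrict g hc)
    (fun T _ _ hJ c₀ h₀ => exists_mult_hom_lift_sq hH hK T hJ c₀ h₀) T hJ f₀ hf₀

omit [GrpObj G] in
/-- Homomorphisms between groups of multiplicative type congruent modulo a nilpotent ideal agree. -/
theorem relMul_eq_of_nilpotent (hH : IsMultType H) (hK : IsMultType K) (T : Over S) [IsAffine T.left]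
    {J : Ideal (Gam T)} (hJ : IsNilpotent J) {f f' : T ⊗ H ⟶ K} (hf : IsRelMul f) (hf' : IsRelMul f')
    (e : (redMap T J ▷ H) ≫ f = (redMap T J ▷ H) ≫ f') : f = f' := by
  suffices key : ∀ (k : ℕ) (J : Ideal (Gam T)), J ^ (2 ^ k) = ⊥ →
      (redMap T J ▷ H) ≫ f = (redMap T J ▷ H) ≫ f' → f = f' by
    obtain ⟨n, hn⟩ := hJ
    exact key n J (le_bot_iff.mp ((Ideal.pow_le_pow_right n.lt_two_pow_self.le).trans hn.le)) e
  intro k
  induction k with
  | zero =>
    intro J hJ e
    rw [pow_zero, pow_one] at hJ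
    exact relMul_eq_of_congr hH hK T (J := J) (by rw [hJ, Ideal.bot_mul]) hf hf' e
  | succ k ih =>
    intro J hJ e
    refine ih (J * J) (by rw [← pow_two, ← pow_mul, ← pow_succ']; exact hJ) ?_
    let T₁ := redObj T (J * J)
    let J₁ : Ideal (Gam T₁) := J.map (redMap T (J * J)).left.appTop.hom
    obtain ⟨r, hr⟩ := exists_factor_red (J := J) (redMap T₁ J₁ ≫ redMap T (J * J)) (by
      rw [Over.comp_left, Scheme.Hom.comp_appTop, CommRingCat.hom_comp, ← Ideal.map_map]
      exact map_redMap_eq_bot T₁ J₁)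
    refine relMul_eq_of_congr hH hK T₁ (J := J₁) ?_ (hf.restrict _) (hf'.restrict _) ?_
    · rw [← Ideal.map_mul]
      exact map_redMap_eq_bot T (J * J)
    · rw [← comp_whiskerRight_assoc, ← comp_whiskerRight_assoc, ← hr, comp_whiskerRight_assoc,
        comp_whiskerRight_assoc, e]

omit [GrpObj K] in
/-- Homomorphisms conjugate modulo a nilpotent ideal are conjugate, if the group is smooth. -/
theorem exists_conj_lift_nil (hH : IsMultType H) [Smooth G.hom] (u v : H ⟶ G) [IsMonHom u]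
    [IsMonHom v] (T : Over S) [IsAffine T.left] {J : Ideal (Gam T)} (hJ : IsNilpotent J)
    (g₀ : redObj T J ⟶ G) (h₀ : ∀ (Z : Over S) (x : Z ⟶ redObj T J) (k : Z ⟶ H),
      (x ≫ g₀) * (k ≫ u) * (x ≫ g₀)⁻¹ = k ≫ v) :
    ∃ g : T ⟶ G, redMap T J ≫ g = g₀ ∧
      ∀ (Z : Over S) (x : Z ⟶ T) (k : Z ⟶ H), (x ≫ g) * (k ≫ u) * (x ≫ g)⁻¹ = k ≫ v := by
  refine lift_induction (fun A => A ⟶ G) (fun f c => f ≫ c)
    (fun f g c => Category.assoc f g c) (fun A c => Category.id_comp c)
    (fun A c => ∀ (Z : Over S) (x : Z ⟶ A) (k : Z ⟶ H), (x ≫ c) * (k ≫ u) * (x ≫ c)⁻¹ = k ≫ v)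
    (fun g c hc Z x k => by rw [← Category.assoc]; exact hc Z _ k) ?_ T hJ g₀ h₀
  intro T _ J hJ c₀ h₀
  obtain ⟨g, hg⟩ := exists_smooth_lift T hJ c₀
  obtain ⟨g', hg', h⟩ := exists_conj_lift_sq hH u v T hJ g (by rw [hg]; exact h₀)
  exact ⟨g', hg'.trans hg, h⟩

omit [GrpObj G] in
/-- A family of homomorphisms over the base gives a homomorphism. -/
theorem isMonHom_of_relMul {f : 𝟙_ (Over S) ⊗ H ⟶ K} (hf : IsRelMul f) :
    IsMonHom (CartesianMonoidalCategory.lift (toUnit H) (𝟙 H) ≫ f) :=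
  isMonHom_of_points _ fun X a b => by
    simp only [comp_lift_assoc, Category.comp_id, comp_toUnit]
    exact hf X _ a b

section Base

variable {R : Type u} [CommRing R]

/-- The closed subscheme of an affine base is the subobject defined by an ideal of functions. -/
theorem exists_base_red (J : Ideal R) :
    ∃ (_ : IsAffine (𝟙_ (Over (Spec (CommRingCat.of R)))).left)
      (J' : Ideal (Gam (𝟙_ (Over (Spec (CommRingCat.of R)))))),
      (J ^ 2 = ⊥ → J' * J' = ⊥) ∧ (IsNilpotent J → IsNilpotent J') ∧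
        Nonempty (Over.mk (Spec.map (CommRingCat.ofHom (Ideal.Quotient.mk J))) ≅
          redObj (𝟙_ (Over (Spec (CommRingCat.of R)))) J') := by
  haveI hA : IsAffine (𝟙_ (Over (Spec (CommRingCat.of R)))).left :=
    inferInstanceAs (IsAffine (Spec (CommRingCat.of R)))
  let U := 𝟙_ (Over (Spec (CommRingCat.of R)))
  let σ : R →+* Gam U := (Scheme.ΓSpecIso (CommRingCat.of R)).inv.hom
  let J' := J.map σ
  refine ⟨hA, J', fun h => by rw [← Ideal.map_mul, ← pow_two, h, Ideal.map_bot], ?_, ?_⟩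
  · rintro ⟨n, hn⟩
    exact ⟨n, by rw [← Ideal.map_pow, hn]; exact Ideal.map_bot⟩
  let X₀ : Over (Spec (CommRingCat.of R)) :=
    Over.mk (Spec.map (CommRingCat.ofHom (Ideal.Quotient.mk J)))
  haveI : IsAffine X₀.left := inferInstanceAs (IsAffine (Spec _))
  obtain ⟨a, ha⟩ := exists_factor_red (J := J') (toUnit X₀) (by
    rw [Ideal.map_map, Ideal.map_eq_bot_iff_le_ker]
    intro r hr
    rw [RingHom.mem_ker]
    show (toUnit X₀).left.appTop ((Scheme.ΓSpecIso (CommRingCat.of R)).inv r) = 0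
    rw [show (toUnit X₀).left = Spec.map (CommRingCat.ofHom (Ideal.Quotient.mk J)) from
      (Category.comp_id _).symm.trans (Over.w (toUnit X₀))]
    refine (congr($(Scheme.ΓSpecIso_inv_naturality (CommRingCat.ofHom (Ideal.Quotient.mk J))) r)).symm.trans ?_
    show (Scheme.ΓSpecIso (CommRingCat.of (R ⧸ J))).inv (Ideal.Quotient.mk J r) = 0
    rw [Ideal.Quotient.eq_zero_iff_mem.mpr hr, map_zero])
  -- the inverse
  let q : R ⧸ J →+* Gam U ⧸ J' := Ideal.quotientMap J' σ Ideal.le_comap_map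
  have hq : Spec.map (CommRingCat.ofHom q) ≫ Spec.map (CommRingCat.ofHom (Ideal.Quotient.mk J)) =
      (redObj U J').hom := by
    rw [← Spec.map_comp, ← CommRingCat.ofHom_comp, show q.comp (Ideal.Quotient.mk J) =
      (Ideal.Quotient.mk J').comp σ from Ideal.quotientMap_comp_mk Ideal.le_comap_map,
      CommRingCat.ofHom_comp, Spec.map_comp]
    show Spec.map _ ≫ Spec.map _ = (Spec.map _ ≫ U.left.isoSpec.inv) ≫ U.hom
    rw [Category.assoc, show U.hom = 𝟙 _ from rfl, Category.comp_id]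
    refine congrArg (Spec.map _ ≫ ·) ?_
    show Spec.map (Scheme.ΓSpecIso (CommRingCat.of R)).inv = (Spec (CommRingCat.of R)).isoSpec.inv
    rw [← Scheme.isoSpec_Spec_inv]
  let b : redObj U J' ⟶ X₀ := Over.homMk (Spec.map (CommRingCat.ofHom q)) hq
  haveI : Mono (redMap U J').left := inferInstanceAs (Mono (Spec.map _ ≫ _))
  haveI : Mono (redMap U J') := Over.mono_of_mono_left _
  refine ⟨{ hom := a, inv := b, hom_inv_id := ?_, inv_hom_id := ?_ }⟩
  · haveI : IsClosedImmersion (Spec.map (CommRingCat.ofHom (Ideal.Quotient.mk J))) :=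
      IsClosedImmersion.spec_of_surjective _ Ideal.Quotient.mk_surjective
    haveI : Mono X₀.hom := inferInstanceAs (Mono (Spec.map _))
    refine Over.OverMorphism.ext ((cancel_mono X₀.hom).mp ?_)
    rw [Over.w, Over.id_left, Category.id_comp]
  · rw [← cancel_mono (redMap U J')]
    exact toUnit_unique _ _

end Base

end Groth.Agent.RedPts82
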