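import Groth.Agent.RedPts82.DSHomLoc

/-!
Families of homomorphisms of diagonalisable groups are locally constant.
-/

universe u

open CategoryTheory MonoidalCategory CartesianMonoidalCategory MonObj GrpObj AlgebraicGeometry
open CategoryTheory.Limits

namespace Groth.Agent.RedPts82

variable {S : Scheme.{u}} {Y : Over S} [IsAffine Y.left] {M N : Type} [AddCommGroup M] [AddCommGroup N]

set_option maxHeartbeats 1000000 in
/-- A family of homomorphisms of diagonalisable groups is given by a homomorphism of character groups near each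
point of the parameter scheme. -/
theorem exists_relHom_loc (hN : AddGroup.FG N) {f : Y ⊗ Red.DS S M ⟶ Red.DS S N} (hf : IsRelHom f) (y : Y.left) :
    ∃ (D : Y.left.Opens) (φ : N →+ M), y ∈ D ∧ ∀ (Z : Over S) (z : Z ⟶ Y), (∀ x : Z.left, z.left x ∈ D) →
      ∀ t : Z ⟶ Red.DS S M, CartesianMonoidalCategory.lift z t ≫ f = t ≫ Red.DSmap S φ := by
  classical
  have hu : ∀ n : N, ∃ u : DSRing Y M, IsGL u ∧ ∀ (Z : Over S) (z : Z ⟶ Y) (t : Z ⟶ Red.DS S M),
      dsFn (CartesianMonoidalCategory.lift z t ≫ f) n = evalDS z t u := fun n => exists_fn_of_relHom hf n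
  choose u hu hu' using hu
  let σ := evalAt Y.left y
  -- the character at `y`
  have hm : ∀ n, ∃ m, σ ((u n).coeff (Multiplicative.ofAdd m)) ≠ 0 := fun n => by
    by_contra hall
    push Not at hall
    have h1 := congrArg σ (hu n).coeff_sum
    rw [map_finsuppSum, map_one] at h1
    exact zero_ne_one ((Finset.sum_eq_zero fun g _ => hall (Multiplicative.toAdd g)).symm.trans h1)
  choose m hm using hm
  have hu_add : ∀ a b, u (a + b) = u a * u b := fun a b => by
    apply (polyCoord_bijective Y M).1
    rw [← evalDS_polyTu, ← evalDS_polyTu, map_mul, ← hu', ← hu', ← hu', dsFn_add]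
  -- the character is additive
  let ρ := MonoidAlgebra.mapRingHom (Multiplicative M) σ
  have hρ : ∀ n, ρ (u n) = MonoidAlgebra.single (Multiplicative.ofAdd (m n)) 1 := fun n => by
    have hidem : σ ((u n).coeff (Multiplicative.ofAdd (m n))) = 1 := by
      have h := congrArg σ ((hu n).coeff_mul (Multiplicative.ofAdd (m n)) (Multiplicative.ofAdd (m n)))
      rw [if_pos rfl, map_mul] at h
      exact (mul_eq_left₀ (hm n)).mp h
    ext g
    rw [MonoidAlgebra.coeff_single, Finsupp.single_apply]
    show (MonoidAlgebra.mapRingHom (Multiplicative M) σ (u n)).coeff g = _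
    rw [show (MonoidAlgebra.mapRingHom (Multiplicative M) σ (u n)).coeff g = σ ((u n).coeff g) by simp]
    split_ifs with hg
    · rw [← hg, hidem]
    · have h := congrArg σ ((hu n).coeff_mul g (Multiplicative.ofAdd (m n)))
      rw [if_neg (Ne.symm hg), map_mul, map_zero, hidem, _root_.mul_one] at h
      exact h
  have hadd : ∀ a b, m (a + b) = m a + m b := fun a b => by
    have h := congrArg ρ (hu_add a b)
    rw [map_mul, hρ, hρ, hρ, MonoidAlgebra.single_mul_single, _root_.one_mul] at h
    rcases MonoidAlgebra.single_inj.mp h with ⟨h3, -⟩ | ⟨h3, -⟩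
    · exact Multiplicative.ofAdd.injective h3
    · exact absurd h3 one_ne_zero
  -- on the basic open set of the coefficient, the function is the character
  have hloc : ∀ n (Z : Over S) (z : Z ⟶ Y),
      (∀ x : Z.left, z.left x ∈ Y.left.basicOpen ((u n).coeff (Multiplicative.ofAdd (m n)))) →
      ∀ t : Z ⟶ Red.DS S M, dsFn (CartesianMonoidalCategory.lift z t ≫ f) n = dsFn t (m n) := by
    intro n Z z hZ t
    let a := (u n).coeff (Multiplicative.ofAdd (m n))
    have hunit : IsUnit (z.left.appTop a) := by
      refine Z.left.toRingedSpace.isUnit_of_isUnit_germ ⊤ _ fun x hx => ?_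
      have : x ∈ z.left ⁻¹ᵁ Y.left.basicOpen a := hZ x
      exact (Z.left.mem_basicOpen_top _ x).mp
        ((Scheme.preimage_basicOpen_top z.left a).le this)
    have hidem : z.left.appTop a * z.left.appTop a = z.left.appTop a := by
      rw [← map_mul]
      refine congrArg _ ?_
      rw [(hu n).coeff_mul, if_pos rfl]
    have h1 : z.left.appTop a = 1 := hunit.mul_eq_left.mp hidem
    rw [hu', evalDS_eq_sum, Finsupp.sum, Finset.sum_eq_single (Multiplicative.ofAdd (m n))
      (fun g _ hg => ?_) (fun h => ?_)]
    · show z.left.appTop a * _ = _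
      rw [h1, _root_.one_mul]
      rfl
    · have h2 : z.left.appTop ((u n).coeff g) * z.left.appTop a = 0 := by
        rw [← map_mul, (hu n).coeff_mul, if_neg hg, map_zero]
      rw [h1, _root_.mul_one] at h2
      rw [h2, zero_mul]
    · have : a = 0 := Finsupp.notMem_support_iff.mp h
      rw [show (z.left.appTop a) = 0 by rw [this, map_zero]] at h1 ⊢
      rw [zero_mul]
  let φ : N →+ M := AddMonoidHom.mk' m hadd
  obtain ⟨gens, hgens⟩ : ∃ s : Finset N, AddSubgroup.closure (s : Set N) = ⊤ := hN.out
  refine ⟨gens.inf fun n => Y.left.basicOpen ((u n).coeff (Multiplicative.ofAdd (m n))), φ, ?_,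
    fun X z hX t => dsFn_injective fun n => ?_⟩
  · rw [← SetLike.mem_coe, TopologicalSpace.Opens.coe_finset_inf]
    simp only [Finset.inf_set_eq_iInter, Set.mem_iInter, Function.comp_apply, SetLike.mem_coe]
    exact fun n _ => (Scheme.evaluation_ne_zero_iff_mem_basicOpen (U := ⊤) Y.left y trivial _).mp (hm n)
  rw [dsFn_DSmap]
  let q := CartesianMonoidalCategory.lift z t ≫ f
  have hunit : ∀ s : X ⟶ Red.DS S N, ∀ k, dsFn s k * dsFn s (-k) = 1 := fun s k => by
    rw [← dsFn_add, add_neg_cancel, dsFn_zero]
  let K : AddSubgroup N :=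
    { carrier := {n | dsFn q n = dsFn t (φ n)}
      zero_mem' := by
        show _ = _
        rw [map_zero, dsFn_zero, dsFn_zero]
      add_mem' := fun {a b} ha hb => by
        show _ = _
        rw [dsFn_add, (ha : dsFn q a = _), (hb : dsFn q b = _), map_add, dsFn_add]
      neg_mem' := fun {a} ha => by
        show _ = _
        have h1 : dsFn t (φ a) * dsFn q (-a) = dsFn t (φ a) * dsFn t (φ (-a)) := by
          conv_lhs => rw [← (ha : dsFn q a = _)]
          rw [hunit, ← dsFn_add, ← map_add, add_neg_cancel, map_zero, dsFn_zero]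
        exact (dsFn_isUnit t (φ a)).mul_left_cancel h1 }
  have hK : K = ⊤ := by
    rw [eq_top_iff, ← hgens, AddSubgroup.closure_le]
    intro n hn
    refine hloc n X z (fun x => ?_) t
    have h := Finset.inf_le (f := fun k => Y.left.basicOpen ((u k).coeff (Multiplicative.ofAdd (m k)))) hn
    exact h (hX x)
  exact (show n ∈ K from hK ▸ AddSubgroup.mem_top n)

end Groth.Agent.RedPts82
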