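import Mathlib

/-!
A quasi-compact scheme covered locally by sections of an affine morphism is finite and étale over the base.
-/

set_option autoImplicit false
universe u

open CategoryTheory CategoryTheory.Limits AlgebraicGeometry

namespace Groth.Agent.RedPts82

variable {Y V : Scheme.{u}} (π : Y ⟶ V)

theorem finite_etale_of_local_sections [IsAffineHom π] [LocallyOfFiniteType π] [CompactSpace Y]
    (h : ∀ y : Y, ∃ (D : Y.Opens) (a : V ⟶ Y), y ∈ D ∧ a ≫ π = 𝟙 V ∧ D.ι ≫ π ≫ a = D.ι) :
    IsFinite π ∧ Etale π := by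
  choose D a hy ha hD using h
  have hcov : ⨆ y, D y = ⊤ := eq_top_iff.2 fun y _ => TopologicalSpace.Opens.mem_iSup.2 ⟨y, hy y⟩
  -- near each point the morphism is an open immersion
  have hopen : ∀ y, IsOpenImmersion ((D y).ι ≫ π) := fun y => by
    let E := a y ⁻¹ᵁ D y
    have hr₁ : Set.range ((D y).ι ≫ π) ⊆ Set.range E.ι := by
      rw [Scheme.Opens.range_ι]
      rintro _ ⟨z, rfl⟩
      show a y (((D y).ι ≫ π) z) ∈ D y
      rw [← Scheme.Hom.comp_apply, Category.assoc, hD y]
      exact z.2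
    have hr₂ : Set.range (E.ι ≫ a y) ⊆ Set.range (D y).ι := by
      rw [Scheme.Opens.range_ι]
      rintro _ ⟨z, rfl⟩
      exact z.2
    let i := IsOpenImmersion.lift E.ι ((D y).ι ≫ π) hr₁
    let j := IsOpenImmersion.lift (D y).ι (E.ι ≫ a y) hr₂
    have hi : i ≫ E.ι = (D y).ι ≫ π := IsOpenImmersion.lift_fac _ _ _
    have hj : j ≫ (D y).ι = E.ι ≫ a y := IsOpenImmersion.lift_fac _ _ _
    have hij : i ≫ j = 𝟙 _ := by
      rw [← cancel_mono (D y).ι, Category.assoc, hj, reassoc_of% hi, hD y, Category.id_comp]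
    have hji : j ≫ i = 𝟙 _ := by
      rw [← cancel_mono E.ι, Category.assoc, hi, reassoc_of% hj, ha y, Category.comp_id, Category.id_comp]
    have : IsIso i := ⟨j, hij, hji⟩
    rw [← hi]; infer_instance
  have het : Etale π := by
    refine (IsZariskiLocalAtSource.iff_of_openCover (P := @Etale) (Y.openCoverOfIsOpenCover D hcov)).2 fun y => ?_
    have := hopen y
    exact (inferInstance : Etale ((D y).ι ≫ π))
  obtain ⟨F, hF⟩ := isCompact_univ.elim_finite_subcover (fun y => (D y : Set Y)) (fun y => (D y).2)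
    fun y _ => Set.mem_iUnion.2 ⟨y, hy y⟩
  -- after any base change the sections cover, so the morphism is universally closed
  have : UniversallyClosed π := by
    refine ⟨fun Y' V' p q π' sq => ?_⟩
    have sa : ∀ y, ∃ a' : V' ⟶ Y', a' ≫ π' = 𝟙 _ ∧ a' ≫ p = q ≫ a y := fun y =>
      ⟨sq.lift (𝟙 _) (q ≫ a y) (by rw [Category.assoc, ha y, Category.comp_id, Category.id_comp]),
        sq.lift_fst _ _ _, sq.lift_snd _ _ _⟩
    choose a' ha' hap using sa
    intro Z hZ
    have himg : π'.base '' Z = ⋃ y ∈ F, (a' y).base ⁻¹' Z := by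
      ext x
      simp only [Set.mem_image, Set.mem_iUnion, Set.mem_preimage, exists_prop]
      constructor
      · rintro ⟨w, hw, rfl⟩
        obtain ⟨y, hyF, hwy⟩ := Set.mem_iUnion₂.1 (hF (Set.mem_univ (p w)))
        let W := p ⁻¹ᵁ D y
        let pW : (W : Scheme.{u}) ⟶ D y := IsOpenImmersion.lift (D y).ι (W.ι ≫ p) (by
          rw [Scheme.Opens.range_ι]
          rintro _ ⟨z, rfl⟩
          exact z.2)
        have hpW : pW ≫ (D y).ι = W.ι ≫ p := IsOpenImmersion.lift_fac _ _ _
        have key : W.ι ≫ π' ≫ a' y = W.ι := by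
          refine sq.hom_ext ?_ ?_
          · rw [Category.assoc, Category.assoc, ha', Category.comp_id]
          · rw [Category.assoc, Category.assoc, hap, sq.w_assoc, ← reassoc_of% hpW, hD y, hpW]
        refine ⟨y, hyF, ?_⟩
        have hw' : (W.ι ≫ π' ≫ a' y) ⟨w, hwy⟩ = W.ι ⟨w, hwy⟩ := by rw [key]
        rw [Scheme.Hom.comp_apply, Scheme.Hom.comp_apply] at hw'
        change (a' y) (π' w) = w at hw'
        rwa [hw']
      · rintro ⟨y, -, hy'⟩
        refine ⟨_, hy', ?_⟩
        show π' ((a' y) x) = x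
        rw [← Scheme.Hom.comp_apply, ha']; rfl
    rw [himg]
    exact F.finite_toSet.isClosed_biUnion fun y _ => hZ.preimage (a' y).continuous
  have : IsProper π := { }
  exact ⟨IsFinite.iff_isProper_and_isAffineHom.2 ⟨inferInstance, inferInstance⟩, het⟩

end Groth.Agent.RedPts82
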