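import Groth.Agent.RedPts82.HomFinFlat
import Groth.Agent.RedPts82.RelHomLoc
import Groth.Agent.RedPts82.SectionsFinEtale
import Groth.Agent.RedPts82.HomExtendMult
import Groth.Agent.Unr55.DescProps

/-!
The scheme of homomorphisms between groups of multiplicative type is finite étale when it is affine of finite
type.
-/

set_option autoImplicit false
set_option backward.isDefEq.respectTransparency.types false
set_option linter.style.haveILetI false
universe u

open CategoryTheory MonoidalCategory CartesianMonoidalCategory MonObj GrpObj AlgebraicGeometry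
open CategoryTheory.Limits

noncomputable section

namespace Groth.Agent.RedPts82.HomFF

variable {S V : Scheme.{u}}

/-- The structure map of the transpose of an object over `V`. -/
abbrev strPt (h : V ⟶ S) (X : Over V) : (Over.map h).obj X ⟶ Over.mk h := Over.homMk X.hom rfl

/-- The family defined by a morphism of base changes. -/
def famOf (h : V ⟶ S) {G H : Over S} (u : Red.bc h G ⟶ Red.bc h H) : G ⊗ Over.mk h ⟶ H :=
  Over.homMk (toBase h u).left (by
    have h1 : (toBase h u).left ≫ H.hom = pullback.snd G.hom h ≫ h := Over.w (toBase h u)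
    show (toBase h u).left ≫ H.hom = pullback.fst G.hom h ≫ G.hom
    rw [h1, pullback.condition])

theorem toBase_comp_eq (h : V ⟶ S) {G H : Over S} (u : Red.bc h G ⟶ Red.bc h H) {X : Over V}
    (x : X ⟶ Red.bc h G) : toBase h (x ≫ u) = lift (toBase h x) (strPt h X) ≫ famOf h u := by
  rw [toBase_comp]
  ext1
  show x.left ≫ (toBase h u).left = (lift (toBase h x) (strPt h X)).left ≫ (toBase h u).left
  congr 1
  refine pullback.hom_ext ?_ ?_
  · exact (toBase_left h x).symm.trans
      (congrArg Over.Hom.left (lift_fst (toBase h x) (strPt h X))).symm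
  · exact (Over.w x).trans (congrArg Over.Hom.left (lift_snd (toBase h x) (strPt h X))).symm

theorem isHomFamily_famOf (h : V ⟶ S) {G H : Over S} [GrpObj G] [GrpObj H] (u : Red.bc h G ⟶ Red.bc h H)
    [IsMonHom u] : AutFam.IsHomFamily G H (famOf h u) := by
  intro X g₁ g₂ t
  let X' : Over V := Over.mk t.left
  let j : (Over.map h).obj X' ⟶ X := Over.homMk (𝟙 _) (by
    show 𝟙 _ ≫ X.hom = t.left ≫ h
    rw [Category.id_comp]; exact (Over.w t).symm)
  have : IsIso j.left := inferInstanceAs (IsIso (𝟙 X.left))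
  have hmono : ∀ {a b : X ⟶ H}, j ≫ a = j ≫ b → a = b := fun hab => by
    ext1
    exact (cancel_epi j.left).1 (congrArg Over.Hom.left hab)
  have hj : j ≫ t = strPt h X' := by
    ext1
    exact Category.id_comp _
  have key : ∀ g : X ⟶ G, j ≫ lift g t ≫ famOf h u = toBase h (ofBase h (j ≫ g) ≫ u) := fun g => by
    rw [toBase_comp_eq, toBase_ofBase, comp_lift_assoc, hj]
  refine hmono ?_
  rw [MonObj.comp_mul, key, key, key, ← toBase_mul, ← MonObj.mul_comp _ _ u]
  refine congrArg (fun w => toBase h (w ≫ u)) (toBase_injective h ?_)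
  rw [toBase_mul, toBase_ofBase, toBase_ofBase, toBase_ofBase, MonObj.comp_mul]

section Chart

variable [IsAffine V] (h : V ⟶ S) {G H A : Over S} [GrpObj G] [GrpObj H] {υ : G ⊗ A ⟶ H}
  {M N : Type} [AddCommGroup M] [AddCommGroup N]
  (a : Red.DS V M ⟶ Red.bc h G) [IsMonHom a] [IsIso a] (b : Red.DS V N ⟶ Red.bc h H) [IsMonHom b] [IsIso b]

include a b in
/-- Over a base where both groups are diagonalisable, the scheme of homomorphisms is locally a section. -/
theorem local_sections (hA : AutFam.RepresentsHom G H A υ) (hN : AddGroup.FG N) [IsAffine (Red.bc h A).left]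
    (y : (Red.bc h A).left) :
    ∃ (D : (Red.bc h A).left.Opens) (c : V ⟶ (Red.bc h A).left), y ∈ D ∧
      c ≫ (Red.bc h A).hom = 𝟙 V ∧ D.ι ≫ (Red.bc h A).hom ≫ c = D.ι := by
  let T : Over V := Red.bc h A
  -- the universal family, in coordinates
  let fam : T ⊗ Red.DS V M ⟶ Red.DS V N :=
    ofBase h (lift (toBase h (snd T (Red.DS V M) ≫ a)) (toBase h (fst T (Red.DS V M))) ≫ υ) ≫ inv b
  have hfam : ∀ (X : Over V) (z : X ⟶ T) (t : X ⟶ Red.DS V M),
      toBase h ((lift z t ≫ fam) ≫ b) = lift (toBase h (t ≫ a)) (toBase h z) ≫ υ := by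
    intro X z t
    simp only [fam, Category.assoc, IsIso.inv_hom_id, Category.comp_id]
    rw [toBase_comp, toBase_ofBase, comp_lift_assoc, ← toBase_comp, ← toBase_comp, lift_snd_assoc, lift_fst]
  have hinj : ∀ {X : Over V} {p q : X ⟶ Red.DS V N}, toBase h (p ≫ b) = toBase h (q ≫ b) → p = q :=
    fun hpq => (cancel_mono b).1 (toBase_injective h hpq)
  have hrel : IsRelHom fam := by
    intro Z z t t'
    refine hinj ?_
    rw [MonObj.mul_comp _ _ b, toBase_mul, hfam, hfam, hfam, MonObj.mul_comp _ _ a, toBase_mul]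
    exact hA.1 _ _ _ _
  obtain ⟨D, φ, hy, hD⟩ := exists_relHom_loc hN hrel y
  -- the section given by the homomorphism of character groups
  have : IsMonHom (Red.DSmap V φ) := isMonHom_of_points _ fun X x x' => dsFn_injective fun n => by
    rw [dsFn_DSmap, dsFn_mul, dsFn_mul, dsFn_DSmap, dsFn_DSmap]
  have : IsMonHom (inv a) := isMonHom_of_points _ fun X x x' => by
    rw [← cancel_mono a]
    simp only [Category.assoc, MonObj.mul_comp _ _ a, IsIso.inv_hom_id, Category.comp_id]
  let w : Red.bc h G ⟶ Red.bc h H := inv a ≫ Red.DSmap V φ ≫ b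
  have : IsMonHom w := isMonHom_of_points _ fun X x x' => by
    simp only [w, ← Category.assoc, MonObj.mul_comp _ _ (inv a), MonObj.mul_comp _ _ (Red.DSmap V φ),
      MonObj.mul_comp _ _ b]
  obtain ⟨v, hv, -⟩ := hA.2 (Over.mk h) (famOf h w) (isHomFamily_famOf h w)
  let c : 𝟙_ (Over V) ⟶ T := ofBase h (strPt h (𝟙_ (Over V)) ≫ v)
  have hc : ∀ (X : Over V) (t : X ⟶ Red.DS V M), lift (toUnit X ≫ c) t ≫ fam = t ≫ Red.DSmap V φ := by
    intro X t
    refine hinj ?_
    rw [hfam]
    have h1 : toBase h (toUnit X ≫ c) = strPt h X ≫ v := by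
      rw [toBase_comp, toBase_ofBase, ← Category.assoc]
      refine congrArg (· ≫ v) (Over.OverMorphism.ext ?_)
      exact Over.w (toUnit X)
    rw [h1, ← lift_whiskerLeft_assoc, hv, ← toBase_comp_eq]
    simp only [w, Category.assoc, IsIso.hom_inv_id_assoc]
  -- points are determined by their families
  have huniq : ∀ (X : Over V) (z z' : X ⟶ T),
      (∀ (X' : Over V) (k : X' ⟶ X) (t : X' ⟶ Red.DS V M), lift (k ≫ z) t ≫ fam = lift (k ≫ z') t ≫ fam) →
        z = z' := by
    intro X z z' hzz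
    refine toBase_injective h ?_
    have hh : AutFam.IsHomFamily G H ((G ◁ toBase h z) ≫ υ) := fun X₁ g₁ g₂ t => by
      simp only [lift_whiskerLeft_assoc]
      exact hA.1 _ _ _ _
    refine (hA.2 _ _ hh).unique rfl ?_
    let X₁ := G ⊗ (Over.map h).obj X
    let pX : X₁ ⟶ (Over.map h).obj X := snd _ _
    let X' : Over V := Over.mk (pX.left ≫ X.hom)
    let k : X' ⟶ X := Over.homMk pX.left rfl
    let j : (Over.map h).obj X' ⟶ X₁ := Over.homMk (𝟙 X₁.left) (by
      show 𝟙 _ ≫ X₁.hom = (pX.left ≫ X.hom) ≫ h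
      rw [Category.id_comp, Category.assoc]
      exact (Over.w pX).symm)
    have : IsIso j.left := inferInstanceAs (IsIso (𝟙 X₁.left))
    have hj : j ≫ pX = (Over.map h).map k := by
      ext1
      exact Category.id_comp _
    let t : X' ⟶ Red.DS V M := ofBase h (j ≫ fst _ _) ≫ inv a
    have ht : toBase h (t ≫ a) = j ≫ fst _ _ := by
      simp only [t, Category.assoc, IsIso.inv_hom_id, Category.comp_id, toBase_ofBase]
    have key : ∀ z₀ : X ⟶ T, toBase h ((lift (k ≫ z₀) t ≫ fam) ≫ b) = j ≫ (G ◁ toBase h z₀) ≫ υ := by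
      intro z₀
      rw [hfam, ht, toBase_comp, ← hj, Category.assoc, ← comp_lift_assoc]
      congr 1
    have e := congrArg (fun q => toBase h (q ≫ b)) (hzz X' k t)
    simp only [key] at e
    ext1
    exact ((cancel_epi j.left).1 (congrArg Over.Hom.left e)).symm
  refine ⟨D, c.left, hy, Over.w c, ?_⟩
  let X : Over V := Over.mk (D.ι ≫ T.hom)
  let z : X ⟶ T := Over.homMk D.ι rfl
  have hz : z = toUnit X ≫ c := by
    refine huniq X _ _ fun X' k t => ?_
    have e1 : k ≫ toUnit X ≫ c = toUnit X' ≫ c := by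
      rw [← Category.assoc]
      exact congrArg (· ≫ c) (toUnit_unique _ _)
    rw [hD X' (k ≫ z) (fun x => (k.left x).2) t, e1, hc]
  have e := congrArg Over.Hom.left hz
  refine (Category.assoc _ _ _).symm.trans (Eq.trans ?_ e.symm)
  show (D.ι ≫ T.hom) ≫ c.left = (toUnit X).left ≫ c.left
  rw [show (toUnit X).left = X.hom from (Category.comp_id _).symm.trans (Over.w (toUnit X))]
  rfl

include a b in
/-- Over a base where both groups are diagonalisable, an affine scheme of homomorphisms of finite type is finite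
étale. -/
theorem finite_etale_chart (hA : AutFam.RepresentsHom G H A υ) (hN : AddGroup.FG N) [IsAffineHom A.hom]
    [LocallyOfFiniteType A.hom] : IsFinite (pullback.snd A.hom h) ∧ Etale (pullback.snd A.hom h) := by
  have : IsAffineHom (Red.bc h A).hom := inferInstanceAs (IsAffineHom (pullback.snd A.hom h))
  have : IsAffine (Red.bc h A).left := isAffine_of_isAffineHom (Red.bc h A).hom
  have : LocallyOfFiniteType (Red.bc h A).hom := inferInstanceAs (LocallyOfFiniteType (pullback.snd A.hom h))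
  exact finite_etale_of_local_sections (Red.bc h A).hom (local_sections h a b hA hN)

end Chart

/-- A chart around a point where two groups of multiplicative type are diagonalisable. -/
theorem exists_split_pair {G H : Over S} [GrpObj G] [GrpObj H] (hG : SGA3x.IsMultTypeFT G)
    (hH : SGA3x.IsMultTypeFT H) {U : S.Opens} (s : S) (hs : s ∈ U) :
    ∃ (V : Scheme.{u}) (_ : IsAffine V) (h : V ⟶ S) (M N : Type) (_ : AddCommGroup M) (_ : AddCommGroup N)
      (a : Red.DS V M ⟶ Red.bc h G) (b : Red.DS V N ⟶ Red.bc h H),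
      AddGroup.FG N ∧ Etale h ∧ s ∈ Set.range h ∧ Set.range h ⊆ (U : Set S) ∧
      IsMonHom a ∧ IsIso a ∧ IsMonHom b ∧ IsIso b := by
  obtain ⟨V₁, h₁, v₁, M, _, het₁, hv₁, ⟨e₁⟩⟩ := HomExt.exists_etale_split hG s
  obtain ⟨V₂, h₂, v₂, N, _, hN, het₂, hv₂, ⟨e₂⟩⟩ := HomExt.exists_etale_split_fg (isMultTypeFT_bc h₁ hH) v₁
  obtain ⟨i₂⟩ := AlgGrp33.nonempty_bc_comp h₂ h₁ H
  obtain ⟨W, hW, hvW, hWU⟩ := exists_isAffineOpen_mem_and_subset (x := v₂) (U := (h₂ ≫ h₁) ⁻¹ᵁ U)
    (show (h₂ ≫ h₁) v₂ ∈ U by rw [Scheme.Hom.comp_apply, hv₂, hv₁]; exact hs)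
  haveI : IsAffine (W : Scheme.{u}) := hW
  obtain ⟨a, ham, hamono, has⟩ :=
    exists_ds_cover_mono (W.ι ≫ h₂) h₁ (W.ι ≫ h₂ ≫ h₁) (Category.assoc _ _ _) e₁
  obtain ⟨b, hbm, hbmono, hbs⟩ :=
    exists_ds_cover_mono W.ι (h₂ ≫ h₁) (W.ι ≫ h₂ ≫ h₁) rfl (i₂.symm ≪≫ e₂)
  have ha : IsIso a := by
    obtain ⟨r, hr⟩ := has _ (𝟙 _)
    exact ⟨r, by rw [← cancel_mono a, Category.assoc, hr, Category.comp_id, Category.id_comp], hr⟩
  have hb : IsIso b := by
    obtain ⟨r, hr⟩ := hbs _ (𝟙 _)
    exact ⟨r, by rw [← cancel_mono b, Category.assoc, hr, Category.comp_id, Category.id_comp], hr⟩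
  exact ⟨W, hW, W.ι ≫ h₂ ≫ h₁, M, N, inferInstance, inferInstance, a, b, hN, inferInstance,
    ⟨⟨v₂, hvW⟩, by rw [Scheme.Hom.comp_apply, Scheme.Hom.comp_apply]; exact (congrArg h₁ hv₂).trans hv₁⟩,
    by rintro _ ⟨z, rfl⟩; exact hWU z.2, ham, ha, hbm, hb⟩

/-- An affine scheme of homomorphisms of finite type between groups of multiplicative type is finite étale. -/
theorem finite_etale_homScheme {G H A : Over S} [GrpObj G] [GrpObj H] (hG : SGA3x.IsMultTypeFT G)
    (hH : SGA3x.IsMultTypeFT H) {υ : G ⊗ A ⟶ H} (hA : AutFam.RepresentsHom G H A υ) [IsAffineHom A.hom]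
    [LocallyOfFiniteType A.hom] : IsFinite A.hom ∧ Etale A.hom := by
  have hloc : ∀ s : S, ∃ O : S.Opens, s ∈ O ∧ IsFinite (A.hom ∣_ O) ∧ Etale (A.hom ∣_ O) := by
    intro s
    obtain ⟨U, hU, hsU, -⟩ := exists_isAffineOpen_mem_and_subset (x := s) (U := (⊤ : S.Opens)) trivial
    obtain ⟨V, hV, h, M, N, _, _, a, b, hN, het, hsh, hhU, ham, hai, hbm, hbi⟩ := exists_split_pair hG hH s hsU
    obtain ⟨hfin, het'⟩ := finite_etale_chart h a b hA hN
    have hopen : IsOpen (Set.range h) := h.isOpenMap.isOpen_range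
    obtain ⟨f, hfle, hsf⟩ := hU.exists_basicOpen_le (V := ⟨Set.range h, hopen⟩) ⟨s, hsh⟩ hsU
    let O : S.Opens := S.basicOpen f
    refine ⟨O, hsf, ?_⟩
    let V' : V.Opens := h ⁻¹ᵁ O
    have hV' : IsAffineOpen V' := by
      have hle : ⊤ ≤ h ⁻¹ᵁ U := fun x _ => hhU ⟨x, rfl⟩
      have e : h ⁻¹ᵁ O = V.basicOpen (h.appLE U ⊤ hle f) := by
        rw [Scheme.Hom.appLE, CommRingCat.comp_apply, Scheme.basicOpen_res, Scheme.preimage_basicOpen]
        simp
      show IsAffineOpen (h ⁻¹ᵁ O)
      rw [e]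
      exact (isAffineOpen_top V).basicOpen _
    have : IsAffine (V' : Scheme.{u}) := hV'
    have : IsAffine (O : Scheme.{u}) := hU.basicOpen f
    let k : (V' : Scheme.{u}) ⟶ O := h ∣_ O
    have : Surjective k := ⟨fun x => by
      obtain ⟨v, hv⟩ := hfle x.2
      refine ⟨⟨v, show h v ∈ O by rw [hv]; exact x.2⟩, O.ι.isOpenEmbedding.injective ?_⟩
      rw [← Scheme.Hom.comp_apply, morphismRestrict_ι, Scheme.Hom.comp_apply]
      exact hv⟩
    have hfpqc : Unr55.fpqc k := ⟨⟨inferInstance, inferInstance⟩, inferInstance⟩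
    have hk : k ≫ O.ι = V'.ι ≫ h := morphismRestrict_ι h O
    have main : ∀ (P : MorphismProperty Scheme.{u}) [P.RespectsIso] [P.IsStableUnderBaseChange]
        [P.DescendsAlong Unr55.fpqc.{u}], P (pullback.snd A.hom h) → P (A.hom ∣_ O) := by
      intro P _ _ _ hP
      have h0 : ∀ m, m = V'.ι ≫ h → P (pullback.snd A.hom m) := by
        rintro _ rfl
        rw [← pullbackLeftPullbackSndIso_inv_snd_snd A.hom h V'.ι, P.cancel_left_of_respectsIso]
        exact MorphismProperty.pullback_snd _ _ hP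
      have h2 : P (pullback.snd (pullback.snd A.hom O.ι) k) := by
        rw [← pullbackLeftPullbackSndIso_hom_snd A.hom O.ι k, P.cancel_left_of_respectsIso]
        exact h0 _ hk
      have h3 : P (pullback.snd A.hom O.ι) :=
        MorphismProperty.of_isPullback_of_descendsAlong (P := P)
          (IsPullback.of_hasPullback (pullback.snd A.hom O.ι) k).flip hfpqc h2
      exact (P.arrow_mk_iso_iff (morphismRestrictOpensRange A.hom O.ι)).2 h3 |>
        fun h4 => (P.arrow_mk_iso_iff (morphismRestrictEq A.hom (Scheme.Opens.opensRange_ι O))).1 h4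
    haveI : MorphismProperty.DescendsAlong (@IsFinite : MorphismProperty Scheme.{u}) Unr55.fpqc.{u} := Unr55.isFinite
    haveI : MorphismProperty.DescendsAlong (@Etale : MorphismProperty Scheme.{u}) Unr55.fpqc.{u} := by
      unfold Unr55.fpqc; infer_instance
    exact ⟨main @IsFinite hfin, main @Etale het'⟩
  choose O hO h1 h2 using hloc
  have hcov : ⨆ s, O s = ⊤ := eq_top_iff.2 fun s _ => TopologicalSpace.Opens.mem_iSup.2 ⟨s, hO s⟩
  exact ⟨(IsZariskiLocalAtTarget.iff_of_iSup_eq_top (P := @IsFinite) O hcov).2 h1,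
    (IsZariskiLocalAtTarget.iff_of_iSup_eq_top (P := @Etale) O hcov).2 h2⟩

end Groth.Agent.RedPts82.HomFF
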