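import Groth.Agent.RedPts82.EqLocus
import Groth.Agent.FBase64.Geometric
import Groth.Agent.Desc59.FpqcMor

/-!
Central homomorphisms from groups of multiplicative type descend along flat covers with
geometrically connected fibres.
-/

universe u

open CategoryTheory MonoidalCategory CartesianMonoidalCategory MonObj GrpObj AlgebraicGeometry
open CategoryTheory.Limits

namespace Groth.Agent.RedPts82

variable {S S' : Scheme.{u}}

theorem isFpqcMor_of_qcCover (π : S' ⟶ S) [Flat π] [Surjective π] (h : IsQcCover π) :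
    Desc59.IsFpqcMor π := by
  refine ⟨⟨?_, ?_⟩⟩
  · rw [← PreZeroHypercover.presieve₀_singleton.{_, _, u}, Scheme.presieve₀_mem_qcPrecoverage_iff]
    refine ⟨fun {V} hV => ?_⟩
    obtain ⟨W, hW, hWV⟩ := h V hV
    exact IsCompactOpenCovered.of_finite (κ := PUnit.{1}) (fun _ => PUnit.unit) (fun _ => W)
      (fun _ => hW) (by rw [Set.iUnion_const]; exact hWV)
  · rw [Scheme.singleton_mem_precoverage_iff]
    exact ⟨π.surjective, inferInstance⟩

/-- Connected geometric fibres give geometric connectedness. -/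
theorem geometricallyConnected_of_geomPt (π : S' ⟶ S)
    (hconn : ∀ s : S, ConnectedSpace ↥(pullback π (Red.geomPt s))) : GeometricallyConnected π := by
  rw [GeometricallyConnected.iff_geometricallyConnected_fiber]
  intro s
  let σ := algebraMap (S.residueField s) (AlgebraicClosure (S.residueField s))
  haveI : ConnectedSpace ↥(pullback (π.fiberToSpecResidueField s)
      (Spec.map (CommRingCat.ofHom σ))) :=
    (pullbackLeftPullbackSndIso π (S.fromSpecResidueField s)
      (Spec.map (CommRingCat.ofHom σ))).hom.homeomorph.connectedSpace_iff.mpr (hconn s)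
  exact @FBase64.geometricallyConnected_of_sepClosed _ _ _ (π.fiberToSpecResidueField s) _ _ σ _
    ‹ConnectedSpace ↥(pullback (π.fiberToSpecResidueField s) (Spec.map (CommRingCat.ofHom σ)))›

section

variable {H G : Over S} (π : S' ⟶ S) (u' : Red.bc π H ⟶ Red.bc π G)

/-- The value of a morphism between base changes at a point lifted to the new base. -/
noncomputable def valAt {Z : Over S} (a : Z.left ⟶ S') (ha : a ≫ π = Z.hom) (h : Z ⟶ H) : Z ⟶ G :=
  Over.homMk ((pullback.lift h.left a (by rw [ha]; exact Over.w h) :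
      Z.left ⟶ (Red.bc π H).left) ≫ u'.left ≫ pullback.fst G.hom π) (by
    rw [Category.assoc, Category.assoc, pullback.condition,
      show u'.left ≫ pullback.snd G.hom π ≫ π = pullback.snd H.hom π ≫ π from
        (Category.assoc _ _ _).symm.trans (congrArg (· ≫ π) (Over.w u')),
      pullback.lift_snd_assoc, ha])

theorem valAt_comp {Z Z' : Over S} (k : Z' ⟶ Z) (a : Z.left ⟶ S') (ha : a ≫ π = Z.hom) (h : Z ⟶ H)
    (b : Z'.left ⟶ S') (hb : b ≫ π = Z'.hom) (e : k.left ≫ a = b) :
    valAt π u' b hb (k ≫ h) = k ≫ valAt π u' a ha h := by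
  subst e
  apply Over.OverMorphism.ext
  show _ ≫ u'.left ≫ _ = k.left ≫ _ ≫ u'.left ≫ _
  rw [← Category.assoc k.left]
  refine congrArg (· ≫ _) ?_
  apply pullback.hom_ext
  · rw [Category.assoc, pullback.lift_fst, pullback.lift_fst, Over.comp_left]
  · rw [Category.assoc, pullback.lift_snd, pullback.lift_snd]

theorem toBase_ofBase_valAt {Z : Over S'} (x : Z ⟶ Red.bc π H) :
    toBase π (x ≫ u') = valAt π u' (Z := (Over.map π).obj Z) Z.hom rfl (toBase π x) := by
  apply Over.OverMorphism.ext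
  rw [toBase_left, Over.comp_left]
  have e : x.left = pullback.lift (toBase π x).left Z.hom (by simpa using (Over.w (toBase π x))) := by
    apply pullback.hom_ext
    · rw [pullback.lift_fst, toBase_left]
    · rw [pullback.lift_snd]
      exact Over.w x
  refine (congrArg (fun m => (m ≫ u'.left) ≫ pullback.fst G.hom π) e).trans ?_
  exact Category.assoc _ _ _

variable [GrpObj H] [GrpObj G]

theorem exists_pts {Z : Over S} (a : Z.left ⟶ S') (ha : a ≫ π = Z.hom) (h : Z ⟶ H) :
    ∃ (α : (Over.map π).obj (Over.mk a) ≅ Z) (x : Over.mk a ⟶ Red.bc π H),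
      toBase π x = α.hom ≫ h ∧ α.hom ≫ valAt π u' a ha h = toBase π (x ≫ u') := by
  obtain ⟨α, hα⟩ := exists_over_iso π a ha
  refine ⟨α, ofBase π (α.hom ≫ h), toBase_ofBase _ _, ?_⟩
  rw [toBase_ofBase_valAt, toBase_ofBase]
  exact (valAt_comp π u' α.hom a ha h _ _ (by rw [hα]; exact Category.id_comp _)).symm

theorem valAt_mul [IsMonHom u'] {Z : Over S} (a : Z.left ⟶ S') (ha : a ≫ π = Z.hom) (h h' : Z ⟶ H) :
    valAt π u' a ha (h * h') = valAt π u' a ha h * valAt π u' a ha h' := by
  obtain ⟨α, hα⟩ := exists_over_iso π a ha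
  have key : ∀ k : Z ⟶ H,
      α.hom ≫ valAt π u' a ha k = toBase π (ofBase π (α.hom ≫ k) ≫ u') := fun k => by
    rw [toBase_ofBase_valAt, toBase_ofBase]
    exact (valAt_comp π u' α.hom a ha k _ _ (by rw [hα]; exact Category.id_comp _)).symm
  rw [← cancel_epi α.hom, MonObj.comp_mul, key, key, key, ← toBase_mul, ← MonObj.mul_comp _ _ u']
  refine congrArg (fun x => toBase π (x ≫ u')) (toBase_injective π ?_)
  rw [toBase_mul, toBase_ofBase, toBase_ofBase, toBase_ofBase, MonObj.comp_mul]

theorem valAt_central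
    (hc : ∀ (X : Over S') (g : X ⟶ Red.bc π G) (h : X ⟶ Red.bc π H),
      g * (h ≫ u') = (h ≫ u') * g)
    {Z : Over S} (a : Z.left ⟶ S') (ha : a ≫ π = Z.hom) (h : Z ⟶ H) (g : Z ⟶ G) :
    g * valAt π u' a ha h = valAt π u' a ha h * g := by
  obtain ⟨α, x, -, hx⟩ := exists_pts π u' a ha h
  rw [← cancel_epi α.hom, MonObj.comp_mul, MonObj.comp_mul, hx,
    ← toBase_ofBase π (α.hom ≫ g), ← toBase_mul, ← toBase_mul, hc]

variable [Flat π] [Surjective π] [IsMonHom u']

set_option maxHeartbeats 1000000 in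
/-- The values at two lifts of a point agree. -/
theorem valAt_eq [IsSeparated G.hom] [LocallyOfFiniteType G.hom] (hH : IsMultType H)
    (hc : ∀ (X : Over S') (g : X ⟶ Red.bc π G) (h : X ⟶ Red.bc π H),
      g * (h ≫ u') = (h ≫ u') * g)
    (hgc : GeometricallyConnected π)
    {Z : Over S} (a b : Z.left ⟶ S') (ha : a ≫ π = Z.hom) (hb : b ≫ π = Z.hom) (h : Z ⟶ H) :
    valAt π u' a ha h = valAt π u' b hb h := by
  let p₁ := pullback.fst π π
  let p₂ := pullback.snd π π
  let ρ := p₁ ≫ π
  have hρ : p₂ ≫ π = ρ := pullback.condition.symm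
  let Z₀ := (Over.map ρ).obj (Red.bc ρ H)
  let a₁ : Z₀.left ⟶ S' := (Red.bc ρ H).hom ≫ p₁
  let a₂ : Z₀.left ⟶ S' := (Red.bc ρ H).hom ≫ p₂
  have ha₁ : a₁ ≫ π = Z₀.hom := Category.assoc _ _ _
  have ha₂ : a₂ ≫ π = Z₀.hom := (Category.assoc _ _ _).trans (congrArg _ hρ)
  let v₁ : Red.bc ρ H ⟶ Red.bc ρ G := ofBase ρ (valAt π u' a₁ ha₁ (toBase ρ (𝟙 _)))
  let v₂ : Red.bc ρ H ⟶ Red.bc ρ G := ofBase ρ (valAt π u' a₂ ha₂ (toBase ρ (𝟙 _)))
  have hv₁ : ∀ (X : Over (pullback π π)) (x : X ⟶ Red.bc ρ H),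
      toBase ρ (x ≫ v₁) =
        valAt π u' (Z := (Over.map ρ).obj X) (X.hom ≫ p₁) (Category.assoc _ _ _) (toBase ρ x) := by
    intro X x
    rw [toBase_comp, toBase_ofBase, ← valAt_comp π u' ((Over.map ρ).map x) a₁ ha₁ _
      (X.hom ≫ p₁) (Category.assoc _ _ _) ((Category.assoc _ _ _).symm.trans
        (congrArg (· ≫ p₁) (Over.w x))), ← toBase_comp, Category.comp_id]
  have hv₂ : ∀ (X : Over (pullback π π)) (x : X ⟶ Red.bc ρ H),
      toBase ρ (x ≫ v₂) = valAt π u' (Z := (Over.map ρ).obj X) (X.hom ≫ p₂)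
        ((Category.assoc _ _ _).trans (congrArg _ hρ)) (toBase ρ x) := by
    intro X x
    rw [toBase_comp, toBase_ofBase, ← valAt_comp π u' ((Over.map ρ).map x) a₂ ha₂ _
      (X.hom ≫ p₂) ((Category.assoc _ _ _).trans (congrArg _ hρ))
      ((Category.assoc _ _ _).symm.trans (congrArg (· ≫ p₂) (Over.w x))), ← toBase_comp,
      Category.comp_id]
  let v : Red.bc ρ H ⟶ Red.bc ρ G := v₁ * v₂⁻¹
  haveI : IsMonHom v := isMonHom_of_points _ fun X x y => by
    simp only [v, MonObj.comp_mul, GrpObj.comp_inv]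
    have e₁ : (x * y) ≫ v₁ = (x ≫ v₁) * (y ≫ v₁) := toBase_injective ρ (by
      rw [toBase_mul, hv₁, hv₁, hv₁, toBase_mul, valAt_mul])
    have e₂ : (x * y) ≫ v₂ = (x ≫ v₂) * (y ≫ v₂) := toBase_injective ρ (by
      rw [toBase_mul, hv₂, hv₂, hv₂, toBase_mul, valAt_mul])
    rw [e₁, e₂]
    refine pts_mul_div_mul _ _ _ _ (fun g => toBase_injective ρ ?_) (toBase_injective ρ ?_)
    · rw [toBase_mul, toBase_mul, hv₁]
      exact valAt_central π u' hc _ _ _ _
    · rw [toBase_mul, toBase_mul, hv₂, hv₂]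
      exact (valAt_central π u' hc _ _ _ _)
  haveI : IsSeparated (Red.bc ρ G).hom := inferInstanceAs (IsSeparated (pullback.snd G.hom ρ))
  obtain ⟨U, hUc, hU, hkill⟩ := exists_trivial_locus (isMultType_bc ρ hH)
    (.inr (MorphismProperty.pullback_snd (P := @LocallyOfFiniteType) _ _ ‹_›)) v
  let Δ : S' ⟶ pullback π π := pullback.lift (𝟙 S') (𝟙 S') rfl
  have hΔ : ∀ y : S', Δ y ∈ U := by
    intro y
    refine (hU _).mpr ?_
    obtain ⟨h1, h2⟩ := specMap_field_flat_surjective (L := S'.residueField y)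
      (Field.toIsField ((pullback π π).residueField (Δ y))) (Δ.residueFieldMap y)
    refine Kills.of_comp (k := Spec.map (Δ.residueFieldMap y)) ?_
    rw [Scheme.Hom.SpecMap_residueFieldMap_fromSpecResidueField]
    refine Kills.comp ?_ _
    intro X k hk x
    rw [MonObj.comp_mul, GrpObj.comp_inv, mul_inv_eq_one]
    apply toBase_injective ρ
    rw [hv₁, hv₂]
    have e : X.hom ≫ p₁ = X.hom ≫ p₂ := by
      simp only [← hk, Category.assoc, Δ, p₁, p₂, pullback.lift_fst, pullback.lift_snd]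
    congr 1
  have hall : ∀ z : ↥(pullback π π), z ∈ U := by
    intro z
    haveI := hgc
    haveI : GeometricallyConnected p₁ := inferInstance
    have hsec : p₁ (Δ (p₁ z)) = p₁ z := by
      rw [← Scheme.Hom.comp_apply, pullback.lift_fst]; rfl
    exact (p₁.isConnected_preimage_singleton (p₁ z)).isPreconnected.subset_isClopen ⟨hUc, U.2⟩
      ⟨Δ (p₁ z), hsec, hΔ _⟩ (rfl : p₁ z = p₁ z)
  -- the universal pair
  let c : Z.left ⟶ pullback π π := pullback.lift a b (ha.trans hb.symm)
  have hc' : c ≫ ρ = Z.hom := by rw [pullback.lift_fst_assoc]; exact ha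
  obtain ⟨α, hα⟩ := exists_over_iso ρ c hc'
  have hr : Set.range c.base ⊆ Set.range U.ι.base := by
    rw [Scheme.Opens.range_ι]
    exact fun z _ => hall z
  have h0 := hkill (Over.mk c) (IsOpenImmersion.lift U.ι c hr) (IsOpenImmersion.lift_fac _ _ _)
    (ofBase ρ (α.hom ≫ h))
  rw [MonObj.comp_mul, GrpObj.comp_inv, mul_inv_eq_one] at h0
  have h1 := congrArg (toBase ρ) h0
  rw [hv₁, hv₂, toBase_ofBase] at h1
  rw [
    valAt_comp π u' α.hom a ha h ((Over.mk c).hom ≫ p₁) _ (by rw [hα]; exact (Category.id_comp _).trans (pullback.lift_fst _ _ _).symm),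
    valAt_comp π u' α.hom b hb h ((Over.mk c).hom ≫ p₂) _ (by rw [hα]; exact (Category.id_comp _).trans (pullback.lift_snd _ _ _).symm)] at h1
  exact (cancel_epi α.hom).mp h1

set_option maxHeartbeats 1000000 in
/-- A central homomorphism from a group of multiplicative type descends along a flat cover with
geometrically connected fibres. -/
theorem existsUnique_descend_hom [IsSeparated G.hom] [LocallyOfFiniteType G.hom] (hH : IsMultType H)
    (hqc : IsQcCover π) (hgc : GeometricallyConnected π)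
    (hc : ∀ (X : Over S') (g : X ⟶ Red.bc π G) (h : X ⟶ Red.bc π H),
      g * (h ≫ u') = (h ≫ u') * g) :
    ∃! u : H ⟶ G, IsMonHom u ∧ (Over.pullback π).map u = u' := by
  haveI := isFpqcMor_of_qcCover π hqc
  haveI hfp : Desc59.IsFpqcMor (pullback.fst H.hom π) := inferInstance
  have hsep : ∀ {Z : Over S} (a b : Z.left ⟶ S') (ha : a ≫ π = Z.hom) (hb : b ≫ π = Z.hom) (h : Z ⟶ H),
      valAt π u' a ha h = valAt π u' b hb h := valAt_eq π u' hH hc hgc
  let P := pullback H.hom π
  let g : P ⟶ G.left := u'.left ≫ pullback.fst G.hom π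
  haveI : EffectiveEpi (pullback.fst H.hom π) := Desc59.IsFpqcMor.effectiveEpi _
  have hg : ∀ {T : Scheme.{u}} (t₁ t₂ : T ⟶ P), t₁ ≫ pullback.fst H.hom π = t₂ ≫ pullback.fst H.hom π →
      t₁ ≫ g = t₂ ≫ g := by
    intro T t₁ t₂ e
    let Z : Over S := Over.mk (t₁ ≫ pullback.fst H.hom π ≫ H.hom)
    let h : Z ⟶ H := Over.homMk (t₁ ≫ pullback.fst H.hom π) (Category.assoc _ _ _)
    have h2 := congrArg CommaMorphism.left (hsep (Z := Z) (t₁ ≫ pullback.snd H.hom π)
      (t₂ ≫ pullback.snd H.hom π) (by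
        show _ = t₁ ≫ _
        rw [Category.assoc, ← pullback.condition])
      (by
        show _ = t₁ ≫ _
        rw [Category.assoc, ← pullback.condition, reassoc_of% e]) h)
    refine Eq.trans ?_ (h2.trans ?_)
    · show _ = _ ≫ u'.left ≫ _
      refine congrArg (· ≫ g) ?_
      apply pullback.hom_ext
      · exact (pullback.lift_fst _ _ _).symm
      · exact (pullback.lift_snd _ _ _).symm
    · show _ ≫ u'.left ≫ _ = _
      refine congrArg (· ≫ g) ?_
      apply pullback.hom_ext
      · exact (pullback.lift_fst _ _ _).trans e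
      · exact pullback.lift_snd _ _ _
  let d := EffectiveEpi.desc (pullback.fst H.hom π) g hg
  have hd : pullback.fst H.hom π ≫ d = g := EffectiveEpi.fac _ _ _
  haveI : Epi (pullback.fst H.hom π) := inferInstance
  let u : H ⟶ G := Over.homMk d (by
    rw [← cancel_epi (pullback.fst H.hom π), ← Category.assoc, hd, Category.assoc,
      pullback.condition, ← Category.assoc]
    exact (congrArg (· ≫ π) (Over.w u')).trans pullback.condition.symm)
  have hval : ∀ {Z : Over S} (a : Z.left ⟶ S') (ha : a ≫ π = Z.hom) (h : Z ⟶ H),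
      h ≫ u = valAt π u' a ha h := by
    intro Z a ha h
    apply Over.OverMorphism.ext
    show h.left ≫ d = _ ≫ g
    rw [← hd, pullback.lift_fst_assoc]
  haveI : IsMonHom u := isMonHom_of_points _ fun Z x y => by
    let Z' : Over S := Over.mk (pullback.fst Z.hom π ≫ Z.hom)
    let q : Z' ⟶ Z := Over.homMk (pullback.fst Z.hom π) rfl
    haveI : Epi q.left := Flat.epi_of_flat_of_surjective (pullback.fst Z.hom π)
    haveI : Epi q := (Over.forget S).epi_of_epi_map (f := q) ‹_›
    have ha : pullback.snd Z.hom π ≫ π = Z'.hom := pullback.condition.symm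
    rw [← cancel_epi q, ← Category.assoc, MonObj.comp_mul q x y, hval _ ha, valAt_mul,
      ← hval _ ha, ← hval _ ha, MonObj.comp_mul, Category.assoc, Category.assoc]
  refine ⟨u, ⟨inferInstance, ?_⟩, fun w ⟨_, hw⟩ => ?_⟩
  · apply toBase_injective π
    rw [← Category.id_comp ((Over.pullback π).map u), ← Category.id_comp u', toBase_comp_map,
      hval (Red.bc π H).hom rfl, toBase_ofBase_valAt]
  · apply Over.OverMorphism.ext
    rw [← cancel_epi (pullback.fst H.hom π)]
    show _ = pullback.fst H.hom π ≫ d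
    rw [hd]
    show _ = u'.left ≫ _
    rw [← hw]
    exact (pullback.lift_fst _ _ _).symm

end

end Groth.Agent.RedPts82
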