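import Groth.Agent.RedPts82.MonoSep
import Groth.Agent.RedPts82.MultLoci
import Groth.Agent.RedPts82.DescHom
import Groth.Agent.RedPts82.DSChar
import Groth.Agent.RedPts82.TorusBasic
import Groth.Agent.Desc59.DDFamEff

/-!
The image of a homomorphism from a diagonalisable group to a separated group of finite type.
-/

universe u

open CategoryTheory MonoidalCategory CartesianMonoidalCategory MonObj GrpObj AlgebraicGeometry
open CategoryTheory.Limits

namespace Groth.Agent.RedPts82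

variable {S : Scheme.{u}}

/-- Base change of a diagonalisable group. -/
theorem exists_ds_bc {T : Scheme.{u}} (φ : T ⟶ S) (M : Type) [AddCommGroup M] :
    ∃ a : Red.DS T M ⟶ Red.bc φ (Red.DS S M), IsMonHom a ∧ IsIso a ∧
      ∀ (X : Over T) (t : X ⟶ Red.DS T M) (m : M), dsFn (toBase φ (t ≫ a)) m = dsFn t m := by
  obtain ⟨t₀, ht₀⟩ := dsFn_surjective (S := S) (M := M) (X := (Over.map φ).obj (Red.DS T M))
    { toFun := fun m => dsFn (S := T) (X := Red.DS T M) (𝟙 (Red.DS T M)) (Multiplicative.toAdd m)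
      map_one' := dsFn_zero _
      map_mul' := fun a b => dsFn_add _ _ _ }
  have key : ∀ (X : Over T) (t : X ⟶ Red.DS T M) (m : M),
      dsFn (toBase φ (t ≫ ofBase φ t₀)) m = dsFn t m := fun X t m => by
    rw [toBase_comp, toBase_ofBase, dsFn_comp, ht₀]
    have e := dsFn_comp (S := T) t (𝟙 (Red.DS T M)) m
    rw [Category.comp_id] at e
    exact e.symm
  have hinj : ∀ (X : Over T) (t t' : X ⟶ Red.DS T M), t ≫ ofBase φ t₀ = t' ≫ ofBase φ t₀ → t = t' :=
    fun X t t' e => dsFn_injective fun m => by rw [← key, e, key]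
  refine ⟨ofBase φ t₀, isMonHom_of_points _ fun X x y => toBase_injective φ (dsFn_injective fun m => ?_),
    ?_, key⟩
  · rw [key, toBase_mul, dsFn_mul, dsFn_mul, key, key]
  · obtain ⟨r, hr⟩ := dsFn_surjective (S := T) (M := M) (X := Red.bc φ (Red.DS S M))
      { toFun := fun m => dsFn (S := S) (X := (Over.map φ).obj (Red.bc φ (Red.DS S M))) (toBase φ (𝟙 (Red.bc φ (Red.DS S M)))) (Multiplicative.toAdd m)
        map_one' := dsFn_zero _
        map_mul' := fun a b => dsFn_add _ _ _ }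
    have h : r ≫ ofBase φ t₀ = 𝟙 _ := toBase_injective φ (dsFn_injective fun m => by
      rw [key, hr]
      rfl)
    exact ⟨r, hinj _ _ _ (by rw [Category.assoc, h, Category.comp_id, Category.id_comp]), h⟩

/-- A diagonalisable group of finite type is of multiplicative type. -/
theorem isMultTypeFT_DS (S : Scheme.{u}) (M : Type) [AddCommGroup M] (hM : AddGroup.FG M) :
    SGA3x.IsMultTypeFT (Red.DS S M) := by
  refine ⟨S, 𝟙 S, inferInstance, inferInstance, fun V hV => ⟨V, hV.isCompact, by simp⟩,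
    fun s => ⟨⊤, trivial, M, inferInstance, hM, ?_⟩⟩
  obtain ⟨a, ha, hi, -⟩ := exists_ds_bc ((⊤ : S.Opens).ι ≫ 𝟙 S) M
  exact ⟨(Grp.mkIso' (asIso a)).symm⟩

/-- The functions of a translated point. -/
theorem exists_pt_map {T : Scheme.{u}} (φ : T ⟶ S) {M : Type} [AddCommGroup M] (X : Over T)
    (t : (Over.map φ).obj X ⟶ Red.DS S M) :
    ∃ t' : X ⟶ Red.DS T M, ∀ m, dsFn t' m = dsFn t m :=
  dsFn_surjective (S := T) (M := M) (X := X)
    { toFun := fun m => dsFn (S := S) (X := (Over.map φ).obj X) t (Multiplicative.toAdd m)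
      map_one' := dsFn_zero _
      map_mul' := fun a b => dsFn_add _ _ _ }

section Hom

variable {Γ : Type} [AddCommGroup Γ] {G : Over S} [GrpObj G] (q : Red.DS S Γ ⟶ G) [IsMonHom q]

/-- The kernel over `ψ` contains the points killing the subgroup of characters. -/
def KillsOn {T : Scheme.{u}} (ψ : T ⟶ S) (Λ : AddSubgroup Γ) : Prop :=
  ∀ (Z : Over S) (_ : Z ⟶ Over.mk ψ) (t : Z ⟶ Red.DS S Γ),
    (∀ m ∈ Λ, dsFn t m = 1) → t ≫ q = 1

/-- The kernel over `ψ` is the annihilator of the subgroup of characters. -/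
def IsAnnOn {T : Scheme.{u}} (ψ : T ⟶ S) (Λ : AddSubgroup Γ) : Prop :=
  KillsOn q ψ Λ ∧ ∀ m ∈ Λ, CharTriv ψ q m

omit [IsMonHom q] in
theorem CharTriv.of_comp' {T T' : Scheme.{u}} {ψ : T ⟶ S} {ψ' : T' ⟶ S} {m : Γ}
    (h : CharTriv ψ q m) (g : T' ⟶ T) (hg : g ≫ ψ = ψ') : CharTriv ψ' q m :=
  fun Z p t ht => h Z (Over.homMk (p.left ≫ g) (by
    show (p.left ≫ g) ≫ ψ = Z.hom
    rw [Category.assoc, hg]; exact Over.w p)) t ht

omit [IsMonHom q] in
theorem KillsOn.of_comp {T T' : Scheme.{u}} {ψ : T ⟶ S} {ψ' : T' ⟶ S} {Λ : AddSubgroup Γ}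
    (h : KillsOn q ψ Λ) (g : T' ⟶ T) (hg : g ≫ ψ = ψ') : KillsOn q ψ' Λ :=
  fun Z p t ht => h Z (Over.homMk (p.left ≫ g) (by
    show (p.left ≫ g) ≫ ψ = Z.hom
    rw [Category.assoc, hg]; exact Over.w p)) t ht

theorem exists_residue_pt (s : S) {L : Type} [AddCommGroup L] (ν : Γ →+ L) :
    ∃ (Z : Over S) (_ : Z ⟶ Over.mk (S.fromSpecResidueField s))
      (τ : MonoidAlgebra (S.residueField s) (Multiplicative L) ≃+* Γ(Z.left, ⊤))
      (t : Z ⟶ Red.DS S Γ),
      ∀ m, dsFn t m = τ (MonoidAlgebra.single (Multiplicative.ofAdd (ν m)) 1) :=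
  exists_char_pt s ν

/-- The subgroup of characters is determined by the kernel at a point. -/
theorem mem_of_isAnn {s : S} {Λ : AddSubgroup Γ} (h : KillsOn q (S.fromSpecResidueField s) Λ)
    {m : Γ} (hm : CharTriv (S.fromSpecResidueField s) q m) : m ∈ Λ := by
  obtain ⟨Z, p, τ, t, ht⟩ := exists_residue_pt s (QuotientAddGroup.mk' Λ)
  have h1 := hm Z p t (h Z p t fun l hl => by
    rw [ht, QuotientAddGroup.mk'_apply, (QuotientAddGroup.eq_zero_iff _).mpr hl, ofAdd_zero,
      ← MonoidAlgebra.one_def, map_one])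
  rw [ht, ← map_one τ, MonoidAlgebra.one_def] at h1
  rcases MonoidAlgebra.single_inj.mp (τ.injective h1) with ⟨h2, -⟩ | ⟨h2, -⟩
  · exact (QuotientAddGroup.eq_zero_iff m).mp (Multiplicative.ofAdd.injective h2)
  · exact absurd h2 one_ne_zero

theorem isAnn_unique {s : S} {Λ Λ' : AddSubgroup Γ} (h : IsAnnOn q (S.fromSpecResidueField s) Λ)
    (h' : IsAnnOn q (S.fromSpecResidueField s) Λ') : Λ = Λ' :=
  le_antisymm (fun m hm => mem_of_isAnn q h'.1 (h.2 m hm)) fun m hm => mem_of_isAnn q h.1 (h'.2 m hm)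

end Hom

section Local

variable {W : Scheme.{u}} [IsAffine W] {G : Over W} [GrpObj G] [IsSeparated G.hom]
  [LocallyOfFiniteType G.hom] {Γ : Type} [AddCommGroup Γ] (q : Red.DS W Γ ⟶ G) [IsMonHom q]

set_option maxHeartbeats 1000000 in
/-- Over an affine base, the kernel at a point is the annihilator of finitely many characters. -/
theorem exists_isAnn_affine (w : W) :
    ∃ Λ : AddSubgroup Γ, Λ.FG ∧ IsAnnOn q (W.fromSpecResidueField w) Λ := by
  classical
  haveI : IsAffine (𝟙_ (Over W)).left := inferInstanceAs (IsAffine W)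
  obtain ⟨I, hI₁, hI₂, hI₃⟩ := exists_kerIdeal q
  obtain ⟨gens, hgens⟩ := hI₃ inferInstance
  let gs₀ : Finset Γ := gens.biUnion fun v => v.coeff.support.image Multiplicative.toAdd
  let Λ₀ := AddSubgroup.closure (gs₀ : Set Γ)
  have h0 : ∀ (Z : Over W) [IsAffine Z.left] (t : Z ⟶ Red.DS W Γ),
      (∀ m ∈ Λ₀, dsFn t m = 1) → t ≫ q = 1 := by
    intro Z _ t ht
    refine hI₂ Z t fun v hv => ?_
    have hle : I ≤ RingHom.ker (evalDS (toUnit Z) t) := by
      rw [← hgens, Ideal.span_le]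
      intro v hv
      have h1 := hI₁ Z 1 (MonObj.one_comp q) v (hgens ▸ Ideal.subset_span hv)
      show evalDS (toUnit Z) t v = 0
      rw [← h1, evalDS_eq_sum, evalDS_eq_sum]
      refine Finsupp.sum_congr fun g hg => ?_
      rw [dsFn_one, ht _ (AddSubgroup.subset_closure
        (Finset.mem_biUnion.mpr ⟨v, hv, Finset.mem_image_of_mem _ hg⟩))]
    exact hle hv
  let Λ := charTrivSubgroup q (W.fromSpecResidueField w)
  have h0' : ∀ (Z : Over W) (t : Z ⟶ Red.DS W Γ), (∀ m ∈ Λ₀, dsFn t m = 1) → t ≫ q = 1 := by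
    intro Z t ht
    refine hom_ext_of_nhds _ _ fun z => ?_
    obtain ⟨V, hV, hzV, -⟩ := exists_isAffineOpen_mem_and_subset (x := z) (U := ⊤) trivial
    refine ⟨V, hzV, ?_⟩
    let Z' : Over W := Over.mk (V.ι ≫ Z.hom)
    haveI : IsAffine Z'.left := hV
    let r : Z' ⟶ Z := Over.homMk V.ι rfl
    have h1 : r ≫ t ≫ q = r ≫ 1 := by
      rw [MonObj.comp_one, ← Category.assoc]
      exact h0 Z' (r ≫ t) fun m hm => by rw [dsFn_comp, ht m hm, map_one]
    exact congrArg CommaMorphism.left h1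
  have hle : Λ ≤ Λ₀ := by
    intro m hm
    obtain ⟨Z, p, τ, t, ht⟩ := exists_char_pt w (QuotientAddGroup.mk' Λ₀)
    have h1 := hm Z p t (h0' Z t fun l hl => by
      rw [ht, QuotientAddGroup.mk'_apply, (QuotientAddGroup.eq_zero_iff _).mpr hl, ofAdd_zero,
        ← MonoidAlgebra.one_def, map_one])
    rw [ht, ← map_one τ, MonoidAlgebra.one_def] at h1
    rcases MonoidAlgebra.single_inj.mp (τ.injective h1) with ⟨h2, -⟩ | ⟨h2, -⟩
    · exact (QuotientAddGroup.eq_zero_iff m).mp (Multiplicative.ofAdd.injective h2)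
    · exact absurd h2 one_ne_zero
  refine ⟨Λ, ?_, ?_, fun m hm => hm⟩
  · have h1 : AddGroup.FG Λ₀ := (AddGroup.fg_iff_addSubgroup_fg _).mpr ⟨gs₀, rfl⟩
    haveI : Module.Finite ℤ Λ₀ := Module.Finite.iff_addGroup_fg.mpr h1
    haveI : IsNoetherian ℤ Λ₀ := inferInstance
    have h2 : AddGroup.FG (Λ.addSubgroupOf Λ₀) :=
      Module.Finite.iff_addGroup_fg.mp
        (inferInstanceAs (Module.Finite ℤ (AddSubgroup.toIntSubmodule (Λ.addSubgroupOf Λ₀))))
    exact (AddGroup.fg_iff_addSubgroup_fg _).mp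
      (AddGroup.fg_of_surjective (f := (AddSubgroup.addSubgroupOfEquivOfLe hle).toAddMonoidHom)
        (AddEquiv.surjective _))
  · intro Z p t ht
    refine hom_ext_of_nhds _ _ fun z => ?_
    obtain ⟨V, hV, hzV, -⟩ := exists_isAffineOpen_mem_and_subset (x := z) (U := ⊤) trivial
    refine ⟨V, hzV, ?_⟩
    let Z' : Over W := Over.mk (V.ι ≫ Z.hom)
    haveI : IsAffine Z'.left := hV
    let r : Z' ⟶ Z := Over.homMk V.ι rfl
    have h1 : r ≫ t ≫ q = r ≫ 1 := by
      rw [MonObj.comp_one, ← Category.assoc]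
      exact comp_eq_one_of_charTriv q w Z' (r ≫ p) _ fun m hm => by
        rw [dsFn_comp, ht m hm, map_one]
    exact congrArg CommaMorphism.left h1

end Local

section Global

variable {Γ : Type} [AddCommGroup Γ] {G : Over S} [GrpObj G] (q : Red.DS S Γ ⟶ G) [IsMonHom q]

/-- Kernels and base change. -/
theorem exists_bc_hom {T : Scheme.{u}} (φ : T ⟶ S) :
    ∃ q' : Red.DS T Γ ⟶ Red.bc φ G, IsMonHom q' ∧
      (∀ (Z : Over T) (t : Z ⟶ Red.DS T Γ), ∃ t₁ : (Over.map φ).obj Z ⟶ Red.DS S Γ,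
        (∀ m, dsFn t₁ m = dsFn t m) ∧ toBase φ (t ≫ q') = t₁ ≫ q) ∧
      (∀ {T' : Scheme.{u}} (ψ : T' ⟶ T) (m : Γ), CharTriv ψ q' m ↔ CharTriv (ψ ≫ φ) q m) ∧
      ∀ {T' : Scheme.{u}} (ψ : T' ⟶ T) (Λ : AddSubgroup Γ),
        KillsOn q' ψ Λ ↔ KillsOn q (ψ ≫ φ) Λ := by
  obtain ⟨a, ha, hi, hfn⟩ := exists_ds_bc φ Γ
  refine ⟨a ≫ (Over.pullback φ).map q, inferInstance, ?_⟩
  have hkey : ∀ (Z : Over T) (t : Z ⟶ Red.DS T Γ),
      toBase φ (t ≫ a ≫ (Over.pullback φ).map q) = toBase φ (t ≫ a) ≫ q := fun Z t => by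
    rw [← Category.assoc, toBase_comp_map]
  have hone : ∀ (Z : Over T) (t : Z ⟶ Red.DS T Γ),
      t ≫ a ≫ (Over.pullback φ).map q = 1 ↔ toBase φ (t ≫ a) ≫ q = 1 := fun Z t => by
    rw [← hkey]
    exact ⟨fun h => by rw [h, toBase_one], fun h => toBase_injective φ (by rw [h, toBase_one])⟩
  refine ⟨fun Z t => ⟨_, hfn Z t, hkey Z t⟩, fun {T'} ψ m => ⟨fun h Z p t ht => ?_, fun h Z p t ht => ?_⟩,
    fun {T'} ψ Λ => ⟨fun h Z p t ht => ?_, fun h Z p t ht => ?_⟩⟩
  · obtain ⟨α, hα⟩ := exists_over_iso φ (p.left ≫ ψ) (by rw [Category.assoc]; exact Over.w p)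
    obtain ⟨t', ht'⟩ := exists_pt_map φ _ (α.hom ≫ t)
    have e : toBase φ (t' ≫ a) = α.hom ≫ t := dsFn_injective fun l => by rw [hfn, ht']
    have h1 := h _ (Over.homMk p.left rfl) t' ((hone _ _).mpr (by
      rw [e, Category.assoc, ht, MonObj.comp_one]))
    rw [ht', dsFn_comp] at h1
    haveI : IsIso α.hom.left := inferInstanceAs (IsIso ((Over.forget S).map α.hom))
    haveI : IsIso α.hom.left.appTop := inferInstanceAs (IsIso (Scheme.Γ.map α.hom.left.op))
    exact (ConcreteCategory.bijective_of_isIso α.hom.left.appTop).1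
      (h1.trans (map_one _).symm)
  · rw [← hfn]
    exact h _ (Over.homMk p.left (by
      show p.left ≫ ψ ≫ φ = Z.hom ≫ φ
      rw [← Category.assoc]; exact congrArg (· ≫ φ) (Over.w p))) _ ((hone Z t).mp ht)
  · obtain ⟨α, hα⟩ := exists_over_iso φ (p.left ≫ ψ) (by rw [Category.assoc]; exact Over.w p)
    obtain ⟨t', ht'⟩ := exists_pt_map φ _ (α.hom ≫ t)
    have e : toBase φ (t' ≫ a) = α.hom ≫ t := dsFn_injective fun l => by rw [hfn, ht']
    have h1 := (hone _ _).mp (h _ (Over.homMk p.left rfl) t' fun l hl => by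
      rw [ht', dsFn_comp, ht l hl, map_one])
    rw [e, Category.assoc] at h1
    rw [← cancel_epi α.hom, h1, MonObj.comp_one]
  · refine (hone Z t).mpr (h _ (Over.homMk p.left (by
      show p.left ≫ ψ ≫ φ = Z.hom ≫ φ
      rw [← Category.assoc]; exact congrArg (· ≫ φ) (Over.w p))) _ fun l hl => by rw [hfn, ht l hl])

variable [IsSeparated G.hom] [LocallyOfFiniteType G.hom]

/-- The kernel at a point is the annihilator of a finitely generated group of characters. -/
theorem exists_isAnn (s : S) :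
    ∃ Λ : AddSubgroup Γ, Λ.FG ∧ IsAnnOn q (S.fromSpecResidueField s) Λ ∧
      ∃ D : S.Opens, s ∈ D ∧ ∀ x, x ∈ D → ∀ m ∈ Λ, CharTriv (S.fromSpecResidueField x) q m := by
  classical
  obtain ⟨V, hV, hsV, -⟩ := exists_isAffineOpen_mem_and_subset (x := s) (U := ⊤) trivial
  haveI : IsAffine (V : Scheme.{u}) := hV
  obtain ⟨q', hq', -, hct, hko⟩ := exists_bc_hom q V.ι
  haveI := hq'
  haveI : IsSeparated (Red.bc V.ι G).hom := inferInstanceAs (IsSeparated (pullback.snd G.hom V.ι))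
  haveI : LocallyOfFiniteType (Red.bc V.ι G).hom :=
    MorphismProperty.pullback_snd (P := @LocallyOfFiniteType) _ _ ‹_›
  haveI hiso : ∀ v : (V : Scheme.{u}), IsIso (Spec.map (V.ι.residueFieldMap v)) := fun v => inferInstance
  have hres : ∀ v : (V : Scheme.{u}), ∀ m : Γ,
      CharTriv (S.fromSpecResidueField v.1) q m ↔ CharTriv ((V : Scheme.{u}).fromSpecResidueField v) q' m := by
    intro v m
    rw [hct]
    refine ⟨fun h => h.of_comp' q _ (Scheme.Hom.SpecMap_residueFieldMap_fromSpecResidueField V.ι v),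
      fun h => h.of_comp' q (@CategoryTheory.inv _ _ _ _ (Spec.map (V.ι.residueFieldMap v)) (hiso v)) ?_⟩
    rw [IsIso.inv_comp_eq]
    exact (Scheme.Hom.SpecMap_residueFieldMap_fromSpecResidueField V.ι _).symm
  obtain ⟨Λ, hΛ, hk, hc⟩ := exists_isAnn_affine q' ⟨s, hsV⟩
  refine ⟨Λ, hΛ, ⟨?_, fun m hm => (hres ⟨s, hsV⟩ m).mpr (hc m hm)⟩, ?_⟩
  · haveI := hiso ⟨s, hsV⟩
    refine ((hko _ Λ).mp hk).of_comp q (@CategoryTheory.inv _ _ _ _ (Spec.map (V.ι.residueFieldMap ⟨s, hsV⟩)) (hiso _)) ?_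
    rw [IsIso.inv_comp_eq]
    exact (Scheme.Hom.SpecMap_residueFieldMap_fromSpecResidueField V.ι _).symm
  obtain ⟨gens, hgens⟩ := hΛ
  have hmem : ∀ m : gens, (m : Γ) ∈ Λ := fun m => hgens ▸ AddSubgroup.subset_closure m.2
  choose D hsD hD using fun m : gens => charTriv_nhd q' ⟨s, hsV⟩ (m : Γ) (hc m (hmem m))
  refine ⟨V.ι ''ᵁ (Finset.univ.inf D), ⟨⟨s, hsV⟩, ?_, rfl⟩, ?_⟩
  · show ⟨s, hsV⟩ ∈ Finset.univ.inf D
    rw [← SetLike.mem_coe, TopologicalSpace.Opens.coe_finset_inf]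
    simp only [Finset.inf_set_eq_iInter, Set.mem_iInter, Function.comp_apply, SetLike.mem_coe]
    exact fun m _ => hsD m
  rintro x ⟨v, hv, rfl⟩ m hm
  refine (hres v m).mpr ?_
  have h1 : Λ ≤ charTrivSubgroup q' ((V : Scheme.{u}).fromSpecResidueField v) := by
    rw [← hgens, AddSubgroup.closure_le]
    exact fun k hk => hD ⟨k, hk⟩ v ((Finset.inf_le (Finset.mem_univ _) : Finset.univ.inf D ≤ _) hv)
  exact h1 hm

/-- The loci where the kernel is a given annihilator are open and closed. -/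
theorem exists_ann_locus (s : S) :
    ∃ U : S.Opens, s ∈ U ∧ IsClosed (U : Set S) ∧ ∃ Λ : AddSubgroup Γ, Λ.FG ∧
      KillsOn q U.ι Λ ∧ ∀ x, x ∈ U → IsAnnOn q (S.fromSpecResidueField x) Λ := by
  classical
  choose N hN hann D hD hDc using exists_isAnn q
  have hker : ∀ x : S, ∃ U : S.Opens, x ∈ U ∧ KillsOn q U.ι (N x) := by
    intro x
    let p := Red.DSmap S (QuotientAddGroup.mk' (N x))
    haveI : IsMonHom p := isMonHom_of_points _ fun Z a b => dsFn_injective fun m => by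
      simp only [p, dsFn_mul, dsFn_DSmap]
    have hpt : ∀ {Z : Over S} (t : Z ⟶ Red.DS S Γ), (∀ m ∈ N x, dsFn t m = 1) →
        ∃ w : Z ⟶ Red.DS S (Γ ⧸ N x), w ≫ p = t := by
      intro Z t ht
      let ψ : Multiplicative Γ →* Γ(Z.left, ⊤) :=
        { toFun := fun m => dsFn t (Multiplicative.toAdd m)
          map_one' := dsFn_zero _
          map_mul' := fun a b => dsFn_add _ _ _ }
      let lft : Γ ⧸ N x → Γ(Z.left, ⊤) := fun c => Quotient.liftOn' c (fun m => dsFn t m) fun a b hab => by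
        rw [QuotientAddGroup.leftRel_apply] at hab
        rw [show b = a + (-a + b) by abel, dsFn_add, ht _ hab, _root_.mul_one]
      obtain ⟨w, hw⟩ := dsFn_surjective (S := S) (M := Γ ⧸ N x) (X := Z)
        { toFun := fun c => lft (Multiplicative.toAdd c)
          map_one' := dsFn_zero t
          map_mul' := fun a b => by
            induction a using Multiplicative.rec with | ofAdd a =>
            induction b using Multiplicative.rec with | ofAdd b =>
            induction a using QuotientAddGroup.induction_on with | H a =>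
            induction b using QuotientAddGroup.induction_on with | H b =>
            exact dsFn_add t a b }
      exact ⟨w, dsFn_injective fun m => by rw [dsFn_DSmap, hw]; rfl⟩
    haveI : IsMonHom (p ≫ q) := inferInstance
    obtain ⟨a, ha, hi, -⟩ := exists_ds_bc (𝟙 S) (Γ ⧸ N x)
    have hM : IsMultType (Red.DS S (Γ ⧸ N x)) :=
      ⟨S, 𝟙 S, inferInstance, inferInstance, fun V hV => ⟨V, hV.isCompact, by simp⟩, fun z =>
        ⟨⊤, trivial, Γ ⧸ N x, inferInstance, by
          obtain ⟨a, ha, hi, -⟩ := exists_ds_bc ((⊤ : S.Opens).ι ≫ 𝟙 S) (Γ ⧸ N x)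
          exact ⟨(Grp.mkIso' (asIso a)).symm⟩⟩⟩
    obtain ⟨U, -, hU, hk⟩ := exists_trivial_locus hM (.inr ‹_›) (p ≫ q)
    refine ⟨U, (hU x).mpr fun Z g hg w => ?_, fun Z r t ht => ?_⟩
    · rw [← Category.assoc]
      refine (hann x).1 Z (Over.homMk g hg) _ fun m hm => ?_
      rw [dsFn_DSmap, QuotientAddGroup.mk'_apply, (QuotientAddGroup.eq_zero_iff _).mpr hm, dsFn_zero]
    · obtain ⟨w, hw⟩ := hpt t ht
      rw [← hw, Category.assoc]
      exact hk Z r.left (Over.w r) w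
  choose U hU hUk using hker
  have hopen : ∀ x y, y ∈ U x ⊓ D x → N y = N x := by
    rintro x y ⟨hy₁, hy₂⟩
    refine isAnn_unique q (hann y) ⟨?_, hDc x y hy₂⟩
    refine (hUk x).of_comp q (IsOpenImmersion.lift (U x).ι (S.fromSpecResidueField y) ?_)
      (IsOpenImmersion.lift_fac _ _ _)
    rintro _ ⟨z, rfl⟩
    exact ⟨⟨y, hy₁⟩, (Scheme.fromSpecResidueField_apply y z).symm⟩
  let loc : AddSubgroup Γ → Set S := fun Λ => {y | N y = Λ}
  have hloc : ∀ Λ, IsOpen (loc Λ) := fun Λ => isOpen_iff_forall_mem_open.mpr fun y hy =>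
    ⟨(U y ⊓ D y : S.Opens), fun z hz => (hopen y z hz).trans hy, (U y ⊓ D y).2, hU y, hD y⟩
  refine ⟨⟨loc (N s), hloc _⟩, rfl, ?_, N s, hN s, ?_, fun x hx => hx ▸ hann x⟩
  · show IsClosed (loc (N s))
    rw [← isOpen_compl_iff]
    exact isOpen_iff_forall_mem_open.mpr fun y hy =>
      ⟨loc (N y), fun z hz hz' => hy ((hz.symm.trans hz' : N y = N s)), hloc _, rfl⟩
  · intro Z r t ht
    refine hom_ext_of_nhds _ _ fun z => ?_
    set y : S := Z.hom z with hy
    have hzy : N y = N s := by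
      have : y = (show (⟨loc (N s), hloc _⟩ : S.Opens) from r.left z).1 := by
        rw [hy, ← Over.w r]
        rfl
      rw [this]
      exact (show (⟨loc (N s), hloc _⟩ : S.Opens) from r.left z).2
    let O : Z.left.Opens := Z.hom ⁻¹ᵁ U y
    refine ⟨O, hU y, ?_⟩
    let Z' : Over S := Over.mk (O.ι ≫ Z.hom)
    let i : Z' ⟶ Z := Over.homMk O.ι rfl
    have h1 : i ≫ t ≫ q = i ≫ 1 := by
      rw [MonObj.comp_one, ← Category.assoc]
      exact hUk y Z' (Over.homMk (Z.hom ∣_ U y) (morphismRestrict_ι _ _)) _ fun m hm => by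
        rw [dsFn_comp, ht m (hzy ▸ hm), map_one]
    exact congrArg CommaMorphism.left h1

variable [QuasiCompact G.hom]

set_option maxHeartbeats 1000000 in
/-- Where the kernel is a given annihilator, the homomorphism is the projection to a diagonalisable
closed subgroup. -/
theorem exists_factor (U : S.Opens) (hG : LocallyOfFinitePresentation G.hom) (Λ : AddSubgroup Γ)
    (hΛ : Λ.FG) (hk : KillsOn q U.ι Λ)
    (hann : ∀ x, x ∈ U → IsAnnOn q (S.fromSpecResidueField x) Λ) :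
    ∃ j : Red.bc U.ι (Red.DS S Λ) ⟶ Red.bc U.ι G, IsMonHom j ∧ IsClosedImmersion j.left ∧
      (Over.pullback U.ι).map q = (Over.pullback U.ι).map (Red.DSmap S Λ.subtype) ≫ j := by
  classical
  let T : Scheme.{u} := U
  obtain ⟨q', hq', hpt, hct, hko⟩ := exists_bc_hom q U.ι
  haveI := hq'
  let p : Red.DS T Γ ⟶ Red.DS T Λ := Red.DSmap T Λ.subtype
  haveI : IsMonHom p := isMonHom_of_points _ fun Z a b => dsFn_injective fun m => by
    simp only [p, dsFn_mul, dsFn_DSmap]
  obtain ⟨hpf, hps⟩ := DSmap_flat_surjective (S := T) Λ.subtype Subtype.val_injective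
  haveI := hpf; haveI := hps
  haveI := isAffineHom_DS T Γ
  haveI := isAffineHom_DS T Λ
  haveI : IsAffineHom p.left := by
    haveI : IsAffineHom (p.left ≫ (Red.DS T Λ).hom) := by rw [Over.w p]; infer_instance
    exact IsAffineHom.of_comp p.left (Red.DS T Λ).hom
  haveI : Desc59.IsFpqcMor p.left := inferInstance
  haveI : EffectiveEpi p.left := Desc59.IsFpqcMor.effectiveEpi _
  haveI : Epi p := (Over.forget T).epi_of_epi_map (f := p) (inferInstanceAs (Epi p.left))
  have hT : KillsOn q' (𝟙 T) Λ := (hko _ _).mpr (by rw [Category.id_comp]; exact hk)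
  have hco : ∀ {Y : Scheme.{u}} (v w : Y ⟶ (Red.DS T Γ).left), v ≫ p.left = w ≫ p.left →
      v ≫ q'.left = w ≫ q'.left := by
    intro Y v w e
    let Z : Over T := Over.mk (v ≫ (Red.DS T Γ).hom)
    let v' : Z ⟶ Red.DS T Γ := Over.homMk v rfl
    let w' : Z ⟶ Red.DS T Γ := Over.homMk w (by
      show w ≫ (Red.DS T Γ).hom = v ≫ (Red.DS T Γ).hom
      rw [← Over.w p, reassoc_of% e])
    have e' : v' ≫ p = w' ≫ p := Over.OverMorphism.ext e
    have h1 : (v' * w'⁻¹) ≫ q' = 1 := hT Z (Over.homMk Z.hom (Category.comp_id _)) _ fun m hm => by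
      have h2 := congrArg (fun k => dsFn k (⟨m, hm⟩ : Λ))
        (show (v' * w'⁻¹) ≫ p = 1 by
          rw [MonObj.mul_comp v' w'⁻¹ p, GrpObj.inv_comp w' p, e', mul_inv_cancel])
      simp only [p, dsFn_DSmap, dsFn_one] at h2
      exact h2
    rw [MonObj.mul_comp _ _ q', GrpObj.inv_comp, mul_inv_eq_one] at h1
    exact congrArg CommaMorphism.left h1
  let d : (Red.DS T Λ).left ⟶ (Red.bc U.ι G).left := EffectiveEpi.desc p.left q'.left hco
  have hd : p.left ≫ d = q'.left := EffectiveEpi.fac _ _ _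
  let j₀ : Red.DS T Λ ⟶ Red.bc U.ι G := Over.homMk d (by
    rw [← cancel_epi p.left, reassoc_of% hd, Over.w q', Over.w p])
  have hj : p ≫ j₀ = q' := Over.OverMorphism.ext hd
  have hlift : ∀ (Z : Over T) (y : Z ⟶ Red.DS T Λ), ∃ (Z' : Over T) (e : Z' ⟶ Z)
      (t : Z' ⟶ Red.DS T Γ), t ≫ p = e ≫ y ∧ Flat e.left ∧ Surjective e.left ∧ QuasiCompact e.left := by
    intro Z y
    refine ⟨Over.mk (pullback.fst y.left p.left ≫ Z.hom), Over.homMk (pullback.fst y.left p.left) rfl,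
      Over.homMk (pullback.snd y.left p.left) ?_, Over.OverMorphism.ext pullback.condition.symm,
      inferInstanceAs (Flat (pullback.fst y.left p.left)),
      inferInstanceAs (Surjective (pullback.fst y.left p.left)),
      inferInstanceAs (QuasiCompact (pullback.fst y.left p.left))⟩
    show _ = pullback.fst y.left p.left ≫ Z.hom
    rw [← Over.w p, ← pullback.condition_assoc, Over.w y]
  haveI : IsMonHom j₀ := isMonHom_of_points _ fun Z y y' => by
    obtain ⟨Z₁, e₁, t, ht, hf₁, hs₁, hc₁⟩ := hlift Z y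
    obtain ⟨Z₂, e₂, t', ht', hf₂, hs₂, hc₂⟩ := hlift Z₁ (e₁ ≫ y')
    haveI : Epi e₁.left := Flat.epi_of_flat_of_surjective e₁.left
    haveI : Epi e₂.left := Flat.epi_of_flat_of_surjective e₂.left
    haveI : Epi e₁ := (Over.forget T).epi_of_epi_map (f := e₁) ‹_›
    haveI : Epi e₂ := (Over.forget T).epi_of_epi_map (f := e₂) ‹_›
    rw [← cancel_epi e₁, ← cancel_epi e₂]
    have a1 : e₂ ≫ e₁ ≫ y = (e₂ ≫ t) ≫ p := by rw [Category.assoc, ht]
    simp only [← Category.assoc, MonObj.comp_mul]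
    simp only [Category.assoc] at a1 ⊢
    rw [a1, ← ht', ← Category.assoc e₂ t p, ← MonObj.mul_comp _ _ p]
    simp only [Category.assoc]
    rw [hj, MonObj.mul_comp _ _ q', ← hj]
    simp only [← Category.assoc]
    rw [Category.assoc e₂ t p, ht, ht']
    simp only [Category.assoc]
  have hfib : ∀ x : T, Mono ((Over.pullback (T.fromSpecResidueField x)).map j₀).left := by
    intro x
    rw [mono_iff_kerTriv]
    intro Z r y hy
    obtain ⟨Z', e, t, ht, hf, hs, -⟩ := hlift Z y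
    haveI : Epi e.left := Flat.epi_of_flat_of_surjective e.left
    haveI : Epi e := (Over.forget T).epi_of_epi_map (f := e) ‹_›
    rw [← cancel_epi e, ← ht, MonObj.comp_one]
    refine dsFn_injective fun m => ?_
    rw [dsFn_one, dsFn_DSmap]
    have h1 : CharTriv (T.fromSpecResidueField x) q' (m : Γ) :=
      (hct _ _).mpr (((hann x.1 x.2).2 m m.2).of_comp' q _
        (Scheme.Hom.SpecMap_residueFieldMap_fromSpecResidueField U.ι x))
    exact h1 Z' (e ≫ r) t (by rw [← hj, reassoc_of% ht, hy, MonObj.comp_one])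
  haveI : IsSeparated (Red.bc U.ι G).hom := inferInstanceAs (IsSeparated (pullback.snd G.hom U.ι))
  haveI : QuasiCompact (Red.bc U.ι G).hom := inferInstanceAs (QuasiCompact (pullback.snd G.hom U.ι))
  haveI : LocallyOfFiniteType (Red.bc U.ι G).hom :=
    MorphismProperty.pullback_snd (P := @LocallyOfFiniteType) _ _ ‹_›
  have hΛ' : SGA3x.IsMultTypeFT (Red.DS T Λ) :=
    isMultTypeFT_DS T Λ ((AddGroup.fg_iff_addSubgroup_fg _).mpr hΛ)
  haveI : Mono j₀.left := Groth.Agent.S5261.result (Red.DS T Λ) (Red.bc U.ι G) hΛ'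
    (.inr (MorphismProperty.pullback_snd (P := @LocallyOfFinitePresentation) _ _ hG)) j₀ hfib
  haveI : Mono j₀ := Over.mono_of_mono_left _
  have hci := isClosedImmersion_of_mono_separated hΛ' j₀
  obtain ⟨aΛ, haΛ, hiΛ, hfnΛ⟩ := exists_ds_bc U.ι (Λ : Type)
  obtain ⟨aΓ, haΓ, hiΓ, hfnΓ⟩ := exists_ds_bc U.ι Γ
  haveI : IsIso aΛ.left := inferInstanceAs (IsIso ((Over.forget T).map aΛ))
  haveI : IsMonHom (CategoryTheory.inv aΛ) := isMonHom_of_points _ fun X x y => by
    rw [← cancel_mono aΛ, MonObj.mul_comp _ _ aΛ]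
    simp only [Category.assoc, IsIso.inv_hom_id, Category.comp_id]
  refine ⟨CategoryTheory.inv aΛ ≫ j₀, inferInstance, ?_, ?_⟩
  · rw [Over.comp_left]
    haveI : IsIso (inv aΛ).left := inferInstanceAs (IsIso ((Over.forget T).map (inv aΛ)))
    exact (MorphismProperty.cancel_left_of_respectsIso (P := @IsClosedImmersion) _ _).mpr hci
  have hsq : p ≫ aΛ = aΓ ≫ (Over.pullback U.ι).map (Red.DSmap S Λ.subtype) := by
    refine toBase_injective U.ι (dsFn_injective fun m => ?_)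
    rw [hfnΛ, toBase_comp_map, dsFn_DSmap]
    refine Eq.trans ?_ (hfnΓ (Red.DS T Γ) (𝟙 _) _).symm |>.trans (by rw [Category.id_comp])
    rw [← Category.id_comp p, dsFn_DSmap]
  rw [← cancel_epi aΓ, ← Category.assoc aΓ, ← hsq, Category.assoc, IsIso.hom_inv_id_assoc, hj]
  refine toBase_injective U.ι ?_
  obtain ⟨t₁, ht₁, e₁⟩ := hpt (Red.DS T Γ) (𝟙 _)
  rw [Category.id_comp] at e₁
  rw [toBase_comp_map, e₁]
  refine congrArg (· ≫ q) (dsFn_injective fun m => ?_)
  rw [ht₁]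
  refine Eq.trans ?_ (hfnΓ _ (𝟙 _) m)
  rw [Category.id_comp]

end Global

end Groth.Agent.RedPts82
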