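import Groth.Agent.RedPts82.AvgMult
import Groth.Agent.FlatMor67.SmoothLiftLFP

/-!
Deformations of conjugations and of homomorphisms out of groups of multiplicative type.
-/

universe u

open CategoryTheory MonoidalCategory CartesianMonoidalCategory MonObj GrpObj AlgebraicGeometry
open CategoryTheory.Limits

namespace Groth.Agent.RedPts82

variable {S : Scheme.{u}}

/-- A morphism killing an ideal factors through the closed subobject. -/
theorem exists_factor_red {P Q : Over S} [IsAffine P.left] [IsAffine Q.left] {J : Ideal (Gam Q)}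
    (w : P ⟶ Q) (h : J.map w.left.appTop.hom = ⊥) : ∃ v : P ⟶ redObj Q J, v ≫ redMap Q J = w := by
  obtain ⟨v, hv⟩ := exists_redMap_comp (J := (⊥ : Ideal (Gam P))) (J' := J) w fun x hx => by
    rw [← h]; exact Ideal.mem_map_of_mem _ hx
  haveI : IsIso (redMap P (⊥ : Ideal (Gam P))).left := by
    show IsIso (Spec.map (CommRingCat.ofHom (Ideal.Quotient.mk ⊥)) ≫ _)
    haveI : IsIso (CommRingCat.ofHom (Ideal.Quotient.mk (⊥ : Ideal (Gam P)))) :=
      (ConcreteCategory.isIso_iff_bijective _).mpr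
        ⟨(RingHom.injective_iff_ker_eq_bot _).mpr (Ideal.mk_ker), Ideal.Quotient.mk_surjective⟩
    infer_instance
  haveI : IsIso ((Over.forget S).map (redMap P (⊥ : Ideal (Gam P)))) := ‹IsIso (redMap P ⊥).left›
  haveI : IsIso (redMap P (⊥ : Ideal (Gam P))) := isIso_of_reflects_iso _ (Over.forget S)
  exact ⟨inv (redMap P ⊥) ≫ v, by rw [Category.assoc, hv, IsIso.inv_hom_id_assoc]⟩

theorem map_redMap_eq_bot (T : Over S) [IsAffine T.left] (J : Ideal (Gam T)) :
    J.map (redMap T J).left.appTop.hom = ⊥ :=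
  (Ideal.map_eq_bot_iff_le_ker _).mpr fun a ha => RingHom.mem_ker.mpr
    (((redMap_appTop_eq_iff T J a 0).mpr (by rwa [sub_zero])).trans (map_zero _))

/-- Points of smooth schemes lift along ideals of square zero of affine schemes. -/
theorem exists_smooth_lift {X : Over S} [Smooth X.hom] (T : Over S) [IsAffine T.left]
    {J : Ideal (Gam T)} (hJ : J * J = ⊥) (g₀ : redObj T J ⟶ X) :
    ∃ g : T ⟶ X, redMap T J ≫ g = g₀ := by
  have hfs : MoreMor.IsFormallySmoothHom X.hom :=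
    Groth.Agent.FlatMor67.isFormallySmoothHom_of_affineLocally_of_finiteType fun U V hU hV hUV => by
      letI := (X.hom.appLE V U hUV).hom.toAlgebra
      haveI : Algebra.Smooth Γ(S, V) Γ(X.left, U) := Smooth.smooth_appLE X.hom hV hU hUV
      infer_instance
  obtain ⟨l, hl₁, hl₂⟩ := hfs (Gam T) J (by rw [pow_two]; exact hJ) g₀.left
    (T.left.isoSpec.inv ≫ T.hom) ((Category.assoc _ _ _).symm.trans (Over.w g₀).symm)
  refine ⟨Over.homMk (T.left.isoSpec.hom ≫ l) (by rw [Category.assoc, hl₂, Iso.hom_inv_id_assoc]),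
    Over.OverMorphism.ext ?_⟩
  show (Spec.map _ ≫ T.left.isoSpec.inv) ≫ T.left.isoSpec.hom ≫ l = _
  rw [Category.assoc, Iso.inv_hom_id_assoc]
  exact hl₁

/-- Lifting along nilpotent ideals, step by step. -/
theorem lift_induction (F : Over S → Type u) (res : ∀ {A B : Over S}, (A ⟶ B) → F B → F A)
    (res_comp : ∀ {A B C : Over S} (f : A ⟶ B) (g : B ⟶ C) (c : F C), res (f ≫ g) c = res f (res g c))
    (res_id : ∀ (A : Over S) (c : F A), res (𝟙 A) c = c)
    (P : ∀ A, F A → Prop) (hP : ∀ {A B : Over S} (f : A ⟶ B) (c : F B), P B c → P A (res f c))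
    (step : ∀ (T : Over S) [IsAffine T.left] (J : Ideal (Gam T)), J * J = ⊥ → ∀ c₀, P (redObj T J) c₀ →
      ∃ c, res (redMap T J) c = c₀ ∧ P T c)
    (T : Over S) [IsAffine T.left] {J : Ideal (Gam T)} (hJ : IsNilpotent J) (c₀ : F (redObj T J))
    (h₀ : P _ c₀) : ∃ c, res (redMap T J) c = c₀ ∧ P T c := by
  suffices key : ∀ (k : ℕ) (J : Ideal (Gam T)), J ^ (2 ^ k) = ⊥ → ∀ c₀, P (redObj T J) c₀ →
      ∃ c, res (redMap T J) c = c₀ ∧ P T c by
    obtain ⟨n, hn⟩ := hJ
    exact key n J (le_bot_iff.mp ((Ideal.pow_le_pow_right n.lt_two_pow_self.le).trans hn.le)) c₀ h₀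
  intro k
  induction k with
  | zero =>
    intro J hJ c₀ h₀
    refine step T J ?_ c₀ h₀
    rw [pow_zero, pow_one] at hJ
    rw [hJ, Ideal.bot_mul]
  | succ k ih =>
    intro J hJ c₀ h₀
    let T₁ := redObj T (J * J)
    let J₁ : Ideal (Gam T₁) := J.map (redMap T (J * J)).left.appTop.hom
    have hJ₁ : J₁ * J₁ = ⊥ := by
      rw [← Ideal.map_mul]
      exact map_redMap_eq_bot T (J * J)
    obtain ⟨r, hr⟩ := exists_factor_red (J := J) (redMap T₁ J₁ ≫ redMap T (J * J)) (by
      rw [Over.comp_left, Scheme.Hom.comp_appTop, CommRingCat.hom_comp, ← Ideal.map_map]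
      exact map_redMap_eq_bot T₁ J₁)
    obtain ⟨c₁, hc₁, h₁⟩ := step T₁ J₁ hJ₁ (res r c₀) (hP r c₀ h₀)
    obtain ⟨c, hc, h⟩ := ih (J * J) (by rw [← pow_two, ← pow_mul, ← pow_succ']; exact hJ) c₁ h₁
    obtain ⟨q, hq⟩ := exists_factor_red (J := J * J) (redMap T J) (le_bot_iff.mp
      ((Ideal.map_mono Ideal.mul_le_left).trans (map_redMap_eq_bot T J).le))
    obtain ⟨q', hq'⟩ := exists_factor_red (J := J₁) q (by
      rw [Ideal.map_map, ← CommRingCat.hom_comp, ← Scheme.Hom.comp_appTop, ← Over.comp_left, hq]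
      exact map_redMap_eq_bot T J)
    haveI : Mono (redMap T J).left := inferInstanceAs (Mono (Spec.map _ ≫ _))
    haveI : Mono (redMap T J) := Over.mono_of_mono_left _
    have hqr : q' ≫ r = 𝟙 _ := by
      rw [← cancel_mono (redMap T J), Category.assoc, hr, ← Category.assoc, hq', hq, Category.id_comp]
    refine ⟨c, ?_, h⟩
    rw [← hq, res_comp, hc, ← hq', res_comp, hc₁, ← res_comp, hqr, res_id]

variable [IsAffine S] {H G : Over S} [GrpObj H] [GrpObj G]

omit [GrpObj H] [GrpObj G] in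
theorem isAffine_tensor' (hH : IsAffineHom H.hom) (T : Over S) [IsAffine T.left] :
    IsAffine (T ⊗ H).left := by
  haveI := hH
  haveI : IsAffine H.left := isAffine_of_isAffineHom H.hom
  exact tensor_isAffine T H

/-- Two homomorphisms conjugate modulo an ideal of square zero are conjugate. -/
theorem exists_conj_lift_sq (hH : IsMultType H) (u v : H ⟶ G) [IsMonHom u] [IsMonHom v]
    (T : Over S) [IsAffine T.left] {J : Ideal (Gam T)} (hJ : J * J = ⊥) (g : T ⟶ G)
    (h₀ : ∀ (Z : Over S) (x : Z ⟶ redObj T J) (k : Z ⟶ H),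
      (x ≫ redMap T J ≫ g) * (k ≫ u) * (x ≫ redMap T J ≫ g)⁻¹ = k ≫ v) :
    ∃ g' : T ⟶ G, redMap T J ≫ g' = redMap T J ≫ g ∧
      ∀ (Z : Over S) (x : Z ⟶ T) (k : Z ⟶ H), (x ≫ g') * (k ≫ u) * (x ≫ g')⁻¹ = k ≫ v := by
  let φ : T ⊗ H ⟶ G := (snd T H ≫ v) * (fst T H ≫ g) * (snd T H ≫ u)⁻¹
  have hφ : CongTo J φ g := by
    intro Z x k
    simp only [φ, MonObj.comp_mul, GrpObj.comp_inv, lift_fst_assoc, lift_snd_assoc, Category.assoc]
    rw [← h₀ Z x k]
    group
  obtain ⟨g', hg', hg'J⟩ := exists_avg hJ hH φ g hφ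
  refine ⟨g', hg'J, fun Z x k => ?_⟩
  haveI := isAffine_tensor' (isMultType_isAffineHom hH) T
  -- the universal translation
  let p := fst T H
  let s := snd T H
  have hb := hg'.base hJ p
  have h1 := hb.translate (map_sq hJ p) s
  have h2 := ((isAvg_const (H := H) (map_sq hJ p) (s ≫ v)).mul (map_sq hJ p) hb).mul (map_sq hJ p)
    (isAvg_const (H := H) (map_sq hJ p) (s ≫ u)⁻¹)
  have e : CartesianMonoidalCategory.lift (fst (T ⊗ H) H)
        ((fst (T ⊗ H) H ≫ s) * snd (T ⊗ H) H) ≫ (p ▷ H) ≫ φ =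
      (fst (T ⊗ H) H ≫ s ≫ v) * ((p ▷ H) ≫ φ) * (fst (T ⊗ H) H ≫ (s ≫ u)⁻¹) := by
    simp only [φ, p, s, MonObj.comp_mul, GrpObj.comp_inv, lift_whiskerRight_assoc, lift_fst_assoc,
      lift_snd_assoc, whiskerRight_fst_assoc, whiskerRight_snd_assoc, MonObj.mul_comp _ _ v,
      MonObj.mul_comp _ _ u, Category.assoc, _root_.mul_inv_rev]
    simp only [_root_.mul_assoc]
  rw [e] at h1
  have key := h1.unique (map_sq hJ p) hH h2
  have := congrArg (fun w => CartesianMonoidalCategory.lift x k ≫ w) key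
  simp only [p, s, MonObj.comp_mul, GrpObj.comp_inv, lift_fst_assoc, lift_snd_assoc] at this
  rw [mul_inv_eq_iff_eq_mul]
  exact (eq_mul_inv_iff_mul_eq.mp this)

/-- A family of points over `T` is a family of homomorphisms. -/
def IsRelMul {A : Over S} (f : A ⊗ H ⟶ G) : Prop :=
  ∀ (Z : Over S) (x : Z ⟶ A) (k k' : Z ⟶ H),
    CartesianMonoidalCategory.lift x (k * k') ≫ f =
      (CartesianMonoidalCategory.lift x k ≫ f) * (CartesianMonoidalCategory.lift x k' ≫ f)

set_option maxHeartbeats 1000000 in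
/-- Homomorphisms from a group of multiplicative type to a smooth group lift along ideals of square
zero. -/
theorem exists_hom_lift_sq (hH : IsMultType H) [Smooth G.hom] (T : Over S) [IsAffine T.left]
    {J : Ideal (Gam T)} (hJ : J * J = ⊥) (f₀ : redObj T J ⊗ H ⟶ G) (hf₀ : IsRelMul f₀) :
    ∃ f : T ⊗ H ⟶ G, (redMap T J ▷ H) ≫ f = f₀ ∧ IsRelMul f := by
  haveI := isAffine_tensor' (isMultType_isAffineHom hH) T
  haveI := isAffine_tensor' (isMultType_isAffineHom hH) (redObj T J)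
  let p := fst T H
  let s := snd T H
  let I := J.map p.left.appTop.hom
  obtain ⟨r, hr⟩ := exists_factor_red (J := J) (redMap (T ⊗ H) I ≫ p) (by
    rw [Over.comp_left, Scheme.Hom.comp_appTop, CommRingCat.hom_comp, ← Ideal.map_map]
    exact map_redMap_eq_bot (T ⊗ H) I)
  obtain ⟨g, hg⟩ := exists_smooth_lift (T ⊗ H) (map_sq hJ p)
    (CartesianMonoidalCategory.lift r (redMap (T ⊗ H) I ≫ s) ≫ f₀)
  -- `g` restricts to `f₀`
  have hgr : ∀ (Z : Over S) (x : Z ⟶ redObj T J) (k : Z ⟶ H),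
      CartesianMonoidalCategory.lift (x ≫ redMap T J) k ≫ g =
        CartesianMonoidalCategory.lift x k ≫ f₀ := by
    obtain ⟨q, hq⟩ := exists_factor_red (J := I) (redMap T J ▷ H) (by
      rw [Ideal.map_map, ← CommRingCat.hom_comp, ← Scheme.Hom.comp_appTop, ← Over.comp_left,
        whiskerRight_fst, Over.comp_left, Scheme.Hom.comp_appTop, CommRingCat.hom_comp,
        ← Ideal.map_map, map_redMap_eq_bot, Ideal.map_bot])
    haveI : Mono (redMap T J).left := inferInstanceAs (Mono (Spec.map _ ≫ _))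
    haveI : Mono (redMap T J) := Over.mono_of_mono_left _
    have e1 : q ≫ r = fst _ _ := by
      rw [← cancel_mono (redMap T J), Category.assoc, hr, reassoc_of% hq, whiskerRight_fst]
    have e2 : q ≫ redMap (T ⊗ H) I ≫ s = snd _ _ := by rw [reassoc_of% hq, whiskerRight_snd]
    have e : (redMap T J ▷ H) ≫ g = f₀ := by
      rw [← hq, Category.assoc, hg, comp_lift_assoc, e1, e2, lift_fst_snd, Category.id_comp]
    intro Z x k
    rw [← e, lift_whiskerRight_assoc]
  let φ : (T ⊗ H) ⊗ H ⟶ G :=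
    (CartesianMonoidalCategory.lift (fst _ _ ≫ p) ((fst _ _ ≫ s) * snd _ _) ≫ g) *
      (CartesianMonoidalCategory.lift (fst _ _ ≫ p) (snd _ _) ≫ g)⁻¹
  have hφ : CongTo (J.map p.left.appTop.hom) φ g := by
    intro Z x k
    have hx : x ≫ redMap (T ⊗ H) I ≫ p = (x ≫ r) ≫ redMap T J := by rw [Category.assoc, hr]
    have hxg : x ≫ redMap (T ⊗ H) I ≫ g =
        CartesianMonoidalCategory.lift (x ≫ r) (x ≫ redMap (T ⊗ H) I ≫ s) ≫ f₀ := by
      rw [← hgr]
      rw [Category.assoc x r, hr, ← comp_lift_assoc x]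
      refine congrArg (x ≫ ·) ?_
      rw [← comp_lift_assoc, lift_fst_snd, Category.id_comp]
    simp only [φ, MonObj.comp_mul, GrpObj.comp_inv, comp_lift_assoc, lift_fst_assoc, lift_snd,
      Category.assoc]
    simp only [I] at hx hxg
    rw [hx, hgr, hgr, hf₀, mul_inv_cancel_right, hxg]
  obtain ⟨f, hf, hfJ⟩ := exists_avg (map_sq hJ p) hH φ g hφ
  have hfr : (redMap T J ▷ H) ≫ f = f₀ := by
    obtain ⟨q, hq⟩ := exists_factor_red (J := J.map p.left.appTop.hom) (redMap T J ▷ H) (by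
      rw [Ideal.map_map, ← CommRingCat.hom_comp, ← Scheme.Hom.comp_appTop, ← Over.comp_left,
        whiskerRight_fst, Over.comp_left, Scheme.Hom.comp_appTop, CommRingCat.hom_comp,
        ← Ideal.map_map, map_redMap_eq_bot, Ideal.map_bot])
    rw [← hq, Category.assoc, hfJ, reassoc_of% hq]
    have := hgr _ (fst (redObj T J) H) (snd _ _)
    rw [lift_fst_snd, Category.id_comp] at this
    rw [← this]
    refine congrArg (· ≫ g) ?_
    apply CartesianMonoidalCategory.hom_ext <;> simp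
  refine ⟨f, hfr, fun Z x k k' => ?_⟩
  -- multiplicativity over the universal pair
  haveI : IsAffine ((T ⊗ H) ⊗ H).left := isAffine_tensor' (isMultType_isAffineHom hH) (T ⊗ H)
  let T₂ := (T ⊗ H) ⊗ H
  let π : T₂ ⟶ T := fst _ _ ≫ p
  let a : T₂ ⟶ H := fst _ _ ≫ s
  let b : T₂ ⟶ H := snd _ _
  let a₁ := CartesianMonoidalCategory.lift π a
  let b₁ := CartesianMonoidalCategory.lift π b
  let c₁ := CartesianMonoidalCategory.lift π (a * b)
  have hI : ∀ {l : T₂ ⟶ T ⊗ H}, l ≫ p = π → (J.map p.left.appTop.hom).map l.left.appTop.hom =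
      J.map π.left.appTop.hom := fun {l} hl => by
    rw [Ideal.map_map, ← CommRingCat.hom_comp, ← Scheme.Hom.comp_appTop, ← Over.comp_left, hl]
  have hav : ∀ (l : T₂ ⟶ T ⊗ H) (_ : l ≫ p = π), IsAvg (map_sq hJ π) ((l ▷ H) ≫ φ) (l ≫ f) := by
    intro l hl
    have := hf.base (map_sq hJ p) l
    intro Y _ y M _ h hh
    have h' := this Y y M h hh
    have h'' := h'.map (map_sq (map_sq (map_sq hJ p) l) y) (map_sq (map_sq hJ π) y) (𝟙 _) (𝟙 Y)
      (by simp) (fun x hx => by rw [hI hl] at hx; simpa using hx) (fun x => by simp)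
    rwa [Category.id_comp, Category.id_comp] at h''
  have hA := (hav a₁ (lift_fst _ _)).translate (map_sq hJ π) b
  have hB := hav b₁ (lift_fst _ _)
  have hC := hav c₁ (lift_fst _ _)
  have e : (c₁ ▷ H) ≫ φ = (CartesianMonoidalCategory.lift (fst T₂ H)
      ((fst T₂ H ≫ b) * snd T₂ H) ≫ (a₁ ▷ H) ≫ φ) * ((b₁ ▷ H) ≫ φ) := by
    simp only [φ, a₁, b₁, c₁, MonObj.comp_mul, GrpObj.comp_inv, lift_whiskerRight_assoc,
      comp_lift_assoc, whiskerRight_fst_assoc, whiskerRight_snd, lift_fst_assoc, lift_fst,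
      lift_snd, p, s, Category.assoc]
    simp only [MonObj.comp_mul, _root_.mul_assoc, inv_mul_cancel_left]
  have key := hC.unique (map_sq hJ π) hH (e ▸ hA.mul (map_sq hJ π) hB)
  have := congrArg
    (fun w => CartesianMonoidalCategory.lift (CartesianMonoidalCategory.lift x k) k' ≫ w) key
  simpa only [a₁, b₁, c₁, π, a, b, p, s, MonObj.comp_mul, comp_lift_assoc, lift_fst_assoc, lift_fst,
    lift_snd] using this

end Groth.Agent.RedPts82
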