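import Groth.Agent.RedPts82.MultClosed
import Groth.Agent.RedPts82.Quot
import Groth.Agent.RedPts82.OpenClosed
import Groth.Agent.RedPts82.CentralClopen

/-!
Extensions of groups of multiplicative type: torsor properties and commutativity.
-/

set_option autoImplicit false
set_option linter.style.haveILetI false

universe u

open CategoryTheory MonoidalCategory CartesianMonoidalCategory MonObj GrpObj AlgebraicGeometry
open CategoryTheory.Limits

namespace Groth.Agent.RedPts82

variable {S : Scheme.{u}} {E H K : Over S} [GrpObj E] [GrpObj H] [GrpObj K] {i : H ⟶ E} [IsMonHom i]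
  {p : E ⟶ K} [IsMonHom p]

/-- The inclusion of a kernel is a monomorphism. -/
theorem mono_of_isKernel_over (hker : AlgGrp.IsKernel i p) : Mono i :=
  ⟨fun {_} _ _ hab => hker.hom_ext hab (toUnit_unique _ _)⟩

/-- Points killed by a homomorphism come from its kernel. -/
theorem exists_lift_kernel (hker : AlgGrp.IsKernel i p) {X : Over S} (g : X ⟶ E) (hg : g ≫ p = 1) :
    ∃ n : X ⟶ H, n ≫ i = g :=
  ⟨hker.lift g (toUnit X) (by rw [hg, Hom.one_def]), hker.lift_fst _ _ _⟩

theorem kernel_comp_eq_one (hker : AlgGrp.IsKernel i p) {X : Over S} (n : X ⟶ H) : n ≫ i ≫ p = 1 := by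
  rw [hker.w, ← Category.assoc, toUnit_unique (n ≫ toUnit H) (toUnit X), Hom.one_def]

/-- A kernel is normal. -/
theorem isNormalHom_of_isKernel_over (hker : AlgGrp.IsKernel i p) : AlgGrp.IsNormalHom i := fun T g n => by
  obtain ⟨n', hn'⟩ := exists_lift_kernel hker (g * (n ≫ i) * g⁻¹) (by
    rw [MonObj.mul_comp _ _ p, MonObj.mul_comp _ _ p, Category.assoc, kernel_comp_eq_one hker, _root_.mul_one,
      ← MonObj.mul_comp _ _ p, mul_inv_cancel, MonObj.one_comp p])
  exact ⟨n', hn'.symm⟩

/-- The torsor square of a kernel. -/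
theorem isPullback_kernel (hker : AlgGrp.IsKernel i p) : IsPullback (fst E H) ((E ◁ i) ≫ μ[E]) p p := by
  haveI := mono_of_isKernel_over hker
  have hm : ∀ {Z : Over S} (m : Z ⟶ E ⊗ H),
      m ≫ (E ◁ i) ≫ μ[E] = (m ≫ fst _ _) * (m ≫ snd _ _ ≫ i) := fun m => by
    rw [Hom.mul_def, ← Category.assoc]
    congr 1
    apply CartesianMonoidalCategory.hom_ext <;> simp
  have key' : ∀ {Z : Over S} (x y : Z ⟶ E), x ≫ p = y ≫ p → ∃ k : Z ⟶ H, y = x * (k ≫ i) := fun x y e => by
    obtain ⟨k, hk⟩ := exists_lift_kernel hker (x⁻¹ * y) (by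
      rw [MonObj.mul_comp _ _ p, GrpObj.inv_comp _ p, e, inv_mul_cancel])
    exact ⟨k, by rw [hk, mul_inv_cancel_left]⟩
  refine ⟨⟨?_⟩, ⟨PullbackCone.IsLimit.mk _
    (fun c => lift c.fst (key' c.fst c.snd c.condition).choose) (fun c => lift_fst _ _)
    (fun c => ?_) (fun c m h₁ h₂ => ?_)⟩⟩
  · have h := hm (𝟙 (E ⊗ H))
    simp only [Category.id_comp] at h
    rw [h, MonObj.mul_comp _ _ p, Category.assoc, kernel_comp_eq_one hker, _root_.mul_one]
  · rw [hm, lift_fst, lift_snd_assoc]
    exact (key' c.fst c.snd c.condition).choose_spec.symm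
  · apply CartesianMonoidalCategory.hom_ext
    · rw [lift_fst, h₁]
    · rw [lift_snd]
      have h3 := (key' c.fst c.snd c.condition).choose_spec
      rw [hm, h₁] at h₂
      rw [← cancel_mono i, Category.assoc]
      exact mul_left_cancel (h₂.trans h3)

/-- Properties of the kernel pass to a faithfully flat quasi-compact homomorphism. -/
theorem prop_of_kernel (P : MorphismProperty Scheme.{u}) [P.IsStableUnderBaseChange]
    [P.DescendsAlong Unr55.fpqc.{u}] (hker : AlgGrp.IsKernel i p) [Surjective p.left] [Flat p.left]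
    [QuasiCompact p.left] (hH : P H.hom) : P p.left :=
  MorphismProperty.of_isPullback_of_descendsAlong (P := P) (Q := Unr55.fpqc)
    ((isPullback_kernel hker).map (Over.forget S)) ⟨⟨‹_›, ‹_›⟩, ‹_›⟩
    (MorphismProperty.pullback_fst (P := P) E.hom H.hom hH)

/-- Points lift along coverings after a covering. -/
theorem exists_lift_cover {X Y W : Over S} {f : X ⟶ Y} (hf : Cov f) (w : W ⟶ Y) :
    ∃ (W' : Over S) (π : W' ⟶ W) (z : W' ⟶ X), Cov π ∧ z ≫ f = π ≫ w :=
  ⟨pullback f w, pullback.snd f w, pullback.fst f w, Cov.of_isPullback (IsPullback.of_hasPullback f w) hf,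
    pullback.condition⟩

/-- An extension by a group of multiplicative type is a quotient. -/
theorem isQuotient_of_kernel (hker : AlgGrp.IsKernel i p) (hH : SGA3x.IsMultTypeFT H)
    [Surjective p.left] [Flat p.left] [QuasiCompact p.left] :
    RedSub.IsQuotient i p ∧ IsAffineHom p.left := by
  haveI : MorphismProperty.DescendsAlong (@LocallyOfFinitePresentation : MorphismProperty Scheme.{u})
      Unr55.fpqc.{u} := by
    unfold Unr55.fpqc; infer_instance
  haveI := Unr55.isAffineHom.{u}
  haveI := isAffineHom_isStableUnderBaseChange.{u}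
  exact ⟨⟨‹_›, ‹_›, prop_of_kernel (@LocallyOfFinitePresentation) hker
    (isMultTypeFT_prop (@LocallyOfFinitePresentation) hH fun U M _ hM => lfp_DS_of_fg U M hM),
    isPullback_kernel hker⟩, prop_of_kernel (@IsAffineHom) hker (isMultTypeFT_isAffineHom hH)⟩

/-- Diagonalisable groups are flat. -/
theorem flat_DS_hom (U : Scheme.{u}) (M : Type) [AddCommGroup M] : Flat (Red.DS U M).hom := by
  refine MorphismProperty.pullback_snd (P := (@Flat : MorphismProperty Scheme.{u})) _ _ ?_
  refine (HasRingHomProperty.Spec_iff (P := @Flat)).mpr ?_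
  exact RingHom.flat_algebraMap_iff.mpr inferInstance

/-- An extension of groups of multiplicative type is affine. -/
theorem isAffineHom_of_extension (hker : AlgGrp.IsKernel i p) (hH : SGA3x.IsMultTypeFT H)
    (hK : SGA3x.IsMultTypeFT K) [Surjective p.left] [Flat p.left] [QuasiCompact p.left] :
    IsAffineHom E.hom ∧ Flat E.hom ∧ LocallyOfFinitePresentation E.hom := by
  haveI := isMultTypeFT_isAffineHom hK
  haveI : MorphismProperty.DescendsAlong (@LocallyOfFinitePresentation : MorphismProperty Scheme.{u})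
      Unr55.fpqc.{u} := by
    unfold Unr55.fpqc; infer_instance
  haveI : MorphismProperty.DescendsAlong (@Flat : MorphismProperty Scheme.{u})
      Unr55.fpqc.{u} := flat_descends_fpqc
  haveI : LocallyOfFinitePresentation K.hom :=
    isMultTypeFT_prop (@LocallyOfFinitePresentation) hK fun U M _ hM => lfp_DS_of_fg U M hM
  haveI : Flat K.hom := isMultTypeFT_prop (@Flat) hK fun U M _ _ => flat_DS_hom U M
  obtain ⟨hq, _⟩ := isQuotient_of_kernel hker hH
  haveI := hq.2.2.1
  rw [← Over.w p]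
  exact ⟨inferInstance, inferInstance, inferInstance⟩

/-- Immersions induce isomorphisms on residue fields. -/
theorem isIso_residueFieldMap {X Y : Scheme.{u}} (f : X ⟶ Y) [IsPreimmersion f] (x : X) :
    IsIso (f.residueFieldMap x) := by
  refine (ConcreteCategory.isIso_iff_bijective _).mpr ⟨RingHom.injective _, fun a => ?_⟩
  obtain ⟨b, rfl⟩ := X.residue_surjective x a
  obtain ⟨c, rfl⟩ := f.stalkMap_surjective x b
  exact ⟨Y.residue (f x) c, congr($(Scheme.residue_residueFieldMap f x) c)⟩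

theorem commutator_mul_central {G : Type*} [Group G] (u v z : G) (hz : ∀ g, Commute z g) :
    (u * z) * v * (u * z)⁻¹ * v⁻¹ = u * v * u⁻¹ * v⁻¹ ∧
      u * (v * z) * u⁻¹ * (v * z)⁻¹ = u * v * u⁻¹ * v⁻¹ := by
  constructor
  · rw [_root_.mul_assoc u z v, (hz v).eq, _root_.mul_inv_rev]
    simp [_root_.mul_assoc]
  · rw [_root_.mul_inv_rev, ← _root_.mul_assoc u v z, _root_.mul_assoc (u * v) z u⁻¹, (hz u⁻¹).eq]
    simp [_root_.mul_assoc]

theorem commutator_bimul {G : Type*} [Group G] (x y z : G)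
    (hc : Commute (x * z * x⁻¹ * z⁻¹) y⁻¹) :
    x * (y * z) * x⁻¹ * (y * z)⁻¹ = x * y * x⁻¹ * y⁻¹ * (x * z * x⁻¹ * z⁻¹) := by
  rw [_root_.mul_assoc (x * y * x⁻¹) y⁻¹, ← hc.eq]
  simp [_root_.mul_assoc]

/-- A central extension of groups of multiplicative type whose fibres are commutative or have connected
quotient is commutative. -/
theorem comm_of_extension (hq : RedSub.IsQuotient i p) [Mono i] (hH : SGA3x.IsMultTypeFT H)
    (hK : SGA3x.IsMultTypeFT K) (hcen : ∀ (X : Over S) (h : X ⟶ H) (e : X ⟶ E), (h ≫ i) * e = e * (h ≫ i))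
    (hfib : ∀ s : S, _root_.IsConnected (K.hom.base ⁻¹' {s}) ∨
      ∀ (X : Over (Spec (S.residueField s))) (a b : X ⟶ Red.bc (S.fromSpecResidueField s) E), a * b = b * a)
    {X : Over S} (a b : X ⟶ E) : a * b = b * a := by
  have hC := cov_of_isQuotient hq
  have hip : ∀ {W : Over S} (n : W ⟶ H), n ≫ i ≫ p = 1 := fun {W} n => by
    have h := comp_mul_right hq (1 : W ⟶ E) n
    rwa [_root_.one_mul, MonObj.one_comp p, Category.assoc] at h
  -- the commutator with values in the kernel
  obtain ⟨c, hc⟩ : ∃ c : E ⊗ E ⟶ H,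
      c ≫ i = fst E E * snd E E * (fst E E)⁻¹ * (snd E E)⁻¹ := by
    obtain ⟨k, hk⟩ := exists_eq_mul_of_comp_eq hq (g := (1 : E ⊗ E ⟶ E))
      (g' := fst E E * snd E E * (fst E E)⁻¹ * (snd E E)⁻¹) (by
        rw [MonObj.one_comp p, MonObj.mul_comp _ _ p, MonObj.mul_comp _ _ p, MonObj.mul_comp _ _ p,
          GrpObj.inv_comp _ p, GrpObj.inv_comp _ p, isMultTypeFT_points_comm hK (fst E E ≫ p) (snd E E ≫ p),
          mul_inv_cancel_right, mul_inv_cancel])
    exact ⟨k, by rw [hk, _root_.one_mul]⟩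
  have hcv : ∀ {W : Over S} (x y : W ⟶ E), (lift x y ≫ c) ≫ i = x * y * x⁻¹ * y⁻¹ := fun x y => by
    rw [Category.assoc, hc]
    simp only [MonObj.comp_mul, GrpObj.comp_inv, lift_fst, lift_snd]
  obtain ⟨d, hd, -⟩ := (hC.tensor hC).desc c fun W x y hxy => by
    obtain ⟨n, hn⟩ := exists_eq_mul_of_comp_eq hq (g := x ≫ fst E E) (g' := y ≫ fst E E) (by
      simpa using congr($hxy ≫ fst K K))
    obtain ⟨n', hn'⟩ := exists_eq_mul_of_comp_eq hq (g := x ≫ snd E E) (g' := y ≫ snd E E) (by
      simpa using congr($hxy ≫ snd K K))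
    rw [← cancel_mono i, ← lift_comp_fst_snd x, ← lift_comp_fst_snd y, hn, hn', hcv, hcv]
    have hz : ∀ (m : W ⟶ H) (g : W ⟶ E), Commute (m ≫ i) g := fun m g => hcen W m g
    rw [(commutator_mul_central _ _ _ (hz n)).1, (commutator_mul_central _ _ _ (hz n')).2]
  have hdv : ∀ {W : Over S} (x y : W ⟶ E), lift (x ≫ p) (y ≫ p) ≫ d = lift x y ≫ c := fun x y => by
    rw [← hd, ← Category.assoc, lift_map]
  have hdmul : ∀ {W : Over S} (k k₁ k₂ : W ⟶ K),
      lift k (k₁ * k₂) ≫ d = (lift k k₁ ≫ d) * (lift k k₂ ≫ d) := by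
    have key : lift (fst K (K ⊗ K)) (snd K (K ⊗ K) ≫ (fst K K * snd K K)) ≫ d =
        (lift (fst K (K ⊗ K)) (snd K (K ⊗ K) ≫ fst K K) ≫ d) *
          (lift (fst K (K ⊗ K)) (snd K (K ⊗ K) ≫ snd K K) ≫ d) := by
      haveI := (hC.tensor (hC.tensor hC)).epi
      rw [← cancel_epi (p ⊗ₘ (p ⊗ₘ p))]
      let x := fst E (E ⊗ E)
      let y := snd E (E ⊗ E) ≫ fst E E
      let z := snd E (E ⊗ E) ≫ snd E E
      have e1 : (p ⊗ₘ (p ⊗ₘ p)) ≫ lift (fst K (K ⊗ K)) (snd K (K ⊗ K) ≫ (fst K K * snd K K)) =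
          lift (x ≫ p) ((y * z) ≫ p) := by
        rw [comp_lift, tensorHom_fst, MonObj.mul_comp _ _ p]
        congr 1
        simp [x, y, z, MonObj.comp_mul]
      have e2 : (p ⊗ₘ (p ⊗ₘ p)) ≫ lift (fst K (K ⊗ K)) (snd K (K ⊗ K) ≫ fst K K) =
          lift (x ≫ p) (y ≫ p) := by
        rw [comp_lift, tensorHom_fst]
        congr 1
        simp [y]
      have e3 : (p ⊗ₘ (p ⊗ₘ p)) ≫ lift (fst K (K ⊗ K)) (snd K (K ⊗ K) ≫ snd K K) =
          lift (x ≫ p) (z ≫ p) := by
        rw [comp_lift, tensorHom_fst]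
        congr 1
        simp [z]
      rw [reassoc_of% e1, MonObj.comp_mul, reassoc_of% e2, reassoc_of% e3, hdv, hdv, hdv,
        ← cancel_mono i, MonObj.mul_comp _ _ i, hcv, hcv, hcv]
      refine commutator_bimul _ _ _ ?_
      rw [← hcv]
      exact hcen _ _ _
    intro W k k₁ k₂
    have := congr(lift k (lift k₁ k₂) ≫ $key)
    simp only [MonObj.comp_mul, ← Category.assoc, comp_lift, lift_fst, lift_snd] at this
    exact this
  -- the pairing as a homomorphism over the first factor
  let φ : K.left ⟶ S := K.hom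
  let g : ∀ Z : Over K.left, (Over.map φ).obj Z ⟶ K := fun Z => Over.homMk Z.hom rfl
  let u : Red.bc φ K ⟶ Red.bc φ H := ofBase φ (lift (g (Red.bc φ K)) (toBase φ (𝟙 _)) ≫ d)
  have hu : ∀ {Z : Over K.left} (t : Z ⟶ Red.bc φ K),
      toBase φ (t ≫ u) = lift (g Z) (toBase φ t) ≫ d := fun {Z} t => by
    rw [toBase_comp, toBase_ofBase, ← Category.assoc, comp_lift, ← toBase_comp, Category.comp_id]
    congr 2
    exact Over.OverMorphism.ext (Over.w t)
  haveI : IsMonHom u := isMonHom_of_points _ fun Z x y => toBase_injective φ (by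
    rw [hu, toBase_mul, toBase_mul, hu, hu, hdmul])
  haveI := isMultTypeFT_isAffineHom hH
  haveI : IsSeparated (Red.bc φ H).hom := inferInstanceAs (IsSeparated (pullback.snd H.hom φ))
  haveI : LocallyOfFiniteType (Red.bc φ H).hom := by
    haveI : MorphismProperty.DescendsAlong (@LocallyOfFinitePresentation : MorphismProperty Scheme.{u})
        Unr55.fpqc.{u} := by
      unfold Unr55.fpqc; infer_instance
    haveI : LocallyOfFinitePresentation H.hom :=
      isMultTypeFT_prop (@LocallyOfFinitePresentation) hH fun U M _ hM => lfp_DS_of_fg U M hM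
    exact inferInstanceAs (LocallyOfFiniteType (pullback.snd H.hom φ))
  obtain ⟨U, hUc, hU, hUk⟩ := exists_trivial_locus (isMultType_of_isMultTypeFT (isMultTypeFT_bc φ hK))
    (.inr inferInstance) u
  have hUtop : ∀ y : K.left, y ∈ U := by
    intro y
    rcases hfib (φ y) with hconn | hcomm
    · let y₀ : K.left := (η[K]).left.base (φ y)
      have hy₀ : φ y₀ = φ y := by
        change (η[K].left ≫ K.hom).base (φ y) = φ y
        rw [Over.w η[K]]
        rfl
      suffices y₀ ∈ U from
        hconn.isPreconnected.subset_isClopen ⟨hUc, U.2⟩ ⟨y₀, hy₀, this⟩ (show y ∈ K.hom.base ⁻¹' {φ y} from rfl)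
      refine (hU y₀).mpr fun Z h hh t => ?_
      let e₀ : S ⟶ K.left := η[K].left
      have he₀ : e₀ ≫ K.hom = 𝟙 S := Over.w η[K]
      obtain ⟨q, hq'⟩ : ∃ q : Z.left ⟶ S, q ≫ e₀ = Z.hom := by
        haveI : IsClosedImmersion e₀ := by
          haveI := isMultTypeFT_isAffineHom hK
          haveI : IsClosedImmersion (e₀ ≫ K.hom) := by rw [he₀]; infer_instance
          exact IsClosedImmersion.of_comp e₀ K.hom
        haveI := isIso_residueFieldMap e₀ (φ y)
        haveI : IsIso (Spec.map (e₀.residueFieldMap (φ y))) := inferInstance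
        refine ⟨h ≫ CategoryTheory.inv (Spec.map (e₀.residueFieldMap (φ y))) ≫ S.fromSpecResidueField (φ y), ?_⟩
        rw [Category.assoc, Category.assoc, ← e₀.SpecMap_residueFieldMap_fromSpecResidueField,
          IsIso.inv_hom_id_assoc]
        exact hh
      have hg : g Z = 1 := by
        rw [Hom.one_def]
        refine Over.OverMorphism.ext ?_
        change Z.hom = Over.Hom.left (toUnit ((Over.map φ).obj Z)) ≫ e₀
        rw [← hq']
        congr 1
        calc q = (q ≫ e₀) ≫ K.hom := by rw [Category.assoc, he₀, Category.comp_id]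
          _ = Z.hom ≫ K.hom := by rw [hq']
          _ = Over.Hom.left (toUnit ((Over.map φ).obj Z)) :=
              ((Category.comp_id _).symm.trans (Over.w (toUnit ((Over.map φ).obj Z)))).symm
      apply toBase_injective φ
      rw [hu, toBase_one, hg]
      obtain ⟨W', π, z, hπ, hz⟩ := exists_lift_cover (hC.tensor hC)
        (lift (1 : (Over.map φ).obj Z ⟶ K) (toBase φ t))
      haveI := hπ.epi
      rw [← cancel_epi π, MonObj.comp_one, ← Category.assoc, comp_lift, MonObj.comp_one]
      have h1 : lift (1 : W' ⟶ K) (π ≫ toBase φ t) = lift ((1 : W' ⟶ E) ≫ p) ((z ≫ snd E E) ≫ p) := by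
        rw [MonObj.one_comp p]
        congr 1
        have := congr($hz ≫ snd K K)
        simpa using this.symm
      rw [h1, hdv, ← cancel_mono i, hcv, MonObj.one_comp i]
      simp
    · refine (hU y).mpr fun Z h hh t => ?_
      apply toBase_injective φ
      rw [hu, toBase_one]
      obtain ⟨W', π, z, hπ, hz⟩ := exists_lift_cover (hC.tensor hC) (lift (g Z) (toBase φ t))
      haveI := hπ.epi
      rw [← cancel_epi π, ← reassoc_of% hz, hd, MonObj.comp_one, ← cancel_mono i, MonObj.one_comp i,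
        ← lift_comp_fst_snd z, hcv]
      let Y : Over (Spec (S.residueField (φ y))) :=
        Over.mk (π.left ≫ h ≫ Spec.map (φ.residueFieldMap y))
      have hY : Y.hom ≫ S.fromSpecResidueField (φ y) = W'.hom := by
        change (_ ≫ _ ≫ _) ≫ _ = _
        rw [Category.assoc, Category.assoc, φ.SpecMap_residueFieldMap_fromSpecResidueField, reassoc_of% hh,
          ← Over.w π]
        rfl
      let e : (Over.map (S.fromSpecResidueField (φ y))).obj Y ⟶ W' := Over.homMk (𝟙 _) (by
        change 𝟙 _ ≫ W'.hom = _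
        rw [Category.id_comp, ← hY]
        rfl)
      have h1 := congrArg (toBase (S.fromSpecResidueField (φ y))) (hcomm Y
        (ofBase _ (e ≫ z ≫ fst E E)) (ofBase _ (e ≫ z ≫ snd E E)))
      rw [toBase_mul, toBase_mul, toBase_ofBase, toBase_ofBase, ← MonObj.comp_mul, ← MonObj.comp_mul] at h1
      haveI : Epi e := (Over.forget S).epi_of_epi_map (f := e) (inferInstanceAs (Epi (𝟙 W'.left)))
      simp only [← MonObj.comp_mul] at h1
      have h2 := (cancel_epi e).mp h1
      rw [MonObj.comp_mul, MonObj.comp_mul] at h2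
      rw [h2]
      simp
  -- the pairing is trivial
  have hd1 : ∀ {W : Over S} (k₁ k₂ : W ⟶ K), lift k₁ k₂ ≫ d = 1 := fun {W} k₁ k₂ => by
    let Z : Over K.left := Over.mk k₁.left
    let e : (Over.map φ).obj Z ⟶ W := Over.homMk (𝟙 _) (by
      change 𝟙 _ ≫ W.hom = k₁.left ≫ K.hom
      rw [Category.id_comp, Over.w k₁])
    haveI : Epi e := (Over.forget S).epi_of_epi_map (f := e) (inferInstanceAs (Epi (𝟙 W.left)))
    let t : Z ⟶ Red.bc φ K := ofBase φ (e ≫ k₂)
    have h1 := congrArg (toBase φ) (hUk Z (IsOpenImmersion.lift U.ι Z.hom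
      (by rw [Scheme.Opens.range_ι]; exact fun x _ => hUtop x)) (IsOpenImmersion.lift_fac _ _ _) t)
    rw [hu, toBase_ofBase, toBase_one] at h1
    rw [← cancel_epi e, ← Category.assoc, comp_lift, MonObj.comp_one]
    refine Eq.trans ?_ h1
    congr 2
  have h := hcv a b
  rw [← hdv, hd1, MonObj.one_comp i] at h
  exact mul_inv_eq_iff_eq_mul.mp (mul_inv_eq_one.mp h.symm)

end Groth.Agent.RedPts82
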