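import Groth.Agent.Var76.SmoothFibre
import Groth.Agent.Var76.GenSmoothScheme
import Mathlib.AlgebraicGeometry.Morphisms.Etale
import Mathlib.AlgebraicGeometry.Morphisms.FlatMono
import Mathlib.RingTheory.Smooth.StandardSmoothCotangent
import Mathlib.RingTheory.RingHom.Etale
import Mathlib.RingTheory.Etale.Kaehler

/-!
Relative dimension of a smooth morphism from the dimensions of its geometric fibres, and monomorphisms between
schemes smooth of equal relative dimension.
-/

universe u

open CategoryTheory CategoryTheory.Limits AlgebraicGeometry TopologicalSpace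
open scoped TensorProduct

namespace Groth.Agent.RedPts82

variable {X S : Scheme.{u}}

theorem exists_ι_relDim (f : X ⟶ S) [Smooth f] (x : X) :
    ∃ (n : ℕ) (V : X.Opens), IsAffineOpen V ∧ x ∈ V ∧ SmoothOfRelativeDimension n (V.ι ≫ f) ∧
      ∃ (U : S.Opens) (_ : IsAffineOpen U) (e : V ≤ f ⁻¹ᵁ U),
        (f.appLE U V e).hom.IsStandardSmoothOfRelativeDimension n := by
  obtain ⟨U, hU, V, hV, hx, e, h⟩ := (Smooth.iff_forall_exists_isStandardSmooth f).1 ‹Smooth f› x
  let : Algebra Γ(S, U) Γ(X, V) := (f.appLE U V e).hom.toAlgebra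
  obtain ⟨_, _, _, _, ⟨P⟩⟩ := RingHom.isStandardSmooth_algebraMap.1 h
  have hP : (f.appLE U V e).hom.IsStandardSmoothOfRelativeDimension P.dimension :=
    (RingHom.isStandardSmoothOfRelativeDimension_algebraMap _).2 (P.isStandardSmoothOfRelativeDimension rfl)
  exact ⟨P.dimension, V, hV, hx, Var76.GenSmooth.smoothOfRelativeDimension_ι_comp _ f hV hU e hP,
    U, hU, e, hP⟩

theorem relDim_unique {κ : Type u} [Field κ] {F : Scheme.{u}} (g : F ⟶ Spec (CommRingCat.of κ)) [Nonempty F]
    {n m : ℕ} [h1 : SmoothOfRelativeDimension n g] [h2 : SmoothOfRelativeDimension m g] : n = m := by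
  obtain ⟨x⟩ := ‹Nonempty F›
  obtain ⟨Z, hZ, -⟩ := exists_mem_irreducibleComponents_subset_of_isIrreducible _
    (isIrreducible_singleton (x := x))
  have e1 := @Var76.SmoothFibre.dim_component _ _ _ g n h1 Z hZ
  rw [@Var76.SmoothFibre.dim_component _ _ _ g m h2 Z hZ] at e1
  exact_mod_cast e1.symm

/-- An irreducible scheme smooth over a field is smooth of relative dimension its dimension. -/
theorem smoothOfRelativeDimension_of_irreducible {κ : Type u} [Field κ] {F : Scheme.{u}}
    (g : F ⟶ Spec (CommRingCat.of κ)) [Smooth g] [IrreducibleSpace F] (d : ℕ)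
    (hd : topologicalKrullDim F = (d : WithBot ℕ∞)) : SmoothOfRelativeDimension d g := by
  obtain ⟨x₀⟩ := (inferInstance : Nonempty F)
  obtain ⟨n, V₀, -, hx₀, h₀, -⟩ := exists_ι_relDim g x₀
  have key : SmoothOfRelativeDimension n g := by
    refine ⟨fun x => ?_⟩
    obtain ⟨m, V, hV, hx, hm, U, hU, e, h⟩ := exists_ι_relDim g x
    obtain ⟨y, hy⟩ := nonempty_preirreducible_inter V₀.2 V.2 ⟨x₀, hx₀⟩ ⟨x, hx⟩
    let W := V₀ ⊓ V
    have : Nonempty W := ⟨⟨y, hy⟩⟩
    have a1 : SmoothOfRelativeDimension (0 + n) (W.ι ≫ g) := by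
      rw [← Scheme.homOfLE_ι F (inf_le_left : W ≤ V₀), Category.assoc]; infer_instance
    have a2 : SmoothOfRelativeDimension (0 + m) (W.ι ≫ g) := by
      rw [← Scheme.homOfLE_ι F (inf_le_right : W ≤ V), Category.assoc]; infer_instance
    rw [zero_add] at a1 a2
    obtain rfl : n = m := relDim_unique (W.ι ≫ g)
    exact ⟨U, hU, V, hV, hx, e, h⟩
  have hu : (Set.univ : Set F) ∈ irreducibleComponents F :=
    ⟨IrreducibleSpace.isIrreducible_univ F, fun _ _ _ => Set.subset_univ _⟩
  have hdim := @Var76.SmoothFibre.dim_component _ _ _ g n key _ hu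
  rw [IsHomeomorph.topologicalKrullDim_eq _ (Homeomorph.Set.univ F).isHomeomorph, hd] at hdim
  obtain rfl : d = n := by exact_mod_cast hdim
  exact key

/-- A smooth morphism whose geometric fibres are irreducible of dimension `d` is smooth of relative
dimension `d`. -/
theorem smoothOfRelativeDimension_of_fibres (f : X ⟶ S) [Smooth f] (d : ℕ) (K : S → Type u)
    [∀ s, Field (K s)] (y : ∀ s, Spec (CommRingCat.of (K s)) ⟶ S) (hy : ∀ s p, y s p = s)
    (hirr : ∀ s, IrreducibleSpace ↥(pullback f (y s)))
    (hdim : ∀ s, topologicalKrullDim ↥(pullback f (y s)) = (d : WithBot ℕ∞)) :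
    SmoothOfRelativeDimension d f := by
  refine ⟨fun x => ?_⟩
  obtain ⟨n, V, hV, hx, hn, U, hU, e, h⟩ := exists_ι_relDim f x
  obtain ⟨z, hz, -⟩ := Scheme.Pullback.exists_preimage_pullback (f := f) (g := y (f x)) x
    (default : Spec (CommRingCat.of (K (f x)))) (hy _ _).symm
  have := hirr (f x)
  have := smoothOfRelativeDimension_of_irreducible (pullback.snd f (y (f x))) d (hdim (f x))
  let W := pullback.fst f (y (f x)) ⁻¹ᵁ V
  have : Nonempty W := ⟨⟨z, by show pullback.fst f (y (f x)) z ∈ V; rw [hz]; exact hx⟩⟩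
  have a1 : SmoothOfRelativeDimension (0 + d) (W.ι ≫ pullback.snd f (y (f x))) := inferInstance
  rw [zero_add] at a1
  have a2 : SmoothOfRelativeDimension n (W.ι ≫ pullback.snd f (y (f x))) := by
    have hp : IsPullback (pullback.fst f (y (f x)) ∣_ V) (W.ι ≫ pullback.snd f (y (f x))) (V.ι ≫ f) (y (f x)) :=
      (isPullback_morphismRestrict _ V).paste_vert (IsPullback.of_hasPullback f (y (f x)))
    exact (smoothOfRelativeDimension_isStableUnderBaseChange n).of_isPullback hp hn
  obtain rfl : d = n := relDim_unique (W.ι ≫ pullback.snd f (y (f x)))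
  exact ⟨U, hU, V, hV, hx, e, h⟩

theorem etale_of_formallyUnramified (d : ℕ) (R A B : Type u) [CommRing R] [CommRing A] [CommRing B]
    [Algebra R A] [Algebra R B] [Algebra A B] [IsScalarTower R A B]
    [Algebra.IsStandardSmoothOfRelativeDimension d R A] [Algebra.IsStandardSmoothOfRelativeDimension d R B]
    [Algebra.FormallyUnramified A B] : Algebra.Etale A B := by
  rcases subsingleton_or_nontrivial B with hB | hB
  · have : Algebra.FinitePresentation A B := by
      have : Algebra.IsStandardSmooth R A := Algebra.IsStandardSmoothOfRelativeDimension.isStandardSmooth d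
      have : Algebra.IsStandardSmooth R B := Algebra.IsStandardSmoothOfRelativeDimension.isStandardSmooth d
      exact Algebra.FinitePresentation.of_restrict_scalars_finitePresentation R A B
    have : Algebra.FormallyEtale A B := ⟨inferInstance, by
      rw [subsingleton_iff_forall_eq 0]
      intro x
      rw [← one_smul B x, Subsingleton.elim (1 : B) 0, zero_smul]⟩
    exact { }
  have : Nontrivial A := (algebraMap A B).domain_nontrivial
  have : Algebra.IsStandardSmooth R A := Algebra.IsStandardSmoothOfRelativeDimension.isStandardSmooth d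
  have : Algebra.IsStandardSmooth R B := Algebra.IsStandardSmoothOfRelativeDimension.isStandardSmooth d
  have : Algebra.FinitePresentation A B :=
    Algebra.FinitePresentation.of_restrict_scalars_finitePresentation R A B
  have hrA := Algebra.IsStandardSmoothOfRelativeDimension.rank_kaehlerDifferential (R := R) (S := A) d
  have hrB := Algebra.IsStandardSmoothOfRelativeDimension.rank_kaehlerDifferential (R := R) (S := B) d
  let bA := Module.Free.chooseBasis A Ω[A⁄R]
  let bB := Module.Free.chooseBasis B Ω[B⁄R]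
  rw [← bA.mk_eq_rank''] at hrA
  rw [← bB.mk_eq_rank''] at hrB
  obtain ⟨eq⟩ := Cardinal.eq.1 (hrA.trans hrB.symm)
  have : Finite (Module.Free.ChooseBasisIndex A Ω[A⁄R]) :=
    Cardinal.mk_lt_aleph0_iff.1 (hrA ▸ Cardinal.natCast_lt_aleph0)
  let bT := bA.baseChange B
  let φ := KaehlerDifferential.mapBaseChange R A B
  have hsurj : Function.Surjective φ := by
    rw [← LinearMap.range_eq_top, ← (KaehlerDifferential.exact_mapBaseChange_map R A B).linearMap_ker_eq,
      eq_top_iff]
    exact fun x _ => Subsingleton.elim (α := Ω[B⁄A]) _ _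
  let ψ := (bT.equiv bB eq).symm.toLinearMap.comp φ
  have : Module.Finite B (B ⊗[A] Ω[A⁄R]) := Module.Finite.of_basis bT
  have hinj : Function.Injective ψ :=
    OrzechProperty.injective_of_surjective_endomorphism ψ ((bT.equiv bB eq).symm.surjective.comp hsurj)
  have hφ : Function.Injective φ := fun a b h => hinj (by
    show (bT.equiv bB eq).symm (φ a) = (bT.equiv bB eq).symm (φ b)
    rw [h])
  have h1 : Subsingleton (Algebra.H1Cotangent A B) := by
    refine subsingleton_of_forall_eq 0 fun z => ?_
    have hδ : Algebra.H1Cotangent.δ R A B z = 0 := hφ (by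
      rw [map_zero]
      exact (Algebra.H1Cotangent.exact_δ_mapBaseChange R A B).apply_apply_eq_zero z)
    obtain ⟨w, rfl⟩ := (Algebra.H1Cotangent.exact_map_δ R A B z).1 hδ
    rw [Subsingleton.elim w 0, map_zero]
  have : Algebra.FormallyEtale A B := ⟨inferInstance, h1⟩
  exact { }

theorem etale_stableUnderLocalizationAwaySource :
    RingHom.StableUnderCompositionWithLocalizationAwaySource RingHom.Etale := by
  intro R S T _ _ _ _ r _ f hf
  exact RingHom.Etale.stableUnderComposition (algebraMap R S) f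
    (RingHom.etale_algebraMap.2 (Algebra.Etale.of_isLocalizationAway r)) hf

theorem isOpenImmersion_of_mono_of_relDim {X Y : Scheme.{u}} (f : X ⟶ Y) (p : X ⟶ S) (q : Y ⟶ S)
    (hf : f ≫ q = p) (d : ℕ) [SmoothOfRelativeDimension d p] [SmoothOfRelativeDimension d q] [Mono f] :
    IsOpenImmersion f := by
  have : Smooth p := SmoothOfRelativeDimension.smooth d p
  have : Smooth q := SmoothOfRelativeDimension.smooth d q
  have : Etale f := by
    rw [HasRingHomProperty.iff_exists_appLE (P := @Etale) etale_stableUnderLocalizationAwaySource]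
    intro x
    obtain ⟨U, hU, V, hV, hV', e, h⟩ :=
      SmoothOfRelativeDimension.exists_isStandardSmoothOfRelativeDimension (n := d) (f := q) (f x)
    obtain ⟨W, hW, hxW, heW⟩ := exists_isAffineOpen_mem_and_subset (U := f ⁻¹ᵁ V) (x := x) hV'
    have eW : W ≤ p ⁻¹ᵁ U := by
      rw [← hf]
      exact fun w hw => e (heW hw)
    have hloc := HasRingHomProperty.appLE (@SmoothOfRelativeDimension d) p ‹_› ⟨U, hU⟩ ⟨W, hW⟩ eW
    obtain ⟨t, ht, hstd⟩ := hloc
    obtain ⟨r, hr, hxr⟩ : ∃ r ∈ t, x ∈ X.basicOpen r := by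
      by_contra hne
      rw [← hW.iSup_basicOpen_eq_self_iff.2 ht] at hxW
      obtain ⟨⟨r, hr⟩, hxr⟩ := TopologicalSpace.Opens.mem_iSup.1 hxW
      exact hne ⟨r, hr, hxr⟩
    let W' := X.basicOpen r
    have hW' : IsAffineOpen W' := hW.basicOpen r
    have e' : W' ≤ f ⁻¹ᵁ V := (X.basicOpen_le r).trans heW
    refine ⟨⟨V, hV⟩, ⟨W', hW'⟩, hxr, e', ?_⟩
    let : Algebra Γ(S, U) Γ(Y, V) := (q.appLE U V e).hom.toAlgebra
    let : Algebra Γ(Y, V) Γ(X, W') := (f.appLE V W' e').hom.toAlgebra
    let : Algebra Γ(S, U) Γ(X, W') := (p.appLE U W' ((X.basicOpen_le r).trans eW)).hom.toAlgebra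
    have : IsScalarTower Γ(S, U) Γ(Y, V) Γ(X, W') := IsScalarTower.of_algebraMap_eq fun a => by
      show p.appLE U W' _ a = f.appLE V W' e' (q.appLE U V e a)
      rw [← ConcreteCategory.comp_apply (q.appLE U V e), Scheme.Hom.appLE_comp_appLE]
      simp only [hf]
    have : Algebra.IsStandardSmoothOfRelativeDimension d Γ(S, U) Γ(Y, V) := h
    have : Algebra.IsStandardSmoothOfRelativeDimension d Γ(S, U) Γ(X, W') := by
      have : IsLocalization.Away r Γ(X, W') := hW.isLocalization_basicOpen r
      let : Algebra Γ(S, U) Γ(X, W) := (p.appLE U W eW).hom.toAlgebra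
      have : IsScalarTower Γ(S, U) Γ(X, W) Γ(X, W') := IsScalarTower.of_algebraMap_eq fun a => by
        show p.appLE U W' _ a = X.presheaf.map _ (p.appLE U W eW a)
        rw [← ConcreteCategory.comp_apply]
        exact congrArg (fun f => f a) (Scheme.Hom.appLE_map p eW (homOfLE (X.basicOpen_le r)).op).symm
      have h2 : Algebra.IsStandardSmoothOfRelativeDimension d Γ(S, U) (Localization.Away r) :=
        (RingHom.isStandardSmoothOfRelativeDimension_algebraMap d).1 (hstd r hr)
      exact Algebra.IsStandardSmoothOfRelativeDimension.of_algEquiv d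
        ((IsLocalization.algEquiv (Submonoid.powers r) (Localization.Away r) Γ(X, W')).restrictScalars Γ(S, U))
    have : Algebra.FormallyUnramified Γ(Y, V) Γ(X, W') :=
      HasRingHomProperty.appLE (@FormallyUnramified) f inferInstance ⟨V, hV⟩ ⟨W', hW'⟩ e'
    exact RingHom.etale_algebraMap.2 (etale_of_formallyUnramified d Γ(S, U) Γ(Y, V) Γ(X, W'))
  exact IsOpenImmersion.of_flat_of_mono f

end Groth.Agent.RedPts82
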