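import Groth.Agent.RedPts82.ClosedProd
import Mathlib.RingTheory.Ideal.Quotient.Basic

/-!
A monomorphic homomorphism from a diagonalisable group to an affine group is a closed immersion.
-/

universe u

open CategoryTheory MonoidalCategory CartesianMonoidalCategory MonObj GrpObj AlgebraicGeometry
open CategoryTheory.Limits

namespace Groth.Agent.RedPts82

variable {S : Scheme.{u}} {X G : Over S}

theorem closed_pullback_snd (f : X ⟶ G) (Y : Over S) (h : IsClosedImmersion (Y ◁ f).left) :
    IsClosedImmersion (pullback.snd f.left (snd Y G).left) := by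
  have big : IsPullback (pullback.snd Y.hom X.hom) (pullback.fst Y.hom X.hom)
      (f.left ≫ G.hom) Y.hom := by
    rw [Over.w]; exact (IsPullback.of_hasPullback _ _).flip
  have h1 : (Y ◁ f).left ≫ pullback.fst Y.hom G.hom = pullback.fst Y.hom X.hom := by
    rw [Over.whiskerLeft_left]
    exact (pullback.lift_fst _ _ _).trans (Category.comp_id _)
  have h2 : (snd Y X).left ≫ f.left = (Y ◁ f).left ≫ (snd Y G).left := by
    rw [← Over.comp_left, ← Over.comp_left, whiskerLeft_snd]
  have hsq : IsPullback (snd Y X).left (Y ◁ f).left f.left (snd Y G).left :=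
    IsPullback.of_bot (h₁₁ := (snd Y X).left) (by rw [h1]; exact big) h2
      (IsPullback.of_hasPullback Y.hom G.hom).flip
  rw [← hsq.isoPullback_inv_snd]
  infer_instance

/-- Being a closed immersion can be checked after base change to the affine opens of the base. -/
theorem isClosedImmersion_of_whiskerLeft (f : X ⟶ G)
    (h : ∀ (Y : Over S) [IsAffine Y.left], IsClosedImmersion (Y ◁ f).left) :
    IsClosedImmersion f.left := by
  have hcov : ∀ g : G.left, ∃ i y, (snd (Over.mk (S.affineCover.f i)) G).left y = g := fun g => by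
    obtain ⟨i, z, hz⟩ := S.affineCover.exists_eq (G.hom g)
    obtain ⟨y, -, hy⟩ := Scheme.Pullback.exists_preimage_pullback (f := S.affineCover.f i)
      (g := G.hom) z g hz
    exact ⟨i, y, hy⟩
  have hop : ∀ i, IsOpenImmersion (snd (Over.mk (S.affineCover.f i)) G).left := fun i =>
    inferInstanceAs (IsOpenImmersion (pullback.snd (S.affineCover.f i) G.hom))
  refine IsZariskiLocalAtTarget.of_openCover (Scheme.Cover.mkOfCovers S.affineCover.I₀
    (fun i => (Over.mk (S.affineCover.f i) ⊗ G).left)
    (fun i => (snd (Over.mk (S.affineCover.f i)) G).left) hcov hop) fun i => ?_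
  exact closed_pullback_snd f _ (@h (Over.mk (S.affineCover.f i))
    (inferInstanceAs (IsAffine (S.affineCover.X i))))

theorem dsFn_inv {M : Type} [AddCommGroup M] {Z : Over S} (t : Z ⟶ Red.DS S M) (m : M) :
    dsFn t⁻¹ m = dsFn t (-m) := by
  apply (dsFn_isUnit t m).mul_left_cancel
  rw [← dsFn_add, add_neg_cancel, dsFn_zero, ← dsFn_mul, mul_inv_cancel, dsFn_one]

/-- A subring of a group algebra, graded and stable under inversion, either is everything or is
equalised by two different homomorphisms. -/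
theorem exists_hom_pair {R : Type u} [CommRing R] {Gp : Type} [CommGroup Gp]
    (B : Subring (MonoidAlgebra R Gp)) (hconst : ∀ a, MonoidAlgebra.single 1 a ∈ B)
    (hcomp : ∀ q ∈ B, ∀ g, MonoidAlgebra.single g (q.coeff g) ∈ B)
    (hneg : ∀ g a, MonoidAlgebra.single g a ∈ B → MonoidAlgebra.single g⁻¹ a ∈ B)
    (hne : ∃ q, q ∉ B) :
    ∃ (A : Type u) (_ : CommRing A) (φ φ₀ : MonoidAlgebra R Gp →+* A),
      φ₀.comp (algebraMap R (MonoidAlgebra R Gp)) = φ.comp (algebraMap R (MonoidAlgebra R Gp)) ∧
      (∀ q ∈ B, φ q = φ₀ q) ∧ φ ≠ φ₀ := by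
  classical
  let I : Gp → Ideal R := fun g =>
    { carrier := {a | MonoidAlgebra.single g a ∈ B}
      zero_mem' := by simp
      add_mem' := fun ha hb => by
        show MonoidAlgebra.single g _ ∈ B
        rw [MonoidAlgebra.single_add]
        exact B.add_mem ha hb
      smul_mem' := fun c x hx => by
        show MonoidAlgebra.single g (c * x) ∈ B
        rw [show (MonoidAlgebra.single g (c * x) : MonoidAlgebra R Gp) =
          MonoidAlgebra.single 1 c * MonoidAlgebra.single g x by
            rw [MonoidAlgebra.single_mul_single, _root_.one_mul]]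
        exact B.mul_mem (hconst c) hx }
  obtain ⟨g₀, hg₀⟩ : ∃ g, I g ≠ ⊤ := by
    by_contra hall
    push Not at hall
    obtain ⟨q, hq⟩ := hne
    refine hq ?_
    rw [← MonoidAlgebra.sum_coeff_single q]
    exact B.sum_mem fun g _ => by
      show q.coeff g ∈ I g
      rw [hall g]
      trivial
  obtain ⟨p, hp, hle⟩ := Ideal.exists_le_maximal _ hg₀
  let H : Subgroup Gp :=
    { carrier := {g | ¬ I g ≤ p}
      one_mem' := fun hle' => hp.ne_top ((Ideal.eq_top_iff_one p).mpr (hle' (hconst 1)))
      mul_mem' := fun {g g'} hg hg' hle' => by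
        obtain ⟨a, ha, hap⟩ := SetLike.not_le_iff_exists.mp hg
        obtain ⟨b, hb, hbp⟩ := SetLike.not_le_iff_exists.mp hg'
        refine (hp.isPrime.mem_or_mem (hle' ?_)).elim hap hbp
        show MonoidAlgebra.single (g * g') (a * b) ∈ B
        rw [← MonoidAlgebra.single_mul_single]
        exact B.mul_mem ha hb
      inv_mem' := fun {g} hg hle' => hg fun a ha => hle' (hneg g a ha) }
  let A : Type u := MonoidAlgebra (R ⧸ p) (Gp ⧸ H)
  let φ : MonoidAlgebra R Gp →+* A := (MonoidAlgebra.mapRingHom _ (Ideal.Quotient.mk p)).comp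
    (MonoidAlgebra.mapDomainRingHom R (QuotientGroup.mk' H))
  let φ₀ : MonoidAlgebra R Gp →+* A := (MonoidAlgebra.mapRingHom _ (Ideal.Quotient.mk p)).comp
    (MonoidAlgebra.mapDomainRingHom R (1 : Gp →* Gp ⧸ H))
  have hφs : ∀ g a, φ (MonoidAlgebra.single g a) =
      MonoidAlgebra.single (QuotientGroup.mk' H g) (Ideal.Quotient.mk p a) := fun g a => by
    simp [φ, MonoidAlgebra.mapDomainRingHom]
  have hφ₀s : ∀ g a, φ₀ (MonoidAlgebra.single g a) =
      MonoidAlgebra.single (1 : Gp ⧸ H) (Ideal.Quotient.mk p a) := fun g a => by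
    simp [φ₀, MonoidAlgebra.mapDomainRingHom]
  refine ⟨A, inferInstance, φ, φ₀, RingHom.ext fun a => ?_, fun q hq => ?_, fun heq => ?_⟩
  · show φ₀ (MonoidAlgebra.single 1 a) = φ (MonoidAlgebra.single 1 a)
    rw [hφs, hφ₀s, map_one]
  · rw [← MonoidAlgebra.sum_coeff_single q, map_finsuppSum, map_finsuppSum]
    refine Finsupp.sum_congr fun g _ => ?_
    rw [hφs, hφ₀s]
    by_cases hg : I g ≤ p
    · rw [Ideal.Quotient.eq_zero_iff_mem.mpr (hg (hcomp q hq g)), MonoidAlgebra.single_zero,
        MonoidAlgebra.single_zero]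
    · rw [show QuotientGroup.mk' H g = 1 from (QuotientGroup.eq_one_iff g).mpr hg]
  · have h3 := congrArg (fun α : MonoidAlgebra R Gp →+* A => (α (MonoidAlgebra.single g₀ 1)).coeff 1) heq
    have : Nontrivial (R ⧸ p) := Ideal.Quotient.nontrivial_iff.mpr hp.ne_top
    simp only [hφs, hφ₀s, map_one, MonoidAlgebra.coeff_single, Finsupp.single_eq_same,
      QuotientGroup.mk'_apply] at h3
    rw [Finsupp.single_eq_of_ne (fun h => (show ¬ g₀ ∈ H from fun hn => hn hle)
      ((QuotientGroup.eq_one_iff g₀).mp h.symm))] at h3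
    exact zero_ne_one h3

/-- Two homomorphisms of the coordinate ring agreeing on the image of a monomorphism are equal. -/
theorem eq_of_agree {Y : Over S} [IsAffine Y.left] {M : Type} [AddCommGroup M] {Q : Over S}
    [IsAffine Q.left] (h : polyDS Y M ⟶ Q) (hmono : Mono h) (ψ : Γ(Q.left, ⊤) →+* DSRing Y M)
    (hψ : ∀ f, polyCoord Y M (ψ f) = h.left.appTop f) {A : Type u} [CommRing A]
    (φ φ₀ : DSRing Y M →+* A)
    (hbase : φ₀.comp (algebraMap (Gam Y) (DSRing Y M)) = φ.comp (algebraMap (Gam Y) (DSRing Y M)))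
    (hagree : ∀ f, φ (ψ f) = φ₀ (ψ f)) : φ = φ₀ := by
  let Z : Over S := Over.mk
    ((Spec.map (CommRingCat.ofHom (φ.comp (algebraMap (Gam Y) (DSRing Y M)))) ≫ Y.left.isoSpec.inv) ≫ Y.hom)
  have hw : ∀ α : DSRing Y M →+* A,
      α.comp (algebraMap (Gam Y) (DSRing Y M)) = φ.comp (algebraMap (Gam Y) (DSRing Y M)) →
      Spec.map (CommRingCat.ofHom α) ≫ (polyDS Y M).hom = Z.hom := fun α hα => by
    show Spec.map (CommRingCat.ofHom α) ≫ (Spec.map (CommRingCat.ofHom (algebraMap _ _)) ≫
      Y.left.isoSpec.inv) ≫ Y.hom = _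
    rw [← Category.assoc, ← Category.assoc, ← Spec.map_comp, ← CommRingCat.ofHom_comp, hα]
    rfl
  let z : Z ⟶ polyDS Y M := Over.homMk (Spec.map (CommRingCat.ofHom φ)) (hw φ rfl)
  let z₀ : Z ⟶ polyDS Y M := Over.homMk (Spec.map (CommRingCat.ofHom φ₀)) (hw φ₀ hbase)
  have key : ∀ (α : DSRing Y M →+* A) (f : Γ(Q.left, ⊤)),
      (Spec.map (CommRingCat.ofHom α)).appTop (h.left.appTop f) =
        (Scheme.ΓSpecIso (CommRingCat.of A)).inv (α (ψ f)) := fun α f => by
    rw [← hψ]
    exact (congr($(Scheme.ΓSpecIso_inv_naturality (CommRingCat.ofHom α)) (ψ f))).symm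
  have heq : z ≫ h = z₀ ≫ h := by
    apply Over.OverMorphism.ext
    apply ext_of_isAffine
    refine CommRingCat.hom_ext (RingHom.ext fun f => ?_)
    exact (key φ f).trans ((congrArg _ (hagree f)).trans (key φ₀ f).symm)
  have h1 : Spec.map (CommRingCat.ofHom φ) = Spec.map (CommRingCat.ofHom φ₀) :=
    congrArg (fun k : Z ⟶ polyDS Y M => k.left) ((cancel_mono h).mp heq)
  exact congrArg CommRingCat.Hom.hom (Spec.map_injective h1)

variable [GrpObj G] {M : Type} [AddCommGroup M] (j : Red.DS S M ⟶ G) [IsMonHom j] [Mono j]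

/-- The coordinate map of a subgroup of multiplicative type over an affine base is surjective. -/
theorem surjective_dsHom (hG : IsAffineHom G.hom) (Y : Over S) [IsAffine Y.left] :
    Function.Surjective (lift (polyProj Y M) (polyTu Y M ≫ j)).left.appTop := by
  classical
  have : IsAffineHom (fst Y G).left := inferInstanceAs (IsAffineHom (pullback.fst Y.hom G.hom))
  have : IsAffine (Y ⊗ G).left := isAffine_of_isAffineHom (fst Y G).left
  let Q := Y ⊗ G
  let P := polyDS Y M
  let h : P ⟶ Q := lift (polyProj Y M) (polyTu Y M ≫ j)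
  let e : DSRing Y M ≃+* Γ(P.left, ⊤) := RingEquiv.ofBijective _ (polyCoord_bijective Y M)
  let ψ : Γ(Q.left, ⊤) →+* DSRing Y M := e.symm.toRingHom.comp h.left.appTop.hom
  have hψ : ∀ f, polyCoord Y M (ψ f) = h.left.appTop f := fun f => e.apply_symm_apply _
  suffices hB : ∀ q : DSRing Y M, q ∈ ψ.range by
    intro r
    obtain ⟨q, rfl⟩ := (polyCoord_bijective Y M).2 r
    obtain ⟨f, rfl⟩ := hB q
    exact ⟨f, (hψ f).symm⟩
  have hcomp : ∀ q ∈ ψ.range, ∀ g, MonoidAlgebra.single g (q.coeff g) ∈ ψ.range := by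
    rintro _ ⟨f, rfl⟩ g
    let C : polyDS Q M ⟶ Q := lift (polyProj Q M ≫ fst Y G)
      ((polyTu Q M ≫ j) * (polyProj Q M ≫ snd Y G))
    obtain ⟨c, hc⟩ := (polyCoord_bijective Q M).2 (C.left.appTop f)
    refine ⟨c.coeff g, ?_⟩
    obtain ⟨L, hL1, hL2, hL3⟩ := exists_polyLift (polyProj P M ≫ h) (polyTu P M)
    obtain ⟨σ, hσ1, hσ2, hσ3⟩ := exists_polyLift (polyProj P M ≫ polyProj Y M)
      (polyTu P M * (polyProj P M ≫ polyTu Y M))
    have hLC : L ≫ C = σ ≫ h := by
      apply CartesianMonoidalCategory.hom_ext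
      · simp only [C, h, Category.assoc, lift_fst]
        rw [← Category.assoc L, hL1, Category.assoc, hσ1]
        simp only [h, lift_fst]
      · simp only [C, h, Category.assoc, lift_snd, MonObj.comp_mul]
        rw [← Category.assoc L (polyTu Q M) j, hL2, ← Category.assoc L (polyProj Q M), hL1,
          ← Category.assoc σ (polyTu Y M) j, hσ2, MonObj.mul_comp]
        simp only [h, Category.assoc, lift_snd]
    have e0 := congrArg (fun k => k.left.appTop f) hLC
    change L.left.appTop (C.left.appTop f) = σ.left.appTop (h.left.appTop f) at e0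
    rw [← hc, hL3, ← hψ, hσ3] at e0
    have hl : evalDS (polyProj P M ≫ h) (polyTu P M) c =
        polyCoord P M (MonoidAlgebra.mapRingHom (Multiplicative M) h.left.appTop.hom c) := by
      rw [← RingHom.comp_apply]
      congr 1
      refine MonoidAlgebra.ringHom_ext (fun a => ?_) fun g => ?_
      · rw [RingHom.comp_apply, MonoidAlgebra.mapRingHom_single, ← polyProj_appTop,
          show (1 : Multiplicative M) = Multiplicative.ofAdd 0 from rfl, evalDS_single, dsFn_zero]
        exact _root_.mul_one _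
      · rw [RingHom.comp_apply, MonoidAlgebra.mapRingHom_single, map_one,
          show g = Multiplicative.ofAdd (Multiplicative.toAdd g) from rfl, evalDS_single, map_one,
          _root_.one_mul, dsFn_polyTu]
    have hr : ∀ q : DSRing Y M, ∃ r, evalDS (polyProj P M ≫ polyProj Y M)
        (polyTu P M * (polyProj P M ≫ polyTu Y M)) q = polyCoord P M r ∧
        ∀ g, r.coeff g = polyCoord Y M (MonoidAlgebra.single g (q.coeff g)) := by
      intro q
      induction q using MonoidAlgebra.induction_linear with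
      | zero => exact ⟨0, by simp, fun g => by simp⟩
      | add x y hx hy =>
        obtain ⟨r, hr, hrc⟩ := hx
        obtain ⟨r', hr', hrc'⟩ := hy
        refine ⟨r + r', by simp [hr, hr'], fun g => ?_⟩
        simp only [MonoidAlgebra.coeff_add, Finsupp.add_apply, hrc, hrc', MonoidAlgebra.single_add, map_add]
      | single g₀ a =>
        refine ⟨MonoidAlgebra.single g₀ (polyCoord Y M (MonoidAlgebra.single g₀ a)), ?_, fun g => ?_⟩
        · obtain ⟨m, rfl⟩ := Multiplicative.ofAdd.surjective g₀
          rw [evalDS_single, dsFn_mul, dsFn_polyTu, dsFn_comp, dsFn_polyTu, polyProj_appTop,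
            Over.comp_left, Scheme.Hom.comp_appTop]
          show (polyProj P M).left.appTop ((polyProj Y M).left.appTop a) * _ = _
          rw [polyProj_appTop, polyProj_appTop, ← map_mul, ← map_mul, MonoidAlgebra.single_mul_single,
            MonoidAlgebra.single_mul_single, _root_.one_mul, _root_.mul_one, _root_.one_mul, ← map_mul,
            MonoidAlgebra.single_mul_single, _root_.one_mul, _root_.mul_one]
        · rw [MonoidAlgebra.coeff_single, MonoidAlgebra.coeff_single]
          by_cases hg : g = g₀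
          · subst hg; rw [Finsupp.single_eq_same, Finsupp.single_eq_same]
          · rw [Finsupp.single_eq_of_ne hg, Finsupp.single_eq_of_ne hg,
              MonoidAlgebra.single_zero, map_zero]
    obtain ⟨r, hr1, hr2⟩ := hr (ψ f)
    rw [hl, hr1] at e0
    have e1 := congrArg (fun r => r.coeff g) ((polyCoord_bijective P M).1 e0)
    simp only [MonoidAlgebra.coeff_mapRingHom, hr2] at e1
    apply (polyCoord_bijective Y M).1
    rw [hψ]
    exact e1
  have hneg : ∀ g a, MonoidAlgebra.single g a ∈ ψ.range → MonoidAlgebra.single g⁻¹ a ∈ ψ.range := by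
    rintro g a ⟨f, hf⟩
    let ιQ : Q ⟶ Q := lift (fst Y G) (snd Y G)⁻¹
    obtain ⟨N, hN1, hN2, hN3⟩ := exists_polyLift (polyProj Y M) (polyTu Y M)⁻¹
    have hNh : h ≫ ιQ = N ≫ h := by
      apply CartesianMonoidalCategory.hom_ext
      · simp only [h, ιQ, Category.assoc, lift_fst, hN1]
      · simp only [h, ιQ, Category.assoc, lift_snd, GrpObj.comp_inv]
        rw [← Category.assoc N (polyTu Y M) j, hN2]
        refine inv_eq_of_mul_eq_one_right ?_
        rw [← MonObj.mul_comp (polyTu Y M), mul_inv_cancel, MonObj.one_comp]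
    refine ⟨ιQ.left.appTop f, (polyCoord_bijective Y M).1 ?_⟩
    rw [hψ]
    have e0 := congrArg (fun k => k.left.appTop f) hNh
    change h.left.appTop (ιQ.left.appTop f) = N.left.appTop (h.left.appTop f) at e0
    rw [e0, ← hψ, hf, hN3]
    obtain ⟨m, rfl⟩ := Multiplicative.ofAdd.surjective g
    rw [evalDS_single, dsFn_inv, dsFn_polyTu, polyProj_appTop, ← map_mul,
      MonoidAlgebra.single_mul_single, _root_.one_mul, _root_.mul_one]
    rfl
  have hconst : ∀ a, MonoidAlgebra.single 1 a ∈ ψ.range := fun a => by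
    refine ⟨(fst Y G).left.appTop a, (polyCoord_bijective Y M).1 ?_⟩
    rw [hψ, ← polyProj_appTop]
    exact congrArg (fun k => k.left.appTop a) (lift_fst (polyProj Y M) (polyTu Y M ≫ j))
  have hmono : Mono h := ⟨fun a b hab => by
    refine polyDS_hom_ext ?_ ?_
    · have := congrArg (· ≫ fst Y G) hab
      simpa [h] using this
    · have := congrArg (· ≫ snd Y G) hab
      simp only [h, Category.assoc, lift_snd] at this
      rw [← Category.assoc, ← Category.assoc] at this
      exact (cancel_mono j).mp this⟩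
  by_contra hne
  push Not at hne
  obtain ⟨A, _, φ, φ₀, hbase, hagree, hd⟩ :=
    exists_hom_pair ψ.range hconst hcomp hneg hne
  exact hd (eq_of_agree h hmono ψ hψ φ φ₀ hbase fun f => hagree _ ⟨f, rfl⟩)

theorem isClosedImmersion_dsHom (hG : IsAffineHom G.hom) : IsClosedImmersion j.left := by
  refine isClosedImmersion_of_whiskerLeft j fun Y _ => ?_
  have : IsAffineHom (fst Y G).left := inferInstanceAs (IsAffineHom (pullback.fst Y.hom G.hom))
  have : IsAffine (Y ⊗ G).left := isAffine_of_isAffineHom (fst Y G).left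
  have : IsClosedImmersion (lift (polyProj Y M) (polyTu Y M ≫ j)).left :=
    IsClosedImmersion.of_surjective_of_isAffine _ (surjective_dsHom j hG Y)
  have e : Y ◁ j = (polyIso Y M).inv ≫ lift (polyProj Y M) (polyTu Y M ≫ j) := by
    rw [← cancel_epi (polyIso Y M).hom, Iso.hom_inv_id_assoc]
    apply CartesianMonoidalCategory.hom_ext <;> simp [polyIso]
  rw [e]
  have : IsIso (polyIso Y M).inv.left := inferInstanceAs (IsIso ((Over.forget S).map (polyIso Y M).inv))
  exact inferInstanceAs (IsClosedImmersion ((polyIso Y M).inv.left ≫ _))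

end Groth.Agent.RedPts82
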