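import Mathlib
import Groth.Agent.CAlg4.ReducedCurve

/-!
Units on the generic fibre which are `1` along a section extend, for flat families with irreducible
fibres over normal integral bases.
-/

set_option autoImplicit false
set_option linter.style.haveILetI false

universe u

open CategoryTheory AlgebraicGeometry TopologicalSpace IsLocalRing

noncomputable section

namespace Groth.Agent.RedPts82.UnitExt

section Integral

variable {X : Scheme.{u}} [IsIntegral X]

/-- The stalk at `x` inside the function field. -/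
abbrev toK (x : X) : X.presheaf.stalk x →+* X.functionField :=
  algebraMap (X.presheaf.stalk x) X.functionField

theorem toK_specializes {y x : X} (h : y ⤳ x) (a : X.presheaf.stalk x) :
    toK y (X.presheaf.stalkSpecializes h a) = toK x a :=
  DFunLike.congr_fun (CommRingCat.hom_ext_iff.mp
    (X.presheaf.stalkSpecializes_comp ((genericPoint_spec X).specializes trivial) h)) a

theorem toK_injective (x : X) : Function.Injective (toK x) := IsFractionRing.injective _ _

/-- A rational function is a unit at a point. -/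
def UnitAt (x : X) (c : X.functionField) : Prop := ∃ a, IsUnit a ∧ toK x a = c

theorem UnitAt.mul {x : X} {c d : X.functionField} (hc : UnitAt x c) (hd : UnitAt x d) :
    UnitAt x (c * d) := by
  obtain ⟨a, ha, rfl⟩ := hc
  obtain ⟨b, hb, rfl⟩ := hd
  exact ⟨a * b, ha.mul hb, map_mul _ _ _⟩

theorem UnitAt.inv {x : X} {c : X.functionField} (hc : UnitAt x c) : UnitAt x c⁻¹ := by
  obtain ⟨a, ha, rfl⟩ := hc
  obtain ⟨u, rfl⟩ := ha
  exact ⟨(u⁻¹ : (X.presheaf.stalk x)ˣ), Units.isUnit _, by rw [map_units_inv]⟩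

theorem UnitAt.zpow {x : X} {c : X.functionField} (hc : UnitAt x c) (n : ℤ) : UnitAt x (c ^ n) := by
  obtain ⟨a, ha, rfl⟩ := hc
  obtain ⟨u, rfl⟩ := ha
  exact ⟨((u ^ n : (X.presheaf.stalk x)ˣ) : X.presheaf.stalk x), Units.isUnit _, by
    show (Units.map (toK x).toMonoidHom (u ^ n) : X.functionField) = _
    rw [map_zpow, Units.val_zpow_eq_zpow_val]; rfl⟩

theorem UnitAt.of_specializes {y x : X} (h : y ⤳ x) {c : X.functionField} (hc : UnitAt x c) :
    UnitAt y c := by
  obtain ⟨a, ha, rfl⟩ := hc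
  exact ⟨_, ha.map (X.presheaf.stalkSpecializes h).hom, toK_specializes h a⟩

variable [IsLocallyNoetherian X] (hn : ∀ x : X, IsIntegrallyClosed (X.presheaf.stalk x))

include hn in
/-- Hartogs for rational functions at a point. -/
theorem mem_range_of_forall_dim_one (x : X) (c : X.functionField)
    (h : ∀ y : X, y ⤳ x → ringKrullDim (X.presheaf.stalk y) = 1 → c ∈ (toK y).range) :
    c ∈ (toK x).range := by
  let O := X.presheaf.stalk x
  haveI := hn x
  obtain ⟨b, a, ha, rfl⟩ := IsFractionRing.div_surjective O c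
  have ha0 : a ≠ 0 := nonZeroDivisors.ne_zero ha
  suffices hd : a ∣ b by
    obtain ⟨t, rfl⟩ := hd
    exact ⟨t, by rw [map_mul, mul_div_cancel_left₀]; simpa using fun h => ha0 (toK_injective x (by simpa using h))⟩
  refine CAlg4.ReducedCurve.dvd_of_forall_height_one a b ha0 fun q hq hq1 _ => ?_
  obtain ⟨W, hW, hxW, -⟩ := exists_isAffineOpen_mem_and_subset (U := (⊤ : X.Opens)) (x := x) trivial
  letI := TopCat.Presheaf.algebra_section_stalk X.presheaf (⟨x, hxW⟩ : W)
  haveI : IsLocalization.AtPrime O (hW.primeIdealOf ⟨x, hxW⟩).asIdeal := hW.isLocalization_stalk ⟨x, hxW⟩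
  haveI : Nonempty (W : Set X) := ⟨⟨x, hxW⟩⟩
  let q₀ : PrimeSpectrum Γ(X, W) := ⟨q.comap (algebraMap Γ(X, W) O), inferInstance⟩
  let y : X := hW.fromSpec q₀
  have hyW : y ∈ W := hW.range_fromSpec.le (Set.mem_range_self q₀)
  have hle : q₀.asIdeal ≤ (hW.primeIdealOf ⟨x, hxW⟩).asIdeal := fun r hr => by
    by_contra hr'
    exact hq.ne_top (Ideal.eq_top_of_isUnit_mem _ hr
      (IsLocalization.map_units O (⟨r, hr'⟩ : (hW.primeIdealOf ⟨x, hxW⟩).asIdeal.primeCompl)))
  have hyx : y ⤳ x := by
    have h1 : q₀ ⤳ hW.primeIdealOf ⟨x, hxW⟩ := (PrimeSpectrum.le_iff_specializes _ _).mp hle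
    have h2 := h1.map hW.fromSpec.continuous
    rwa [hW.fromSpec_primeIdealOf] at h2
  letI := TopCat.Presheaf.algebra_section_stalk X.presheaf (⟨y, hyW⟩ : W)
  haveI : IsLocalization.AtPrime (X.presheaf.stalk y) q₀.asIdeal := hW.isLocalization_stalk' q₀ hyW
  have hdim : ringKrullDim (X.presheaf.stalk y) = 1 := by
    rw [IsLocalization.AtPrime.ringKrullDim_eq_height q₀.asIdeal]
    show ((q.under Γ(X, W)).height : WithBot ℕ∞) = 1
    rw [IsLocalization.height_under (hW.primeIdealOf ⟨x, hxW⟩).asIdeal.primeCompl, hq1]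
    rfl
  obtain ⟨t, ht⟩ := h y hyx hdim
  obtain ⟨r, s, rfl⟩ := IsLocalization.exists_mk'_eq q₀.asIdeal.primeCompl t
  have hrel : algebraMap Γ(X, W) O r * a = b * algebraMap Γ(X, W) O s := by
    apply toK_injective x
    have hx : ∀ w : Γ(X, W), toK x (algebraMap Γ(X, W) O w) = toK y (algebraMap Γ(X, W) (X.presheaf.stalk y) w) :=
      fun w => by
        show toK x (X.presheaf.germ W x hxW w) = toK y (X.presheaf.germ W y hyW w)
        rw [← toK_specializes hyx (X.presheaf.germ W x hxW w), TopCat.Presheaf.germ_stalkSpecializes_apply]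
    have hs : toK x (algebraMap Γ(X, W) O s) ≠ 0 := by
      rw [hx]
      exact ((IsLocalization.map_units (X.presheaf.stalk y) s).map (toK y)).ne_zero
    have hta : toK y (IsLocalization.mk' (X.presheaf.stalk y) r s) * toK x (algebraMap Γ(X, W) O s) =
        toK x (algebraMap Γ(X, W) O r) := by
      rw [hx, ← map_mul, IsLocalization.mk'_spec, hx]
    have haK : toK x a ≠ 0 := fun e => ha0 (toK_injective x (by rw [e, map_zero]))
    rw [map_mul, map_mul, ← hta, ht]
    show toK x b / toK x a * toK x (algebraMap Γ(X, W) O s) * toK x a = _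
    field_simp
  have hsq : (algebraMap Γ(X, W) O s : O) ∉ q := s.2
  have hu : IsUnit (algebraMap O (Localization.AtPrime q) (algebraMap Γ(X, W) O s)) :=
    IsLocalization.map_units _ (⟨_, hsq⟩ : q.primeCompl)
  refine hu.dvd_mul_right.mp ⟨algebraMap O (Localization.AtPrime q) (algebraMap Γ(X, W) O r), ?_⟩
  rw [← map_mul, ← map_mul, ← hrel, mul_comm]

include hn in
theorem unitAt_of_forall_dim_one (x : X) (c : X.functionField)
    (h : ∀ y : X, y ⤳ x → ringKrullDim (X.presheaf.stalk y) = 1 → UnitAt y c) (hc : c ≠ 0) :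
    UnitAt x c := by
  obtain ⟨a, ha⟩ := mem_range_of_forall_dim_one hn x c fun y hy hd => by
    obtain ⟨t, -, ht⟩ := h y hy hd; exact ⟨t, ht⟩
  obtain ⟨b, hb⟩ := mem_range_of_forall_dim_one hn x c⁻¹ fun y hy hd => by
    obtain ⟨t, -, ht⟩ := (h y hy hd).inv; exact ⟨t, ht⟩
  refine ⟨a, IsUnit.of_mul_eq_one (b := b) (toK_injective x ?_), ha⟩
  rw [map_mul, ha, hb, map_one, mul_inv_cancel₀ hc]

/-- A rational function which is a unit everywhere is a global unit. -/
theorem exists_section_of_unitAt (c : X.functionField) (h : ∀ x, UnitAt x c) :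
    ∃ s : Γ(X, ⊤), IsUnit s ∧ ∀ x, toK x (X.presheaf.germ ⊤ x trivial s) = c := by
  have key : ∀ (d : X.functionField), (∀ x, d ∈ (toK x).range) →
      ∃ s : Γ(X, ⊤), X.presheaf.germ ⊤ (genericPoint X) trivial s = d := by
    intro d hd
    have hloc : ∀ y : X, ∃ (U : X.Opens) (hyU : y ∈ U) (s : Γ(X, U)),
        X.presheaf.germ U (genericPoint X) ((genericPoint_specializes y).mem_open U.2 hyU) s = d := by
      intro y
      obtain ⟨a, ha⟩ := hd y
      obtain ⟨U, hU, s, rfl⟩ := TopCat.Presheaf.exists_germ_eq X.presheaf a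
      exact ⟨U, hU, s, by rw [← ha]; exact (TopCat.Presheaf.germ_stalkSpecializes_apply _ _ _ _).symm⟩
    choose U hyU s hs using hloc
    have hcompat : TopCat.Presheaf.IsCompatible X.sheaf.obj U s := by
      intro a b
      refine germ_injective_of_isIntegral X (genericPoint X)
        (⟨(genericPoint_specializes a).mem_open (U a).2 (hyU a),
          (genericPoint_specializes b).mem_open (U b).2 (hyU b)⟩ : genericPoint X ∈ U a ⊓ U b) ?_
      show X.presheaf.germ _ _ _ (X.presheaf.map (homOfLE (inf_le_left : U a ⊓ U b ≤ U a)).op (s a)) =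
        X.presheaf.germ _ _ _ (X.presheaf.map (homOfLE (inf_le_right : U a ⊓ U b ≤ U b)).op (s b))
      rw [TopCat.Presheaf.germ_res_apply, TopCat.Presheaf.germ_res_apply, hs, hs]
    obtain ⟨(t : Γ(X, ⊤)), ht, -⟩ := X.sheaf.existsUnique_gluing' U ⊤ (fun y => homOfLE le_top)
      (fun y _ => Opens.mem_iSup.mpr ⟨y, hyU y⟩) s hcompat
    refine ⟨t, ?_⟩
    rw [← hs (genericPoint X), ← show X.presheaf.map (homOfLE le_top).op t = s (genericPoint X) from
      ht _, TopCat.Presheaf.germ_res_apply]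
  obtain ⟨s, hs⟩ := key c fun x => by obtain ⟨a, -, ha⟩ := h x; exact ⟨a, ha⟩
  obtain ⟨s', hs'⟩ := key c⁻¹ fun x => by obtain ⟨a, -, ha⟩ := (h x).inv; exact ⟨a, ha⟩
  have hc : c ≠ 0 := by
    obtain ⟨a, ha, rfl⟩ := h (genericPoint X)
    exact (ha.map (toK _)).ne_zero
  refine ⟨s, IsUnit.of_mul_eq_one (b := s') (germ_injective_of_isIntegral X (genericPoint X)
    (show genericPoint X ∈ (⊤ : X.Opens) from trivial) ?_), fun x => ?_⟩
  · rw [map_mul, hs, hs', map_one]
    exact mul_inv_cancel₀ hc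
  · show X.presheaf.stalkSpecializes _ _ = c
    rw [TopCat.Presheaf.germ_stalkSpecializes_apply]
    exact hs

omit [IsLocallyNoetherian X] in
theorem eq_or_eq_genericPoint {z y : X} (h : z ⤳ y) (hy : ringKrullDim (X.presheaf.stalk y) ≤ 1) :
    z = y ∨ z = genericPoint X := by
  rw [ringKrullDim_stalk_eq_coheight] at hy
  by_contra hne
  obtain ⟨h1, h2⟩ := not_or.mp hne
  have hg : genericPoint X ⤳ z := genericPoint_specializes z
  have l1 : y < z := lt_of_le_not_ge h fun h' => h1 (Specializes.antisymm h h').eq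
  have l2 : z < genericPoint X := lt_of_le_not_ge hg fun h' => h2 (Specializes.antisymm h' hg).eq
  have e1 := Order.coheight_add_one_le l1
  have e2 := Order.coheight_add_one_le l2
  have h3 : (2 : ℕ∞) ≤ Order.coheight y := le_trans (by
    calc (2 : ℕ∞) = 1 + 1 := rfl
      _ ≤ Order.coheight z + 1 := by
        gcongr
        exact le_trans le_add_self e2) e1
  have h4 : Order.coheight y ≤ 1 := by exact_mod_cast hy
  exact absurd (le_trans h3 h4) (by decide)

end Integral

theorem germ_app_congr {W X : Scheme.{u}} {f f' : W ⟶ X} (h : f = f') {U : X.Opens} (s : Γ(X, U)) (x : W)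
    (hx : f x ∈ U) (hx' : f' x ∈ U) :
    W.presheaf.germ (f ⁻¹ᵁ U) x hx (f.app U s) = W.presheaf.germ (f' ⁻¹ᵁ U) x hx' (f'.app U s) := by
  subst h; rfl

theorem germ_eq_one_of_eq {X : Scheme.{u}} {U : X.Opens} (s : Γ(X, U)) {x x' : X} (h : x = x')
    (hx : x ∈ U) (hx' : x' ∈ U) (h1 : X.presheaf.germ U x hx s = 1) : X.presheaf.germ U x' hx' s = 1 := by
  subst h; exact h1

section Integral

variable {X : Scheme.{u}} [IsIntegral X] [IsLocallyNoetherian X]

theorem isDVR_stalk (y : X) (hn : IsIntegrallyClosed (X.presheaf.stalk y))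
    (hy : ringKrullDim (X.presheaf.stalk y) = 1) : IsDiscreteValuationRing (X.presheaf.stalk y) := by
  set S := X.presheaf.stalk y
  have hnf : ¬ IsField S := fun hf => by
    rw [ringKrullDim_eq_zero_of_isField hf] at hy
    exact absurd hy zero_ne_one
  have hT : IsDiscreteValuationRing S ↔ (IsIntegrallyClosed S ∧ ∃! P : Ideal S, P ≠ ⊥ ∧ P.IsPrime) :=
    (IsDiscreteValuationRing.TFAE S hnf).out 0 3
  refine hT.mpr ⟨hn, IsLocalRing.maximalIdeal S,
    ⟨IsLocalRing.isField_iff_maximalIdeal_eq.not.mp hnf, inferInstance⟩, ?_⟩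
  rintro P ⟨hP, hPp⟩
  have : Ring.KrullDimLE 1 S := Ring.krullDimLE_iff.mpr hy.le
  rcases Ring.krullDimLE_one_iff.mp this P hPp with h | h
  · rw [IsDomain.minimalPrimes_eq_singleton_bot] at h
    exact absurd (Set.mem_singleton_iff.mp h) hP
  · exact IsLocalRing.eq_maximalIdeal h

end Integral

section Family

variable {S X Z : Scheme.{u}} [IsIntegral S] [IsIntegral X] (p : X ⟶ S) [Flat p]

theorem map_genericPoint : p (genericPoint X) = genericPoint S := by
  obtain ⟨z, hz, hpz⟩ := Flat.generalizingMap p (genericPoint_specializes (p (genericPoint X)))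
  rw [(Specializes.antisymm (genericPoint_specializes z) hz).eq]
  exact hpz

theorem germ_app_generic {U : S.Opens} (f : Γ(S, U)) {x : X} (hx : p x ∈ U) :
    toK x (X.presheaf.germ (p ⁻¹ᵁ U) x hx (p.app U f)) =
      p.stalkMap (genericPoint X) (S.presheaf.germ U (p (genericPoint X))
        (show genericPoint X ∈ p ⁻¹ᵁ U from (genericPoint_specializes x).mem_open (p ⁻¹ᵁ U).2 hx) f) := by
  rw [Scheme.Hom.germ_stalkMap_apply]
  exact X.presheaf.germ_stalkSpecializes_apply hx (genericPoint_specializes x) (p.app U f)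

theorem isField_stalk_of_eq {s : S} (hs : s = genericPoint S) : IsField (S.presheaf.stalk s) := by
  subst hs; exact Field.toIsField S.functionField

theorem ne_zero_germ_app {U : S.Opens} (f : Γ(S, U)) {x : X} (hx : p x ∈ U) (hf : f ≠ 0) :
    toK x (X.presheaf.germ (p ⁻¹ᵁ U) x hx (p.app U f)) ≠ 0 := by
  rw [germ_app_generic]
  intro h
  letI := (isField_stalk_of_eq (map_genericPoint p)).toField
  refine hf (germ_injective_of_isIntegral S (p (genericPoint X))
    (show genericPoint X ∈ p ⁻¹ᵁ U from (genericPoint_specializes x).mem_open (p ⁻¹ᵁ U).2 hx) ?_)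
  rw [map_zero]
  exact (p.stalkMap (genericPoint X)).hom.injective (by rw [map_zero]; exact h)

variable [IsLocallyNoetherian S] [IsLocallyNoetherian X]
  (hn : ∀ x : X, IsIntegrallyClosed (X.presheaf.stalk x))
  (hfib : ∀ s : S, IsPreirreducible (p ⁻¹' {s}))
  (e : S ⟶ X) (he : e ≫ p = 𝟙 S)

omit [IsLocallyNoetherian S] [IsLocallyNoetherian X] in
include hfib in
/-- A point of codimension one is generic in its fibre, unless it lies over the generic point. -/
theorem specializes_of_dim_one {y : X} (hy : ringKrullDim (X.presheaf.stalk y) = 1)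
    (hp : p y ≠ genericPoint S) {z : X} (hz : p z = p y) : y ⤳ z := by
  have hirr : IsIrreducible (p ⁻¹' {p y}) := ⟨⟨y, rfl⟩, hfib _⟩
  let ξ := hirr.genericPoint
  have hξ : IsGenericPoint ξ (closure (p ⁻¹' {p y})) := hirr.isGenericPoint_genericPoint_closure
  have hspec : ∀ w, p w = p y → ξ ⤳ w := fun w hw => hξ.specializes (subset_closure hw)
  have h1 : p ξ ⤳ p y := (hspec y rfl).map p.continuous
  have h2 : p y ⤳ p ξ := by
    rw [specializes_iff_mem_closure]
    exact closure_mono (Set.image_preimage_subset p {p y})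
      (image_closure_subset_closure_image p.continuous ⟨ξ, hξ.mem, rfl⟩)
  have hpξ : p ξ = p y := (Specializes.antisymm h1 h2).eq
  rcases eq_or_eq_genericPoint (hspec y rfl) hy.le with h | h
  · exact h ▸ hspec z hz
  · exact absurd (by rw [← hpξ, h, map_genericPoint p]) hp

omit [IsLocallyNoetherian S] [IsLocallyNoetherian X] in
/-- Points of the base over which a point of codimension one lies. -/
theorem eq_of_dim_one {y : X} (hy : ringKrullDim (X.presheaf.stalk y) = 1) {q : S} (hq : q ⤳ p y) :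
    q = p y ∨ q = genericPoint S := by
  obtain ⟨z, hz, rfl⟩ := Flat.generalizingMap p hq
  rcases eq_or_eq_genericPoint hz hy.le with h | h
  · exact Or.inl (by rw [h])
  · exact Or.inr (by rw [h]; exact map_genericPoint p)

omit [IsLocallyNoetherian X] in
/-- Functions of the base which are nonzero are units over the generic point. -/
theorem unitAt_generic {U : S.Opens} (f : Γ(S, U)) {x : X} (hx : p x ∈ U) (hf : f ≠ 0)
    {z : X} (hz : z ⤳ x) (hpz : p z = genericPoint S) :
    UnitAt z (toK x (X.presheaf.germ (p ⁻¹ᵁ U) x hx (p.app U f))) := by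
  have hzU : z ∈ p ⁻¹ᵁ U := hz.mem_open (p ⁻¹ᵁ U).2 hx
  refine ⟨X.presheaf.germ (p ⁻¹ᵁ U) z hzU (p.app U f), ?_, ?_⟩
  · rw [← Scheme.Hom.germ_stalkMap_apply]
    refine IsUnit.map _ ?_
    letI := (isField_stalk_of_eq hpz).toField
    exact isUnit_iff_ne_zero.mpr fun h => hf (germ_injective_of_isIntegral S (p z) hzU (by rw [h, map_zero]))
  · rw [← toK_specializes hz (X.presheaf.germ (p ⁻¹ᵁ U) x hx (p.app U f)),
      TopCat.Presheaf.germ_stalkSpecializes_apply]

omit [IsLocallyNoetherian S] [IsLocallyNoetherian X] [IsIntegral X] [Flat p] in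
include he in
theorem germ_section_app {U : S.Opens} (f : Γ(S, U)) {s : S} (hs : s ∈ U) (hes : e s ∈ p ⁻¹ᵁ U) :
    e.stalkMap s (X.presheaf.germ (p ⁻¹ᵁ U) (e s) hes (p.app U f)) = S.presheaf.germ U s hs f := by
  rw [Scheme.Hom.germ_stalkMap_apply,
    show e.app (p ⁻¹ᵁ U) (p.app U f) = (e ≫ p).app U f from rfl]
  refine (germ_app_congr he f s hes (by simpa using hs)).trans ?_
  rfl

include hn hfib he in
/-- **Extension of units.** A rational function which is a unit over the generic point and which is `1`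
along the section is a unit everywhere. -/
theorem unitAt_of_generic (c : X.functionField)
    (hgen : ∀ y, p y = genericPoint S → UnitAt y c)
    (hone : ∀ a : X.presheaf.stalk (e (genericPoint S)), toK _ a = c → e.stalkMap (genericPoint S) a = 1)
    (x : X) : UnitAt x c := by
  have hc : c ≠ 0 := by
    obtain ⟨a, ha, rfl⟩ := hgen (genericPoint X) (map_genericPoint p)
    exact (ha.map (toK _)).ne_zero
  have hη : p (e (genericPoint S)) = genericPoint S := by
    rw [← Scheme.Hom.comp_apply, he]; rfl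
  refine unitAt_of_forall_dim_one hn x c (fun y _ hy => ?_) hc
  by_cases hpy : p y = genericPoint S
  · exact hgen y hpy
  haveI := isDVR_stalk y (hn y) hy
  obtain ⟨U, hU, hpU, -⟩ := exists_isAffineOpen_mem_and_subset (U := (⊤ : S.Opens)) (x := p y) trivial
  obtain ⟨f, hf0, hfu⟩ : ∃ f : Γ(S, U), f ≠ 0 ∧ ¬ IsUnit (S.presheaf.germ U (p y) hpU f) := by
    by_contra hcon
    have hcon : ∀ f : Γ(S, U), f ≠ 0 → IsUnit (S.presheaf.germ U (p y) hpU f) := fun f hf => by
      by_contra hu; exact hcon ⟨f, hf, hu⟩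
    letI := TopCat.Presheaf.algebra_section_stalk S.presheaf (⟨p y, hpU⟩ : U)
    haveI := hU.isLocalization_stalk ⟨p y, hpU⟩
    have hbot : IsLocalRing.maximalIdeal (S.presheaf.stalk (p y)) = ⊥ := by
      rw [eq_bot_iff]
      intro t ht
      obtain ⟨r, d, rfl⟩ := IsLocalization.exists_mk'_eq (hU.primeIdealOf ⟨p y, hpU⟩).asIdeal.primeCompl t
      by_cases hr : r = 0
      · simp [hr]
      · refine absurd ?_ ((IsLocalRing.mem_maximalIdeal _).mp ht)
        refine isUnit_of_mul_isUnit_left (y := algebraMap Γ(S, U) (S.presheaf.stalk (p y)) d) ?_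
        rw [IsLocalization.mk'_spec]
        exact hcon r hr
    have hd0 : ringKrullDim (S.presheaf.stalk (p y)) = 0 :=
      ringKrullDim_eq_zero_of_isField (IsLocalRing.isField_iff_maximalIdeal_eq.mpr hbot)
    rw [ringKrullDim_stalk_eq_coheight] at hd0
    have hlt : p y < genericPoint S := lt_of_le_not_ge (genericPoint_specializes (p y))
      fun h => hpy (Specializes.antisymm h (genericPoint_specializes (p y))).eq
    have h1 := Order.coheight_add_one_le hlt
    have h2 : Order.coheight (p y) = 0 := by exact_mod_cast hd0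
    rw [h2] at h1
    exact absurd (le_trans le_add_self h1) (by decide)
  have hyU : y ∈ p ⁻¹ᵁ U := hpU
  let P := X.presheaf.germ (p ⁻¹ᵁ U) y hyU (p.app U f)
  have hPnu : ¬ IsUnit P := fun h => by
    rw [show P = p.stalkMap y (S.presheaf.germ U (p y) hpU f) from (Scheme.Hom.germ_stalkMap_apply _ _ _ _ _).symm] at h
    exact hfu (isUnit_of_map_unit (p.stalkMap y).hom _ h)
  have hP0 : P ≠ 0 := fun h => ne_zero_germ_app p f hyU hf0 (by rw [show X.presheaf.germ _ y hyU _ = P from rfl, h, map_zero])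
  obtain ⟨ϖ, hϖ⟩ := IsDiscreteValuationRing.exists_irreducible (X.presheaf.stalk y)
  obtain ⟨k, u, hu⟩ := IsDiscreteValuationRing.associated_pow_irreducible hP0 hϖ
  obtain ⟨b, a, ha, rfl⟩ := IsFractionRing.div_surjective (X.presheaf.stalk y) c
  have ha0 : a ≠ 0 := nonZeroDivisors.ne_zero ha
  have hb0 : b ≠ 0 := fun h => hc (by rw [h, map_zero, zero_div])
  obtain ⟨i, u₁, hu₁⟩ := IsDiscreteValuationRing.associated_pow_irreducible hb0 hϖ
  obtain ⟨l, u₂, hu₂⟩ := IsDiscreteValuationRing.associated_pow_irreducible ha0 hϖ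
  let w := toK y ϖ
  have hw : w ≠ 0 := fun h => hϖ.ne_zero (toK_injective y (by rw [map_zero]; exact h))
  have hunit : ∀ v : (X.presheaf.stalk y)ˣ, UnitAt y (toK y v) := fun v => ⟨v, v.isUnit, rfl⟩
  have hPw : UnitAt y (toK y P / w ^ (k : ℤ)) := by
    rw [zpow_natCast, ← map_pow, ← hu, map_mul]
    have := (hunit u).inv
    convert this using 1
    field_simp
    exact div_self (ne_zero_germ_app p f hyU hf0)
  let n : ℤ := (i : ℤ) - l
  have hcw : UnitAt y (toK y b / toK y a / w ^ n) := by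
    have := (hunit u₂).mul (hunit u₁).inv
    convert this using 1
    rw [zpow_sub₀ hw, zpow_natCast, zpow_natCast, ← map_pow, ← map_pow, ← hu₁, ← hu₂, map_mul, map_mul]
    field_simp
    exact div_self (mul_ne_zero (fun h => hb0 (toK_injective y (by rw [map_zero]; exact h)))
      (fun h => ha0 (toK_injective y (by rw [map_zero]; exact h))))
  set c := toK y b / toK y a
  let ψ := c ^ (k : ℤ) * (toK y P) ^ (-n)
  have hψy : UnitAt y ψ := by
    have := (hcw.zpow k).mul (hPw.zpow (-n))
    convert this using 1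
    show c ^ (k : ℤ) * toK y P ^ (-n) = _
    rw [div_zpow c, div_zpow (toK y P), ← zpow_mul, ← zpow_mul, div_mul_div_comm, ← zpow_add₀ hw,
      show n * (k : ℤ) + (k : ℤ) * -n = 0 by ring, zpow_zero, div_one]
  let x₀ := e (p y)
  have hpx₀ : p x₀ = p y := by
    show p (e (p y)) = p y
    rw [← Scheme.Hom.comp_apply, he]; rfl
  have hx₀U : x₀ ∈ p ⁻¹ᵁ U := by show p x₀ ∈ U; rw [hpx₀]; exact hpU
  have hP₀ : toK x₀ (X.presheaf.germ (p ⁻¹ᵁ U) x₀ hx₀U (p.app U f)) = toK y P := by
    rw [germ_app_generic, germ_app_generic]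
  have hψ₀ : UnitAt x₀ ψ := by
    refine unitAt_of_forall_dim_one hn x₀ ψ (fun z hz hzd => ?_)
      (mul_ne_zero (zpow_ne_zero _ hc) (zpow_ne_zero _ (ne_zero_germ_app p f hyU hf0)))
    have hpz : p z ⤳ p y := hpx₀ ▸ hz.map p.continuous
    rcases eq_of_dim_one p hy hpz with h | h
    · rcases eq_or_eq_genericPoint (specializes_of_dim_one p hfib hy hpy h) hzd.le with h' | h'
      · exact h' ▸ hψy
      · rw [h', ringKrullDim_eq_zero_of_isField (Field.toIsField X.functionField)] at hy
        exact absurd hy zero_ne_one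
    · refine ((hgen z h).zpow _).mul (UnitAt.zpow ?_ _)
      rw [← hP₀]
      exact unitAt_generic p f hx₀U hf0 hz h
  obtain ⟨t, htu, ht⟩ := hψ₀
  obtain ⟨A, hAu, hA⟩ := hgen _ hη
  have hx1U : e (genericPoint S) ∈ p ⁻¹ᵁ U := by
    show p (e (genericPoint S)) ∈ U
    rw [hη]; exact (genericPoint_specializes (p y)).mem_open U.2 hpU
  have hspec : genericPoint S ⤳ p y := genericPoint_specializes _
  have hsx : e (genericPoint S) ⤳ x₀ := hspec.map e.continuous
  obtain ⟨F, hFu, hF⟩ : ∃ F : X.presheaf.stalk (e (genericPoint S)),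
      IsUnit F ∧ toK _ F = toK y P ∧ e.stalkMap (genericPoint S) F = toK (p y) (S.presheaf.germ U (p y) hpU f) := by
    obtain ⟨F, hFu, hF⟩ := unitAt_generic p f hx₀U hf0 hsx hη
    refine ⟨F, hFu, hF.trans hP₀, ?_⟩
    have hFe : F = X.presheaf.germ (p ⁻¹ᵁ U) (e (genericPoint S)) hx1U (p.app U f) := toK_injective _ (by
      rw [hF, hP₀, germ_app_generic, germ_app_generic])
    rw [hFe, germ_section_app p e he f (hspec.mem_open U.2 hpU) hx1U]
    exact (TopCat.Presheaf.germ_stalkSpecializes_apply _ _ _ _).symm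
  obtain ⟨uA, rfl⟩ := hAu
  obtain ⟨uF, rfl⟩ := hFu
  let φ : (X.presheaf.stalk (e (genericPoint S))) →+* S.functionField := (e.stalkMap (genericPoint S)).hom
  have key : ((uA ^ (k : ℤ) * uF ^ (-n) : (X.presheaf.stalk (e (genericPoint S)))ˣ) :
      X.presheaf.stalk (e (genericPoint S))) = X.presheaf.stalkSpecializes hsx t := by
    refine toK_injective _ ?_
    rw [toK_specializes, ht]
    show (Units.map (toK (e (genericPoint S))).toMonoidHom _ : X.functionField) = _
    rw [map_mul, map_zpow, map_zpow, Units.val_mul, Units.val_zpow_eq_zpow_val, Units.val_zpow_eq_zpow_val]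
    show toK _ (uA : X.presheaf.stalk (e (genericPoint S))) ^ (k : ℤ) *
      toK _ (uF : X.presheaf.stalk (e (genericPoint S))) ^ (-n) = ψ
    rw [hA, hF.1]
  set v := toK (p y) (S.presheaf.germ U (p y) hpU f) with hv
  have hvn : UnitAt (p y) (v ^ (-n)) := by
    refine ⟨e.stalkMap (p y) t, htu.map _, ?_⟩
    have h1 : φ (X.presheaf.stalkSpecializes hsx t) = toK (p y) (e.stalkMap (p y) t) :=
      (e.stalkSpecializes_stalkMap_apply (genericPoint S) (p y) hspec t)
    rw [← h1, ← key]
    show (Units.map φ.toMonoidHom _ : S.functionField) = _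
    rw [map_mul, map_zpow, map_zpow, Units.val_mul, Units.val_zpow_eq_zpow_val, Units.val_zpow_eq_zpow_val]
    show φ (uA : X.presheaf.stalk (e (genericPoint S))) ^ (k : ℤ) *
      φ (uF : X.presheaf.stalk (e (genericPoint S))) ^ (-n) = v ^ (-n)
    rw [show φ (uA : X.presheaf.stalk (e (genericPoint S))) = 1 from hone _ hA,
      show φ (uF : X.presheaf.stalk (e (genericPoint S))) = v from hF.2, one_zpow, _root_.one_mul]
  have hn0 : n = 0 := by
    by_contra hne
    have hpos : ∃ m : ℕ, m ≠ 0 ∧ UnitAt (p y) (v ^ m) := by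
      rcases le_total n 0 with hle | hle
      · refine ⟨(-n).toNat, by omega, ?_⟩
        rwa [← zpow_natCast, Int.toNat_of_nonneg (by omega)]
      · refine ⟨n.toNat, by omega, ?_⟩
        rw [← zpow_natCast, Int.toNat_of_nonneg hle]
        simpa using hvn.inv
    obtain ⟨m, hm, a', ha', hae⟩ := hpos
    rw [hv, ← map_pow] at hae
    exact hfu ((isUnit_pow_iff hm).mp (toK_injective _ hae ▸ ha'))
  simpa [hn0, c] using hcw

include hn hfib he in
/-- **Extension of units from the generic fibre.** -/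
theorem exists_unit_extension (j : Z ⟶ X) [IsPreimmersion j]
    (hj : ∀ x, x ∈ Set.range j ↔ p x = genericPoint S) {K : Type u} [Field K]
    (g : Spec (CommRingCat.of K) ⟶ S) (k : Spec (CommRingCat.of K) ⟶ Z) (hkg : k ≫ j = g ≫ e)
    (c : Γ(Z, ⊤)) (hc : IsUnit c) (h1 : k.appTop c = 1) :
    ∃ s : Γ(X, ⊤), IsUnit s ∧ j.appTop s = c := by
  obtain ⟨z₀, hz₀⟩ := (hj _).mpr (map_genericPoint p)
  have hfield : IsField (X.presheaf.stalk (j z₀)) := by rw [hz₀]; exact Field.toIsField X.functionField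
  have hbij : Function.Bijective (j.stalkMap z₀) :=
    ⟨by letI := hfield.toField; exact (j.stalkMap z₀).hom.injective, j.stalkMap_surjective z₀⟩
  obtain ⟨a₀, ha₀⟩ := hbij.2 (Z.presheaf.germ ⊤ z₀ trivial c)
  let cK : X.functionField := toK (j z₀) a₀
  have hlift : ∀ (z : Z) (a : X.presheaf.stalk (j z)),
      j.stalkMap z a = Z.presheaf.germ ⊤ z trivial c → toK (j z) a = cK := by
    intro z a ha
    have hsp : z₀ ⤳ z := j.isEmbedding.toIsInducing.specializes_iff.mp (hz₀ ▸ genericPoint_specializes (j z))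
    show _ = toK (j z₀) a₀
    rw [← toK_specializes (hsp.map j.continuous) a]
    congr 1
    refine hbij.1 ?_
    rw [ha₀]
    refine (Scheme.Hom.stalkSpecializes_stalkMap_apply j z₀ z hsp a).trans ?_
    rw [ha]
    exact TopCat.Presheaf.germ_stalkSpecializes_apply _ _ _ _
  have hgen : ∀ y, p y = genericPoint S → UnitAt y cK := by
    intro y hy
    obtain ⟨z, rfl⟩ := (hj y).mpr hy
    obtain ⟨a, ha⟩ := j.stalkMap_surjective z (Z.presheaf.germ ⊤ z trivial c)
    refine ⟨a, isUnit_of_map_unit (j.stalkMap z).hom _ ?_, hlift z a ha⟩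
    rw [ha]; exact hc.map _
  have hone : ∀ a : X.presheaf.stalk (e (genericPoint S)), toK _ a = cK →
      e.stalkMap (genericPoint S) a = 1 := by
    intro a ha
    let o : Spec (CommRingCat.of K) := closedPoint K
    have hpts : j (k o) = e (g o) := by rw [← Scheme.Hom.comp_apply, hkg]; rfl
    have hgo : g o = genericPoint S := by
      have h := (hj _).mp (Set.mem_range_self (k o))
      rwa [hpts, ← Scheme.Hom.comp_apply, he] at h
    obtain ⟨U, hU, s, rfl⟩ := TopCat.Presheaf.exists_germ_eq X.presheaf a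
    have hUo : e (g o) ∈ U := by rw [hgo]; exact hU
    have hUk : j (k o) ∈ U := hpts ▸ hUo
    obtain ⟨b, hb⟩ := j.stalkMap_surjective (k o) (Z.presheaf.germ ⊤ (k o) trivial c)
    have hbs : b = X.presheaf.germ U (j (k o)) hUk s := toK_injective _ (by
      rw [hlift _ b hb, ← ha]
      exact (X.presheaf.germ_stalkSpecializes_apply hU (genericPoint_specializes _) s).trans
        (X.presheaf.germ_stalkSpecializes_apply hUk (genericPoint_specializes _) s).symm)
    have h2 : (Spec (CommRingCat.of K)).presheaf.germ ((k ≫ j) ⁻¹ᵁ U) o hUk ((k ≫ j).app U s) = 1 := by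
      rw [show (k ≫ j).app U s = k.app (j ⁻¹ᵁ U) (j.app U s) from rfl]
      refine (Scheme.Hom.germ_stalkMap_apply k (j ⁻¹ᵁ U) o hUk (j.app U s)).symm.trans ?_
      rw [← Scheme.Hom.germ_stalkMap_apply j, ← hbs, hb, Scheme.Hom.germ_stalkMap_apply]
      show (Spec (CommRingCat.of K)).presheaf.germ ⊤ o trivial (k.appTop c) = 1
      rw [h1, map_one]
    have h3 := (germ_app_congr hkg s o hUk hUo).symm.trans h2
    rw [show (g ≫ e).app U s = g.app (e ⁻¹ᵁ U) (e.app U s) from rfl] at h3
    rw [show (Spec (CommRingCat.of K)).presheaf.germ ((g ≫ e) ⁻¹ᵁ U) o hUo (g.app (e ⁻¹ᵁ U) (e.app U s)) =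
      g.stalkMap o (S.presheaf.germ (e ⁻¹ᵁ U) (g o) hUo (e.app U s)) from
      (Scheme.Hom.germ_stalkMap_apply g (e ⁻¹ᵁ U) o hUo (e.app U s)).symm] at h3
    letI := (isField_stalk_of_eq hgo).toField
    have h4 : S.presheaf.germ (e ⁻¹ᵁ U) (g o) hUo (e.app U s) = 1 :=
      (g.stalkMap o).hom.injective (h3.trans (map_one _).symm)
    rw [Scheme.Hom.germ_stalkMap_apply]
    exact germ_eq_one_of_eq _ hgo hUo hU h4
  obtain ⟨s, hs, hsK⟩ := exists_section_of_unitAt cK fun x => unitAt_of_generic p hn hfib e he cK hgen hone x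
  refine ⟨s, hs, TopCat.Presheaf.section_ext Z.sheaf ⊤ _ _ fun z _ => ?_⟩
  obtain ⟨a, ha⟩ := j.stalkMap_surjective z (Z.presheaf.germ ⊤ z trivial c)
  show Z.presheaf.germ ⊤ z trivial (j.appTop s) = Z.presheaf.germ ⊤ z trivial c
  rw [← ha, toK_injective (j z) ((hlift z a ha).trans (hsK (j z)).symm)]
  exact (Scheme.Hom.germ_stalkMap_apply j ⊤ z trivial s).symm

omit [IsLocallyNoetherian S] [IsLocallyNoetherian X] in
/-- Global functions are determined on the generic fibre. -/
theorem appTop_injective (j : Z ⟶ X) [IsPreimmersion j]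
    (hj : ∀ x, x ∈ Set.range j ↔ p x = genericPoint S) : Function.Injective j.appTop := by
  obtain ⟨z₀, hz₀⟩ := (hj _).mpr (map_genericPoint p)
  have hfield : IsField (X.presheaf.stalk (j z₀)) := by rw [hz₀]; exact Field.toIsField X.functionField
  intro a b hab
  letI := hfield.toField
  refine germ_injective_of_isIntegral X (j z₀) (show j z₀ ∈ (⊤ : X.Opens) from trivial)
    ((j.stalkMap z₀).hom.injective ?_)
  rw [Scheme.Hom.germ_stalkMap_apply, Scheme.Hom.germ_stalkMap_apply]
  exact congrArg (Z.presheaf.germ ⊤ z₀ trivial) hab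

end Family

end Groth.Agent.RedPts82.UnitExt
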