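import Groth.Agent.RedPts82.TorusConn
import Groth.Agent.GMod80.NoTorus
import Mathlib.RingTheory.Smooth.Basic
import Mathlib.Algebra.Polynomial.Laurent
import Mathlib.AlgebraicGeometry.Morphisms.Smooth

/-! The multiplicative group is smooth with connected fibres. -/

set_option autoImplicit false
universe u

open CategoryTheory MonoidalCategory CartesianMonoidalCategory MonObj GrpObj AlgebraicGeometry
open CategoryTheory.Limits

namespace Groth.Agent.RedPts82

theorem smooth_laurent (R : Type u) [CommRing R] : Algebra.Smooth R (LaurentPolynomial R) :=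
  haveI : Algebra.Smooth R (Polynomial R) := ⟨inferInstance, inferInstance⟩
  haveI : Algebra.Smooth (Polynomial R) (LaurentPolynomial R) :=
    Algebra.Smooth.of_isLocalization_Away (Polynomial.X : Polynomial R)
  haveI : IsScalarTower R (Polynomial R) (LaurentPolynomial R) :=
    .of_algebraMap_eq fun r => (Polynomial.toLaurent_C r).symm
  Algebra.Smooth.comp R (Polynomial R) (LaurentPolynomial R)

theorem smooth_Gm (S : Scheme.{u}) : Smooth (Red.Gm S).hom := by
  let R : Type u := ULift.{u} ℤ
  haveI := smooth_laurent R
  haveI : Algebra.Smooth R (MonoidAlgebra R (Multiplicative ℤ)) :=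
    Algebra.Smooth.of_equiv (AddMonoidAlgebra.toMultiplicativeAlgEquiv R R ℤ)
  haveI : Smooth (Spec.map (CommRingCat.ofHom (algebraMap R (MonoidAlgebra R (Multiplicative ℤ))))) := by
    rw [HasRingHomProperty.Spec_iff (P := @Smooth)]
    exact RingHom.smooth_algebraMap.mpr inferInstance
  exact MorphismProperty.pullback_snd (P := @Smooth) _ _ (by assumption)

theorem connectedSpace_fibre_Gm (S : Scheme.{u}) (s : S) :
    ConnectedSpace ↥(pullback (Red.Gm S).hom (S.fromSpecResidueField s)) := by
  obtain ⟨e⟩ := GMod80.nonempty_bc_DS_iso (S.fromSpecResidueField s) (AddEquiv.refl ℤ)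
  let i : Red.bc (S.fromSpecResidueField s) (Red.DS S ℤ) ≅ Red.DS _ ℤ := (Grp.forget _).mapIso e
  haveI := (irreducible_reduced_of_isTorus (K := S.residueField s)
    (GMod80.isTorus_Gm (Spec (CommRingCat.of (S.residueField s))))).1
  haveI : ConnectedSpace ↥(Red.Gm (Spec (CommRingCat.of (S.residueField s)))).left := inferInstance
  exact ((Over.forget _).mapIso i).hom.homeomorph.connectedSpace_iff.mpr this

end Groth.Agent.RedPts82
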