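import Groth.Agent.RedPts82.UnitExtend
import Groth.Agent.RedPts82.DSImage
import Groth.Agent.FlatMor68.NormSmooth
import Groth.Agent.SchBasics.Local
import Groth.Prelude.Def_SGA3x

/-! Extension of homomorphisms into split groups from the generic fibre over normal bases. -/

set_option autoImplicit false
set_option linter.style.haveILetI false

universe u

open CategoryTheory MonoidalCategory CartesianMonoidalCategory MonObj GrpObj AlgebraicGeometry
open CategoryTheory.Limits

noncomputable section

namespace Groth.Agent.RedPts82.HomExt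

variable {S : Scheme.{u}} [IsIntegral S] [IsLocallyNoetherian S] {K : Type u} [Field K]
  (g : Spec (CommRingCat.of K) ⟶ S) [IsPreimmersion g] (hg : Set.range g = {genericPoint S})

omit [IsLocallyNoetherian S] [IsPreimmersion g] in
include hg in
theorem mem_range_fst_iff (Y : Over S) (y : ↥Y.left) :
    y ∈ Set.range (pullback.fst Y.hom g) ↔ Y.hom y = genericPoint S := by
  rw [Scheme.Pullback.range_fst, hg]
  rfl

omit [IsLocallyNoetherian S] [IsPreimmersion g] in
include hg in
theorem isDominant_fst (Y : Over S) [Flat Y.hom] : IsDominant (pullback.fst Y.hom g) := by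
  refine ⟨fun y => ?_⟩
  obtain ⟨z, hz, hpz⟩ := Flat.generalizingMap Y.hom (genericPoint_specializes (Y.hom y))
  exact closure_mono (Set.singleton_subset_iff.mpr ((mem_range_fst_iff g hg Y z).mpr hpz)) hz.mem_closure

omit [IsLocallyNoetherian S] [IsPreimmersion g] in
include hg in
/-- Morphisms into separated schemes from flat reduced schemes are determined on the generic fibre. -/
theorem hom_ext_generic {Y T : Over S} [Flat Y.hom] [IsReduced Y.left] [IsSeparated T.hom] {a b : Y ⟶ T}
    (h : (Over.pullback g).map a = (Over.pullback g).map b) : a = b := by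
  apply Over.OverMorphism.ext
  haveI := isDominant_fst g hg Y
  refine ext_of_isDominant_of_isSeparated T.hom (by rw [Over.w, Over.w]) (pullback.fst Y.hom g) ?_
  have key : ∀ c : Y ⟶ T, ((Over.pullback g).map c).left ≫ pullback.fst T.hom g =
      pullback.fst Y.hom g ≫ c.left := fun c => pullback.lift_fst _ _ _
  rw [← key a, ← key b, h]

variable (hS : ∀ x : S, IsIntegrallyClosed (S.presheaf.stalk x))

omit [IsLocallyNoetherian S] in
include hS in
theorem isNormal_base : Pi1.IsNormalScheme S := fun x => ⟨inferInstance, hS x⟩

include hS in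
theorem isNormal_of_smooth (Y : Over S) [Smooth Y.hom] : Pi1.IsNormalScheme Y.left :=
  FlatMor68.NormSmooth.isNormalScheme_of_smooth Y.hom (isNormal_base hS)

include hS in
theorem isReduced_of_smooth' (Y : Over S) [Smooth Y.hom] : IsReduced Y.left := by
  haveI : ∀ x : Y.left, _root_.IsReduced (Y.left.presheaf.stalk x) := fun x => by
    haveI := (isNormal_of_smooth hS Y x).1
    infer_instance
  exact isReduced_of_isReduced_stalk (X := Y.left)

omit [IsLocallyNoetherian S] [IsIntegral S] in
/-- The fibres of a smooth morphism which are connected are irreducible. -/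
theorem isPreirreducible_fibre {X : Scheme.{u}} (p : X ⟶ S) [Smooth p] (s : S)
    (hs : ConnectedSpace ↥(pullback p (S.fromSpecResidueField s))) : IsPreirreducible (p ⁻¹' {s}) := by
  haveI := hs
  let q := pullback.snd p (S.fromSpecResidueField s)
  haveI : IsLocallyNoetherian (pullback p (S.fromSpecResidueField s)) :=
    LocallyOfFiniteType.isLocallyNoetherian q
  have hd : ∀ x, IsDomain ((pullback p (S.fromSpecResidueField s)).presheaf.stalk x) := fun x =>
    (FlatMor68.NormSmooth.isNormalScheme_of_smooth q (fun z => ⟨inferInstance, by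
      letI := (UnitExt.isField_stalk_of_eq (S := Spec (S.residueField s)) (Subsingleton.elim z _)).toField
      infer_instance⟩) x).1
  haveI := SchBasics.isIntegral_iff_connectedSpace_and_isDomain.mpr ⟨hs, hd⟩
  have h := (PreirreducibleSpace.isPreirreducible_univ
    (X := ↥(pullback p (S.fromSpecResidueField s)))).image _
    (pullback.fst p (S.fromSpecResidueField s)).continuous.continuousOn
  rwa [Set.image_univ, Scheme.Pullback.range_fst, Scheme.range_fromSpecResidueField] at h

include hS in
theorem isIntegral_of_smooth {X : Scheme.{u}} (p : X ⟶ S) [Smooth p] [Nonempty X]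
    (hconn : ∀ s : S, ConnectedSpace ↥(pullback p (S.fromSpecResidueField s))) : IsIntegral X := by
  haveI : Smooth (Over.mk p).hom := ‹Smooth p›
  haveI : IsReduced X := isReduced_of_smooth' hS (Over.mk p)
  have h := IsPreirreducible.preimage_of_isPreirreducible_fiber
    (PreirreducibleSpace.isPreirreducible_univ (X := S)) p p.isOpenMap
    fun s => isPreirreducible_fibre p s (hconn s)
  rw [Set.preimage_univ] at h
  haveI : PreirreducibleSpace X := ⟨h⟩
  haveI : IrreducibleSpace X := ⟨inferInstance⟩
  exact isIntegral_of_irreducibleSpace_of_isReduced X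

include hg hS in
/-- A morphism extending a homomorphism of the generic fibres is a homomorphism. -/
theorem isMonHom_of_generic {H T : Over S} [GrpObj H] [GrpObj T] [Smooth H.hom] [IsSeparated T.hom]
    (u : H ⟶ T) [IsMonHom ((Over.pullback g).map u)] : IsMonHom u := by
  haveI : Smooth (H ⊗ H).hom := by
    show Smooth (pullback.fst H.hom H.hom ≫ H.hom)
    infer_instance
  haveI : Smooth (𝟙_ (Over S)).hom := inferInstanceAs (Smooth (𝟙 S))
  haveI := isReduced_of_smooth' hS (H ⊗ H)
  haveI := isReduced_of_smooth' hS (𝟙_ (Over S))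
  have hmul : (fst H H * snd H H) ≫ u = (fst H H ≫ u) * (snd H H ≫ u) := by
    refine hom_ext_generic g hg ?_
    simp only [Functor.map_comp, Functor.map_mul, MonObj.mul_comp _ _ ((Over.pullback g).map u)]
  exact isMonHom_of_points u fun X a b => by
    have := congrArg (lift a b ≫ ·) hmul
    simpa [MonObj.comp_mul, ← Category.assoc] using this

include hg hS in
/-- **Extension into a diagonalisable group.** -/
theorem exists_ext_DS {H : Over S} [GrpObj H] [Smooth H.hom]
    (hconn : ∀ s : S, ConnectedSpace ↥(pullback H.hom (S.fromSpecResidueField s)))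
    (M : Type) [AddCommGroup M]
    (uη : Red.bc g H ⟶ Red.bc g (Red.DS S M)) (hone : η[Red.bc g H] ≫ uη = η[Red.bc g (Red.DS S M)]) :
    ∃ u : H ⟶ Red.DS S M, (Over.pullback g).map u = uη := by
  haveI : Nonempty H.left := ⟨(η[H] : 𝟙_ (Over S) ⟶ H).left (genericPoint S)⟩
  haveI := isIntegral_of_smooth hS H.hom hconn
  haveI : IsLocallyNoetherian H.left := LocallyOfFiniteType.isLocallyNoetherian H.hom
  let e : S ⟶ H.left := (η[H] : 𝟙_ (Over S) ⟶ H).left
  have he : e ≫ H.hom = 𝟙 S := Over.w (η[H] : 𝟙_ (Over S) ⟶ H)
  let j := pullback.fst H.hom g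
  haveI : IsPreimmersion j := inferInstanceAs (IsPreimmersion (pullback.fst H.hom g))
  let o : 𝟙_ (Over (Spec (CommRingCat.of K))) ⟶ Red.bc g H := η[Red.bc g H]
  let t : (Over.map g).obj (Red.bc g H) ⟶ Red.DS S M := toBase g uη
  have hunit : ∀ m, o.left.appTop (dsFn (S := S) t m) = 1 := by
    intro m
    refine (dsFn_comp (S := S) ((Over.map g).map o) t m).symm.trans ?_
    rw [← toBase_comp]
    rw [show o ≫ uη = η[Red.bc g (Red.DS S M)] from hone, MonObj.one_eq_one]
    rw [show toBase g (1 : 𝟙_ (Over (Spec (CommRingCat.of K))) ⟶ Red.bc g (Red.DS S M)) = 1 from toBase_one g]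
    exact dsFn_one m
  have hke : o.left ≫ j = g ≫ e := by
    have h1 : toBase g o = 1 := by
      show toBase g η[Red.bc g H] = 1
      rw [MonObj.one_eq_one]
      exact toBase_one g
    have h2 := congrArg CommaMorphism.left h1
    refine ((toBase_left g o).symm.trans h2).trans ?_
    rw [Hom.one_def]
    show (Over.Hom.left (toUnit ((Over.map g).obj (𝟙_ (Over (Spec (CommRingCat.of K))))))) ≫ e = g ≫ e
    congr 1
  have hn : ∀ x : H.left, IsIntegrallyClosed (H.left.presheaf.stalk x) :=
    fun x => (isNormal_of_smooth hS H x).2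
  have hfib := fun s => isPreirreducible_fibre H.hom s (hconn s)
  have hex := fun m : M => UnitExt.exists_unit_extension H.hom hn hfib e he j
    (mem_range_fst_iff g hg H) g o.left hke (dsFn (S := S) t m) (dsFn_isUnit (S := S) t m) (hunit m)
  choose s hsu hs using hex
  have hinj : Function.Injective j.appTop :=
    UnitExt.appTop_injective H.hom j (mem_range_fst_iff g hg H)
  set_option maxHeartbeats 100000 in
  obtain ⟨u, hu⟩ := dsFn_surjective (S := S) (M := M) (X := H)
    { toFun := fun m : Multiplicative M => s (Multiplicative.toAdd m)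
      map_one' := hinj ((hs _).trans ((dsFn_zero (S := S) t).trans (map_one j.appTop.hom).symm))
      map_mul' := fun a b => hinj ((hs _).trans ((dsFn_add (S := S) t _ _).trans
        ((congrArg₂ (· * ·) (hs _).symm (hs _).symm).trans (map_mul j.appTop.hom _ _).symm))) }
  refine ⟨u, toBase_injective g (dsFn_injective fun m => ?_)⟩
  rw [← Category.id_comp ((Over.pullback g).map u), toBase_comp_map]
  refine (dsFn_comp (toBase g (𝟙 (Red.bc g H))) u m).trans ?_
  rw [hu, toBase_left, Over.id_left, Category.id_comp]
  exact hs m

end Groth.Agent.RedPts82.HomExt
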