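import Groth.Agent.S4131
import Groth.Agent.S8446
import Groth.Agent.RedPts82.CommRel

/-!
Normalisation of a rank-one cell of a reductive group, and the opposite cell.
-/

universe u

open CategoryTheory MonoidalCategory CartesianMonoidalCategory MonObj GrpObj AlgebraicGeometry
open CategoryTheory.Limits

namespace Groth.Agent.RedPts82

variable {S : Scheme.{u}}

theorem gmFn_char_inv {T : Over S} [GrpObj T] (α : T ⟶ Red.Gm S) {X : Over S} (t : X ⟶ T) :
    Red.gmFn (t ≫ α⁻¹) * Red.gmFn (t ≫ α) = 1 := by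
  rw [← gmFn_mul, ← MonObj.comp_mul, inv_mul_cancel, MonObj.comp_one, gmFn_one]

theorem inv_inv_pt {X P : Over S} [GrpObj P] (a : X ⟶ P) : a⁻¹⁻¹ = a :=
  inv_eq_of_mul_eq_one_right (inv_mul_cancel a)

theorem gm_inv_mul {X : Over S} (a b : X ⟶ Red.Gm S) : (a * b)⁻¹ = a⁻¹ * b⁻¹ := by
  refine inv_eq_of_mul_eq_one_right ?_
  rw [gm_comm a⁻¹ b⁻¹, _root_.mul_assoc, ← _root_.mul_assoc b, mul_inv_cancel, _root_.one_mul,
    mul_inv_cancel]

theorem isMonHom_gm_neg : IsMonHom ((𝟙 (Red.Gm S))⁻¹) := isMonHom_of_points _ fun X t t' => by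
  simp only [GrpObj.comp_inv, Category.comp_id]
  exact gm_inv_mul t t'

/-- The swap used to compare a cell with the opposite one. -/
noncomputable def swapInv (A B : Over S) [GrpObj A] [GrpObj B] : (A ⊗ B) ⊗ A ⟶ (A ⊗ B) ⊗ A :=
  lift (lift (snd _ _)⁻¹ (fst _ _ ≫ snd _ _)⁻¹) (fst _ _ ≫ fst _ _)⁻¹

theorem swapInv_sq (A B : Over S) [GrpObj A] [GrpObj B] : swapInv A B ≫ swapInv A B = 𝟙 _ := by
  apply CartesianMonoidalCategory.hom_ext
  · apply CartesianMonoidalCategory.hom_ext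
    · simp only [swapInv, Category.assoc, lift_fst, GrpObj.comp_inv,
        Category.id_comp, lift_snd, inv_inv_pt]
    · simp only [swapInv, Category.assoc, lift_fst_assoc, lift_fst, GrpObj.comp_inv,
        Category.id_comp, lift_snd, inv_inv_pt]
  · simp only [swapInv, Category.assoc, lift_fst_assoc, lift_fst, GrpObj.comp_inv,
      Category.id_comp, lift_snd, inv_inv_pt]

variable {G T : Over S} [GrpObj G] [GrpObj T] {i : T ⟶ G} {α : T ⟶ Red.Gm S}
  {pp pm : Red.Ga S ⟶ G}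

theorem isIso_left_of_inverse {A B : Over S} (f : A ⟶ B) (g : B ⟶ A) (h1 : f ≫ g = 𝟙 A)
    (h2 : g ≫ f = 𝟙 B) : IsIso f.left :=
  ((Over.forget S).mapIso ⟨f, g, h1, h2⟩).isIso_hom

theorem map_eq_one_of_inv {C D : Type*} [Category C] [CartesianMonoidalCategory C] [Category D]
    [CartesianMonoidalCategory D] (F : C ⥤ D) [F.Monoidal] {M X : C} [GrpObj M] (a : X ⟶ M)
    (h : F.map a⁻¹ = (letI := Functor.monObjObj (F := F) (X := M); 1)) :
    F.map a = (letI := Functor.monObjObj (F := F) (X := M); 1) := by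
  letI := Functor.monObjObj (F := F) (X := M)
  have e := congrArg F.map (mul_inv_cancel a)
  rw [F.map_mul, h, _root_.mul_one] at e
  rw [e, F.map_one]

theorem cell_swap {G T : Over S} [GrpObj G] [GrpObj T] (i : T ⟶ G) (pp pm : Red.Ga S ⟶ G)
    [IsMonHom i] [IsMonHom pp] [IsMonHom pm] :
    cell i pm pp = swapInv (Red.Ga S) T ≫ cell i pp pm ≫ ι[G] := by
  have k1 := cell_pt i pm pp (𝟙 _)
  have k2 := cell_pt i pp pm (swapInv (Red.Ga S) T)
  rw [Category.id_comp] at k1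
  rw [← Category.assoc (swapInv (Red.Ga S) T), ← Hom.inv_def, k1, k2]
  simp only [swapInv, lift_fst_assoc, lift_snd_assoc, GrpObj.inv_comp, _root_.mul_inv_rev,
    inv_inv_pt, Category.assoc, Category.id_comp]
  exact (_root_.mul_assoc _ _ _)

/-- Exchanging the two root groups. -/
theorem BC.flip (H : BC G T i α pp pm) : BC G T i α⁻¹ pm pp := by
  have := H.hi
  have := H.hα
  have hinv : ∀ (X : Over S) (t t' : X ⟶ T),
      (t * t') ≫ α⁻¹ = (t ≫ α⁻¹) * (t' ≫ α⁻¹) := by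
    intro X t t'
    simp only [GrpObj.comp_inv, MonObj.mul_comp _ _ α]
    exact gm_inv_mul _ _
  refine ⟨H.hi, isMonHom_of_points _ hinv, H.hm, H.hp, H.hT, ?_, ?_, ?_, ?_⟩
  · intro X t x
    obtain ⟨x', e, e'⟩ := H.hpm X t x
    refine ⟨x', e, ?_⟩
    rw [← e', mul_comm (Red.gaFn x'), ← _root_.mul_assoc, gmFn_char_inv, _root_.one_mul]
  · intro X t y
    obtain ⟨y', e, e'⟩ := H.hpp X t y
    refine ⟨y', e, ?_⟩
    rw [e', mul_comm (Red.gmFn (t ≫ α)), _root_.mul_assoc, mul_comm (Red.gmFn (t ≫ α)),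
      gmFn_char_inv, _root_.mul_one]
  · intro s h
    refine H.hne s ?_
    exact map_eq_one_of_inv (Over.pullback (Red.geomPt s)) α h
  · have := H.hΩ
    have : IsIso (swapInv (Red.Ga S) T).left :=
      isIso_left_of_inverse _ _ (swapInv_sq _ _) (swapInv_sq _ _)
    have : IsIso ι[G].left := isIso_left_of_inverse _ ι[G] (by simp) (by simp)
    have := H.hp
    have := H.hm
    rw [cell_swap i pp pm, Over.comp_left, Over.comp_left]
    infer_instance

theorem cell_left {G T : Over S} [GrpObj G] [GrpObj T] (i : T ⟶ G) (pp pm : Red.Ga S ⟶ G)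
    (σ : Red.Ga S ⟶ Red.Ga S) :
    cell i pp (σ ≫ pm) = (σ ▷ T) ▷ Red.Ga S ≫ cell i pp pm := by
  have k1 := cell_pt i pp (σ ≫ pm) (𝟙 _)
  have k2 := cell_pt i pp pm ((σ ▷ T) ▷ Red.Ga S)
  rw [Category.id_comp] at k1
  rw [k1, k2]
  simp only [Category.id_comp, Category.assoc, whiskerRight_fst_assoc, whiskerRight_snd_assoc]

/-- A rank-one cell of a reductive group has a coroot after rescaling the negative root group. -/
theorem BC.exists_normalize (H : BC G T i α pp pm) [Mono i] [Mono pp] [Mono pm] (hG : Red.IsReductive G)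
    (hTm : Red.IsMaximalTorus i) :
    ∃ (σ : Red.Ga S ⟶ Red.Ga S) (av : Red.Gm S ⟶ T), IsIso σ ∧ BC G T i α pp (σ ≫ pm) ∧
      RH G T i α pp (σ ≫ pm) av := by
  have := H.hi
  have := H.hα
  have := H.hp
  have := H.hm
  obtain ⟨⟨c, av⟩, ⟨hav, h2, hq⟩, -⟩ := Groth.Agent.S4131.result S G T i H.hT α H.hne pp pm H.hpp
    H.hpm H.hΩ (fun s => Groth.Agent.S8446.result S G T i hG hTm α H.hne pp pm H.hpp H.hpm H.hΩ s)
  dsimp only at hav h2 hq
  let cX : (X : Over S) → Γ(X.left, ⊤)ˣ := fun X => gmU (toUnit X ≫ c)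
  have hcX : ∀ {X Y : Over S} (k : Y ⟶ X),
      k.left.appTop ((cX X : Γ(X.left, ⊤)ˣ) : Γ(X.left, ⊤)) = (cX Y : Γ(Y.left, ⊤)) ∧
      k.left.appTop (((cX X)⁻¹ : Γ(X.left, ⊤)ˣ) : Γ(X.left, ⊤)) =
        (((cX Y)⁻¹ : Γ(Y.left, ⊤)ˣ) : Γ(Y.left, ⊤)) := by
    intro X Y k
    have e : Units.map k.left.appTop.hom.toMonoidHom (cX X) = cX Y :=
      Units.ext (by show k.left.appTop (Red.gmFn _) = _; rw [← gmFn_comp, comp_toUnit_assoc]; rfl)
    exact ⟨congrArg Units.val e, by rw [← e, ← map_inv]; rfl⟩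
  let σ : Red.Ga S ⟶ Red.Ga S :=
    gaPt ((((cX (Red.Ga S))⁻¹ : _ˣ) : Γ((Red.Ga S).left, ⊤)) * Red.gaFn (𝟙 (Red.Ga S)))
  let τ : Red.Ga S ⟶ Red.Ga S :=
    gaPt (((cX (Red.Ga S) : _ˣ) : Γ((Red.Ga S).left, ⊤)) * Red.gaFn (𝟙 (Red.Ga S)))
  have hσ : ∀ {X : Over S} (y : X ⟶ Red.Ga S),
      Red.gaFn (y ≫ σ) = (((cX X)⁻¹ : _ˣ) : Γ(X.left, ⊤)) * Red.gaFn y := by
    intro X y
    rw [gaFn_comp, gaFn_gaPt, map_mul, (hcX y).2, ← gaFn_comp, Category.comp_id]
  have hτ : ∀ {X : Over S} (y : X ⟶ Red.Ga S),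
      Red.gaFn (y ≫ τ) = ((cX X : _ˣ) : Γ(X.left, ⊤)) * Red.gaFn y := by
    intro X y
    rw [gaFn_comp, gaFn_gaPt, map_mul, (hcX y).1, ← gaFn_comp, Category.comp_id]
  have h1 : σ ≫ τ = 𝟙 _ := gaFn_injective (by
    rw [hτ, ← Category.id_comp σ, hσ, Units.mul_inv_cancel_left])
  have h2' : τ ≫ σ = 𝟙 _ := gaFn_injective (by
    rw [hσ, ← Category.id_comp τ, hτ, Units.inv_mul_cancel_left])
  have hσi : IsIso σ := ⟨τ, h1, h2'⟩
  have : IsMonHom σ := isMonHom_of_points σ fun X y y' => gaFn_injective (by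
    rw [gaFn_mul, hσ, hσ, hσ, gaFn_mul, mul_add])
  have hH : BC G T i α pp (σ ≫ pm) := by
    refine ⟨H.hi, H.hα, H.hp, inferInstance, H.hT, H.hpp, fun X t y => ?_, H.hne, ?_⟩
    · obtain ⟨y', e, e'⟩ := H.hpm X t (y ≫ σ)
      refine ⟨y' ≫ τ, ?_, ?_⟩
      · rw [← Category.assoc (y' ≫ τ), Category.assoc y' τ σ, h2', Category.comp_id, e, Category.assoc]
      · rw [hτ, _root_.mul_assoc, e', hσ, Units.mul_inv_cancel_left]
    · have hfac : cell i pp (σ ≫ pm) = (σ ▷ T) ▷ Red.Ga S ≫ cell i pp pm :=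
        cell_left i pp pm σ
      have := H.hΩ
      have : IsIso ((σ ▷ T) ▷ Red.Ga S).left :=
        inferInstanceAs (IsIso ((Over.forget S).map ((σ ▷ T) ▷ Red.Ga S)))
      rw [hfac, Over.comp_left]
      infer_instance
  refine ⟨σ, av, hσi, hH, ⟨H.hi, H.hα, H.hp, inferInstance, hav, H.hT, H.hpp, hH.hpm, h2,
    fun X x y hu => ?_⟩⟩
  have hz : 1 + Red.gmFn (toUnit X ≫ c) * Red.gaFn x * Red.gaFn (y ≫ σ) =
      1 + Red.gaFn x * Red.gaFn y := by
    rw [hσ, ← val_gmU]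
    linear_combination (Red.gaFn x * Red.gaFn y) * (cX X).mul_inv
  obtain ⟨x', y', z, e1, e2, e3, e4⟩ := (hq X x (y ≫ σ)).2 (by rw [hz]; exact hu)
  refine ⟨x', y' ≫ τ, z, by rw [e1, hz], e2, ?_, ?_⟩
  · rw [hτ, _root_.mul_assoc, e3, hσ, Units.mul_inv_cancel_left]
  · rw [← Category.assoc y, e4, ← Category.assoc (y' ≫ τ), Category.assoc y' τ σ, h2',
      Category.comp_id]

end Groth.Agent.RedPts82
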