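import Groth.Agent.RedPts82.SplitCell
import Groth.Agent.RedPts82.RelDim
import Groth.Agent.RedPts82.RootComb
import Groth.Agent.RedPts82.Normalize

/-!
A cocharacter separating the roots of a split group, and the cell attached to it.
-/

universe u

open CategoryTheory MonoidalCategory CartesianMonoidalCategory MonObj GrpObj AlgebraicGeometry
open CategoryTheory.Limits

namespace Groth.Agent.RedPts82

/-- A functional on the lattice, positive on the positive roots and negative on the negative ones, taking
distinct values at distinct roots. -/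
theorem exists_sep_functional {idx M N : Type} [AddCommGroup M] [AddCommGroup N] [Module.Finite ℤ M]
    [Module.Free ℤ M] [Finite idx] (P : RootPairing idx ℤ M N) (b : P.Base) :
    ∃ l : M →+ ℤ, (∀ a ∈ RedSub.posRoots P b, 0 < l (P.root a)) ∧
      (∀ a ∈ RedSub.negRoots P b, l (P.root a) < 0) ∧ Function.Injective fun a => l (P.root a) := by
  classical
  have : Fintype idx := Fintype.ofFinite idx
  let e := Module.finBasis ℤ M
  let ι' := Fin (Module.finrank ℤ M)
  let j : M →+ (ι' → ℚ) :=
    { toFun := fun m k => ((e.repr m k : ℤ) : ℚ)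
      map_zero' := by funext k; simp
      map_add' := fun a b => by funext k; simp }
  have hj : Function.Injective j := fun a b h => e.repr.injective (Finsupp.ext fun k => by
    simpa [j] using congrFun h k)
  let al : ↥(b.support : Set idx) → (ι' → ℚ) := fun i => j (P.root i)
  have hli : LinearIndependent ℚ al := by
    rw [← LinearIndependent.iff_fractionRing ℤ ℚ]
    exact (b.linearIndepOn_root).map' j.toIntLinearMap (LinearMap.ker_eq_bot.mpr hj)
  let num := Fintype.equivFin (b.support : Set idx)
  obtain ⟨ψ, hψ⟩ := LinearMap.exists_extend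
    ((Module.Basis.span hli).constr ℚ fun i => (Polynomial.X : Polynomial ℚ) ^ (num i : ℕ))
  let g : M →+ Polynomial ℚ := ψ.toAddMonoidHom.comp j
  have hg : ∀ i : (b.support : Set idx), g (P.root i) = Polynomial.X ^ (num i : ℕ) := fun i => by
    have := LinearMap.congr_fun hψ (Module.Basis.span hli i)
    rw [Module.Basis.constr_basis, LinearMap.comp_apply, Submodule.subtype_apply,
      Module.Basis.span_apply] at this
    exact this
  have hspan : ∀ a : idx, P.root a ∈ Submodule.span ℤ (P.root '' (b.support : Set idx)) := fun a => by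
    rcases b.root_mem_or_neg_mem a with h | h
    · exact Submodule.span_subset_span ℕ ℤ _ (by rwa [← Submodule.span_nat_eq_addSubmonoidClosure] at h)
    · have := Submodule.span_subset_span ℕ ℤ _ (by rwa [← Submodule.span_nat_eq_addSubmonoidClosure] at h)
      rw [← neg_neg (P.root a)]
      exact Submodule.neg_mem _ this
  have hginj : ∀ x ∈ Submodule.span ℤ (P.root '' (b.support : Set idx)), g x = 0 → x = 0 := by
    intro x hx h0
    rw [Set.image_eq_range, Submodule.mem_span_range_iff_exists_fun] at hx
    obtain ⟨c, rfl⟩ := hx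
    rw [map_sum] at h0
    have hc : ∀ i, c i = 0 := fun i => by
      have := congrArg (Polynomial.coeff · (num i : ℕ)) h0
      simp only [map_zsmul, hg, Polynomial.finsetSum_coeff, Polynomial.coeff_smul,
        Polynomial.coeff_X_pow, Polynomial.coeff_zero] at this
      rw [Finset.sum_eq_single i] at this
      · simpa using this
      · intro k _ hk
        rw [if_neg, smul_zero]
        exact fun he => hk (num.injective (Fin.ext he)).symm
      · exact fun h => absurd (Finset.mem_univ i) h
    simp [hc]
  let bad : Finset (Polynomial ℚ) :=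
    ((Finset.univ : Finset (idx × idx)).filter fun p => p.1 ≠ p.2).image
      fun p => g (P.root p.1 - P.root p.2)
  have hfin : {B : ℕ | ∃ q ∈ bad, q.eval (B : ℚ) = 0}.Finite := by
    have : {x : ℚ | ∃ q ∈ bad, q.eval x = 0}.Finite := by
      refine Set.Finite.subset (s := ⋃ q ∈ bad, {x | q.IsRoot x}) ?_ (fun x hx => ?_)
      · refine Set.Finite.biUnion bad.finite_toSet fun q hq => Polynomial.finite_setOf_isRoot ?_
        simp only [bad, Finset.mem_coe, Finset.mem_image, Finset.mem_filter, Finset.mem_univ, true_and] at hq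
        obtain ⟨p, hp, rfl⟩ := hq
        intro h0
        exact hp (P.root.injective (sub_eq_zero.mp
          (hginj _ (Submodule.sub_mem _ (hspan _) (hspan _)) h0)))
      · obtain ⟨q, hq, h⟩ := hx
        exact Set.mem_biUnion hq h
    exact this.preimage (f := fun B : ℕ => (B : ℚ)) Nat.cast_injective.injOn
  obtain ⟨B, hB0, hB⟩ := (Set.Ioi_infinite (0 : ℕ)).exists_notMem_finite hfin
  let q : M →+ ℚ := (Polynomial.evalRingHom (B : ℚ)).toAddMonoidHom.comp g
  let n : ℕ := ∏ k : ι', (q (e k)).den
  have hn : 0 < n := Finset.prod_pos fun k _ => Rat.den_pos _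
  let l : M →+ ℤ := (e.constr ℤ fun k => ((n : ℚ) * q (e k)).num).toAddMonoidHom
  have hl : ∀ m, (l m : ℚ) = n * q m := by
    have hint : ∀ k : ι', (((n : ℚ) * q (e k)).num : ℚ) = n * q (e k) := fun k => by
      obtain ⟨d, hd⟩ := Finset.dvd_prod_of_mem (fun k => (q (e k)).den) (Finset.mem_univ k)
      have hn' : (n : ℚ) = ((q (e k)).den : ℚ) * d := by exact_mod_cast hd
      have : (n : ℚ) * q (e k) = (((d : ℤ) * (q (e k)).num : ℤ) : ℚ) := by
        rw [hn', mul_comm ((q (e k)).den : ℚ), _root_.mul_assoc, mul_comm ((q (e k)).den : ℚ) (q (e k)), Rat.mul_den_eq_num]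
        push_cast; rfl
      rw [this, Rat.num_intCast]
    intro m
    have : (Int.castAddHom ℚ).comp l = ((AddMonoidHom.mulLeft (n : ℚ)).comp q) := by
      refine AddMonoidHom.toIntLinearMap_injective (e.ext fun k => ?_)
      show ((l (e k) : ℤ) : ℚ) = n * q (e k)
      simp only [l, LinearMap.toAddMonoidHom_coe, Module.Basis.constr_basis]
      exact hint k
    exact DFunLike.congr_fun this m
  have hpos : ∀ a ∈ RedSub.posRoots P b, 0 < q (P.root a) := by
    intro a ha
    have key : ∀ x ∈ AddSubmonoid.closure (P.root '' (b.support : Set idx)), x = 0 ∨ 0 < q x := by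
      intro x hx
      induction hx using AddSubmonoid.closure_induction with
      | mem y hy =>
        obtain ⟨i, hi, rfl⟩ := hy
        right
        show 0 < (g (P.root i)).eval (B : ℚ)
        rw [hg ⟨i, hi⟩, Polynomial.eval_pow, Polynomial.eval_X]
        have : (0 : ℚ) < B := by exact_mod_cast hB0
        positivity
      | zero => exact Or.inl rfl
      | add u v _ _ hu hv =>
        rcases hu with rfl | hu
        · simpa using hv
        · rcases hv with rfl | hv
          · exact Or.inr (by simpa using hu)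
          · exact Or.inr (by rw [map_add]; exact add_pos hu hv)
    exact (key _ ha).resolve_left (P.ne_zero a)
  refine ⟨l, fun a ha => ?_, fun a ha => ?_, fun a c h => ?_⟩
  · have h := hl (P.root a)
    have := hpos a ha
    have hn' : (0 : ℚ) < n := by exact_mod_cast hn
    have : (0 : ℚ) < (l (P.root a) : ℚ) := by rw [h]; positivity
    exact_mod_cast this
  · have hneg : P.reflectionPerm a a ∈ RedSub.posRoots P b := by
      simp only [RedSub.posRoots, Set.mem_setOf_eq, RootPairing.root_reflectionPerm,
        RootPairing.reflection_apply_self]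
      exact ha
    have := hpos _ hneg
    rw [RootPairing.root_reflectionPerm, RootPairing.reflection_apply_self, map_neg] at this
    have h := hl (P.root a)
    have hn' : (0 : ℚ) < n := by exact_mod_cast hn
    have : (l (P.root a) : ℚ) < 0 := by
      rw [h]; exact mul_neg_of_pos_of_neg hn' (neg_pos.mp this)
    exact_mod_cast this
  · by_contra hac
    have h' : (l (P.root a) : ℚ) = (l (P.root c) : ℚ) := by exact_mod_cast congrArg (fun z : ℤ => (z : ℚ)) h
    rw [hl, hl] at h'
    have h2 := mul_left_cancel₀ (by exact_mod_cast hn.ne') h'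
    refine hB ⟨g (P.root a - P.root c), ?_, ?_⟩
    · exact Finset.mem_image.mpr ⟨(a, c), by simp [hac], rfl⟩
    · show q (P.root a - P.root c) = 0
      rw [map_sub, h2, sub_self]

variable {S : Scheme.{u}} {G : Over S} [GrpObj G] (D : Red.SplitRed G)

/-- The cocharacter of the torus attached to a functional on the characters. -/
noncomputable def cochar (l : D.M →+ ℤ) : Red.Gm S ⟶ G :=
  Red.DSmap S l ≫ D.split.inv.hom.hom ≫ D.i

theorem splitRed_conj (a : D.idx) {X : Over S} (t : X ⟶ Red.DS S D.M) (x : X ⟶ Red.Ga S) :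
    (t ≫ D.split.inv.hom.hom ≫ D.i) * (x ≫ D.u a) * (t ≫ D.split.inv.hom.hom ≫ D.i)⁻¹ =
      gaPt (dsFn t (D.P.root a) * Red.gaFn x) ≫ D.u a := by
  obtain ⟨y, hy, hy'⟩ := (D.rootHom a).2.2 X (t ≫ D.split.inv.hom.hom) x
  rw [← Category.assoc t D.split.inv.hom.hom D.i, ← hy, ← gaPt_gaFn y, hy']
  have e : D.split.inv.hom.hom ≫ D.split.hom.hom.hom = 𝟙 _ :=
    congrArg (fun f => f.hom.hom) D.split.inv_hom_id
  have e' : ∀ {P : Over S} (k : Red.DS S D.M ⟶ P),
      (t ≫ D.split.inv.hom.hom) ≫ D.split.hom.hom.hom ≫ k = t ≫ k := fun k => by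
    rw [Category.assoc, ← Category.assoc D.split.inv.hom.hom, e]
    exact congrArg (t ≫ ·) (Category.id_comp k)
  simp only [e', gmFn_chi]

theorem cochar_conj (l : D.M →+ ℤ) (a : D.idx) {X : Over S} (t : X ⟶ Red.Gm S) (x : X ⟶ Red.Ga S) :
    (t ≫ cochar D l) * (x ≫ D.u a) * (t ≫ cochar D l)⁻¹ =
      gaPt (dsFn t (l (D.P.root a)) * Red.gaFn x) ≫ D.u a := by
  have h := splitRed_conj D a (t ≫ Red.DSmap S l) x
  rw [Category.assoc t (Red.DSmap S l), dsFn_DSmap] at h
  exact h

theorem splitRed_weighted (l : D.M →+ ℤ) {m : ℕ} (e : Fin m → D.idx) (ν : Red.Gm S ⟶ G)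
    (w : Fin m → ℕ) (hw : Function.Injective w) (hw0 : ∀ k, 0 < w k)
    (hν : ∀ k (X : Over S) (t : X ⟶ Red.Gm S) (x : X ⟶ Red.Ga S),
      (t ≫ ν) * (x ≫ D.u (e k)) * (t ≫ ν)⁻¹ = gaPt (Red.gmFn t ^ w k * Red.gaFn x) ≫ D.u (e k)) :
    Weighted ν w fun k => D.u (e k) where
  hd := hw
  hpos := hw0
  zero k X := by
    have := (D.rootHom (e k)).1
    rw [gaPt_zero]
    exact MonObj.one_comp _
  closed k := (D.rootHom (e k)).2.1
  conj := hν

theorem negCochar_neg (ν : Red.Gm S ⟶ G) : negCochar (negCochar ν) = ν := by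
  show (𝟙 (Red.Gm S))⁻¹ ≫ (𝟙 (Red.Gm S))⁻¹ ≫ ν = ν
  rw [← Category.assoc, GrpObj.comp_inv, Category.comp_id, inv_inv_pt, Category.id_comp]

theorem pt_negCochar (ν : Red.Gm S ⟶ G) {X : Over S} (t : X ⟶ Red.Gm S) :
    t ≫ negCochar ν = t⁻¹ ≫ ν := by
  rw [← Category.assoc, GrpObj.comp_inv, Category.comp_id]

theorem CellData.symm {T : Over S} [GrpObj T] {i : T ⟶ G} {ν : Red.Gm S ⟶ G} {n m : ℕ} {dn : Fin n → ℕ}
    {un : Fin n → (Red.Ga S ⟶ G)} {dp : Fin m → ℕ} {up : Fin m → (Red.Ga S ⟶ G)}
    (C : CellData i ν dn un dp up) : CellData i (negCochar ν) dp up dn un where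
  hG := C.hG
  hT := C.hT
  hi := C.hi
  mono := C.mono
  comm Z t s := by rw [pt_negCochar]; exact C.comm Z t⁻¹ s
  neg := by rw [negCochar_neg]; exact C.pos
  pos := C.neg
  normPos := C.normNeg
  normNeg := C.normPos

theorem cellData_of_regular (l : D.M →+ ℤ) (hl : Function.Injective fun a => l (D.P.root a))
    {n m : ℕ} (eneg : Fin n → D.idx) (epos : Fin m → D.idx)
    (heneg : Function.Injective eneg) (hepos : Function.Injective epos)
    (hneg' : ∀ k, l (D.P.root (eneg k)) < 0) (hpos' : ∀ k, 0 < l (D.P.root (epos k))) :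
    CellData D.i (cochar D l) (fun k => (-l (D.P.root (eneg k))).toNat) (fun k => D.u (eneg k))
      (fun k => (l (D.P.root (epos k))).toNat) (fun k => D.u (epos k)) := by
  have hi := D.maximalTorus.1
  have norm : ∀ a (Z : Over S) (s : Z ⟶ D.T) (x : Z ⟶ Red.Ga S),
      ∃ y : Z ⟶ Red.Ga S, y ≫ D.u a = (s ≫ D.i) * (x ≫ D.u a) * (s ≫ D.i)⁻¹ := fun a Z s x => by
    obtain ⟨y, hy, -⟩ := (D.rootHom a).2.2 Z s x
    exact ⟨y, hy⟩
  refine ⟨D.reductive.1, isTorus_isAffineHom D.maximalTorus.2.2.1, hi, D.maximalTorus.2.1, ?_,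
    splitRed_weighted D l eneg _ _ ?_ ?_ ?_, splitRed_weighted D l epos _ _ ?_ ?_ ?_,
    fun k => norm _, fun k => norm _⟩
  · intro Z t s
    have e : (t ≫ Red.DSmap S l ≫ D.split.inv.hom.hom) * s =
        s * (t ≫ Red.DSmap S l ≫ D.split.inv.hom.hom) := by
      have hm : Mono D.split.hom.hom.hom := by
        have : IsIso ((Grp.forget _).map D.split.hom) := inferInstance
        exact @IsIso.mono_of_iso _ _ _ _ _ this
      have := hm
      rw [← cancel_mono D.split.hom.hom.hom]
      simp only [MonObj.mul_comp]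
      exact ds_comm _ _
    have := congrArg (· ≫ D.i) e
    simp only [MonObj.mul_comp, Category.assoc] at this
    exact this
  · intro a c h
    have h1 := hneg' a; have h2 := hneg' c
    exact heneg (hl (show l _ = l _ by simp only at h; omega))
  · intro k; have := hneg' k; omega
  · intro k X t x
    have hh := cochar_conj D l (eneg k) t⁻¹ x
    have e1 : t ≫ negCochar (cochar D l) = t⁻¹ ≫ cochar D l := by
      rw [← Category.assoc, GrpObj.comp_inv, Category.comp_id]
    rw [e1, hh]
    congr 3
    have hk : l (D.P.root (eneg k)) = -(((-l (D.P.root (eneg k))).toNat : ℕ) : ℤ) := by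
      have := hneg' k; omega
    conv_lhs => rw [hk]
    refine (dsFn_isUnit t⁻¹ (((-l (D.P.root (eneg k))).toNat : ℕ) : ℤ)).mul_left_cancel ?_
    rw [← dsFn_add, add_neg_cancel, dsFn_zero, dsFn_gm_zpow, ← mul_pow, gmFn_inv_mul, one_pow]
  · intro a c h
    have h1 := hpos' a; have h2 := hpos' c
    exact hepos (hl (show l _ = l _ by simp only at h; omega))
  · intro k; have := hpos' k; omega
  · intro k X t x
    rw [cochar_conj]
    congr 3
    rw [← dsFn_gm_zpow, Int.toNat_of_nonneg (hpos' k).le]

theorem cellData_of_functional (b : D.P.Base) (l : D.M →+ ℤ)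
    (hp : ∀ a ∈ RedSub.posRoots D.P b, 0 < l (D.P.root a))
    (hn : ∀ a ∈ RedSub.negRoots D.P b, l (D.P.root a) < 0)
    (hl : Function.Injective fun a => l (D.P.root a))
    {n m : ℕ} (eneg : Fin n → D.idx) (epos : Fin m → D.idx)
    (hneg : RedSub.Enumerates (RedSub.negRoots D.P b) eneg)
    (hpos : RedSub.Enumerates (RedSub.posRoots D.P b) epos) :
    CellData D.i (cochar D l) (fun k => (-l (D.P.root (eneg k))).toNat) (fun k => D.u (eneg k))
      (fun k => (l (D.P.root (epos k))).toNat) (fun k => D.u (epos k)) := by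
  exact cellData_of_regular D l hl eneg epos hneg.1 hpos.1
    (fun k => hn _ (hneg.2 ▸ Set.mem_range_self k)) (fun k => hp _ (hpos.2 ▸ Set.mem_range_self k))

theorem card_add_card (b : D.P.Base) {n m : ℕ} {eneg : Fin n → D.idx} {epos : Fin m → D.idx}
    (hneg : RedSub.Enumerates (RedSub.negRoots D.P b) eneg)
    (hpos : RedSub.Enumerates (RedSub.posRoots D.P b) epos) : n + m = Fintype.card D.idx := by
  classical
  let f : Fin n ⊕ Fin m → D.idx := Sum.elim eneg epos
  have hf : Function.Bijective f := by
    constructor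
    · refine hneg.1.sumElim hpos.1 fun a c h => ?_
      have h1 : eneg a ∈ RedSub.negRoots D.P b := hneg.2 ▸ Set.mem_range_self a
      have h2 : epos c ∈ RedSub.posRoots D.P b := hpos.2 ▸ Set.mem_range_self c
      rw [← h, mem_posRoots_iff] at h2
      rw [mem_negRoots_iff] at h1
      exact h1 h2
    · intro a
      by_cases h : b.IsPos a
      · rw [← mem_posRoots_iff, ← hpos.2] at h
        obtain ⟨c, rfl⟩ := h
        exact ⟨Sum.inr c, rfl⟩
      · rw [← mem_negRoots_iff, ← hneg.2] at h
        obtain ⟨c, rfl⟩ := h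
        exact ⟨Sum.inl c, rfl⟩
  have := Fintype.card_of_bijective hf
  simpa using this

/-- A monomorphic cell with as many root groups as roots is an open immersion. -/
theorem cellMap_open_of_mono {n m : ℕ} (eneg : Fin n → D.idx) (epos : Fin m → D.idx)
    (hcard : n + m = Fintype.card D.idx) [Mono (RedSub.cellMap D eneg epos)] :
    IsOpenImmersion (RedSub.cellMap D eneg epos).left := by
  have hm : Mono (RedSub.cellMap D eneg epos).left := inferInstance
  have hT : SmoothOfRelativeDimension (Module.finrank ℤ D.M) D.T.hom := by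
    have h := relDim_DS (S := S) D.M
    let e : D.T ≅ Red.DS S D.M := (Grp.forget _).mapIso D.split
    have : IsIso e.hom.left := inferInstanceAs (IsIso ((CategoryTheory.Over.forget _).map e.hom))
    have := (smoothOfRelativeDimension_isStableUnderBaseChange.{u} (Module.finrank ℤ D.M)).respectsIso
    rw [← Over.w e.hom]
    exact (MorphismProperty.cancel_left_of_respectsIso
      (@SmoothOfRelativeDimension (Module.finrank ℤ D.M)) _ _).mpr h
  have hsrc := relDim_tensor (relDim_pow (relDim_ga (S := S)) n)
    (relDim_tensor hT (relDim_pow (relDim_ga (S := S)) m))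
  have hG := relDim_reductive D.reductive (Module.finrank ℤ D.M + Fintype.card D.idx) D.dim_fibre
  rw [show m + Module.finrank ℤ D.M + n = Module.finrank ℤ D.M + Fintype.card D.idx by
    rw [← hcard]; omega] at hsrc
  exact isOpenImmersion_of_mono_of_relDim _ _ _ (Over.w _)
    (Module.finrank ℤ D.M + Fintype.card D.idx)

/-- The cell map of a split group is an open immersion. -/
theorem cellMap_isOpenImmersion (b : D.P.Base) {n m : ℕ} (eneg : Fin n → D.idx) (epos : Fin m → D.idx)
    (hneg : RedSub.Enumerates (RedSub.negRoots D.P b) eneg)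
    (hpos : RedSub.Enumerates (RedSub.posRoots D.P b) epos) :
    IsOpenImmersion (RedSub.cellMap D eneg epos).left := by
  obtain ⟨l, hp, hn, hl⟩ := exists_sep_functional D.P b
  have : Mono (RedSub.cellMap D eneg epos) :=
    (cellData_of_functional D b l hp hn hl eneg epos hneg hpos).mono_cell
  exact cellMap_open_of_mono D eneg epos (card_add_card D b hneg hpos)

/-- The opposite cell, positive root groups first, is an open immersion. -/
theorem cellMap_isOpenImmersion_swap (b : D.P.Base) {n m : ℕ} (eneg : Fin n → D.idx)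
    (epos : Fin m → D.idx) (hneg : RedSub.Enumerates (RedSub.negRoots D.P b) eneg)
    (hpos : RedSub.Enumerates (RedSub.posRoots D.P b) epos) :
    IsOpenImmersion (RedSub.cellMap D epos eneg).left := by
  obtain ⟨l, hp, hn, hl⟩ := exists_sep_functional D.P b
  have : Mono (RedSub.cellMap D epos eneg) :=
    (cellData_of_functional D b l hp hn hl eneg epos hneg hpos).symm.mono_cell
  exact cellMap_open_of_mono D epos eneg (by rw [← card_add_card D b hneg hpos, Nat.add_comm])

end Groth.Agent.RedPts82
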