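import Groth.Agent.RedPts82.ChevTables

/-!
Chevalley's commutator formulas in the rank two configurations.
-/

universe u

open CategoryTheory MonoidalCategory CartesianMonoidalCategory MonObj GrpObj AlgebraicGeometry
open CategoryTheory.Limits

namespace Groth.Agent.RedPts82

variable {S : Scheme.{u}} {G : Over S} [GrpObj G] {D : Red.SplitRed G} {vd : D.idx → (Red.Ga S ⟶ G)}
  (K : Chev D vd)
include K

/-- The first coefficient at the bottom of a string. -/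
theorem Str.isSgn_first {n : ℕ} {a : D.idx} {f : Fin (n + 1) → D.idx} (T : Str D a f)
    (h : Indep D.P a (f 0)) (hp : D.P.pairing a (f 0) = -1)
    {Cm : Fin (n + 1) → Fin (n + 1) → Γ(S, ⊤)}
    (hCm : ∀ (X : Over S) (δ : Γ(X.left, ⊤)), δ * δ = 0 → ∀ (x : Γ(X.left, ⊤)) (z : Fin (n + 1) → Γ(X.left, ⊤)),
      (gaPt x ≫ D.u a) * lp D δ f z * (gaPt x ≫ D.u a)⁻¹ =
        lp D δ f fun k => ∑ i, cst X (Cm i k) * x ^ ((k : ℕ) - i) * z i)
    (j : Fin (n + 1)) (hj : (j : ℕ) = 1) : IsSgn (Cm 0 j) 1 := by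
  obtain ⟨g, hg0, T'⟩ := exists_str h.symm 1 (by
    rintro ⟨d, hd⟩
    exact T.hbot 1 one_pos ⟨D.P.reflectionPerm d d, by rw [Roots36.root_neg, hd]; push_cast; module⟩)
    (by rw [hp]; norm_num)
  obtain ⟨Cm', hCm', hlast, -, -⟩ := T'.exists_matrix K
  have hfj : D.P.root (f j) = D.P.root (f 0) + D.P.root a := by
    rw [T.hf, hj, Nat.cast_one, one_smul]
  obtain ⟨l, hne, hl, ha, h0⟩ := exists_functional_indep (P := D.P) h.prod_lt
  obtain ⟨m, e, p, q, C, he, hall, hpq, hC⟩ := exists_comm_full D hl hne ha h0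
  obtain ⟨k, hk⟩ := hall (f j) 1 1 le_rfl le_rfl (by rw [hfj]; push_cast; module)
  have hexp := h.coeff_eq (p := p k) (q := q k) (p' := 1) (q' := 1) (by
    rw [← (hpq k).2.2, hk, hfj]; module)
  have hp1 : p k = 1 := by omega
  have hq1 : q k = 1 := by omega
  have e1 : C k = Cm 0 j := T.coeff_snd hCm ⟨he, hpq, hC⟩ k hq1 hk
  have hk' : e k = g (Fin.last 1) := by
    apply D.P.root.injective
    rw [hk, hfj, T'.hf, hg0, Fin.val_last]
    push_cast
    module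
  subst hg0
  have e2 : (-1) ^ q k * C k = Cm' 0 (Fin.last 1) := T'.coeff_fst hCm' (q := 0) ⟨he, hpq, hC⟩ k hp1 hk'
  rw [← e1]
  rw [← e2] at hlast
  exact hlast.of_neg_pow

theorem Str.exists_values {n : ℕ} {a : D.idx} {f : Fin (n + 1) → D.idx} (T : Str D a f)
    (h : Indep D.P a (f 0)) (hn : n = 2 ∨ n = 3) :
    ∃ Cm : Fin (n + 1) → Fin (n + 1) → Γ(S, ⊤),
      (∀ (X : Over S) (δ : Γ(X.left, ⊤)), δ * δ = 0 → ∀ (x : Γ(X.left, ⊤)) (z : Fin (n + 1) → Γ(X.left, ⊤)),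
        (gaPt x ≫ D.u a) * lp D δ f z * (gaPt x ≫ D.u a)⁻¹ =
          lp D δ f fun k => ∑ i, cst X (Cm i k) * x ^ ((k : ℕ) - i) * z i) ∧
      (∀ j k : Fin (n + 1), (j : ℕ) = 0 → (k : ℕ) ≠ 0 → IsSgn (Cm j k) 1) ∧
      (∀ j k : Fin (n + 1), (j : ℕ) = 1 → (k : ℕ) = 2 → IsSgn (Cm j k) 2) ∧
      (∀ j k : Fin (n + 1), ((j : ℕ) = 1 ∨ (j : ℕ) = 2) → (k : ℕ) = 3 → IsSgn (Cm j k) 3) := by
  have hB : D.P.pairing a (f 0) = -1 := by
    have := h.pairing_cases
    simp only [Set.mem_insert_iff, Set.mem_singleton_iff, Prod.mk.injEq, T.hpair] at this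
    omega
  obtain ⟨Cm, hCm, hlast, h2, h3⟩ := T.exists_matrix K
  have h1 : ∀ j : Fin (n + 1), (j : ℕ) = 1 → IsSgn (Cm 0 j) 1 := fun j hj =>
    T.isSgn_first K h hB hCm j hj
  refine ⟨Cm, hCm, fun j k hj hk => ?_, fun j k hj hk => ?_, fun j k hj hk => ?_⟩
  · obtain rfl : j = 0 := Fin.ext hj
    have := k.isLt
    rcases (show (k : ℕ) = 1 ∨ (k : ℕ) = n ∨ ((k : ℕ) = 2 ∧ n = 3) by omega) with hk' | hk' | ⟨hk', hn'⟩
    · exact h1 k hk'
    · rwa [show k = Fin.last n from Fin.ext hk']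
    · subst hn'
      exact (h3 rfl 0 1 k 3 rfl rfl hk' rfl (h1 1 rfl)).1
  · rcases hn with rfl | rfl
    · exact h2 rfl 0 j k rfl hj hk (h1 j hj)
    · exact (h3 rfl 0 j k 3 rfl hj hk rfl (h1 j hj)).2.1
  · have := k.isLt
    obtain rfl : n = 3 := by omega
    rcases hj with hj | hj
    · exact (h3 rfl 0 j 2 k rfl hj rfl hk (h1 j hj)).2.2.1
    · exact (h3 rfl 0 1 j k rfl rfl hj hk (h1 1 rfl)).2.2.2

/-- Conjugation by the Weyl element of `b` of the formula for `(a, b)` at unit parameters. -/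
theorem flip_identity {a b c : D.idx} (hc : D.P.reflectionPerm b a = c)
    (h0 : D.P.root b + D.P.root c ≠ 0) (hbc : D.P.root b + D.P.root c ∉ Set.range D.P.root)
    {m : ℕ} {e : Fin m → D.idx} {i j : Fin m → ℕ} {C : Fin m → Γ(S, ⊤)} (F : Formula D a b e i j C) :
    ∃ s r : ℤ, (s = 1 ∨ s = -1) ∧ (r = 1 ∨ r = -1) ∧
      (List.ofFn fun k => gaPt (cst (𝟙_ (Over S)) ((-1) ^ j k * C k)) ≫ D.u (e k)).prod *
          (gaPt (1 : Γ((𝟙_ (Over S)).left, ⊤)) ≫ D.u a) =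
        (gaPt ((s : ℤ) : Γ((𝟙_ (Over S)).left, ⊤)) ≫ D.u (negIdx D b)) *
          (gaPt ((r : ℤ) : Γ((𝟙_ (Over S)).left, ⊤)) ≫ D.u c) *
            (gaPt ((s : ℤ) : Γ((𝟙_ (Over S)).left, ⊤)) ≫ D.u (negIdx D b))⁻¹ := by
  obtain ⟨σ₀, hσ₀, hσ⟩ := K.sign b b
  obtain ⟨r, hr, hsign⟩ := K.sign b a
  refine ⟨-σ₀, r, by omega, hr, ?_⟩
  set X := 𝟙_ (Over S)
  have hv := (K.dual b).eq_neg D σ₀ hσ (1 : Γ(X.left, ⊤))
  rw [_root_.mul_one] at hv
  have h := hsign X 1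
  rw [hc, _root_.mul_one, npt] at h
  have hev := F.eval (gaPt (1 : Γ(X.left, ⊤))) (gaPt 1)
    (fun k => gaPt (cst X ((-1) ^ j k * C k))) fun k => by
      simp only [gaFn_gaPt, one_pow, _root_.mul_one]
  have hcomm := root_comm D b c h0 hbc (gaPt (1 : Γ(X.left, ⊤))) (gaPt ((r : ℤ) : Γ(X.left, ⊤)))
  rw [← hv]
  generalize (List.ofFn fun k => gaPt (cst X ((-1) ^ j k * C k)) ≫ D.u (e k)).prod = Q at hev ⊢
  generalize gaPt (1 : Γ(X.left, ⊤)) ≫ D.u a = A at hev h ⊢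
  generalize gaPt (1 : Γ(X.left, ⊤)) ≫ D.u b = P at hev h hcomm
  generalize gaPt (1 : Γ(X.left, ⊤)) ≫ vd b = M at h ⊢
  generalize gaPt ((r : ℤ) : Γ(X.left, ⊤)) ≫ D.u c = R at h hcomm ⊢
  rw [← hev]
  calc P * A * P⁻¹ * A⁻¹ * A = M * P⁻¹ * (P * M⁻¹ * P * A * (P * M⁻¹ * P)⁻¹) * P * M⁻¹ := by group
    _ = M * P⁻¹ * R * P * M⁻¹ := by rw [h]
    _ = M * R * M⁻¹ := by rw [_root_.mul_assoc (M * P⁻¹), ← hcomm]; group

omit K

theorem prod_three {H : Type*} [Monoid H] (g : Fin 3 → H) : (List.ofFn g).prod = g 0 * g 1 * g 2 := by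
  simp [List.ofFn_succ, _root_.mul_assoc]

theorem prod_five {H : Type*} [Monoid H] (g : Fin 5 → H) :
    (List.ofFn g).prod = g 0 * g 1 * g 2 * g 3 * g 4 := by
  simp [List.ofFn_succ, _root_.mul_assoc]

theorem prod_four {H : Type*} [Monoid H] (g : Fin 4 → H) :
    (List.ofFn g).prod = g 0 * g 1 * g 2 * g 3 := by
  simp [List.ofFn_succ, _root_.mul_assoc]

theorem cst_one (r : Γ(S, ⊤)) : cst (𝟙_ (Over S)) r = r := by
  show (𝟙 S : S ⟶ S).appTop r = r
  simp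

/-- Equality of products of root points in positive roots. -/
theorem PosSys.prod_inj {m : ℕ} {e : Fin m → D.idx} {l : D.M →+ ℤ} (H : PosSys D e l) {X : Over S}
    {z z' : Fin m → Γ(X.left, ⊤)}
    (h : (List.ofFn fun k => gaPt (z k) ≫ D.u (e k)).prod = (List.ofFn fun k => gaPt (z' k) ≫ D.u (e k)).prod)
    (k : Fin m) : z k = z' k := by
  have := H.lp_injective D (1 : Γ(X.left, ⊤)) (z := z) (z' := z')
    (by simpa only [lp, _root_.one_mul] using h) k
  simpa using this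

theorem posSys_of_comb {a b : D.idx} (h : Indep D.P a b) {m : ℕ} {e : Fin m → D.idx}
    (he : Function.Injective e) (p q : Fin m → ℕ) (hpq : ∀ k, 0 < p k + q k)
    (hroot : ∀ k, D.P.root (e k) = (p k : ℤ) • D.P.root a + (q k : ℤ) • D.P.root b) :
    ∃ l : D.M →+ ℤ, PosSys D e l := by
  obtain ⟨l, hne, hl, ha, hb⟩ := exists_functional_indep (P := D.P) h.prod_lt
  refine ⟨l, hl, hne, he, fun k => ?_⟩
  rw [hroot, map_add, map_zsmul, map_zsmul, smul_eq_mul, smul_eq_mul]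
  rcases Nat.eq_zero_or_pos (p k) with h0 | h0
  · rw [h0, Nat.cast_zero, zero_mul, zero_add]
    exact mul_pos (by have := hpq k; omega) hb
  · exact add_pos_of_pos_of_nonneg (mul_pos (by omega) ha) (mul_nonneg (by omega) hb.le)

/-- Distinct combinations of two independent roots are distinct roots. -/
theorem injective_of_comb {a b : D.idx} (h : Indep D.P a b) {m : ℕ} {e : Fin m → D.idx}
    (p q : Fin m → ℕ)
    (hroot : ∀ k, D.P.root (e k) = (p k : ℤ) • D.P.root a + (q k : ℤ) • D.P.root b)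
    (hinj : Function.Injective fun k => (p k, q k)) : Function.Injective e := fun k k' hk => by
  have := h.coeff_eq (p := p k) (q := q k) (p' := p k') (q' := q k') (by rw [← hroot, ← hroot, hk])
  exact hinj (Prod.ext (by exact_mod_cast this.1) (by exact_mod_cast this.2))

theorem range_of_comb {a b : D.idx} {m : ℕ} {e : Fin m → D.idx} {p q : Fin m → ℕ}
    (hroot : ∀ k, D.P.root (e k) = (p k : ℤ) • D.P.root a + (q k : ℤ) • D.P.root b)
    {c : D.idx} {p' q' : ℕ} (hc : D.P.root c = (p' : ℤ) • D.P.root a + (q' : ℤ) • D.P.root b)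
    (h : ∃ k, p k = p' ∧ q k = q') : c ∈ Set.range e := by
  obtain ⟨k, rfl, rfl⟩ := h
  exact ⟨k, D.P.root.injective (by rw [hroot, hc])⟩

theorem refl_root {a b c : D.idx} {k : ℤ} (hB : D.P.pairing a b = -k)
    (hc : D.P.root c = D.P.root a + k • D.P.root b) : D.P.reflectionPerm b a = c := by
  apply D.P.root.injective
  rw [RootPairing.root_reflectionPerm, RootPairing.reflection_apply_root, hB, hc]
  module

include K

/-- The case of a string ending one step above. -/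
theorem table_q_one {a b c : D.idx} (h : Indep D.P a b)
    (hlen : |D.P.pairing a b| ≤ |D.P.pairing b a|) (hc : D.P.root c = D.P.root a + D.P.root b)
    (hq : D.P.root b + (2 : ℤ) • D.P.root a ∉ Set.range D.P.root) (p : ℕ) (hp1 : 1 ≤ p)
    (hpk : ∀ k : ℕ, k < p → D.P.root b - (k : ℤ) • D.P.root a ∈ Set.range D.P.root)
    (hp : D.P.root b - (p : ℤ) • D.P.root a ∉ Set.range D.P.root) :
    ∃ C : Fin 1 → Γ(S, ⊤), Formula D a b ![c] ![1] ![1] C ∧ IsSgn ((-1) ^ 1 * C 0) p := by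
  obtain ⟨s, t, h1, h2, h3⟩ := h.string
  obtain ⟨s', t', h1', h2', h3'⟩ := h.symm.string
  have ht : t = 1 := by
    have e1 := (h3 1).mp ⟨c, by rw [hc]; module⟩
    by_contra hne
    exact hq ((h3 2).mpr ⟨by omega, by omega⟩)
  have hs : s + 1 = p := by
    have e1 := (h3 (-((p - 1 : ℕ) : ℤ))).mp (by convert hpk (p - 1) (by omega) using 1; module)
    by_contra hne
    refine hp ?_
    convert (h3 (-(p : ℤ))).mpr ⟨by omega, by omega⟩ using 1
    module
  have ht' : 1 ≤ t' := by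
    have e1 := (h3' 1).mp ⟨c, by rw [hc]; module⟩
    omega
  have hs' : (p = 1 → s' = 0) ∧ (2 ≤ p → 1 ≤ s') := by
    refine ⟨fun hp1 => ?_, fun hp2 => ?_⟩
    · by_contra hne
      obtain ⟨d, hd⟩ := (h3' (-1)).mpr ⟨by omega, by omega⟩
      have := (h3 (-1)).mp ⟨D.P.reflectionPerm d d, by rw [Roots36.root_neg, hd]; module⟩
      omega
    · obtain ⟨d, hd⟩ := (h3 (-1)).mpr ⟨by omega, by omega⟩
      have := (h3' (-1)).mp ⟨D.P.reflectionPerm d d, by rw [Roots36.root_neg, hd]; module⟩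
      omega
  have hcases := h.pairing_cases
  simp only [Set.mem_insert_iff, Set.mem_singleton_iff, Prod.mk.injEq, ← h2, ← h2'] at hcases
  rw [← h2, ← h2'] at hlen
  have hb2 : D.P.root a + (2 : ℤ) • D.P.root b ∉ Set.range D.P.root := fun hh => by
    have := (h3' 2).mp hh
    rw [← Int.natCast_natAbs, ← Int.natCast_natAbs] at hlen
    omega
  obtain ⟨g, hg⟩ : ∃ g, D.P.root g = D.P.root b - ((p - 1 : ℕ) : ℤ) • D.P.root a := hpk (p - 1) (by omega)
  have hig : Indep D.P a g := comb_indep h (p := -((p - 1 : ℕ) : ℤ)) (q := 1) (by rw [hg]; module) one_ne_zero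
  obtain ⟨f, hf0, T⟩ := exists_str hig p (by
      rintro ⟨d, hd⟩
      refine hp ⟨d, ?_⟩
      rw [hd, hg, Nat.cast_sub hp1]; push_cast; module) (by
      rw [coroot_pairing_comb (p := -((p - 1 : ℕ) : ℤ)) (q := 1) (a := a) (b := b) (by rw [hg]; module) a,
        RootPairing.pairing_same, ← h2, ht, ← hs]
      push_cast
      ring)
  have hfb : f ⟨p - 1, by omega⟩ = b := D.P.root.injective (by rw [T.hf, hf0, hg]; module)
  have hfc : c = f (Fin.last p) := D.P.root.injective (by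
    rw [T.hf, hf0, hg, hc, Fin.val_last, Nat.cast_sub hp1]; push_cast; module)
  have hroot : ∀ k : Fin 1, D.P.root (![c] k) =
      ((![1] k : ℕ) : ℤ) • D.P.root a + ((![1] k : ℕ) : ℤ) • D.P.root b := fun k => by
    fin_cases k; simp [hc]
  obtain ⟨C, F⟩ := exists_formula (S := S) h ![c] ![1] ![1] (fun k k' _ => Subsingleton.elim k k')
    (fun k => ⟨by fin_cases k; simp, by fin_cases k; simp, hroot k⟩) (fun d p' q' hp' hq' hd => by
      obtain ⟨rfl, rfl⟩ := hall_sum h hq hb2 d hp' hq' hd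
      exact range_of_comb hroot hd ⟨0, rfl, rfl⟩)
  refine ⟨C, F, IsSgn.neg_pow ?_ 1⟩
  have F' : Formula D a (f ⟨p - 1, by omega⟩) ![c] ![1] ![1] C := by rw [hfb]; exact F
  rcases (show p = 1 ∨ p = 2 ∨ p = 3 by omega) with rfl | hp'
  · obtain ⟨Cm, hCm, hlast, -, -⟩ := T.exists_matrix K
    rw [T.coeff_snd hCm F' 0 rfl hfc]
    exact hlast
  · obtain ⟨Cm, hCm, -, v2, v3⟩ := T.exists_values K (by rw [hf0]; exact hig) hp'
    rw [T.coeff_snd hCm F' 0 rfl hfc]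
    rcases hp' with rfl | rfl
    · exact v2 _ _ rfl rfl
    · exact v3 _ _ (Or.inr rfl) rfl

theorem table_one_two {a b c₁ c₂ : D.idx} (h : Indep D.P a b)
    (hm : D.P.root b - D.P.root a ∉ Set.range D.P.root) (hc₁ : D.P.root c₁ = D.P.root a + D.P.root b)
    (hc₂ : D.P.root c₂ = (2 : ℤ) • D.P.root a + D.P.root b)
    (hq : D.P.root b + (3 : ℤ) • D.P.root a ∉ Set.range D.P.root) :
    ∃ r₁ r₂ : Γ(S, ⊤), IsSgn r₁ 1 ∧ IsSgn r₂ 1 ∧
      ∀ (X : Over S) (x y z₁ z₂ : X ⟶ Red.Ga S),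
        Red.gaFn z₁ = cst X r₁ * Red.gaFn x * Red.gaFn y →
        Red.gaFn z₂ = cst X r₂ * Red.gaFn x ^ 2 * Red.gaFn y →
          (y ≫ D.u b) * (x ≫ D.u a) * (y ≫ D.u b)⁻¹ * (x ≫ D.u a)⁻¹ = (z₁ ≫ D.u c₁) * (z₂ ≫ D.u c₂) := by
  obtain ⟨s, t, h1, h2, h3⟩ := h.string
  have hs : s = 0 := by
    by_contra hne
    exact hm (by convert (h3 (-1)).mpr ⟨by omega, by omega⟩ using 1; module)
  have ht : t = 2 := by
    have e1 := (h3 2).mp ⟨c₂, by rw [hc₂]; module⟩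
    by_contra hne
    exact hq ((h3 3).mpr ⟨by omega, by omega⟩)
  have hA : D.P.pairing b a = -2 := by omega
  have hB : D.P.pairing a b = -1 := by
    have := h.pairing_cases
    simp only [Set.mem_insert_iff, Set.mem_singleton_iff, Prod.mk.injEq, hA] at this
    omega
  obtain ⟨f, hf0, T⟩ := exists_str h 2 hm (by rw [hA]; norm_num)
  have hf1 : c₁ = f 1 := D.P.root.injective (by rw [T.hf, hf0, hc₁]; simp; module)
  have hf2 : c₂ = f 2 := D.P.root.injective (by rw [T.hf, hf0, hc₂]; simp; module)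
  obtain ⟨Cm, hCm, v1, -, -⟩ := T.exists_values K (by rw [hf0]; exact h) (Or.inl rfl)
  by_cases h22 : (2 : ℤ) • D.P.root a + (2 : ℤ) • D.P.root b ∈ Set.range D.P.root
  · obtain ⟨c₃, hc₃⟩ := h22
    have hroot : ∀ k : Fin 3, D.P.root (![c₁, c₂, c₃] k) =
        ((![1, 2, 2] k : ℕ) : ℤ) • D.P.root a + ((![1, 1, 2] k : ℕ) : ℤ) • D.P.root b := fun k => by
      fin_cases k <;> simp [hc₁, hc₂, hc₃]
    obtain ⟨C, F⟩ := exists_formula (S := S) h ![c₁, c₂, c₃] ![1, 2, 2] ![1, 1, 2]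
      (injective_of_comb h _ _ hroot (by decide))
      (fun k => ⟨by fin_cases k <;> simp, by fin_cases k <;> simp, hroot k⟩) (fun d p' q' hp' hq' hd => by
        refine range_of_comb hroot hd ?_
        rcases hall_B2 h hA hB d hp' hq' hd with ⟨rfl, rfl⟩ | ⟨rfl, rfl⟩ | ⟨rfl, rfl⟩
        exacts [⟨0, rfl, rfl⟩, ⟨1, rfl, rfl⟩, ⟨2, rfl, rfl⟩])
    -- the double root does not occur
    obtain ⟨d, hd⟩ : ∃ d, D.P.root d = (2 : ℤ) • D.P.root a := by
      refine ⟨D.P.reflectionPerm b c₃, ?_⟩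
      rw [RootPairing.root_reflectionPerm, RootPairing.reflection_apply_root,
        coroot_pairing_comb hc₃ b, hB, RootPairing.pairing_same, hc₃]
      module
    let w := negIdx D b
    have hw : D.P.root w = -D.P.root b := Roots36.root_neg (P := D.P) b
    have hwc : Indep D.P c₁ w := indep_of_forall D.P fun r s hrs => by
      rw [hc₁, hw] at hrs
      have := h.coeff_eq (p := r) (q := r - s) (p' := 0) (q' := 0) (by rw [zero_smul, zero_smul, add_zero, ← hrs]; module)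
      omega
    have hrefl : D.P.reflectionPerm b a = c₁ := refl_root (k := 1) (by rw [hB]) (by rw [hc₁, one_smul])
    have hA' : D.P.pairing w c₁ = -2 := by
      rw [← hrefl, RootPairing.pairing_reflectionPerm]
      show D.P.pairing (D.P.reflectionPerm b (D.P.reflectionPerm b b)) a = -2
      rw [RootPairing.reflectionPerm_self, hA]
    have hB' : D.P.pairing c₁ w = -1 := by
      show D.P.pairing c₁ (D.P.reflectionPerm b b) = -1
      rw [RootPairing.pairing_reflectionPerm_self_right, coroot_pairing_comb (p := 1) (q := 1) (a := a) (b := b)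
        (by rw [hc₁, one_smul, one_smul]) b, hB, RootPairing.pairing_same]
      norm_num
    have hbc : D.P.root b + D.P.root c₁ ∉ Set.range D.P.root := by
      rintro ⟨g, hg⟩
      have := hall_B2 h hA hB g (p := 1) (q := 2) le_rfl (by norm_num) (by rw [hg, hc₁]; push_cast; module)
      omega
    obtain ⟨σ, r, hσ, hr, hflip⟩ := flip_identity K hrefl (fun h0 => by
      have := h.coeff_eq (p := 1) (q := 2) (p' := 0) (q' := 0) (by rw [hc₁] at h0; rw [zero_smul, zero_smul, add_zero, ← h0]; module)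
      omega) hbc F
    have hroot' : ∀ k : Fin 3, D.P.root (![c₂, a, d] k) =
        ((![1, 1, 2] k : ℕ) : ℤ) • D.P.root w + ((![2, 1, 2] k : ℕ) : ℤ) • D.P.root c₁ := fun k => by
      fin_cases k <;> simp [hc₁, hc₂, hd, hw] <;> module
    obtain ⟨C', F'⟩ := exists_formula (S := S) hwc.symm ![c₂, a, d] ![1, 1, 2] ![2, 1, 2]
      (injective_of_comb hwc.symm _ _ hroot' (by decide))
      (fun k => ⟨by fin_cases k <;> simp, by fin_cases k <;> simp, hroot' k⟩) (fun g p' q' hp' hq' hg => by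
        refine range_of_comb hroot' hg ?_
        rcases hall_B2 hwc hA' hB' g hq' hp' (by rw [hg, add_comm]) with ⟨rfl, rfl⟩ | ⟨rfl, rfl⟩ | ⟨rfl, rfl⟩
        exacts [⟨1, rfl, rfl⟩, ⟨0, rfl, rfl⟩, ⟨2, rfl, rfl⟩])
    have hroot₅ : ∀ k : Fin 5, D.P.root (![c₁, c₂, c₃, a, d] k) =
        ((![1, 2, 2, 1, 2] k : ℕ) : ℤ) • D.P.root a + ((![1, 1, 2, 0, 0] k : ℕ) : ℤ) • D.P.root b := fun k => by
      fin_cases k <;> simp [hc₁, hc₂, hc₃, hd]
    obtain ⟨l, H⟩ := posSys_of_comb h (injective_of_comb h _ _ hroot₅ (by decide)) _ _ (by decide) hroot₅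
    have hzero : C 2 = 0 := by
      have hF' := F'.2.2 (𝟙_ (Over S)) (σ : Γ((𝟙_ (Over S)).left, ⊤)) (r : Γ((𝟙_ (Over S)).left, ⊤))
      rw [hF'] at hflip
      let O := 𝟙_ (Over S)
      have hk := H.prod_inj (X := O) (z := ![cst O ((-1) ^ 1 * C 0), cst O ((-1) ^ 1 * C 1), cst O ((-1) ^ 2 * C 2), 1, 0])
        (z' := ![(r : Γ(O.left, ⊤)), cst O (C' 0) * (σ : Γ(O.left, ⊤)) ^ 1 * (r : Γ(O.left, ⊤)) ^ 2, 0,
          cst O (C' 1) * (σ : Γ(O.left, ⊤)) ^ 1 * (r : Γ(O.left, ⊤)) ^ 1,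
          cst O (C' 2) * (σ : Γ(O.left, ⊤)) ^ 2 * (r : Γ(O.left, ⊤)) ^ 2]) (by
          rw [prod_five, prod_five]
          rw [prod_three, prod_three] at hflip
          simp only [Matrix.cons_val, rootHom_gaPt_zero, _root_.mul_one, _root_.one_mul] at hflip ⊢
          rw [hflip]
          simp only [O, _root_.mul_assoc]) 2
      simp only [Matrix.cons_val] at hk
      rw [cst_one] at hk
      linear_combination hk
    refine ⟨-C 0, -C 1, ?_, ?_, fun X x y z₁ z₂ hz₁ hz₂ => ?_⟩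
    · rw [T.coeff_snd hCm (C := C) (q := 0) (by rw [hf0]; exact F) 0 rfl hf1]
      exact (v1 0 1 rfl (by simp)).neg
    · rw [T.coeff_snd hCm (C := C) (q := 0) (by rw [hf0]; exact F) 1 rfl hf2]
      exact (v1 0 2 rfl (by simp)).neg
    · rw [F.eval x y ![z₁, z₂, gaPt 0] fun k => ?_]
      · simp [List.ofFn_succ, rootHom_gaPt_zero]
      · fin_cases k <;> simp [hz₁, hz₂, hzero, gaFn_gaPt]
  · have hroot : ∀ k : Fin 2, D.P.root (![c₁, c₂] k) =
        ((![1, 2] k : ℕ) : ℤ) • D.P.root a + ((![1, 1] k : ℕ) : ℤ) • D.P.root b := fun k => by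
      fin_cases k <;> simp [hc₁, hc₂]
    obtain ⟨C, F⟩ := exists_formula (S := S) h ![c₁, c₂] ![1, 2] ![1, 1]
      (injective_of_comb h _ _ hroot (by decide))
      (fun k => ⟨by fin_cases k <;> simp, by fin_cases k <;> simp, hroot k⟩) (fun d p' q' hp' hq' hd => by
        refine range_of_comb hroot hd ?_
        rcases hall_B2 h hA hB d hp' hq' hd with ⟨rfl, rfl⟩ | ⟨rfl, rfl⟩ | ⟨rfl, rfl⟩
        exacts [⟨0, rfl, rfl⟩, ⟨1, rfl, rfl⟩, absurd ⟨d, hd⟩ h22])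
    refine ⟨-C 0, -C 1, ?_, ?_, fun X x y z₁ z₂ hz₁ hz₂ => ?_⟩
    · rw [T.coeff_snd hCm (C := C) (q := 0) (by rw [hf0]; exact F) 0 rfl hf1]
      exact (v1 0 1 rfl (by simp)).neg
    · rw [T.coeff_snd hCm (C := C) (q := 0) (by rw [hf0]; exact F) 1 rfl hf2]
      exact (v1 0 2 rfl (by simp)).neg
    · rw [F.eval x y ![z₁, z₂] fun k => ?_]
      · simp [List.ofFn_succ]
      · fin_cases k <;> simp [hz₁, hz₂]

theorem table_one_three {a b c₁ c₂ c₃ c₄ : D.idx} (h : Indep D.P a b)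
    (hm : D.P.root b - D.P.root a ∉ Set.range D.P.root) (hc₁ : D.P.root c₁ = D.P.root a + D.P.root b)
    (hc₂ : D.P.root c₂ = (2 : ℤ) • D.P.root a + D.P.root b)
    (hc₃ : D.P.root c₃ = (3 : ℤ) • D.P.root a + D.P.root b)
    (hc₄ : D.P.root c₄ = (3 : ℤ) • D.P.root a + (2 : ℤ) • D.P.root b) :
    ∃ C : Fin 4 → Γ(S, ⊤), Formula D a b ![c₁, c₂, c₃, c₄] ![1, 2, 3, 3] ![1, 1, 1, 2] C ∧
      ∀ k, IsSgn ((-1) ^ (![1, 1, 1, 2] k : ℕ) * C k) 1 := by
  obtain ⟨s, t, h1, h2, h3⟩ := h.string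
  have hs : s = 0 := by
    by_contra hne
    exact hm (by convert (h3 (-1)).mpr ⟨by omega, by omega⟩ using 1; module)
  have ht : 3 ≤ t := by
    have e1 := (h3 3).mp ⟨c₃, by rw [hc₃]; module⟩
    omega
  have hA : D.P.pairing b a = -3 := by omega
  have hB : D.P.pairing a b = -1 := by
    have := h.pairing_cases
    simp only [Set.mem_insert_iff, Set.mem_singleton_iff, Prod.mk.injEq, hA] at this
    omega
  obtain ⟨f, hf0, T⟩ := exists_str h 3 hm (by rw [hA]; norm_num)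
  have hf1 : c₁ = f 1 := D.P.root.injective (by rw [T.hf, hf0, hc₁]; simp; module)
  have hf2 : c₂ = f 2 := D.P.root.injective (by rw [T.hf, hf0, hc₂]; simp; module)
  have hf3 : c₃ = f 3 := D.P.root.injective (by rw [T.hf, hf0, hc₃]; simp; module)
  obtain ⟨Cm, hCm, v1, -, -⟩ := T.exists_values K (by rw [hf0]; exact h) (Or.inr rfl)
  have hroot : ∀ k : Fin 4, D.P.root (![c₁, c₂, c₃, c₄] k) =
      ((![1, 2, 3, 3] k : ℕ) : ℤ) • D.P.root a + ((![1, 1, 1, 2] k : ℕ) : ℤ) • D.P.root b := fun k => by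
    fin_cases k <;> simp [hc₁, hc₂, hc₃, hc₄]
  obtain ⟨C, F⟩ := exists_formula (S := S) h ![c₁, c₂, c₃, c₄] ![1, 2, 3, 3] ![1, 1, 1, 2]
    (injective_of_comb h _ _ hroot (by decide))
    (fun k => ⟨by fin_cases k <;> simp, by fin_cases k <;> simp, hroot k⟩) (fun d p' q' hp' hq' hd => by
      refine range_of_comb hroot hd ?_
      rcases hall_G2 h hA hB d hp' hq' hd with ⟨rfl, rfl⟩ | ⟨rfl, rfl⟩ | ⟨rfl, rfl⟩ | ⟨rfl, rfl⟩
      exacts [⟨0, rfl, rfl⟩, ⟨1, rfl, rfl⟩, ⟨2, rfl, rfl⟩, ⟨3, rfl, rfl⟩])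
  let w := negIdx D b
  have hw : D.P.root w = -D.P.root b := Roots36.root_neg (P := D.P) b
  have hwc : Indep D.P c₁ w := indep_of_forall D.P fun r s hrs => by
    rw [hc₁, hw] at hrs
    have := h.coeff_eq (p := r) (q := r - s) (p' := 0) (q' := 0) (by rw [zero_smul, zero_smul, add_zero, ← hrs]; module)
    omega
  have hrefl : D.P.reflectionPerm b a = c₁ := refl_root (k := 1) (by rw [hB]) (by rw [hc₁, one_smul])
  have hA' : D.P.pairing w c₁ = -3 := by
    rw [← hrefl, RootPairing.pairing_reflectionPerm]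
    show D.P.pairing (D.P.reflectionPerm b (D.P.reflectionPerm b b)) a = -3
    rw [RootPairing.reflectionPerm_self, hA]
  have hB' : D.P.pairing c₁ w = -1 := by
    show D.P.pairing c₁ (D.P.reflectionPerm b b) = -1
    rw [RootPairing.pairing_reflectionPerm_self_right, coroot_pairing_comb (p := 1) (q := 1) (a := a) (b := b)
      (by rw [hc₁, one_smul, one_smul]) b, hB, RootPairing.pairing_same]
    norm_num
  have hbc : D.P.root b + D.P.root c₁ ∉ Set.range D.P.root := by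
    rintro ⟨g, hg⟩
    have := hall_G2 h hA hB g (p := 1) (q := 2) le_rfl (by norm_num) (by rw [hg, hc₁]; push_cast; module)
    omega
  obtain ⟨σ, r, hσ, hr, hflip⟩ := flip_identity K hrefl (fun h0 => by
    have := h.coeff_eq (p := 1) (q := 2) (p' := 0) (q' := 0) (by rw [hc₁] at h0; rw [zero_smul, zero_smul, add_zero, ← h0]; module)
    omega) hbc F
  have hroot' : ∀ k : Fin 4, D.P.root (![c₂, c₃, c₄, a] k) =
      ((![1, 2, 1, 1] k : ℕ) : ℤ) • D.P.root w + ((![2, 3, 3, 1] k : ℕ) : ℤ) • D.P.root c₁ := fun k => by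
    fin_cases k <;> simp [hc₁, hc₂, hc₃, hc₄, hw] <;> module
  obtain ⟨C', F'⟩ := exists_formula (S := S) hwc.symm ![c₂, c₃, c₄, a] ![1, 2, 1, 1] ![2, 3, 3, 1]
    (injective_of_comb hwc.symm _ _ hroot' (by decide))
    (fun k => ⟨by fin_cases k <;> simp, by fin_cases k <;> simp, hroot' k⟩) (fun g p' q' hp' hq' hg => by
      refine range_of_comb hroot' hg ?_
      rcases hall_G2 hwc hA' hB' g hq' hp' (by rw [hg, add_comm]) with ⟨rfl, rfl⟩ | ⟨rfl, rfl⟩ | ⟨rfl, rfl⟩ | ⟨rfl, rfl⟩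
      exacts [⟨3, rfl, rfl⟩, ⟨0, rfl, rfl⟩, ⟨2, rfl, rfl⟩, ⟨1, rfl, rfl⟩])
  obtain ⟨g, hg0, T'⟩ := exists_str hwc 3 (by
      rintro ⟨d, hd⟩
      have := hall_G2 h hA hB (D.P.reflectionPerm d d) (p := 1) (q := 2) le_rfl (by norm_num)
        (by rw [Roots36.root_neg, hd, hw, hc₁]; push_cast; module)
      omega) (by rw [hA']; norm_num)
  have hg3 : c₄ = g (Fin.last 3) := D.P.root.injective (by
    rw [T'.hf, hg0, hc₄, hw, hc₁, Fin.val_last]; push_cast; module)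
  obtain ⟨Cm', hCm', hlast, -, -⟩ := T'.exists_matrix K
  have hC' : IsSgn (C' 2) 1 := by
    have e := T'.coeff_fst hCm' (C := C') (q := 0) (by rw [hg0]; exact F') 2 rfl hg3
    rw [← e] at hlast
    exact hlast.of_neg_pow
  have hroot₅ : ∀ k : Fin 5, D.P.root (![c₁, c₂, c₃, c₄, a] k) =
      ((![1, 2, 3, 3, 1] k : ℕ) : ℤ) • D.P.root a + ((![1, 1, 1, 2, 0] k : ℕ) : ℤ) • D.P.root b := fun k => by
    fin_cases k <;> simp [hc₁, hc₂, hc₃, hc₄]
  obtain ⟨l, H⟩ := posSys_of_comb h (injective_of_comb h _ _ hroot₅ (by decide)) _ _ (by decide) hroot₅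
  have h4 : IsSgn ((-1) ^ 2 * C 3) 1 := by
    let O := 𝟙_ (Over S)
    have hF' := F'.2.2 O (σ : Γ(O.left, ⊤)) (r : Γ(O.left, ⊤))
    rw [hF'] at hflip
    have hk := H.prod_inj (X := O) (z := ![cst O ((-1) ^ 1 * C 0), cst O ((-1) ^ 1 * C 1), cst O ((-1) ^ 1 * C 2),
        cst O ((-1) ^ 2 * C 3), 1])
      (z' := ![(r : Γ(O.left, ⊤)), cst O (C' 0) * (σ : Γ(O.left, ⊤)) ^ 1 * (r : Γ(O.left, ⊤)) ^ 2,
        cst O (C' 1) * (σ : Γ(O.left, ⊤)) ^ 2 * (r : Γ(O.left, ⊤)) ^ 3,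
        cst O (C' 2) * (σ : Γ(O.left, ⊤)) ^ 1 * (r : Γ(O.left, ⊤)) ^ 3,
        cst O (C' 3) * (σ : Γ(O.left, ⊤)) ^ 1 * (r : Γ(O.left, ⊤)) ^ 1]) (by
        rw [prod_five, prod_five]
        rw [prod_four, prod_four] at hflip
        simp only [Matrix.cons_val] at hflip ⊢
        rw [hflip]
        simp only [O, _root_.mul_assoc]) 3
    simp only [Matrix.cons_val] at hk
    simp only [O, cst_one] at hk
    rw [hk]
    obtain ⟨e, he, he'⟩ := hC'
    refine ⟨e * σ * r, by rcases he with h | h <;> rcases hσ with h' | h' <;> rcases hr with h'' | h'' <;> simp [h, h', h''], ?_⟩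
    rw [he']
    rcases hr with rfl | rfl <;> push_cast <;> ring
  have F0 : Formula D a (f 0) ![c₁, c₂, c₃, c₄] ![1, 2, 3, 3] ![1, 1, 1, 2] C := by rw [hf0]; exact F
  refine ⟨C, F, fun k => ?_⟩
  fin_cases k
  · exact (T.coeff_snd hCm F0 0 rfl hf1 ▸ v1 0 1 rfl (by simp)).neg_pow _
  · exact (T.coeff_snd hCm F0 1 rfl hf2 ▸ v1 0 2 rfl (by simp)).neg_pow _
  · exact (T.coeff_snd hCm F0 2 rfl hf3 ▸ v1 0 3 rfl (by simp)).neg_pow _
  · exact h4

theorem table_two_two {a b c₁ c₂ c₃ : D.idx} (h : Indep D.P a b)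
    (hlen : |D.P.pairing a b| ≤ |D.P.pairing b a|)
    (hm1 : D.P.root b - D.P.root a ∈ Set.range D.P.root)
    (hm2 : D.P.root b - (2 : ℤ) • D.P.root a ∉ Set.range D.P.root)
    (hc₁ : D.P.root c₁ = D.P.root a + D.P.root b)
    (hc₂ : D.P.root c₂ = (2 : ℤ) • D.P.root a + D.P.root b)
    (hq : D.P.root b + (3 : ℤ) • D.P.root a ∉ Set.range D.P.root)
    (hc₃ : D.P.root c₃ = D.P.root a + (2 : ℤ) • D.P.root b) :
    ∃ C : Fin 3 → Γ(S, ⊤), Formula D a b ![c₁, c₂, c₃] ![1, 2, 1] ![1, 1, 2] C ∧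
      IsSgn ((-1) ^ 1 * C 0) 2 ∧ IsSgn ((-1) ^ 1 * C 1) 3 ∧ IsSgn ((-1) ^ 2 * C 2) 3 := by
  obtain ⟨s, t, h1, h2, h3⟩ := h.string
  obtain ⟨s', t', h1', h2', h3'⟩ := h.symm.string
  have hs : s = 1 := by
    have e1 := (h3 (-1)).mp (by convert hm1 using 1; module)
    by_contra hne
    exact hm2 (by convert (h3 (-2)).mpr ⟨by omega, by omega⟩ using 1; module)
  have ht : t = 2 := by
    have e1 := (h3 2).mp ⟨c₂, by rw [hc₂]; module⟩
    by_contra hne
    exact hq ((h3 3).mpr ⟨by omega, by omega⟩)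
  have hA : D.P.pairing b a = -1 := by omega
  have hB : D.P.pairing a b = -1 := by
    have := h.pairing_cases
    simp only [Set.mem_insert_iff, Set.mem_singleton_iff, Prod.mk.injEq, hA] at this
    rw [hA] at hlen
    rcases this with h' | h' | h' | h' | h' | h' | h' | h' | h' | h' | h' <;>
      first | omega | (rw [h'.1] at hlen; norm_num at hlen)
  obtain ⟨g, hg⟩ := hm1
  obtain ⟨g', hg'⟩ : ∃ g', D.P.root g' = D.P.root a - D.P.root b :=
    ⟨D.P.reflectionPerm g g, by rw [Roots36.root_neg, hg]; module⟩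
  have hig : Indep D.P a g := comb_indep h (p := -1) (q := 1) (by rw [hg]; module) one_ne_zero
  have hig' : Indep D.P b g' := comb_indep h.symm (p := -1) (q := 1) (by rw [hg']; module) one_ne_zero
  have hs' : s' = 1 := by
    have e1 := (h3' (-1)).mp ⟨g', by rw [hg']; module⟩
    have e2 := (h3' 2).mp ⟨c₃, by rw [hc₃]⟩
    omega
  obtain ⟨f, hf0, T⟩ := exists_str hig 3 (by
      rintro ⟨d, hd⟩
      exact hm2 ⟨d, by rw [hd, hg]; module⟩) (by
      rw [coroot_pairing_comb (p := -1) (q := 1) (a := a) (b := b) (by rw [hg]; module) a,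
        RootPairing.pairing_same, hA]
      norm_num)
  obtain ⟨f', hf0', T'⟩ := exists_str hig' 3 (by
      rintro ⟨d, hd⟩
      have := (h3' (-2)).mp ⟨d, by rw [hd, hg']; module⟩
      omega) (by
      rw [coroot_pairing_comb (p := -1) (q := 1) (a := b) (b := a) (by rw [hg']; module) b,
        RootPairing.pairing_same, hB]
      norm_num)
  have hfb : f 1 = b := D.P.root.injective (by rw [T.hf, hf0, hg]; simp)
  have hf2 : c₁ = f 2 := D.P.root.injective (by rw [T.hf, hf0, hg, hc₁]; simp; module)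
  have hf3 : c₂ = f 3 := D.P.root.injective (by rw [T.hf, hf0, hg, hc₂]; simp; module)
  have hfa' : f' 1 = a := D.P.root.injective (by rw [T'.hf, hf0', hg']; simp)
  have hf3' : c₃ = f' 3 := D.P.root.injective (by rw [T'.hf, hf0', hg', hc₃]; simp; module)
  obtain ⟨Cm, hCm, -, v2, v3⟩ := T.exists_values K (by rw [hf0]; exact hig) (Or.inr rfl)
  obtain ⟨Cm', hCm', -, -, v3'⟩ := T'.exists_values K (by rw [hf0']; exact hig') (Or.inr rfl)
  have hroot : ∀ k : Fin 3, D.P.root (![c₁, c₂, c₃] k) =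
      ((![1, 2, 1] k : ℕ) : ℤ) • D.P.root a + ((![1, 1, 2] k : ℕ) : ℤ) • D.P.root b := fun k => by
    fin_cases k <;> simp [hc₁, hc₂, hc₃]
  obtain ⟨C, F⟩ := exists_formula (S := S) h ![c₁, c₂, c₃] ![1, 2, 1] ![1, 1, 2]
    (injective_of_comb h _ _ hroot (by decide))
    (fun k => ⟨by fin_cases k <;> simp, by fin_cases k <;> simp, hroot k⟩) (fun d p' q' hp' hq' hd => by
      refine range_of_comb hroot hd ?_
      rcases hall_G2_short h hA hB ⟨c₂, by rw [hc₂]; module⟩ d hp' hq' hd with ⟨rfl, rfl⟩ | ⟨rfl, rfl⟩ | ⟨rfl, rfl⟩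
      exacts [⟨0, rfl, rfl⟩, ⟨1, rfl, rfl⟩, ⟨2, rfl, rfl⟩])
  have F1 : Formula D a (f 1) ![c₁, c₂, c₃] ![1, 2, 1] ![1, 1, 2] C := by rw [hfb]; exact F
  have F2 : Formula D (f' 1) b ![c₁, c₂, c₃] ![1, 2, 1] ![1, 1, 2] C := by rw [hfa']; exact F
  refine ⟨C, F, ?_, ?_, ?_⟩
  · exact (T.coeff_snd hCm F1 0 rfl hf2 ▸ v2 1 2 rfl rfl).neg_pow _
  · exact (T.coeff_snd hCm F1 1 rfl hf3 ▸ v3 1 3 (Or.inl rfl) rfl).neg_pow _
  · exact (T'.coeff_fst hCm' F2 2 rfl hf3') ▸ v3' 1 3 (Or.inl rfl) rfl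

end Groth.Agent.RedPts82
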