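import Groth.Agent.RedPts82.PinnedSign

/-!
A Chevalley system extending a pinning with dual simple root homomorphisms.
-/

universe u

open CategoryTheory MonoidalCategory CartesianMonoidalCategory MonObj GrpObj AlgebraicGeometry
open CategoryTheory.Limits

namespace Groth.Agent.RedPts82

variable {S : Scheme.{u}}

/-- Scaling of the additive group. -/
noncomputable def scaleGa (k : Γ(S, ⊤)) : Red.Ga S ⟶ Red.Ga S :=
  gaPt (cst (Red.Ga S) k * Red.gaFn (𝟙 (Red.Ga S)))

theorem comp_cst {X X' : Over S} (h : X' ⟶ X) (k : Γ(S, ⊤)) : h.left.appTop (cst X k) = cst X' k := by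
  rw [show h.left.appTop (cst X k) = (h.left ≫ X.hom).appTop k by rw [Scheme.Hom.comp_appTop]; rfl, Over.w h]

theorem comp_scaleGa {X : Over S} (x : X ⟶ Red.Ga S) (k : Γ(S, ⊤)) :
    x ≫ scaleGa k = gaPt (cst X k * Red.gaFn x) := by
  rw [scaleGa, comp_gaPt, map_mul, comp_cst, ← gaFn_comp, Category.comp_id]

variable {G : Over S} [GrpObj G] (D : Red.SplitRed G)

/-- The root homomorphism of `c` rescaled by a unit. -/
noncomputable def scaled (c : D.idx) (k : Γ(S, ⊤)ˣ) : Red.Ga S ⟶ G := scaleGa (k : Γ(S, ⊤)) ≫ D.u c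

theorem comp_scaled (c : D.idx) (k : Γ(S, ⊤)ˣ) {X : Over S} (x : X ⟶ Red.Ga S) :
    x ≫ scaled D c k = gaPt (cst X k * Red.gaFn x) ≫ D.u c := by
  rw [scaled, ← Category.assoc, comp_scaleGa]

theorem scaled_isMonHom (c : D.idx) (k : Γ(S, ⊤)ˣ) : IsMonHom (scaled D c k) :=
  isMonHom_of_points _ fun X x y => by
    rw [comp_scaled, comp_scaled, comp_scaled, gaFn_mul, mul_add, rootHom_gaPt_add]

theorem scaled_isRootHom (c : D.idx) (k : Γ(S, ⊤)ˣ) :
    Red.IsRootHom D.i (D.split.hom.hom.hom ≫ Red.chi S (D.P.root c)) (scaled D c k) := by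
  refine ⟨scaled_isMonHom D c k, ?_, fun X t x => ?_⟩
  · have : IsIso (scaleGa (k : Γ(S, ⊤))) := by
      refine ⟨scaleGa ((k⁻¹ : Γ(S, ⊤)ˣ) : Γ(S, ⊤)), ?_, ?_⟩ <;>
        rw [comp_scaleGa, scaleGa, gaFn_gaPt, ← _root_.mul_assoc, ← map_mul]
      · rw [Units.inv_mul, map_one, _root_.one_mul, gaPt_gaFn]
      · rw [Units.mul_inv, map_one, _root_.one_mul, gaPt_gaFn]
    have := (D.rootHom c).2.1
    have : IsIso (scaleGa (k : Γ(S, ⊤))).left := inferInstanceAs (IsIso ((Over.forget S).map _))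
    rw [scaled, Over.comp_left]
    infer_instance
  · obtain ⟨y, h1, h2⟩ := (D.rootHom c).2.2 X t (gaPt (cst X k * Red.gaFn x))
    refine ⟨gaPt (Red.gmFn (t ≫ D.split.hom.hom.hom ≫ Red.chi S (D.P.root c)) * Red.gaFn x), ?_, gaFn_gaPt _⟩
    rw [comp_scaled, gaFn_gaPt, comp_scaled]
    rw [gaFn_gaPt] at h2
    rw [← h1, ← gaPt_gaFn y, h2]
    congr 2
    ring

variable {D} (B : D.P.Base) (hd : ∀ a ∈ B.support, IsDual D a (D.u (negIdx D a)))

theorem exists_word_to (c : D.idx) :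
    ∃ (l : List D.idx) (a : D.idx), (∀ e ∈ l, e ∈ B.support) ∧ a ∈ B.support ∧
      Roots36.wprod D.P l • a = c ∧ (c ∈ B.support → l = []) := by
  have := isReduced_of_base B
  suffices h : ∀ c, ∃ (l : List D.idx) (a : D.idx), (∀ e ∈ l, e ∈ B.support) ∧ a ∈ B.support ∧
      Roots36.wprod D.P l • a = c by
    by_cases hc : c ∈ B.support
    · exact ⟨[], c, by simp, hc, by rw [Roots36.wprod_nil, one_smul], fun _ => rfl⟩
    · obtain ⟨l, a, h1, h2, h3⟩ := h c
      exact ⟨l, a, h1, h2, h3, fun h' => absurd h' hc⟩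
  intro c
  refine (B.induction_reflect c (p := fun c =>
    (∃ (l : List D.idx) (a : D.idx), (∀ e ∈ l, e ∈ B.support) ∧ a ∈ B.support ∧
      Roots36.wprod D.P l • a = c) ∧ ∃ (l : List D.idx) (a : D.idx), (∀ e ∈ l, e ∈ B.support) ∧
      a ∈ B.support ∧ Roots36.wprod D.P l • a = negIdx D c) (fun i hi => ?_) (fun i hi => ?_)
    (fun i j hi hj => ?_)).1
  · refine ⟨hi.2, ?_⟩
    rw [show negIdx D (negIdx D i) = i from D.P.root.injective (by
      rw [Roots36.root_neg, Roots36.root_neg, neg_neg])]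
    exact hi.1
  · refine ⟨⟨[], i, by simp, hi, by rw [Roots36.wprod_nil, one_smul]⟩, [i], i, by simpa using hi, hi, ?_⟩
    rw [Roots36.wprod_cons, Roots36.wprod_nil, _root_.mul_one, Roots36.reflection_smul_index]
  · constructor
    · obtain ⟨l, a, h1, h2, h3⟩ := hi.1
      exact ⟨j :: l, a, by simpa [hj] using h1, h2, by
        rw [Roots36.wprod_cons, mul_smul, h3, Roots36.reflection_smul_index]⟩
    · obtain ⟨l, a, h1, h2, h3⟩ := hi.2
      exact ⟨j :: l, a, by simpa [hj] using h1, h2, by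
        rw [Roots36.wprod_cons, mul_smul, h3, Roots36.reflection_smul_index, negIdx_reflectionPerm]⟩

theorem Moves.inv {p : 𝟙_ (Over S) ⟶ G} {c c' : D.idx} {k : Γ(S, ⊤)ˣ} (h : Moves D p c c' k) :
    Moves D p⁻¹ c' c ((k⁻¹ : Γ(S, ⊤)ˣ) : Γ(S, ⊤)) := by
  intro X r
  have e := h X (cst X ((k⁻¹ : Γ(S, ⊤)ˣ) : Γ(S, ⊤)) * r)
  rw [← _root_.mul_assoc, ← map_mul, Units.mul_inv, map_one, _root_.one_mul] at e
  rw [GrpObj.comp_inv, ← e]
  group

theorem Describes.inv {g : D.P.Aut × Equiv.Perm (D.idx × Sgn S)} {p : 𝟙_ (Over S) ⟶ G}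
    (h : Describes D g p) : Describes D g⁻¹ p⁻¹ := by
  intro c u
  obtain ⟨k, h1, -⟩ := h (g.1⁻¹ • c) u
  obtain ⟨k', h1', h2'⟩ := h (g.1⁻¹ • c) (sgnMk k⁻¹ * u)
  rw [smul_inv_smul] at h1 h1' h2'
  have hkk : k' = k := Units.ext (h1'.unique h1)
  subst hkk
  refine ⟨k'⁻¹, by rw [Prod.fst_inv]; exact h1.inv, ?_⟩
  rw [Prod.snd_inv, Equiv.Perm.inv_def, Equiv.symm_apply_eq, Prod.fst_inv, h2', ← _root_.mul_assoc,
    ← sgnMk_mul, mul_inv_cancel, show sgnMk (1 : Γ(S, ⊤)ˣ) = 1 from rfl, sgn_one_mul]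

include hd

/-- The class by which the words carrying simple roots to `c` act. -/
theorem word_class {l l' : List D.idx} (hl : ∀ e ∈ l, e ∈ B.support) (hl' : ∀ e ∈ l', e ∈ B.support)
    {a a' : D.idx} (ha : a ∈ B.support) (ha' : a' ∈ B.support)
    (h : Roots36.wprod D.P l • a = Roots36.wprod D.P l' • a') :
    (l.map (sgnLift B hd)).prod.2 (a, 1) = (l'.map (sgnLift B hd)).prod.2 (a', 1) := by
  have hΔ := Roots36.base_isSimpleSys B
  have hrev : (l'.reverse.map (sgnLift B hd)).prod * (l'.map (sgnLift B hd)).prod = 1 := by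
    clear hl' h
    induction l' with
    | nil => simp
    | cons x t ih =>
      rw [List.reverse_cons, List.map_append, List.prod_append, List.map_cons, List.prod_cons,
        List.map_cons, List.map_nil, List.prod_cons, List.prod_nil, _root_.mul_one, _root_.mul_assoc,
        ← _root_.mul_assoc (sgnLift B hd x), sgnLift_sq, _root_.one_mul, ih]
  have hlist : ∀ e ∈ l'.reverse ++ l, e ∈ B.support := fun e he => by
    rcases List.mem_append.mp he with he | he
    · exact hl' e (List.mem_reverse.mp he)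
    · exact hl e he
  obtain ⟨r, hr, hp, hw, -⟩ := Roots36.exists_reduced_prod_eq hΔ (sgnLift B hd) (MonoidHom.fst _ _)
    (fun _ _ => rfl) (fun i _ => sgnLift_sq B hd i) (fun i hi k hk => sgnLift_pow_orderOf B hd hi hk) hlist
  have e := word_simple B hd r.length r rfl hr a a' ha ha' (by
    rw [hw, Roots36.wprod_append, mul_smul, h, Roots36.wprod_reverse, inv_smul_smul])
  rw [hp, List.map_append, List.prod_append] at e
  have hrev' : (l'.map (sgnLift B hd)).prod * (l'.reverse.map (sgnLift B hd)).prod = 1 := by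
    rw [← inv_eq_of_mul_eq_one_left hrev]; exact mul_inv_cancel _
  rw [← e, ← Equiv.Perm.mul_apply, ← Prod.snd_mul, ← _root_.mul_assoc, hrev', _root_.one_mul]

theorem moves_hpt {j : D.idx} (hj : j ∈ B.support) (c : D.idx) {X : Over S} (z : Γ(X.left, ⊤)ˣ) :
    wpt D j X * hpt D c z * (wpt D j X)⁻¹ = hpt D (D.P.reflectionPerm j c) z := by
  rw [hpt_eq_tpt, hpt_eq_tpt, wpt_conj_tpt (hd j hj)]
  congr 1
  refine dsFn_injective fun m => ?_
  rw [dsFn_DSmap, dsFn_DSmap, dsFn_DSmap]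
  congr 1
  show D.P.coroot c (D.P.reflection j m) = D.P.coroot (D.P.reflectionPerm j c) m
  rw [RootPairing.coroot_reflectionPerm, RootPairing.coreflection_apply, RootPairing.reflection_apply]
  have e1 := congrArg (fun f => f m (D.P.coroot j)) D.pairing_eq
  have e2 := congrArg (fun f => f (D.P.root j) (D.P.coroot c)) D.pairing_eq
  simp only [Module.Dual.eval_apply] at e1 e2
  rw [map_sub, map_smul, LinearMap.sub_apply, LinearMap.smul_apply, ← e1, ← e2]
  simp [RootPairing.coroot', RootPairing.root', mul_comm]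

theorem word_hpt {l : List D.idx} (hl : ∀ e ∈ l, e ∈ B.support) (a : D.idx) {X : Over S}
    (z : Γ(X.left, ⊤)ˣ) :
    (toUnit X ≫ (l.map fun c => wpt D c (𝟙_ (Over S))).prod) * hpt D a z *
        (toUnit X ≫ (l.map fun c => wpt D c (𝟙_ (Over S))).prod)⁻¹ =
      hpt D (Roots36.wprod D.P l • a) z := by
  induction l with
  | nil => simp [MonObj.comp_one]
  | cons x t ih =>
    rw [List.map_cons, List.prod_cons, MonObj.comp_mul, comp_wpt, Roots36.wprod_cons, mul_smul,
      Roots36.reflection_smul_index, ← moves_hpt B hd (hl x (by simp)), ← ih fun e he => hl e (by simp [he])]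
    group

/-- A Chevalley system extending the pinning. -/
theorem exists_chevSystem :
    ∃ v : D.idx → (Red.Ga S ⟶ G),
      (∀ c, Red.IsRootHom D.i (D.split.hom.hom.hom ≫ Red.chi S (D.P.root c)) (v c)) ∧
      (∀ a ∈ B.support, v a = D.u a) ∧
      ∀ c, ∃ vd : Red.Ga S ⟶ G, IsMonHom vd ∧
        (∀ (X : Over S) (x y : X ⟶ Red.Ga S), IsUnit (1 + Red.gaFn x * Red.gaFn y) →
          ∃ (x' y' : X ⟶ Red.Ga S) (z : X ⟶ Red.Gm S), Red.gmFn z = 1 + Red.gaFn x * Red.gaFn y ∧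
            Red.gaFn x' * Red.gmFn z = Red.gaFn x ∧ Red.gaFn y' * Red.gmFn z = Red.gaFn y ∧
            (x ≫ v c) * (y ≫ vd) = (y' ≫ vd) *
              (z ≫ (Red.DSmap S (D.P.coroot c).toAddMonoidHom ≫ D.split.inv.hom.hom) ≫ D.i) * (x' ≫ v c)) ∧
        ∀ b, ∃ ε : ℤ, (ε = 1 ∨ ε = -1) ∧ ∀ (X : Over S) (x : Γ(X.left, ⊤)),
          ((gaPt 1 ≫ v c) * (gaPt 1 ≫ vd)⁻¹ * (gaPt 1 ≫ v c)) * (gaPt x ≫ v b) *
              ((gaPt 1 ≫ v c) * (gaPt 1 ≫ vd)⁻¹ * (gaPt 1 ≫ v c))⁻¹ =
            gaPt ((ε : Γ(X.left, ⊤)) * x) ≫ v (D.P.reflectionPerm c b) := by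
  have := isReduced_of_base B
  choose l a hl ha hla hnil using exists_word_to B
  let p : D.idx → (𝟙_ (Over S) ⟶ G) := fun c => ((l c).map fun e => wpt D e (𝟙_ (Over S))).prod
  have hk : ∀ c, ∃ k : Γ(S, ⊤)ˣ, Moves D (p c) (a c) c k ∧
      ((l c).map (sgnLift B hd)).prod.2 (a c, 1) = (c, sgnMk k) := fun c => by
    obtain ⟨k, h1, h2⟩ := describes_word B hd (hl c) (a c) 1
    rw [sgnLift_fst_prod B hd (hl c), hla] at h1 h2
    rw [sgn_mul_one] at h2
    exact ⟨k, h1, h2⟩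
  choose k hk1 hk2 using hk
  have hm : ∀ c, ∃ m : Γ(S, ⊤)ˣ, Moves D (p c) (negIdx D (a c)) (negIdx D c) m := fun c => by
    obtain ⟨m, h1, -⟩ := describes_word B hd (hl c) (negIdx D (a c)) 1
    rw [sgnLift_fst_prod B hd (hl c), show Roots36.wprod D.P (l c) • negIdx D (a c) = negIdx D c by
      conv_rhs => rw [← hla c]
      exact Roots36.smul_neg_index (P := D.P) (Roots36.wprod D.P (l c)) (a c)] at h1
    exact ⟨m, h1⟩
  choose m hm1 using hm
  have hv : ∀ (c : D.idx) {X : Over S} (r : Γ(X.left, ⊤)), gaPt r ≫ scaled D c (k c) =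
      (toUnit X ≫ p c) * (gaPt r ≫ D.u (a c)) * (toUnit X ≫ p c)⁻¹ := fun c {X} r => by
    rw [comp_scaled, gaFn_gaPt, hk1 c X r]
  have hvd : ∀ (c : D.idx) {X : Over S} (r : Γ(X.left, ⊤)), gaPt r ≫ scaled D (negIdx D c) (m c) =
      (toUnit X ≫ p c) * (gaPt r ≫ D.u (negIdx D (a c))) * (toUnit X ≫ p c)⁻¹ := fun c {X} r => by
    rw [comp_scaled, gaFn_gaPt, hm1 c X r]
  refine ⟨fun c => scaled D c (k c), fun c => scaled_isRootHom D c (k c), fun c hc => ?_, fun c =>
    ⟨scaled D (negIdx D c) (m c), scaled_isMonHom D _ _, fun X x y hxy => ?_, fun b => ?_⟩⟩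
  · refine hom_ext_affine fun Y hY x => ?_
    rw [← gaPt_gaFn x, hv]
    have e := hla c
    rw [hnil c hc, Roots36.wprod_nil, one_smul] at e
    simp [p, hnil c hc, MonObj.comp_one, e]
  · obtain ⟨x', y', z, h1, h2, h3, h4⟩ := (hd _ (ha c)).2 X x y hxy
    refine ⟨x', y', z, h1, h2, h3, ?_⟩
    have hz : z = gmPt (gmU z) := gmFn_injective (by rw [gmFn_gmPt, val_gmU])
    rw [← gaPt_gaFn x, ← gaPt_gaFn y, ← gaPt_gaFn x', ← gaPt_gaFn y', hv, hvd, hv, hvd, gaPt_gaFn,
      gaPt_gaFn, gaPt_gaFn, gaPt_gaFn, hz,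
      show gmPt (gmU z) ≫ (Red.DSmap S (D.P.coroot c).toAddMonoidHom ≫ D.split.inv.hom.hom) ≫ D.i =
        hpt D c (gmU z) from rfl]
    rw [hz, show gmPt (gmU z) ≫ (Red.DSmap S (D.P.coroot (a c)).toAddMonoidHom ≫ D.split.inv.hom.hom) ≫ D.i =
        hpt D (a c) (gmU z) from rfl] at h4
    have hh := word_hpt B hd (hl c) (a c) (gmU z)
    rw [hla, show ((l c).map fun e => wpt D e (𝟙_ (Over S))).prod = p c from rfl] at hh
    rw [← hh]
    generalize x ≫ D.u (a c) = A at h4 ⊢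
    generalize y ≫ D.u (negIdx D (a c)) = A₁ at h4 ⊢
    generalize x' ≫ D.u (a c) = A₂ at h4 ⊢
    generalize y' ≫ D.u (negIdx D (a c)) = A₃ at h4 ⊢
    calc _ = (toUnit X ≫ p c) * (A * A₁) * (toUnit X ≫ p c)⁻¹ := by group
      _ = _ := by rw [h4]; group
  · -- the word of `n_c v_b n_c⁻¹`
    have hsupp : ∀ e ∈ l c ++ [a c] ++ (l c).reverse ++ l b, e ∈ B.support := fun e he => by
      simp only [List.mem_append, List.mem_singleton, List.mem_reverse] at he
      rcases he with ((he | rfl) | he) | he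
      exacts [hl c e he, ha c, hl c e he, hl b e he]
    have hw : Roots36.wprod D.P (l c ++ [a c] ++ (l c).reverse ++ l b) • a b = D.P.reflectionPerm c b := by
      rw [Roots36.wprod_append, mul_smul, hla, Roots36.wprod_append, Roots36.wprod_append,
        Roots36.wprod_reverse, Roots36.wprod_cons, Roots36.wprod_nil, _root_.mul_one,
        Roots36.conj_reflection, hla, Roots36.reflection_smul_index]
    have hcls := word_class B hd hsupp (hl (D.P.reflectionPerm c b)) (ha b) (ha _)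
      (hw.trans (hla _).symm)
    rw [hk2, List.map_append, List.prod_append, Prod.snd_mul, Equiv.Perm.mul_apply, hk2] at hcls
    have hinv : ((l c).reverse.map (sgnLift B hd)).prod = ((l c).map (sgnLift B hd)).prod⁻¹ := by
      generalize l c = t
      induction t with
      | nil => simp
      | cons x t ih =>
        rw [List.reverse_cons, List.map_append, List.prod_append, ih, List.map_cons, List.map_nil,
          List.prod_cons, List.prod_nil, _root_.mul_one, List.map_cons, List.prod_cons, _root_.mul_inv_rev,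
          inv_eq_of_mul_eq_one_right (sgnLift_sq B hd x)]
    simp only [List.map_append, List.prod_append, List.map_cons, List.map_nil, List.prod_cons,
      List.prod_nil, _root_.mul_one, hinv] at hcls
    obtain ⟨j, hj1, hj2⟩ := (((describes_word B hd (hl c)).mul (describes_sgnLift B hd (ha c))).mul
      (describes_word B hd (hl c)).inv) b (sgnMk (k b))
    rw [hj2] at hcls
    have hj : sgnMk (j * k b) = sgnMk (k (D.P.reflectionPerm c b)) := by
      rw [sgnMk_mul]; exact congrArg Prod.snd hcls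
    have hfst := congrArg Prod.fst hcls
    simp only at hfst
    rw [hfst] at hj1
    obtain ⟨z, hz⟩ := Subgroup.mem_zpowers_iff.mp (QuotientGroup.eq.mp hj.symm)
    have hε : ∃ ε : ℤ, (ε = 1 ∨ ε = -1) ∧
        ((j * k b : Γ(S, ⊤)ˣ) : Γ(S, ⊤)) = (k (D.P.reflectionPerm c b) : Γ(S, ⊤)) * (ε : Γ(S, ⊤)) := by
      rcases Int.even_or_odd z with hh | hh
      · rw [hh.neg_one_zpow, eq_inv_mul_iff_mul_eq, _root_.mul_one] at hz
        exact ⟨1, Or.inl rfl, by rw [← hz, Int.cast_one, _root_.mul_one]⟩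
      · rw [hh.neg_one_zpow, eq_inv_mul_iff_mul_eq] at hz
        exact ⟨-1, Or.inr rfl, by
          rw [← hz, Units.val_mul, Units.val_neg, Units.val_one, Int.cast_neg, Int.cast_one]⟩
    obtain ⟨ε, hε, hεv⟩ := hε
    refine ⟨ε, hε, fun X x => ?_⟩
    have hn : (gaPt (1 : Γ(X.left, ⊤)) ≫ scaled D c (k c)) * (gaPt 1 ≫ scaled D (negIdx D c) (m c))⁻¹ *
        (gaPt 1 ≫ scaled D c (k c)) = toUnit X ≫ (p c * wpt D (a c) (𝟙_ (Over S)) * (p c)⁻¹) := by
      rw [hv, hvd, MonObj.comp_mul, MonObj.comp_mul, GrpObj.comp_inv, comp_wpt]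
      show _ = (toUnit X ≫ p c) * ((gaPt 1 ≫ D.u (a c)) * (gaPt 1 ≫ D.u (negIdx D (a c)))⁻¹ *
        (gaPt 1 ≫ D.u (a c))) * (toUnit X ≫ p c)⁻¹
      group
    rw [hn, comp_scaled, gaFn_gaPt, hj1, comp_scaled, gaFn_gaPt]
    congr 2
    have e := congrArg (cst X) hεv
    simp only [cst, map_mul, Units.val_mul, map_intCast] at e ⊢
    linear_combination x * e

end Groth.Agent.RedPts82
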