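import Groth.Agent.RedPts82.HopfCoord
import Groth.Agent.FlatMor68.StageIso
import Mathlib.RingTheory.Jacobson.Ring
import Mathlib.FieldTheory.IsAlgClosed.Basic

/-! Isomorphisms of groups of finite type descend along extensions of algebraically closed fields. -/

set_option autoImplicit false
set_option linter.unusedSectionVars false

universe u

open scoped TensorProduct
open WithConv TensorProduct
open CategoryTheory MonoidalCategory CartesianMonoidalCategory MonObj GrpObj AlgebraicGeometry

noncomputable section

namespace Groth.Agent.RedPts82.Hopf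

open Groth.Agent.FlatMor68.StageIso (push extend push_push extend_push exists_hom_stage apply_push)

variable {K : Type u} [Field K] {P Q : Type u} [CommRing P] [HopfAlgebra K P] [CommRing Q] [HopfAlgebra K Q]

section Stage

variable {D : Type u} [CommRing D] [Algebra K D]

variable (D Q) in
/-- Collect the scalars of a tensor square. -/
def collect : (D ⊗[K] Q) ⊗[K] (D ⊗[K] Q) →ₐ[K] D ⊗[K] (Q ⊗[K] Q) :=
  Algebra.TensorProduct.lift
    (Algebra.TensorProduct.map (AlgHom.id K D) Algebra.TensorProduct.includeLeft)
    (Algebra.TensorProduct.map (AlgHom.id K D) Algebra.TensorProduct.includeRight)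
    (fun _ _ => Commute.all _ _)

theorem collect_push {D' : Type u} [CommRing D'] [Algebra K D'] (j : D →ₐ[K] D')
    (z : (D ⊗[K] Q) ⊗[K] (D ⊗[K] Q)) :
    push j (collect Q D z) = collect Q D' (Algebra.TensorProduct.map (push j) (push j) z) := by
  refine AlgHom.congr_fun (φ₁ := (push j).comp (collect Q D))
    (φ₂ := (collect Q D').comp (Algebra.TensorProduct.map (push j) (push j))) ?_ z
  ext <;> simp [collect]

/-- A family of homomorphisms parametrised by `D` is compatible with comultiplication. -/
def Compat (f : P →ₐ[K] D ⊗[K] Q) : Prop :=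
  ∀ a : P, Algebra.TensorProduct.map (AlgHom.id K D) (Bialgebra.comulAlgHom K Q) (f a) =
    collect Q D (Algebra.TensorProduct.map f f (Bialgebra.comulAlgHom K P a))

theorem compat_sides {D' : Type u} [CommRing D'] [Algebra K D'] (j : D →ₐ[K] D')
    (f : P →ₐ[K] D ⊗[K] Q) (a : P) :
    push j (Algebra.TensorProduct.map (AlgHom.id K D) (Bialgebra.comulAlgHom K Q) (f a)) =
        Algebra.TensorProduct.map (AlgHom.id K D') (Bialgebra.comulAlgHom K Q) ((push j).comp f a) ∧
      push j (collect Q D (Algebra.TensorProduct.map f f (Bialgebra.comulAlgHom K P a))) =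
        collect Q D' (Algebra.TensorProduct.map ((push j).comp f) ((push j).comp f)
          (Bialgebra.comulAlgHom K P a)) := by
  constructor
  · rw [AlgHom.comp_apply]
    generalize f a = z
    induction z using TensorProduct.induction_on with
    | zero => simp
    | tmul x y => simp
    | add x y hx hy => simp only [map_add, hx, hy]
  · rw [collect_push, Algebra.TensorProduct.map_comp, AlgHom.comp_apply]

theorem Compat.push {D' : Type u} [CommRing D'] [Algebra K D'] (j : D →ₐ[K] D')
    {f : P →ₐ[K] D ⊗[K] Q} (h : Compat f) : Compat ((FlatMor68.StageIso.push j).comp f) := fun a => by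
  rw [← (compat_sides j f a).1, ← (compat_sides j f a).2, h a]

theorem Compat.of_injective {D' : Type u} [CommRing D'] [Algebra K D'] (j : D →ₐ[K] D')
    (hj : Function.Injective j) {f : P →ₐ[K] D ⊗[K] Q}
    (h : Compat ((FlatMor68.StageIso.push j).comp f)) : Compat f := fun a => by
  apply Module.Flat.rTensor_preserves_injective_linearMap (M := Q ⊗[K] Q) j.toLinearMap hj
  rw [← FlatMor68.StageIso.push_eq_rTensor, ← FlatMor68.StageIso.push_eq_rTensor, (compat_sides j f a).1,
    (compat_sides j f a).2, h a]

end Stage

variable (L : Type u) [Field L] [Algebra K L]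

theorem compat_of_bialgEquiv (θ : (L ⊗[K] P) ≃ₐc[L] (L ⊗[K] Q)) :
    Compat ((((θ : (L ⊗[K] P) →ₐc[L] (L ⊗[K] Q)) : (L ⊗[K] P) →ₐ[L] (L ⊗[K] Q)).restrictScalars K).comp
      Algebra.TensorProduct.includeRight) := fun a => by
  let κ : (L ⊗[K] Q) ⊗[L] (L ⊗[K] Q) →ₐ[L] L ⊗[K] (Q ⊗[K] Q) :=
    Algebra.TensorProduct.lift
      (Algebra.TensorProduct.map (AlgHom.id L L) Algebra.TensorProduct.includeLeft)
      (Algebra.TensorProduct.map (AlgHom.id L L) Algebra.TensorProduct.includeRight)
      (fun _ _ => Commute.all _ _)
  have hκ : ∀ z : L ⊗[K] Q, κ (CoalgebraStruct.comul (R := L) z) =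
      Algebra.TensorProduct.map (AlgHom.id K L) (Bialgebra.comulAlgHom K Q) z := fun z => by
    induction z using TensorProduct.induction_on with
    | zero => simp
    | add x y hx hy => simp only [map_add, hx, hy]
    | tmul l q =>
      rw [TensorProduct.comul_tmul, CommSemiring.comul_apply, Algebra.TensorProduct.map_tmul]
      simp only [AlgHom.id_apply, Bialgebra.comulAlgHom_apply]
      generalize CoalgebraStruct.comul (R := K) q = w
      induction w using TensorProduct.induction_on with
      | zero => simp
      | add x y hx hy => simp only [map_add, TensorProduct.tmul_add, hx, hy]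
      | tmul x y => simp [κ]
  simp only [AlgHom.comp_apply, AlgHom.restrictScalars_apply, Algebra.TensorProduct.includeRight_apply,
    Bialgebra.comulAlgHom_apply]
  refine (hκ _).symm.trans ?_
  erw [← CoalgHomClass.map_comp_comul_apply (θ : (L ⊗[K] P) →ₐc[L] (L ⊗[K] Q)), TensorProduct.comul_tmul,
    CommSemiring.comul_apply]
  generalize CoalgebraStruct.comul (R := K) a = w
  induction w using TensorProduct.induction_on with
  | zero => simp
  | add x y hx hy => simp only [map_add, TensorProduct.tmul_add, hx, hy]
  | tmul x y =>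
    have e1 : ∀ (ι' : Q →ₐ[K] Q ⊗[K] Q) (z : L ⊗[K] Q),
        Algebra.TensorProduct.map (AlgHom.id L L) ι' z = Algebra.TensorProduct.map (AlgHom.id K L) ι' z :=
      fun ι' z => rfl
    simp [κ, collect, e1]

/-- isomorphisms of finite type Hopf algebras descend along extensions of algebraically closed fields -/
theorem nonempty_bialgEquiv_of_extension [IsAlgClosed K] [Algebra.FiniteType K P] [Algebra.FiniteType K Q]
    (θ : (L ⊗[K] P) ≃ₐc[L] (L ⊗[K] Q)) : Nonempty (P ≃ₐc[K] Q) := by
  haveI : Algebra.FinitePresentation K P := Algebra.FinitePresentation.of_finiteType.mp inferInstance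
  haveI : Algebra.FinitePresentation K Q := Algebra.FinitePresentation.of_finiteType.mp inferInstance
  let Θ : (L ⊗[K] P) ≃ₐ[L] (L ⊗[K] Q) := θ.toAlgEquiv
  obtain ⟨C₁, hC₁, ψ₁, hψ₁⟩ := exists_hom_stage (((θ : (L ⊗[K] P) →ₐc[L] (L ⊗[K] Q)) :
    (L ⊗[K] P) →ₐ[L] (L ⊗[K] Q)).restrictScalars K |>.comp Algebra.TensorProduct.includeRight)
  obtain ⟨C₂, hC₂, χ₂, hχ₂⟩ :=
    exists_hom_stage ((Θ.symm.toAlgHom.restrictScalars K).comp Algebra.TensorProduct.includeRight)
  let C := C₁ ⊔ C₂
  let ψ := (push (Subalgebra.inclusion (le_sup_left : C₁ ≤ C))).comp ψ₁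
  let χ := (push (Subalgebra.inclusion (le_sup_right : C₂ ≤ C))).comp χ₂
  have hψ : ∀ p, push C.val (ψ p) = Θ (1 ⊗ₜ p) := fun p => by
    simp only [ψ, AlgHom.comp_apply, push_push]
    exact AlgHom.congr_fun hψ₁ p
  have hχ : ∀ q, push C.val (χ q) = Θ.symm (1 ⊗ₜ q) := fun q => by
    simp only [χ, AlgHom.comp_apply, push_push]
    exact AlgHom.congr_fun hχ₂ q
  have hinjP : Function.Injective (push (Q := P) C.val) :=
    Module.Flat.rTensor_preserves_injective_linearMap (M := P) C.val.toLinearMap Subtype.val_injective
  have hinjQ : Function.Injective (push (Q := Q) C.val) :=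
    Module.Flat.rTensor_preserves_injective_linearMap (M := Q) C.val.toLinearMap Subtype.val_injective
  have hχψ : ∀ p, extend χ (ψ p) = 1 ⊗ₜ p := fun p => hinjP (by
    rw [← apply_push Θ.symm C χ hχ, hψ, AlgEquiv.symm_apply_apply, Algebra.TensorProduct.map_tmul, map_one]
    rfl)
  have hψχ : ∀ q, extend ψ (χ q) = 1 ⊗ₜ q := fun q => hinjQ (by
    rw [← apply_push Θ C ψ hψ, hχ, AlgEquiv.apply_symm_apply, Algebra.TensorProduct.map_tmul, map_one]
    rfl)
  have hcψ : Compat ψ := by
    refine Compat.of_injective C.val Subtype.val_injective ?_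
    convert compat_of_bialgEquiv L θ using 1
    exact AlgHom.ext fun p => hψ p
  haveI : Algebra.FiniteType K C := (Subalgebra.fg_iff_finiteType C).mp (hC₁.sup hC₂)
  obtain ⟨m, hm⟩ := Ideal.exists_maximal C
  letI := Ideal.Quotient.field m
  haveI : Algebra.FiniteType K (C ⧸ m) := Algebra.FiniteType.trans (inferInstance : Algebra.FiniteType K C) inferInstance
  haveI : Module.Finite K (C ⧸ m) := finite_of_finite_type_of_isJacobsonRing K _
  haveI : Algebra.IsIntegral K (C ⧸ m) := Algebra.IsIntegral.of_finite K _
  let j : C →ₐ[K] K := (AlgEquiv.ofBijective (Algebra.ofId K (C ⧸ m))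
    IsAlgClosed.algebraMap_bijective_of_isIntegral).symm.toAlgHom.comp (Ideal.Quotient.mkₐ K m)
  let f : P →ₐ[K] Q := (Algebra.TensorProduct.lid K Q).toAlgHom.comp ((push j).comp ψ)
  let g : Q →ₐ[K] P := (Algebra.TensorProduct.lid K P).toAlgHom.comp ((push j).comp χ)
  have hext : ∀ {A B : Type u} [CommRing A] [Algebra K A] [CommRing B] [Algebra K B]
      (h : A →ₐ[K] K ⊗[K] B) (z : K ⊗[K] A),
      Algebra.TensorProduct.lid K B (extend h z) =
        Algebra.TensorProduct.lid K B (h (Algebra.TensorProduct.lid K A z)) := fun h z => by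
    induction z using TensorProduct.induction_on with
    | zero => simp
    | add x y hx hy => simp only [map_add, hx, hy]
    | tmul c x => simp [FlatMor68.StageIso.extend_tmul, Algebra.smul_def, Algebra.TensorProduct.algebraMap_apply]
  have hgf : ∀ p, g (f p) = p := fun p => by
    have h := congrArg (push j) (hχψ p)
    rw [← extend_push, Algebra.TensorProduct.map_tmul, map_one, AlgHom.id_apply] at h
    have h2 := congrArg (Algebra.TensorProduct.lid K P) h
    rw [hext, Algebra.TensorProduct.lid_tmul, one_smul] at h2
    exact h2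
  have hfg : ∀ q, f (g q) = q := fun q => by
    have h := congrArg (push j) (hψχ q)
    rw [← extend_push, Algebra.TensorProduct.map_tmul, map_one, AlgHom.id_apply] at h
    have h2 := congrArg (Algebra.TensorProduct.lid K Q) h
    rw [hext, Algebra.TensorProduct.lid_tmul, one_smul] at h2
    exact h2
  have hcomul : ∀ p, Bialgebra.comulAlgHom K Q (f p) =
      Algebra.TensorProduct.map f f (Bialgebra.comulAlgHom K P p) := fun p => by
    have h := congrArg (Algebra.TensorProduct.lid K (Q ⊗[K] Q)) ((hcψ.push j) p)
    refine Eq.trans ?_ (h.trans ?_)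
    · show Bialgebra.comulAlgHom K Q (Algebra.TensorProduct.lid K Q ((push j).comp ψ p)) = _
      generalize (push j).comp ψ p = z
      induction z using TensorProduct.induction_on with
      | zero => simp
      | add x y hx hy => simp only [map_add, hx, hy]
      | tmul c q => simp
    · generalize Bialgebra.comulAlgHom K P p = z
      induction z using TensorProduct.induction_on with
      | zero => simp
      | add x y hx hy => simp only [map_add, hx, hy]
      | tmul x y =>
        simp only [Algebra.TensorProduct.map_tmul, f, AlgHom.comp_apply, AlgEquiv.toAlgHom_eq_coe, AlgHom.coe_coe]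
        generalize (push j) (ψ x) = u
        generalize (push j) (ψ y) = w
        induction u using TensorProduct.induction_on with
        | zero => simp
        | add a b ha hb => simp only [map_add, add_tmul, ha, hb]
        | tmul c a =>
          induction w using TensorProduct.induction_on with
          | zero => simp
          | add a' b' ha hb => simp only [map_add, tmul_add, ha, hb]
          | tmul c' a' => simp [collect, TensorProduct.smul_tmul', TensorProduct.tmul_smul, smul_smul, _root_.mul_comm]
  obtain ⟨E, -⟩ := exists_bialgEquiv_of_points (A := P) (B := Q)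
    (fun R _ _ x => toConv (x.ofConv.comp f))
    (fun R _ _ => by
      refine ⟨fun x y h => ?_, fun x => ⟨toConv (x.ofConv.comp g), ?_⟩⟩
      · refine WithConv.ofConv_injective (AlgHom.ext fun q => ?_)
        have := AlgHom.congr_fun (congrArg WithConv.ofConv h) (g q)
        simpa [hfg] using this
      · refine WithConv.ofConv_injective (AlgHom.ext fun p => ?_)
        simp [hgf])
    (fun R _ _ x y => WithConv.ofConv_injective (AlgHom.ext fun p => by
      have hc := hcomul p
      simp only [Bialgebra.comulAlgHom_apply] at hc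
      simp only [AlgHom.comp_apply, AlgHom.convMul_apply, hc]
      generalize CoalgebraStruct.comul (R := K) p = z
      induction z using TensorProduct.induction_on with
      | zero => simp
      | add a b ha hb => simp only [map_add, ha, hb]
      | tmul a b => simp))
    (fun R R' _ _ _ _ q x => by simp [AlgHom.comp_assoc])
  exact ⟨E⟩

/-- isomorphisms of affine groups of finite type descend along extensions of algebraically closed fields -/
theorem nonempty_grpIso_of_extension [IsAlgClosed K] {G H : Over (Spec (CommRingCat.of K))} [GrpObj G] [GrpObj H]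
    [IsAffine G.left] [IsAffine H.left] [LocallyOfFiniteType G.hom] [LocallyOfFiniteType H.hom]
    (h : Nonempty (Grp.mk (Red.bc (Spec.map (CommRingCat.ofHom (algebraMap K L))) G) ≅
      Grp.mk (Red.bc (Spec.map (CommRingCat.ofHom (algebraMap K L))) H))) :
    Nonempty (Grp.mk G ≅ Grp.mk H) := by
  obtain ⟨e₀⟩ := h
  obtain ⟨A, _, _, ψ, _⟩ := exists_coord G
  obtain ⟨A', _, _, ψ', _⟩ := exists_coord H
  have ft : ∀ {B : Type u} [CommRing B] [HopfAlgebra K B] {X : Over (Spec (CommRingCat.of K))},
      (sp K B ≅ X) → LocallyOfFiniteType X.hom → Algebra.FiniteType K B := by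
    intro B _ _ X φ hX
    have : LocallyOfFiniteType (Spec.map (CommRingCat.ofHom (algebraMap K B))) := by
      rw [show Spec.map (CommRingCat.ofHom (algebraMap K B)) = φ.hom.left ≫ X.hom from (Over.w φ.hom).symm]
      haveI := hX
      haveI : IsIso φ.hom.left := inferInstanceAs (IsIso ((Over.forget _).map φ.hom))
      exact (inferInstance : LocallyOfFiniteType (φ.hom.left ≫ X.hom))
    rw [HasRingHomProperty.Spec_iff (P := @LocallyOfFiniteType)] at this
    exact RingHom.finiteType_algebraMap.mp this
  haveI := ft ψ ‹_›
  haveI := ft ψ' ‹_›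
  obtain ⟨φ, _⟩ := exists_coord_bc L ψ
  obtain ⟨φ', _⟩ := exists_coord_bc L ψ'
  obtain ⟨θ⟩ := exists_bialgEquiv_of_grpIso φ' φ e₀
  obtain ⟨E⟩ := nonempty_bialgEquiv_of_extension L θ
  exact nonempty_grpIso ψ' ψ E

end Groth.Agent.RedPts82.Hopf
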