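import Groth.Agent.RedPts82.AvgMid
import Groth.Agent.RedPts82.RelHom

/-!
Charts of groups of multiplicative type and the compatibility of averages with changes of charts
and translations.
-/

universe u

open CategoryTheory MonoidalCategory CartesianMonoidalCategory MonObj GrpObj AlgebraicGeometry
open CategoryTheory.Limits

namespace Groth.Agent.RedPts82

variable {S : Scheme.{u}}

section Map

variable {Y Y' : Over S} [IsAffine Y.left] [IsAffine Y'.left] {M M' : Type} [AddCommGroup M]
  [AddCommGroup M'] {I : Ideal (Gam Y)} {I' : Ideal (Gam Y')}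

/-- Averages are compatible with morphisms commuting with the constant coefficient. -/
theorem IsMidAv.map (hI : I * I = ⊥) (hI' : I' * I' = ⊥) {X : Over S} {φ : polyDS Y M ⟶ X}
    {v : Y ⟶ X} (h : IsMidAv hI φ v) (W : polyDS Y' M' ⟶ polyDS Y M) (y : Y' ⟶ Y)
    (hW : W ≫ polyProj Y M = polyProj Y' M' ≫ y) (hy : ∀ x ∈ I, y.left.appTop x ∈ I')
    (hcoef : ∀ x, coef₀ Y' M' (W.left.appTop x) = y.left.appTop (coef₀ Y M x)) :
    IsMidAv hI' (W ≫ φ) (y ≫ v) := by
  obtain ⟨φ', rfl, rfl⟩ := h
  have hWp : ∀ a, W.left.appTop ((polyProj Y M).left.appTop a) =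
      (polyProj Y' M').left.appTop (y.left.appTop a) := fun a =>
    congrArg (fun k => k.left.appTop a) hW
  have hmem : ∀ d ∈ upIdeal Y M I, W.left.appTop d ∈ upIdeal Y' M' I' := by
    intro d hd
    unfold upIdeal Ideal.map at hd
    refine Submodule.span_induction (p := fun d _ => W.left.appTop d ∈ upIdeal Y' M' I') ?_ ?_ ?_ ?_ hd
    · rintro _ ⟨a, ha, rfl⟩
      show W.left.appTop ((polyProj Y M).left.appTop a) ∈ _
      rw [hWp]
      exact Ideal.mem_map_of_mem _ (hy a ha)
    · rw [map_zero]; exact Ideal.zero_mem _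
    · intro a b _ _ ha hb; rw [map_add]; exact Ideal.add_mem _ ha hb
    · intro r a _ ha; rw [smul_eq_mul, map_mul]; exact Ideal.mul_mem_left _ _ ha
  let ψ : midRing Y M I →+* midRing Y' M' I' :=
    (W.left.appTop.hom.comp (midRing Y M I).subtype).codRestrict _ fun b => by
      obtain ⟨a, ha⟩ := b.2
      refine ⟨y.left.appTop a, ?_⟩
      show W.left.appTop b.1 - _ ∈ _
      rw [← hWp, ← map_sub]
      exact hmem _ ha
  obtain ⟨l, hl⟩ := exists_hom_appTop (A := (midObj Y' M' I').left) (B := (midObj Y M I).left)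
    ((midFn Y' M' I').toRingHom.comp (ψ.comp (midFn Y M I).symm.toRingHom))
  have hl' : ∀ b, l.appTop (midFn Y M I b) = midFn Y' M' I' (ψ b) := fun b => by
    rw [hl]
    exact congrArg (fun b' => midFn Y' M' I' (ψ b')) ((midFn Y M I).symm_apply_apply b)
  have hlp : l ≫ (midProj Y M I).left = (midProj Y' M' I' ≫ y).left := by
    refine ext_of_isAffine (CommRingCat.hom_ext (RingHom.ext fun a => ?_))
    show l.appTop ((midProj Y M I).left.appTop a) =
      (midProj Y' M' I').left.appTop (y.left.appTop a)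
    rw [midProj_appTop, midProj_appTop, hl']
    exact congrArg _ (Subtype.ext (hWp a))
  let f : midObj Y' M' I' ⟶ midObj Y M I := Over.homMk l (by
    rw [← Over.w (midProj Y M I), ← Category.assoc, hlp, Over.w])
  refine ⟨f ≫ φ', ?_, ?_⟩
  · rw [← Category.assoc, ← Category.assoc]
    refine congrArg (· ≫ φ') (hom_eq_of_appTop (CommRingCat.hom_ext (RingHom.ext fun x => ?_)))
    obtain ⟨b, rfl⟩ := (midFn Y M I).surjective x
    show (midIncl Y' M' I').left.appTop (l.appTop (midFn Y M I b)) =
      W.left.appTop ((midIncl Y M I).left.appTop (midFn Y M I b))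
    rw [hl', midIncl_appTop, midIncl_appTop]
    rfl
  · rw [← Category.assoc, ← Category.assoc]
    refine congrArg (· ≫ φ') (hom_eq_of_appTop (CommRingCat.hom_ext (RingHom.ext fun x => ?_)))
    obtain ⟨b, rfl⟩ := (midFn Y M I).surjective x
    show (midInt Y' M' I' hI').left.appTop (l.appTop (midFn Y M I b)) =
      y.left.appTop ((midInt Y M I hI).left.appTop (midFn Y M I b))
    rw [hl', midInt_appTop, midInt_appTop]
    exact hcoef b.1

end Map

/-- `h` identifies `Y × D(M)` with `Y × H`. -/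
structure IsChart {H : Over S} [GrpObj H] (Y : Over S) (M : Type) [AddCommGroup M]
    (h : Y ⊗ Red.DS S M ⟶ H) : Prop where
  mul : ∀ (Z : Over S) (z : Z ⟶ Y) (t t' : Z ⟶ Red.DS S M),
    CartesianMonoidalCategory.lift z (t * t') ≫ h =
      (CartesianMonoidalCategory.lift z t ≫ h) * (CartesianMonoidalCategory.lift z t' ≫ h)
  inj : ∀ (Z : Over S) (z : Z ⟶ Y) (t t' : Z ⟶ Red.DS S M),
    CartesianMonoidalCategory.lift z t ≫ h = CartesianMonoidalCategory.lift z t' ≫ h → t = t'
  surj : ∀ (Z : Over S) (z : Z ⟶ Y) (k : Z ⟶ H),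
    ∃ t : Z ⟶ Red.DS S M, CartesianMonoidalCategory.lift z t ≫ h = k

variable {H : Over S} [GrpObj H]

/-- A chart can be restricted. -/
theorem IsChart.comp {Y Y' : Over S} {M : Type} [AddCommGroup M] {h : Y ⊗ Red.DS S M ⟶ H}
    (hh : IsChart Y M h) (y : Y' ⟶ Y) : IsChart Y' M ((y ▷ Red.DS S M) ≫ h) := by
  refine ⟨fun Z z t t' => ?_, fun Z z t t' e => ?_, fun Z z k => ?_⟩
  · simp only [lift_whiskerRight_assoc]; exact hh.mul Z _ t t'
  · simp only [lift_whiskerRight_assoc] at e; exact hh.inj Z _ t t' e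
  · simp only [lift_whiskerRight_assoc]; exact hh.surj Z _ k

variable {Y Y' : Over S} [IsAffine Y.left] [IsAffine Y'.left] {M M' : Type} [AddCommGroup M]
  [AddCommGroup M'] {h : Y ⊗ Red.DS S M ⟶ H} {h' : Y' ⊗ Red.DS S M' ⟶ H}

/-- The point of `H` defined by a chart. -/
noncomputable def chartPt (h : Y ⊗ Red.DS S M ⟶ H) : polyDS Y M ⟶ H :=
  CartesianMonoidalCategory.lift (polyProj Y M) (polyTu Y M) ≫ h

/-- Two charts differ by a morphism which, also after a translation, commutes with the constant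
coefficient. -/
theorem exists_transition (hh : IsChart Y M h) (hh' : IsChart Y' M' h') (y : Y' ⟶ Y)
    (s : Y' ⟶ H) :
    ∃ W : polyDS Y' M' ⟶ polyDS Y M, W ≫ polyProj Y M = polyProj Y' M' ≫ y ∧
      W ≫ chartPt h = (polyProj Y' M' ≫ s) * chartPt h' ∧
      ∀ x, coef₀ Y' M' (W.left.appTop x) = y.left.appTop (coef₀ Y M x) := by
  classical
  obtain ⟨t₀, ht₀⟩ := hh.surj Y' y s
  obtain ⟨f, hf⟩ := hh.surj (Y' ⊗ Red.DS S M') (fst _ _ ≫ y) h'
  have hf' : ∀ (Z : Over S) (z : Z ⟶ Y') (t : Z ⟶ Red.DS S M'),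
      CartesianMonoidalCategory.lift (z ≫ y) (CartesianMonoidalCategory.lift z t ≫ f) ≫ h =
        CartesianMonoidalCategory.lift z t ≫ h' := fun Z z t => by
    have := congrArg (fun k => CartesianMonoidalCategory.lift z t ≫ k) hf
    simpa only [comp_lift_assoc, lift_fst_assoc] using this
  have hrel : IsRelHom f := fun Z z t t' => hh.inj Z (z ≫ y) _ _ (by
    rw [hh.mul, hf', hf', hf', hh'.mul])
  obtain ⟨W, hW1, hW2, -⟩ := exists_polyLift (M := M) (polyProj Y' M' ≫ y)
    ((polyProj Y' M' ≫ t₀) *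
      (CartesianMonoidalCategory.lift (polyProj Y' M') (polyTu Y' M') ≫ f))
  refine ⟨W, hW1, ?_, fun x => ?_⟩
  · rw [chartPt, comp_lift_assoc, hW1, hW2, hh.mul, hf']
    refine congrArg (· * _) ?_
    rw [← comp_lift_assoc, ht₀]
  induction x using polyDS_induction with
  | h0 => simp
  | hadd a b ha hb => rw [map_add, map_add, map_add, map_add, ha, hb]
  | hmon m a =>
    obtain ⟨u, hu, hu'⟩ := exists_fn_of_relHom hrel m
    have e : W.left.appTop ((polyProj Y M).left.appTop a) =
        (polyProj Y' M').left.appTop (y.left.appTop a) := congrArg (fun k => k.left.appTop a) hW1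
    rw [map_mul, e, ← dsFn_comp, hW2, dsFn_mul, dsFn_comp, hu', evalDS_polyTu, coef₀_mul_dsFn,
      ← _root_.mul_assoc, ← map_mul, coef₀_proj_mul, coef₀_polyCoord]
    by_cases hm : m = 0
    · subst hm
      have hu1 : u = 1 := by
        apply (polyCoord_bijective Y' M').1
        rw [← evalDS_polyTu, ← hu', dsFn_zero, map_one]
      rw [if_pos rfl, hu1, dsFn_zero, _root_.mul_one, MonoidAlgebra.one_def, MonoidAlgebra.coeff_single,
        Finsupp.single_eq_same, _root_.mul_one]
    · rw [if_neg hm, map_zero]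
      -- the constant coefficient of a non-trivial character vanishes
      suffices u.coeff 1 = 0 by rw [this, mul_zero]
      obtain ⟨k, hk⟩ : ∃ k : polyDS Y' M ⟶ Red.DS S M',
          CartesianMonoidalCategory.lift (polyProj Y' M) k ≫ f = polyTu Y' M := by
        obtain ⟨k, hk⟩ := hh'.surj _ (polyProj Y' M)
          (CartesianMonoidalCategory.lift (polyProj Y' M ≫ y) (polyTu Y' M) ≫ h)
        exact ⟨k, hh.inj _ _ _ _ ((hf' _ _ k).trans hk)⟩
      have h1 : evalDS (polyProj Y' M) k u = polyCoord Y' M (MonoidAlgebra.single (Multiplicative.ofAdd m) 1) := by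
        rw [← hu', hk, dsFn_polyTu]
      have h2 : MonoidAlgebra.single 1 (u.coeff 1) * u = MonoidAlgebra.single 1 (u.coeff 1) := by
        refine MonoidAlgebra.ext (Finsupp.ext fun g => ?_)
        rw [MonoidAlgebra.single_one_mul_apply, hu.coeff_mul, MonoidAlgebra.coeff_single]
        by_cases hg : g = 1
        · subst hg; rw [if_pos rfl, Finsupp.single_eq_same]
        · rw [if_neg (Ne.symm hg), Finsupp.single_eq_of_ne hg]
      have h3 := congrArg (evalDS (polyProj Y' M) k) h2
      rw [map_mul, h1] at h3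
      have h4 : evalDS (polyProj Y' M) k (MonoidAlgebra.single 1 (u.coeff 1)) =
          polyCoord Y' M (MonoidAlgebra.single 1 (u.coeff 1)) := by
        refine (evalDS_single _ _ 0 _).trans ?_
        rw [dsFn_zero, _root_.mul_one, polyProj_appTop]
      rw [h4, ← map_mul, MonoidAlgebra.single_mul_single, _root_.one_mul, _root_.mul_one] at h3
      have h5 := congrArg (fun v => v.coeff 1) ((polyCoord_bijective Y' M).1 h3)
      simp only [MonoidAlgebra.coeff_single, Finsupp.single_eq_same] at h5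
      rw [Finsupp.single_eq_of_ne (fun e : (1 : Multiplicative M) = Multiplicative.ofAdd m =>
        hm (congrArg Multiplicative.toAdd e).symm)] at h5
      exact h5.symm

end Groth.Agent.RedPts82
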