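import Groth.Agent.RedPts82.InfAvg
import Groth.Agent.RedPts82.FixedPts
import Groth.Agent.RedPts82.OpenClosed

/-!
Averaging over a diagonalisable group with values in an arbitrary scheme.

For an affine `Y` and an ideal `I` of square zero, the functions on `Y × D(M)` congruent to a
function on `Y` modulo `I` form a ring, on which the constant coefficient is a ring homomorphism.
The morphisms `Y × D(M) ⟶ X` congruent to a constant one factor uniquely through the spectrum of
this ring, whatever the scheme `X`.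
-/

universe u

open CategoryTheory MonoidalCategory CartesianMonoidalCategory MonObj GrpObj AlgebraicGeometry
open CategoryTheory.Limits

namespace Groth.Agent.RedPts82

section Epi

/-- Restrictions in global sections. -/
theorem morphismRestrict_appTop_eq {A B : Scheme.{u}} (f : A ⟶ B) (U : B.Opens) :
    (f ∣_ U).appTop = U.topIso.hom ≫ f.app U ≫ (f ⁻¹ᵁ U).topIso.inv := by
  rw [Scheme.Hom.appTop, morphismRestrict_app]
  simp only [Scheme.Opens.topIso_hom, Scheme.Opens.topIso_inv]
  refine Eq.symm ?_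
  refine ((Category.assoc _ _ _).symm.trans
    (congrArg (· ≫ _) (f.naturality (eqToHom U.ι_image_top.symm).op))).trans ?_
  refine (Category.assoc _ _ _).trans ?_
  refine congrArg (_ ≫ ·) ?_
  exact ((A.presheaf.map_comp _ _).symm).trans (congrArg A.presheaf.map (Subsingleton.elim _ _))

/-- Over an affine open, an injective surjective morphism of affine schemes is injective. -/
theorem morphismRestrict_appTop_injective {A B : Scheme.{u}} [IsAffine A] [IsAffine B] (f : A ⟶ B)
    (hf : Function.Injective f.appTop) (U : B.Opens) (hU : IsAffineOpen U) :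
    Function.Injective (f ∣_ U).appTop := by
  haveI : IsAffineHom f := inferInstance
  have hker : f.ker = ⊥ := Scheme.IdealSheafData.ext_of_isAffine (by
    rw [Scheme.Hom.ker_apply, Scheme.IdealSheafData.ideal_bot]
    exact (RingHom.injective_iff_ker_eq_bot _).mp hf)
  have h : Function.Injective (f.app U) := (RingHom.injective_iff_ker_eq_bot _).mpr (by
    have := Scheme.Hom.ker_apply f ⟨U, hU⟩
    rw [hker, Scheme.IdealSheafData.ideal_bot] at this
    exact this.symm)
  rw [morphismRestrict_appTop_eq]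
  intro a b hab
  simp only [CommRingCat.comp_apply] at hab
  exact (ConcreteCategory.bijective_of_isIso U.topIso.hom).1
    (h ((ConcreteCategory.bijective_of_isIso (f ⁻¹ᵁ U).topIso.inv).1 hab))

/-- An injective surjective morphism of affine schemes is an epimorphism. -/
theorem epi_of_surjective_of_injective {A B : Scheme.{u}} [IsAffine A] [IsAffine B] (f : A ⟶ B)
    [Surjective f] (hf : Function.Injective f.appTop) : Epi f := by
  refine ⟨fun {Z} a b hab => ?_⟩
  have hbase : ∀ y, a y = b y := fun y => by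
    obtain ⟨x, rfl⟩ := f.surjective y
    rw [← Scheme.Hom.comp_apply, hab, Scheme.Hom.comp_apply]
  have loc : ∀ y : B, ∃ U : B.Opens, y ∈ U ∧ U.ι ≫ a = U.ι ≫ b := by
    intro y
    obtain ⟨V, hV, hyV, -⟩ := exists_isAffineOpen_mem_and_subset (x := a y) (U := (⊤ : Z.Opens)) trivial
    obtain ⟨U, hU, hyU, hUV⟩ := exists_isAffineOpen_mem_and_subset (x := y) (U := a ⁻¹ᵁ V) hyV
    refine ⟨U, hyU, ?_⟩
    have ha : Set.range (U.ι ≫ a).base ⊆ Set.range V.ι.base := by
      rw [Scheme.Opens.range_ι]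
      rintro _ ⟨x, rfl⟩
      exact hUV x.2
    have hb : Set.range (U.ι ≫ b).base ⊆ Set.range V.ι.base := by
      rw [Scheme.Opens.range_ι]
      rintro _ ⟨x, rfl⟩
      show b x.1 ∈ V
      rw [← hbase]
      exact hUV x.2
    haveI : IsAffine (V : Scheme.{u}) := hV
    haveI : IsAffine (U : Scheme.{u}) := hU
    have e : IsOpenImmersion.lift V.ι _ ha = IsOpenImmersion.lift V.ι _ hb := by
      apply ext_of_isAffine
      have h1 : (f ∣_ U) ≫ IsOpenImmersion.lift V.ι _ ha = (f ∣_ U) ≫ IsOpenImmersion.lift V.ι _ hb := by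
        rw [← cancel_mono V.ι]
        simp only [Category.assoc, IsOpenImmersion.lift_fac, morphismRestrict_ι_assoc, hab]
      have h2 := congrArg Scheme.Hom.appTop h1
      simp only [Scheme.Hom.comp_appTop] at h2
      refine CommRingCat.hom_ext (RingHom.ext fun z =>
        morphismRestrict_appTop_injective f hf U hU ?_)
      exact congr($h2 z)
    rw [← IsOpenImmersion.lift_fac V.ι _ ha, e, IsOpenImmersion.lift_fac]
  choose U hU he using loc
  exact Scheme.Cover.hom_ext (B.openCoverOfIsOpenCover U (by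
    rw [TopologicalSpace.IsOpenCover, eq_top_iff]
    exact fun x _ => TopologicalSpace.Opens.mem_iSup.mpr ⟨x, hU x⟩)) _ _ he

/-- The morphism into an affine scheme with given global sections. -/
theorem exists_hom_appTop {A B : Scheme.{u}} [IsAffine B] (φ : Γ(B, ⊤) →+* Γ(A, ⊤)) :
    ∃ l : A ⟶ B, l.appTop = CommRingCat.ofHom φ := by
  refine ⟨A.toSpecΓ ≫ Spec.map (CommRingCat.ofHom φ) ≫ B.isoSpec.inv, ?_⟩
  simp only [Scheme.Hom.comp_appTop, isoSpec_inv_appTop]
  rw [← Scheme.ΓSpecIso_inv_naturality, Category.assoc, Scheme.toSpecΓ_appTop, Iso.inv_hom_id]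
  exact Category.comp_id _

end Epi

variable {S : Scheme.{u}} (Y : Over S) [IsAffine Y.left] (M : Type) [AddCommGroup M]
  (I : Ideal (Gam Y))

/-- The functions on `Y × D(M)` congruent to functions on `Y`. -/
noncomputable def midRing : Subring Γ((polyDS Y M).left, ⊤) where
  carrier := {b | ∃ a, b - (polyProj Y M).left.appTop a ∈ upIdeal Y M I}
  mul_mem' := by
    rintro b b' ⟨a, ha⟩ ⟨a', ha'⟩
    refine ⟨a * a', ?_⟩
    rw [map_mul]
    have : b * b' - (polyProj Y M).left.appTop a * (polyProj Y M).left.appTop a' =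
        (b - (polyProj Y M).left.appTop a) * b' +
          (polyProj Y M).left.appTop a * (b' - (polyProj Y M).left.appTop a') := by ring
    rw [this]
    exact Ideal.add_mem _ (Ideal.mul_mem_right _ _ ha) (Ideal.mul_mem_left _ _ ha')
  one_mem' := ⟨1, by simp⟩
  add_mem' := by
    rintro b b' ⟨a, ha⟩ ⟨a', ha'⟩
    exact ⟨a + a', by rw [map_add, add_sub_add_comm]; exact Ideal.add_mem _ ha ha'⟩
  zero_mem' := ⟨0, by simp⟩
  neg_mem' := by
    rintro b ⟨a, ha⟩
    exact ⟨-a, by rw [map_neg, neg_sub_neg, ← neg_sub]; exact (Ideal.neg_mem_iff _).mpr ha⟩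

theorem upIdeal_le_midRing {d : Γ((polyDS Y M).left, ⊤)} (hd : d ∈ upIdeal Y M I) :
    d ∈ midRing Y M I :=
  ⟨0, by simpa using hd⟩

/-- The functions on `Y`. -/
noncomputable def toMid : Gam Y →+* midRing Y M I :=
  (polyProj Y M).left.appTop.hom.codRestrict (midRing Y M I) fun a => ⟨a, by simp⟩

/-- The constant coefficient on `midRing`. -/
noncomputable def midCoef (hI : I * I = ⊥) : midRing Y M I →+* Gam Y where
  toFun b := coef₀ Y M b.1
  map_zero' := by simp
  map_one' := by
    show coef₀ Y M 1 = 1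
    rw [← map_one (polyProj Y M).left.appTop.hom]
    exact coef₀_proj Y M 1
  map_add' a b := by simp
  map_mul' := by
    rintro ⟨b, a, ha⟩ ⟨b', a', ha'⟩
    show coef₀ Y M (b * b') = coef₀ Y M b * coef₀ Y M b'
    obtain ⟨d, hd, rfl⟩ : ∃ d ∈ upIdeal Y M I, b = (polyProj Y M).left.appTop a + d :=
      ⟨_, ha, (add_sub_cancel _ _).symm⟩
    obtain ⟨d', hd', rfl⟩ : ∃ d' ∈ upIdeal Y M I, b' = (polyProj Y M).left.appTop a' + d' :=
      ⟨_, ha', (add_sub_cancel _ _).symm⟩
    have h0 : d * d' = 0 := (Submodule.mem_bot _).mp (upIdeal_sq Y M hI ▸ Ideal.mul_mem_mul hd hd')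
    have h1 : coef₀ Y M d * coef₀ Y M d' = 0 := (Submodule.mem_bot _).mp
      (hI ▸ Ideal.mul_mem_mul (coef₀_mem Y M hd) (coef₀_mem Y M hd'))
    have e : ((polyProj Y M).left.appTop a + d) * ((polyProj Y M).left.appTop a' + d') =
        (polyProj Y M).left.appTop (a * a') + (polyProj Y M).left.appTop a * d' +
          (polyProj Y M).left.appTop a' * d := by
      rw [map_mul]; linear_combination h0
    rw [e, map_add, map_add, map_add, map_add, coef₀_proj, coef₀_proj, coef₀_proj, coef₀_proj_mul,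
      coef₀_proj_mul]
    linear_combination -h1

/-- The spectrum of `midRing`. -/
noncomputable def midObj : Over S :=
  Over.mk ((Spec.map (CommRingCat.ofHom (toMid Y M I)) ≫ Y.left.isoSpec.inv) ≫ Y.hom)

instance : IsAffine (midObj Y M I).left :=
  inferInstanceAs (IsAffine (Spec (CommRingCat.of (midRing Y M I))))

/-- Functions on `midObj`. -/
noncomputable def midFn : midRing Y M I ≃+* Γ((midObj Y M I).left, ⊤) :=
  (Scheme.ΓSpecIso (CommRingCat.of (midRing Y M I))).commRingCatIsoToRingEquiv.symm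

/-- The projection to `Y`. -/
noncomputable def midProj : midObj Y M I ⟶ Y :=
  Over.homMk (Spec.map (CommRingCat.ofHom (toMid Y M I)) ≫ Y.left.isoSpec.inv) rfl

theorem midProj_appTop (a : Gam Y) :
    (midProj Y M I).left.appTop a = midFn Y M I (toMid Y M I a) := by
  show (Spec.map (CommRingCat.ofHom (toMid Y M I)) ≫ Y.left.isoSpec.inv).appTop a = _
  simp only [Scheme.Hom.comp_appTop, isoSpec_inv_appTop, CommRingCat.comp_apply]
  exact (congr($(Scheme.ΓSpecIso_inv_naturality (CommRingCat.ofHom (toMid Y M I))) a)).symm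

theorem exists_midIncl : ∃ f : polyDS Y M ⟶ midObj Y M I, f ≫ midProj Y M I = polyProj Y M ∧
    ∀ b, f.left.appTop (midFn Y M I b) = b.1 := by
  obtain ⟨l, hl⟩ := exists_hom_appTop (A := (polyDS Y M).left) (B := (midObj Y M I).left)
    ((midRing Y M I).subtype.comp (midFn Y M I).symm.toRingHom)
  have hl' : ∀ b, l.appTop (midFn Y M I b) = b.1 := fun b => by
    rw [hl]
    exact congrArg Subtype.val ((midFn Y M I).symm_apply_apply b)
  have hw : l ≫ (midProj Y M I).left = (polyProj Y M).left := by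
    refine ext_of_isAffine (CommRingCat.hom_ext (RingHom.ext fun a => ?_))
    show l.appTop ((midProj Y M I).left.appTop a) = _
    rw [midProj_appTop, hl']
    rfl
  refine ⟨Over.homMk l ?_, Over.OverMorphism.ext hw, hl'⟩
  rw [← Over.w (midProj Y M I), ← Category.assoc, hw, Over.w]

/-- The inclusion of `Y × D(M)`. -/
noncomputable def midIncl : polyDS Y M ⟶ midObj Y M I := (exists_midIncl Y M I).choose

theorem midIncl_proj : midIncl Y M I ≫ midProj Y M I = polyProj Y M :=
  (exists_midIncl Y M I).choose_spec.1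

theorem midIncl_appTop (b : midRing Y M I) :
    (midIncl Y M I).left.appTop (midFn Y M I b) = b.1 :=
  (exists_midIncl Y M I).choose_spec.2 b

theorem midIncl_appTop_injective : Function.Injective (midIncl Y M I).left.appTop := by
  intro x y h
  obtain ⟨b, rfl⟩ := (midFn Y M I).surjective x
  obtain ⟨b', rfl⟩ := (midFn Y M I).surjective y
  rw [midIncl_appTop, midIncl_appTop] at h
  rw [Subtype.ext h]

variable (hI : I * I = ⊥)

include hI in
theorem exists_midInt : ∃ f : Y ⟶ midObj Y M I, f ≫ midProj Y M I = 𝟙 Y ∧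
    ∀ b, f.left.appTop (midFn Y M I b) = coef₀ Y M b.1 := by
  obtain ⟨l, hl⟩ := exists_hom_appTop (A := Y.left) (B := (midObj Y M I).left)
    ((midCoef Y M I hI).comp (midFn Y M I).symm.toRingHom)
  have hl' : ∀ b, l.appTop (midFn Y M I b) = coef₀ Y M b.1 := fun b => by
    rw [hl]
    exact congrArg (midCoef Y M I hI) ((midFn Y M I).symm_apply_apply b)
  have hw : l ≫ (midProj Y M I).left = 𝟙 Y.left := by
    refine ext_of_isAffine (CommRingCat.hom_ext (RingHom.ext fun a => ?_))
    show l.appTop ((midProj Y M I).left.appTop a) = _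
    rw [midProj_appTop, hl', Scheme.Hom.id_appTop]
    exact coef₀_proj Y M a
  refine ⟨Over.homMk l ?_, Over.OverMorphism.ext hw, hl'⟩
  rw [← Over.w (midProj Y M I), ← Category.assoc, hw, Category.id_comp]

/-- The integral. -/
noncomputable def midInt : Y ⟶ midObj Y M I := (exists_midInt Y M I hI).choose

theorem midInt_proj : midInt Y M I hI ≫ midProj Y M I = 𝟙 Y :=
  (exists_midInt Y M I hI).choose_spec.1

theorem midInt_appTop (b : midRing Y M I) :
    (midInt Y M I hI).left.appTop (midFn Y M I b) = coef₀ Y M b.1 :=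
  (exists_midInt Y M I hI).choose_spec.2 b

include hI in
theorem surjective_midIncl : Surjective (midIncl Y M I).left := by
  obtain ⟨e, he, -, -⟩ := exists_polyLift (M := M) (𝟙 Y) (1 : Y ⟶ Red.DS S M)
  have hinj : Function.Injective (Spec.map (CommRingCat.ofHom (toMid Y M I))) := by
    intro q q' h
    apply PrimeSpectrum.ext
    have h' : q.asIdeal.comap (toMid Y M I) = q'.asIdeal.comap (toMid Y M I) :=
      congrArg PrimeSpectrum.asIdeal h
    refine Ideal.ext fun b => ?_
    obtain ⟨a, ha⟩ := b.2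
    have hd : IsNilpotent (b - toMid Y M I a) := ⟨2, by
      rw [pow_two]
      exact Subtype.ext ((Submodule.mem_bot _).mp (upIdeal_sq Y M hI ▸ Ideal.mul_mem_mul ha ha))⟩
    have hq : ∀ p : Ideal (midRing Y M I), p.IsPrime → (b ∈ p ↔ a ∈ p.comap (toMid Y M I)) :=
      fun p hp => by
        have h1 := nilpotent_iff_mem_prime.mp hd p hp
        rw [Ideal.mem_comap]
        constructor
        · intro hb
          have := Ideal.sub_mem _ hb h1
          rwa [sub_sub_cancel] at this
        · intro ha'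
          have := Ideal.add_mem _ h1 ha'
          rwa [sub_add_cancel] at this
    rw [hq _ q.isPrime, hq _ q'.isPrime, h']
  refine ⟨fun y => ⟨e.left ((midProj Y M I).left y), ?_⟩⟩
  refine hinj (Y.left.isoSpec.inv.homeomorph.injective ?_)
  show (midProj Y M I).left ((midIncl Y M I).left (e.left _)) = (midProj Y M I).left y
  rw [← Scheme.Hom.comp_apply, ← Over.comp_left, midIncl_proj, ← Scheme.Hom.comp_apply,
    ← Over.comp_left, he]
  rfl

include hI in
theorem epi_midIncl : Epi (midIncl Y M I) := by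
  haveI := surjective_midIncl Y M I hI
  haveI : Epi (midIncl Y M I).left :=
    epi_of_surjective_of_injective _ (midIncl_appTop_injective Y M I)
  exact (Over.forget S).epi_of_epi_map (f := midIncl Y M I) ‹_›

include hI in
set_option maxHeartbeats 1000000 in
/-- A morphism congruent to a constant one factors through `midObj`. -/
theorem exists_mid_factor {X : Over S} (φ : polyDS Y M ⟶ X) (z : Y ⟶ X)
    (h : redMap (polyDS Y M) (upIdeal Y M I) ≫ φ =
      redMap (polyDS Y M) (upIdeal Y M I) ≫ polyProj Y M ≫ z) :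
    ∃ φ' : midObj Y M I ⟶ X, midIncl Y M I ≫ φ' = φ := by
  have hred := redMap_surjective (P := polyDS Y M) (upIdeal_sq Y M hI)
  let R := (redMap (polyDS Y M) (upIdeal Y M I)).left
  let π := (midIncl Y M I).left
  let Zt := (midProj Y M I ≫ z).left
  have hπ : π ≫ Zt = (polyProj Y M ≫ z).left := by
    rw [← Over.comp_left, reassoc_of% (midIncl_proj Y M I)]
  have hRφ : R ≫ φ.left = R ≫ π ≫ Zt := by
    rw [hπ, ← Over.comp_left, h]
    rfl
  have hpt : ∀ x, φ.left x = Zt (π x) := fun x => by
    obtain ⟨w, rfl⟩ := R.surjective x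
    have := congrArg (fun k => k w) hRφ
    simpa using this
  have hinjU : ∀ U : (midObj Y M I).left.Opens, IsAffineOpen U → Function.Injective (π ∣_ U).appTop :=
    morphismRestrict_appTop_injective π (midIncl_appTop_injective Y M I)
  have loc : ∀ q : (midObj Y M I).left, ∃ U : (midObj Y M I).left.Opens, q ∈ U ∧
      ∃ l : (U : Scheme.{u}) ⟶ X.left, (π ∣_ U) ≫ l = (π ⁻¹ᵁ U).ι ≫ φ.left := by
    intro q
    obtain ⟨V, hV, hqV, -⟩ := exists_isAffineOpen_mem_and_subset (x := Zt q) (U := (⊤ : X.left.Opens)) trivial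
    obtain ⟨_, ⟨_, ⟨r, rfl⟩, rfl⟩, hqr, hrV⟩ :=
      (isBasis_basicOpen (midObj Y M I).left).exists_subset_of_mem_open
        (show q ∈ ((Zt ⁻¹ᵁ V : (midObj Y M I).left.Opens) : Set _) from hqV) (Zt ⁻¹ᵁ V).2
    let U := (midObj Y M I).left.basicOpen r
    have hUaff : IsAffineOpen U := (isAffineOpen_top _).basicOpen r
    haveI : IsAffine (U : Scheme.{u}) := hUaff
    haveI : IsAffine (V : Scheme.{u}) := hV
    let P := π ⁻¹ᵁ U
    have hPaff : IsAffineOpen P := hUaff.preimage π
    haveI : IsAffine (P : Scheme.{u}) := hPaff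
    haveI : IsAffine (R ⁻¹ᵁ P).toScheme := hPaff.preimage R
    have hφP : Set.range (P.ι ≫ φ.left).base ⊆ Set.range V.ι.base := by
      rw [Scheme.Opens.range_ι]
      rintro _ ⟨x, rfl⟩
      show φ.left x.1 ∈ V
      rw [hpt]
      exact hrV x.2
    have hZU : Set.range (U.ι ≫ Zt).base ⊆ Set.range V.ι.base := by
      rw [Scheme.Opens.range_ι]
      rintro _ ⟨x, rfl⟩
      exact hrV x.2
    let φV := IsOpenImmersion.lift V.ι _ hφP
    let ζV := IsOpenImmersion.lift V.ι _ hZU
    have hcong : (R ∣_ P) ≫ φV = (R ∣_ P) ≫ (π ∣_ U) ≫ ζV := by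
      rw [← cancel_mono V.ι]
      simp only [φV, ζV, Category.assoc, IsOpenImmersion.lift_fac, morphismRestrict_ι_assoc, P,
        hRφ]
    -- functions on `P` vanishing on the reduced subscheme come from `U`
    have hrange : ∀ x, (R ∣_ P).appTop x = 0 → x ∈ (π ∣_ U).appTop.hom.range := by
      intro x hx
      let g := π.appTop r
      have hP : P = (polyDS Y M).left.basicOpen g := Scheme.preimage_basicOpen π r
      obtain ⟨x₀, rfl⟩ := (ConcreteCategory.bijective_of_isIso P.topIso.inv).2 x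
      let resP : Γ((polyDS Y M).left, ⊤) →+* Γ((polyDS Y M).left, P) :=
        ((polyDS Y M).left.presheaf.map (homOfLE le_top).op).hom
      letI := resP.toAlgebra
      haveI : IsLocalization.Away g Γ((polyDS Y M).left, P) :=
        (isAffineOpen_top (polyDS Y M).left).isLocalization_of_eq_basicOpen g (homOfLE le_top) hP
      obtain ⟨⟨d, _, n, rfl⟩, hd⟩ := IsLocalization.surj (Submonoid.powers g) x₀
      -- the image of `d` on the reduced subscheme is killed by a power of `g`
      have h0 : R.app P x₀ = 0 := by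
        rw [morphismRestrict_appTop_eq, CommRingCat.comp_apply, CommRingCat.comp_apply, Iso.inv_hom_id_apply] at hx
        exact (map_eq_zero_iff _ (ConcreteCategory.bijective_of_isIso (R ⁻¹ᵁ P).topIso.inv).1).mp hx
      have h1 : R.app P (resP d) = 0 := by
        rw [show resP d = algebraMap _ _ d from rfl, ← hd, map_mul, h0, zero_mul]
      obtain ⟨k, hk⟩ : ∃ k, g ^ k * d ∈ upIdeal Y M I := by
        have hQ : R ⁻¹ᵁ P = (redObj (polyDS Y M) (upIdeal Y M I)).left.basicOpen (R.appTop g) := by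
          rw [hP]; exact Scheme.preimage_basicOpen R g
        letI := ((redObj (polyDS Y M) (upIdeal Y M I)).left.presheaf.map
          (homOfLE (le_top : R ⁻¹ᵁ P ≤ ⊤)).op).hom.toAlgebra
        haveI : IsLocalization.Away (R.appTop g)
            Γ((redObj (polyDS Y M) (upIdeal Y M I)).left, R ⁻¹ᵁ P) :=
          (isAffineOpen_top _).isLocalization_of_eq_basicOpen _ (homOfLE le_top) hQ
        have h2 : algebraMap _ Γ((redObj (polyDS Y M) (upIdeal Y M I)).left, R ⁻¹ᵁ P)
            (R.appTop d) = 0 := by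
          rw [← h1]
          exact (congr($(R.naturality (homOfLE (le_top : P ≤ ⊤)).op) d)).symm
        obtain ⟨⟨_, k, rfl⟩, hk⟩ := (IsLocalization.map_eq_zero_iff
          (Submonoid.powers (R.appTop g)) _ _).mp h2
        refine ⟨k, ?_⟩
        have := (redMap_appTop_eq_iff (polyDS Y M) (upIdeal Y M I) (g ^ k * d) 0).mp (by
          rw [map_zero, map_mul, map_pow]; exact hk)
        rwa [sub_zero] at this
      -- hence `x₀ = π* (β / r ^ (n + k))`
      let resU : Γ((midObj Y M I).left, ⊤) →+* Γ((midObj Y M I).left, U) :=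
        ((midObj Y M I).left.presheaf.map (homOfLE le_top).op).hom
      have hnat : ∀ c, π.app U (resU c) = resP (π.appTop c) := fun c =>
        congr($(π.naturality (homOfLE (le_top : U ≤ ⊤)).op) c)
      have hr : IsUnit (resU r) := by
        letI := resU.toAlgebra
        haveI : IsLocalization.Away r Γ((midObj Y M I).left, U) :=
          (isAffineOpen_top _).isLocalization_of_eq_basicOpen r (homOfLE le_top) rfl
        exact IsLocalization.Away.algebraMap_isUnit r
      obtain ⟨s, hs⟩ := hr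
      let β := midFn Y M I ⟨g ^ k * d, upIdeal_le_midRing Y M I hk⟩
      refine ⟨U.topIso.inv (((s⁻¹ : _ˣ) : Γ((midObj Y M I).left, U)) ^ (k + n) * resU β), ?_⟩
      rw [morphismRestrict_appTop_eq, CommRingCat.comp_apply, CommRingCat.comp_apply, Iso.inv_hom_id_apply]
      congr 1
      have hu : IsUnit (π.app U (resU r) ^ (k + n)) := by
        rw [← hs]; exact (s.isUnit.map _).pow _
      refine hu.mul_left_cancel ?_
      rw [← map_pow, ← map_mul, ← _root_.mul_assoc, ← mul_pow, ← hs, Units.mul_inv, one_pow,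
        _root_.one_mul, hs, hnat, map_pow, hnat, midIncl_appTop]
      show resP (g ^ k * d) = _
      rw [map_mul, show resP d = algebraMap _ _ d from rfl, ← hd, map_pow, pow_add]
      show _ = _ * _
      rw [show algebraMap _ Γ((polyDS Y M).left, P) (g ^ n) = resP g ^ n from map_pow resP g n]
      ring
    -- the ring homomorphism
    have hfun : ∀ F, φV.appTop F ∈ (π ∣_ U).appTop.hom.range := by
      intro F
      have h1 := congrArg (fun k => k.appTop F) hcong
      simp only [Scheme.Hom.comp_appTop, CommRingCat.comp_apply] at h1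
      have h2 := hrange (φV.appTop F - (π ∣_ U).appTop (ζV.appTop F)) (by rw [map_sub, h1, sub_self])
      have h3 := Subring.add_mem _ h2 ⟨ζV.appTop F, rfl⟩
      rwa [sub_add_cancel] at h3
    let e := RingEquiv.ofBijective ((π ∣_ U).appTop.hom.rangeRestrict)
      ⟨fun a b hab => hinjU U hUaff (congrArg Subtype.val hab),
        RingHom.rangeRestrict_surjective _⟩
    obtain ⟨l, hl⟩ := exists_hom_appTop (A := (U : Scheme.{u})) (B := (V : Scheme.{u}))
      (e.symm.toRingHom.comp (φV.appTop.hom.codRestrict _ hfun))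
    refine ⟨U, hqr, l ≫ V.ι, ?_⟩
    have hl' : (π ∣_ U) ≫ l = φV := by
      refine ext_of_isAffine (CommRingCat.hom_ext (RingHom.ext fun F => ?_))
      rw [Scheme.Hom.comp_appTop, hl]
      exact congrArg Subtype.val (e.apply_symm_apply _)
    rw [reassoc_of% hl', IsOpenImmersion.lift_fac]
  choose U hU l hl using loc
  let 𝒰 := (midObj Y M I).left.openCoverOfIsOpenCover U (by
    rw [TopologicalSpace.IsOpenCover, eq_top_iff]
    exact fun x _ => TopologicalSpace.Opens.mem_iSup.mpr ⟨x, hU x⟩)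
  have hcompat : ∀ i j, pullback.fst (𝒰.f i) (𝒰.f j) ≫ l i = pullback.snd (𝒰.f i) (𝒰.f j) ≫ l j := by
    intro i j
    let T := pullback (𝒰.f i) (𝒰.f j)
    haveI : IsOpenImmersion (pullback.fst (𝒰.f i) (𝒰.f j) ≫ 𝒰.f i) := inferInstance
    let O := (pullback.fst (𝒰.f i) (𝒰.f j) ≫ 𝒰.f i).opensRange
    let o : (O : Scheme.{u}) ≅ T :=
      ((pullback.fst (𝒰.f i) (𝒰.f j) ≫ 𝒰.f i).isoOpensRange).symm
    rw [← cancel_epi o.hom]
    -- it suffices to compare on affine opens
    refine Scheme.Cover.hom_ext (O : Scheme.{u}).affineCover _ _ fun m => ?_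
    let ι' := (O : Scheme.{u}).affineCover.f m ≫ O.ι
    haveI : IsOpenImmersion ι' := inferInstance
    let W := ι'.opensRange
    have hWaff : IsAffineOpen W := isAffineOpen_opensRange ι'
    haveI : IsAffine (W : Scheme.{u}) := hWaff
    haveI : IsAffine (π ⁻¹ᵁ W).toScheme := hWaff.preimage π
    haveI : Surjective (π ∣_ W) := by
      haveI := surjective_midIncl Y M I hI
      exact MorphismProperty.of_isPullback (isPullback_morphismRestrict π W).flip ‹Surjective π›
    haveI := epi_of_surjective_of_injective (π ∣_ W) (hinjU W hWaff)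
    let w : (W : Scheme.{u}) ≅ (O : Scheme.{u}).affineCover.X m := ι'.isoOpensRange.symm
    rw [← cancel_epi w.hom]
    rw [← cancel_epi (π ∣_ W)]
    have key : ∀ (k : 𝒰.I₀) (v : (W : Scheme.{u}) ⟶ 𝒰.X k) (_ : v ≫ 𝒰.f k = W.ι),
        (π ∣_ W) ≫ v ≫ l k = (π ⁻¹ᵁ W).ι ≫ φ.left := by
      intro k v hv
      obtain ⟨v', hv'1, hv'2⟩ : ∃ v', v' ≫ (π ∣_ U k) = (π ∣_ W) ≫ v ∧
          v' ≫ (π ⁻¹ᵁ U k).ι = (π ⁻¹ᵁ W).ι :=
        ⟨(isPullback_morphismRestrict π (U k)).lift ((π ∣_ W) ≫ v) (π ⁻¹ᵁ W).ι (by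
            rw [Category.assoc, ← morphismRestrict_ι π W]
            exact congrArg _ hv),
          IsPullback.lift_fst _ _ _ _, IsPullback.lift_snd _ _ _ _⟩
      refine (Category.assoc _ _ _).symm.trans ((congrArg (· ≫ l k) hv'1.symm).trans ?_)
      refine (Category.assoc _ _ _).trans ((congrArg (v' ≫ ·) (hl k)).trans ?_)
      exact (Category.assoc _ _ _).symm.trans (congrArg (· ≫ φ.left) hv'2)
    have hw : w.hom ≫ ι' = W.ι := ι'.isoOpensRange_inv_comp
    have hfst : (o.hom ≫ pullback.fst (𝒰.f i) (𝒰.f j)) ≫ 𝒰.f i = O.ι := by simp [o, O]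
    have hsnd : (o.hom ≫ pullback.snd (𝒰.f i) (𝒰.f j)) ≫ 𝒰.f j = O.ι := by
      rw [Category.assoc, ← pullback.condition, ← Category.assoc, hfst]
    have h1 := key i (w.hom ≫ (O : Scheme.{u}).affineCover.f m ≫ o.hom ≫ pullback.fst (𝒰.f i) (𝒰.f j))
      (by simp only [Category.assoc] at hfst ⊢; rw [hfst]; exact hw)
    have h2 := key j (w.hom ≫ (O : Scheme.{u}).affineCover.f m ≫ o.hom ≫ pullback.snd (𝒰.f i) (𝒰.f j))
      (by simp only [Category.assoc] at hsnd ⊢; rw [hsnd]; exact hw)
    simp only [Category.assoc] at h1 h2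
    exact h1.trans h2.symm
  let g := 𝒰.glueMorphisms l hcompat
  have hg : π ≫ g = φ.left := by
    refine Scheme.Cover.hom_ext ((polyDS Y M).left.openCoverOfIsOpenCover (fun q => π ⁻¹ᵁ U q) (by
      rw [TopologicalSpace.IsOpenCover, eq_top_iff]
      exact fun x _ => TopologicalSpace.Opens.mem_iSup.mpr ⟨π x, hU _⟩)) _ _ fun q => ?_
    show (π ⁻¹ᵁ U q).ι ≫ π ≫ g = _
    rw [← morphismRestrict_ι_assoc]
    show (π ∣_ U q) ≫ 𝒰.f q ≫ g = _
    refine (congrArg (_ ≫ ·) (Scheme.Cover.ι_glueMorphisms _ _ _ _)).trans ?_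
    exact hl q
  haveI := surjective_midIncl Y M I hI
  haveI : Epi π := epi_of_surjective_of_injective _ (midIncl_appTop_injective Y M I)
  refine ⟨Over.homMk g ?_, Over.OverMorphism.ext hg⟩
  rw [← cancel_epi π, ← Category.assoc, hg, Over.w φ, Over.w (midIncl Y M I)]

variable {Y M I}

/-- `v` is the average of `φ`. -/
def IsMidAv {X : Over S} (φ : polyDS Y M ⟶ X) (v : Y ⟶ X) : Prop :=
  ∃ φ' : midObj Y M I ⟶ X, midIncl Y M I ≫ φ' = φ ∧ midInt Y M I hI ≫ φ' = v

include hI in
theorem IsMidAv.unique {X : Over S} {φ : polyDS Y M ⟶ X} {v v' : Y ⟶ X} (h : IsMidAv hI φ v)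
    (h' : IsMidAv hI φ v') : v = v' := by
  haveI := epi_midIncl Y M I hI
  obtain ⟨a, ha, rfl⟩ := h
  obtain ⟨b, hb, rfl⟩ := h'
  rw [(cancel_epi (midIncl Y M I)).mp (ha.trans hb.symm)]

theorem IsMidAv.comp {X X' : Over S} {φ : polyDS Y M ⟶ X} {v : Y ⟶ X} (h : IsMidAv hI φ v)
    (f : X ⟶ X') : IsMidAv hI (φ ≫ f) (v ≫ f) := by
  obtain ⟨a, rfl, rfl⟩ := h
  exact ⟨a ≫ f, by rw [Category.assoc], by rw [Category.assoc]⟩

theorem isMidAv_proj {X : Over S} (v : Y ⟶ X) : IsMidAv hI (polyProj Y M ≫ v) v :=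
  ⟨midProj Y M I ≫ v, by rw [reassoc_of% (midIncl_proj Y M I)],
    by rw [reassoc_of% (midInt_proj Y M I hI)]⟩

theorem IsMidAv.mul {G : Over S} [GrpObj G] {φ ψ : polyDS Y M ⟶ G} {v w : Y ⟶ G}
    (hv : IsMidAv hI φ v) (hw : IsMidAv hI ψ w) : IsMidAv hI (φ * ψ) (v * w) := by
  obtain ⟨a, rfl, rfl⟩ := hv
  obtain ⟨b, rfl, rfl⟩ := hw
  exact ⟨a * b, MonObj.comp_mul _ _ _, MonObj.comp_mul _ _ _⟩

end Groth.Agent.RedPts82
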