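import Groth.Agent.RedPts82.AvgMap
import Groth.Agent.RedPts82.Transporter
import Groth.Agent.RedPts82.MonoMultClosed

/-!
Averaging over a group of multiplicative type on an affine base, with values in an arbitrary scheme.
-/

universe u

open CategoryTheory MonoidalCategory CartesianMonoidalCategory MonObj GrpObj AlgebraicGeometry
open CategoryTheory.Limits

namespace Groth.Agent.RedPts82

variable {S : Scheme.{u}} {H : Over S} [GrpObj H]

/-- A diagonalisation over `W` gives a chart. -/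
theorem exists_chart_of_ds {W : Scheme.{u}} (φ : W ⟶ S) {M : Type} [AddCommGroup M]
    (a : Red.DS W M ⟶ Red.bc φ H) [IsMonHom a] [Mono a]
    (hsurj : ∀ (X : Over W) (h : X ⟶ Red.bc φ H), ∃ t, t ≫ a = h) :
    ∃ h : Over.mk φ ⊗ Red.DS S M ⟶ H, IsChart (Over.mk φ) M h := by
  let obW : ∀ {Z : Over S}, (Z ⟶ Over.mk φ) → Over W := fun z => Over.mk z.left
  let al : ∀ {Z : Over S} (z : Z ⟶ Over.mk φ), Z ⟶ (Over.map φ).obj (obW z) := fun {Z} z =>
    Over.homMk (𝟙 Z.left) (by simpa [obW] using Over.w z)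
  have htr : ∀ {Z : Over S} (z : Z ⟶ Over.mk φ) (t : Z ⟶ Red.DS S M),
      ∃ t' : obW z ⟶ Red.DS W M, ∀ m, dsFn t' m = dsFn t m := fun {Z} z t =>
    let χ : Multiplicative M →* Γ(Z.left, ⊤) :=
      { toFun := fun m => dsFn t (Multiplicative.toAdd m)
        map_one' := dsFn_zero t
        map_mul' := fun m m' => dsFn_add t _ _ }
    dsFn_surjective (X := obW z) χ
  choose tr htr' using @htr
  let h : Over.mk φ ⊗ Red.DS S M ⟶ H := al (fst _ _) ≫ toBase φ (tr (fst _ _) (snd _ _) ≫ a)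
  have hh : ∀ {Z : Over S} (z : Z ⟶ Over.mk φ) (t : Z ⟶ Red.DS S M),
      CartesianMonoidalCategory.lift z t ≫ h = al z ≫ toBase φ (tr z t ≫ a) := by
    intro Z z t
    let l : obW z ⟶ obW (fst (Over.mk φ) (Red.DS S M)) :=
      Over.homMk (CartesianMonoidalCategory.lift z t).left
        (congrArg CommaMorphism.left (lift_fst z t))
    have e1 : tr z t = l ≫ tr (fst _ _) (snd _ _) := dsFn_injective fun m => by
      rw [dsFn_comp, htr', htr']
      show _ = (CartesianMonoidalCategory.lift z t).left.appTop _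
      rw [← dsFn_comp, lift_snd]
    rw [e1, Category.assoc, toBase_comp φ l]
    simp only [h, ← Category.assoc]
    refine congrArg (· ≫ toBase φ _) (congrArg (· ≫ _) ?_)
    apply Over.OverMorphism.ext
    simp [al, l]
  have hepi : ∀ {Z : Over S} (z : Z ⟶ Over.mk φ), IsIso (al z) := fun {Z} z => by
    haveI : IsIso ((Over.forget S).map (al z)) := inferInstanceAs (IsIso (𝟙 Z.left))
    exact isIso_of_reflects_iso (al z) (Over.forget S)
  refine ⟨h, fun Z z t t' => ?_, fun Z z t t' e => ?_, fun Z z k => ?_⟩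
  · have e : tr z (t * t') = tr z t * tr z t' := dsFn_injective fun m => by
      rw [dsFn_mul, htr', htr', htr', dsFn_mul]
    rw [hh, hh, hh, e, MonObj.mul_comp _ _ a, toBase_mul, MonObj.comp_mul]
  · rw [hh, hh] at e
    haveI := hepi z
    have := (cancel_mono a).mp (toBase_injective φ ((cancel_epi (al z)).mp e))
    exact dsFn_injective fun m => by rw [← htr' z t, ← htr' z t', this]
  · haveI := hepi z
    obtain ⟨t', ht'⟩ := hsurj (obW z) (ofBase φ (inv (al z) ≫ k))
    let χ : Multiplicative M →* Γ((obW z).left, ⊤) :=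
      { toFun := fun m => dsFn t' (Multiplicative.toAdd m)
        map_one' := dsFn_zero t'
        map_mul' := fun m m' => dsFn_add t' _ _ }
    obtain ⟨t, ht⟩ := dsFn_surjective (S := S) (M := M) (X := Z) χ
    refine ⟨t, ?_⟩
    have e : tr z t = t' := dsFn_injective fun m => (htr' z t m).trans (ht m)
    rw [hh, e, ht', toBase_ofBase, IsIso.hom_inv_id_assoc]

variable [IsAffine S]

set_option maxHeartbeats 1000000 in
/-- Finitely many charts covering the base. -/
theorem exists_charts (hH : IsMultType H) :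
    ∃ (κ : Type u) (_ : Finite κ) (Y : κ → Over S) (_ : ∀ i, IsAffine (Y i).left) (M : κ → Type)
      (_ : ∀ i, AddCommGroup (M i)) (h : ∀ i, Y i ⊗ Red.DS S (M i) ⟶ H),
      (∀ i, IsChart (Y i) (M i) (h i)) ∧ (∀ i, Flat (Y i).hom) ∧
        ∀ s : S, ∃ i y, (Y i).hom y = s := by
  obtain ⟨S', f, hf, hs, hqc, hloc⟩ := hH
  obtain ⟨W₀, hW₀, hW₀f⟩ := hqc ⊤ (isAffineOpen_top S)
  choose U hU M hM e using hloc
  choose W hW hsW hWU using fun s' => exists_isAffineOpen_mem_and_subset (x := s') (U := U s') (hU s')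
  obtain ⟨F, hF⟩ := hW₀.elim_finite_subcover (fun s' => (W s' : Set S')) (fun s' => (W s').2)
    fun x _ => Set.mem_iUnion.mpr ⟨x, hsW x⟩
  have key : ∀ i : F, ∃ h : Over.mk ((W i.1).ι ≫ f) ⊗ Red.DS S (M i.1) ⟶ H,
      letI := hM i.1; IsChart (Over.mk ((W i.1).ι ≫ f)) (M i.1) h := by
    intro i
    letI := hM i.1
    obtain ⟨a, ha, hmono, hsurj⟩ := exists_ds_cover_mono (S'.homOfLE (hWU i.1))
      ((U i.1).ι ≫ f) ((W i.1).ι ≫ f) (by simp) (e i.1).some
    exact exists_chart_of_ds _ a hsurj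
  choose h hh using key
  refine ⟨↥F, inferInstance, fun i => Over.mk ((W i.1).ι ≫ f), fun i => hW i.1, fun i => M i.1,
    fun i => hM i.1, h, hh, fun i => inferInstanceAs (Flat ((W i.1).ι ≫ f)), fun s => ?_⟩
  obtain ⟨x, hx, rfl⟩ : s ∈ f.base '' (W₀ : Set S') := hW₀f ▸ trivial
  obtain ⟨i, hi, hxi⟩ := Set.mem_iUnion₂.mp (hF hx)
  exact ⟨⟨i, hi⟩, ⟨x, hxi⟩, rfl⟩

/-- Morphisms given compatibly on a finite flat affine cover glue. -/
theorem exists_desc {T : Over S} [IsAffine T.left] {κ : Type u} [Finite κ] (Y : κ → Over S)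
    [∀ i, IsAffine (Y i).left] (p : ∀ i, Y i ⟶ T) (hflat : ∀ i, Flat (p i).left)
    (hsurj : ∀ t : T.left, ∃ i y, (p i).left y = t) {X : Over S} (v : ∀ i, Y i ⟶ X)
    (hcomp : ∀ i j (Z : Over S) [IsAffine Z.left] (a : Z ⟶ Y i) (b : Z ⟶ Y j),
      a ≫ p i = b ≫ p j → a ≫ v i = b ≫ v j) :
    ∃ w : T ⟶ X, ∀ i, p i ≫ w = v i := by
  let P : (∐ fun i => (Y i).left) ⟶ T.left := Sigma.desc fun i => (p i).left
  haveI : Surjective P := ⟨fun t => by
    obtain ⟨i, y, rfl⟩ := hsurj t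
    exact ⟨Sigma.ι (fun i => (Y i).left) i y, by simp [P, ← Scheme.Hom.comp_apply]⟩⟩
  haveI : Flat P := IsZariskiLocalAtSource.sigmaDesc hflat
  haveI : IsAffineHom P := inferInstance
  let e : (∐ fun i => (Y i).left) ⟶ X.left := Sigma.desc fun i => (v i).left
  have he : ∀ {Z : Scheme.{u}} (g₁ g₂ : Z ⟶ ∐ fun i => (Y i).left),
      g₁ ≫ P = g₂ ≫ P → g₁ ≫ e = g₂ ≫ e := by
    intro Z g₁ g₂ hg
    have hT : pullback.fst P P ≫ e = pullback.snd P P ≫ e := by
      refine Scheme.Cover.hom_ext (Scheme.Pullback.openCoverOfLeftRight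
        (sigmaOpenCover fun i => (Y i).left) (sigmaOpenCover fun i => (Y i).left) P P) _ _
        fun ij => ?_
      obtain ⟨i, j⟩ := ij
      let A := pullback ((sigmaOpenCover fun i => (Y i).left).f i ≫ P)
        ((sigmaOpenCover fun i => (Y i).left).f j ≫ P)
      have hi : (sigmaOpenCover fun i => (Y i).left).f i ≫ P = (p i).left := Sigma.ι_desc _ _
      have hj : (sigmaOpenCover fun i => (Y i).left).f j ≫ P = (p j).left := Sigma.ι_desc _ _
      refine Scheme.Cover.hom_ext A.affineCover _ _ fun m => ?_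
      let a' : A.affineCover.X m ⟶ (Y i).left := A.affineCover.f m ≫ pullback.fst _ _
      let b' : A.affineCover.X m ⟶ (Y j).left := A.affineCover.f m ≫ pullback.snd _ _
      have hab : a' ≫ (p i).left = b' ≫ (p j).left := by
        have := congrArg (A.affineCover.f m ≫ ·) (pullback.condition
          (f := (sigmaOpenCover fun i => (Y i).left).f i ≫ P)
          (g := (sigmaOpenCover fun i => (Y i).left).f j ≫ P))
        simp only [hi, hj] at this
        exact (Category.assoc _ _ _).trans (this.trans (Category.assoc _ _ _).symm)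
      let Z' : Over S := Over.mk (a' ≫ (Y i).hom)
      haveI : IsAffine Z'.left := inferInstanceAs (IsAffine (A.affineCover.X m))
      let a : Z' ⟶ Y i := Over.homMk a' rfl
      let b : Z' ⟶ Y j := Over.homMk b' (by
        show b' ≫ (Y j).hom = a' ≫ (Y i).hom
        rw [← Over.w (p j), ← reassoc_of% hab, Over.w (p i)])
      have h1 := congrArg CommaMorphism.left
        (hcomp i j Z' a b (Over.OverMorphism.ext hab))
      simp only [Over.comp_left] at h1
      simp only [Scheme.Pullback.openCoverOfLeftRight_f]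
      erw [pullback.lift_fst_assoc, pullback.lift_snd_assoc]
      have hei : (sigmaOpenCover fun i => (Y i).left).f i ≫ e = (v i).left := Sigma.ι_desc _ _
      have hej : (sigmaOpenCover fun i => (Y i).left).f j ≫ e = (v j).left := Sigma.ι_desc _ _
      exact ((congrArg (A.affineCover.f m ≫ ·) ((Category.assoc _ _ _).trans
          (congrArg (pullback.fst _ _ ≫ ·) hei))).trans (Category.assoc _ _ _).symm).trans
        (h1.trans ((Category.assoc _ _ _).trans (congrArg (A.affineCover.f m ≫ ·)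
          ((Category.assoc _ _ _).trans (congrArg (pullback.snd _ _ ≫ ·) hej)).symm)))
    rw [← pullback.lift_fst g₁ g₂ hg, Category.assoc, hT, pullback.lift_snd_assoc]
  refine ⟨Over.homMk (EffectiveEpi.desc P e he) ?_, fun i => Over.OverMorphism.ext ?_⟩
  · haveI : Epi P := Flat.epi_of_flat_of_surjective P
    rw [← cancel_epi P, EffectiveEpi.fac_assoc]
    refine Sigma.hom_ext _ _ fun i => ?_
    simp [e, P]
  · show (p i).left ≫ EffectiveEpi.desc P e he = _
    rw [← Sigma.ι_desc (fun i => (p i).left) i, Category.assoc]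
    show Sigma.ι _ i ≫ P ≫ _ = _
    rw [EffectiveEpi.fac]
    exact Sigma.ι_desc _ _

variable {T : Over S} [IsAffine T.left] {J : Ideal (Gam T)}

theorem map_sq (hJ : J * J = ⊥) {Y : Over S} (y : Y ⟶ T) :
    J.map y.left.appTop.hom * J.map y.left.appTop.hom = ⊥ := by
  rw [← Ideal.map_mul, hJ, Ideal.map_bot]

/-- A family of points on a chart. -/
noncomputable def onChart {Y : Over S} [IsAffine Y.left] {M : Type} [AddCommGroup M] (y : Y ⟶ T)
    (h : Y ⊗ Red.DS S M ⟶ H) {G : Over S} (φ : T ⊗ H ⟶ G) : polyDS Y M ⟶ G :=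
  CartesianMonoidalCategory.lift (polyProj Y M ≫ y) (chartPt h) ≫ φ

/-- `v` is the average of the family `φ` of points. -/
def IsAvg (hJ : J * J = ⊥) {G : Over S} (φ : T ⊗ H ⟶ G) (v : T ⟶ G) : Prop :=
  ∀ (Y : Over S) [IsAffine Y.left] (y : Y ⟶ T) (M : Type) [AddCommGroup M]
    (h : Y ⊗ Red.DS S M ⟶ H), IsChart Y M h → IsMidAv (map_sq hJ y) (onChart y h φ) (y ≫ v)

/-- `φ` is congruent to the constant family `z`. -/
def CongTo (J : Ideal (Gam T)) {G : Over S} (φ : T ⊗ H ⟶ G) (z : T ⟶ G) : Prop :=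
  ∀ (Z : Over S) (x : Z ⟶ redObj T J) (k : Z ⟶ H),
    CartesianMonoidalCategory.lift (x ≫ redMap T J) k ≫ φ = x ≫ redMap T J ≫ z

variable {G : Over S} (hJ : J * J = ⊥)

/-- Averages agree on compatible charts. -/
theorem IsMidAv.chart_compat {φ : T ⊗ H ⟶ G} {Y Y' : Over S} [IsAffine Y.left] [IsAffine Y'.left]
    {y : Y ⟶ T} {y' : Y' ⟶ T} {M M' : Type} [AddCommGroup M] [AddCommGroup M']
    {h : Y ⊗ Red.DS S M ⟶ H} {h' : Y' ⊗ Red.DS S M' ⟶ H} (hh : IsChart Y M h)
    (hh' : IsChart Y' M' h') {v : Y ⟶ G} (hv : IsMidAv (map_sq hJ y) (onChart y h φ) v)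
    (a : Y' ⟶ Y) (ha : a ≫ y = y') : IsMidAv (map_sq hJ y') (onChart y' h' φ) (a ≫ v) := by
  subst ha
  obtain ⟨W, hW, hW', hc⟩ := exists_transition hh hh' a 1
  have := hv.map (map_sq hJ y) (map_sq hJ (a ≫ y)) W a hW (fun x hx => ?_) hc
  · rwa [onChart, comp_lift_assoc, reassoc_of% hW, hW', MonObj.comp_one, _root_.one_mul] at this
  · rw [Over.comp_left, Scheme.Hom.comp_appTop, CommRingCat.hom_comp, ← Ideal.map_map]
    exact Ideal.mem_map_of_mem _ hx

theorem IsAvg.unique_on {φ : T ⊗ H ⟶ G} {v v' : T ⟶ G} (hv : IsAvg hJ φ v) (hv' : IsAvg hJ φ v')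
    {Y : Over S} [IsAffine Y.left] (y : Y ⟶ T) {M : Type} [AddCommGroup M]
    {h : Y ⊗ Red.DS S M ⟶ H} (hh : IsChart Y M h) : y ≫ v = y ≫ v' :=
  (hv Y y M h hh).unique (map_sq hJ y) (hv' Y y M h hh)

theorem tensor_isAffine (T' Y' : Over S) [IsAffine T'.left] [IsAffine Y'.left] :
    IsAffine (T' ⊗ Y').left :=
  inferInstanceAs (IsAffine (pullback T'.hom Y'.hom))

theorem IsAvg.unique (hH : IsMultType H) {φ : T ⊗ H ⟶ G} {v v' : T ⟶ G} (hv : IsAvg hJ φ v)
    (hv' : IsAvg hJ φ v') : v = v' := by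
  obtain ⟨κ, _, Y, hY, M, hM, h, hh, hflat, hsurj⟩ := exists_charts hH
  haveI := fun i => tensor_isAffine T (Y i)
  letI := hM
  have hflat' : ∀ i, Flat (fst T (Y i)).left := fun i => by
    haveI := hflat i
    show Flat (pullback.fst T.hom (Y i).hom)
    infer_instance
  have hcov : ∀ t : T.left, ∃ i y, (fst T (Y i)).left y = t := fun t => by
    obtain ⟨i, y, hy⟩ := hsurj (T.hom t)
    obtain ⟨z, hz, -⟩ := Scheme.Pullback.exists_preimage_pullback (f := T.hom) (g := (Y i).hom) t y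
      hy.symm
    exact ⟨i, z, hz⟩
  have he : ∀ i, fst T (Y i) ≫ v = fst T (Y i) ≫ v' := fun i =>
    hv.unique_on hJ hv' (fst T (Y i)) ((hh i).comp (snd T (Y i)))
  let P : (∐ fun i => (T ⊗ Y i).left) ⟶ T.left := Sigma.desc fun i => (fst T (Y i)).left
  haveI : Surjective P := ⟨fun t => by
    obtain ⟨i, y, rfl⟩ := hcov t
    exact ⟨Sigma.ι (fun i => (T ⊗ Y i).left) i y, by simp [P, ← Scheme.Hom.comp_apply]⟩⟩
  haveI : Flat P := IsZariskiLocalAtSource.sigmaDesc hflat'
  haveI : Epi P := Flat.epi_of_flat_of_surjective P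
  refine Over.OverMorphism.ext ((cancel_epi P).mp (Sigma.hom_ext _ _ fun i => ?_))
  have := congrArg CommaMorphism.left (he i)
  simpa [P] using this

set_option maxHeartbeats 1000000 in
/-- Existence of averages. -/
theorem exists_avg (hH : IsMultType H) (φ : T ⊗ H ⟶ G) (z : T ⟶ G) (hz : CongTo J φ z) :
    ∃ v : T ⟶ G, IsAvg hJ φ v ∧ redMap T J ≫ v = redMap T J ≫ z := by
  obtain ⟨κ, _, Y, hY, M, hM, h, hh, hflat, hsurj⟩ := exists_charts hH
  haveI := fun i => tensor_isAffine T (Y i)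
  letI := hM
  have hone : ∀ (Y : Over S) [IsAffine Y.left] (y : Y ⟶ T) (M : Type) [AddCommGroup M]
      (h : Y ⊗ Red.DS S M ⟶ H), ∃ v, IsMidAv (map_sq hJ y) (onChart y h φ) v ∧
        redMap Y (J.map y.left.appTop.hom) ≫ v = redMap Y (J.map y.left.appTop.hom) ≫ y ≫ z := by
    intro Y _ y M _ h
    let I := J.map y.left.appTop.hom
    obtain ⟨r, hr⟩ := exists_redMap_comp (P := polyDS Y M) (Q := T) (J := upIdeal Y M I) (J' := J)
      (polyProj Y M ≫ y) fun x hx => by
        show (polyProj Y M).left.appTop (y.left.appTop x) ∈ _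
        exact Ideal.mem_map_of_mem _ (Ideal.mem_map_of_mem _ hx)
    have hcong : redMap (polyDS Y M) (upIdeal Y M I) ≫ onChart y h φ =
        redMap (polyDS Y M) (upIdeal Y M I) ≫ polyProj Y M ≫ y ≫ z := by
      rw [onChart, comp_lift_assoc, ← hr, hz _ r, reassoc_of% hr]
    obtain ⟨φ', hφ'⟩ := exists_mid_factor Y M I (map_sq hJ y) _ _ hcong
    refine ⟨midInt Y M I (map_sq hJ y) ≫ φ', ⟨φ', hφ', rfl⟩, ?_⟩
    -- compare with the constant family after composing with the unit section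
    obtain ⟨e, he, -, -⟩ := exists_polyLift (M := M) (𝟙 Y) (1 : Y ⟶ Red.DS S M)
    have hint : redMap Y I ≫ midInt Y M I (map_sq hJ y) = redMap Y I ≫ e ≫ midIncl Y M I := by
      refine hom_eq_of_appTop (CommRingCat.hom_ext (RingHom.ext fun x => ?_))
      obtain ⟨b, rfl⟩ := (midFn Y M I).surjective x
      show (redMap Y I).left.appTop ((midInt Y M I (map_sq hJ y)).left.appTop (midFn Y M I b)) =
        (redMap Y I).left.appTop (e.left.appTop ((midIncl Y M I).left.appTop (midFn Y M I b)))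
      rw [midInt_appTop, midIncl_appTop, redMap_appTop_eq_iff]
      obtain ⟨a, ha⟩ := b.2
      have h1 := coef₀_mem Y M ha
      rw [map_sub, coef₀_proj] at h1
      have h2 : e.left.appTop b.1 - a ∈ I := by
        have h3 : e.left.appTop (b.1 - (polyProj Y M).left.appTop a) ∈
            Ideal.map e.left.appTop.hom (upIdeal Y M I) := Ideal.mem_map_of_mem _ ha
        rw [upIdeal, Ideal.map_map] at h3
        have h4 : ∀ x, e.left.appTop ((polyProj Y M).left.appTop x) = x := fun x => by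
          have := congrArg (fun k => k.left.appTop x) he
          simpa using this
        rw [show e.left.appTop.hom.comp (polyProj Y M).left.appTop.hom = RingHom.id _ from
          RingHom.ext h4, Ideal.map_id, map_sub, h4] at h3
        exact h3
      have := Ideal.sub_mem _ h1 h2
      rwa [sub_sub_sub_cancel_right] at this
    obtain ⟨q, hq⟩ := exists_redMap_comp (P := Y) (Q := polyDS Y M) (J := I) (J' := upIdeal Y M I) e
      fun x hx => by
        have h3 : e.left.appTop x ∈ Ideal.map e.left.appTop.hom (upIdeal Y M I) :=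
          Ideal.mem_map_of_mem _ hx
        rw [upIdeal, Ideal.map_map] at h3
        rwa [show e.left.appTop.hom.comp (polyProj Y M).left.appTop.hom = RingHom.id _ from
          RingHom.ext fun x => by
            have := congrArg (fun k => k.left.appTop x) he
            simpa using this, Ideal.map_id] at h3
    rw [reassoc_of% hint, hφ', ← Category.assoc, ← hq, Category.assoc, hcong, reassoc_of% hq,
      reassoc_of% he]
  choose v₁ hv₁ hv₁z using hone
  let p : ∀ i, T ⊗ Y i ⟶ T := fun i => fst T (Y i)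
  let hp : ∀ i, IsChart (T ⊗ Y i) (M i) ((snd T (Y i) ▷ _) ≫ h i) := fun i => (hh i).comp _
  have hflat' : ∀ i, Flat (p i).left := fun i => by
    haveI := hflat i
    show Flat (pullback.fst T.hom (Y i).hom)
    infer_instance
  have hcov : ∀ t : T.left, ∃ i y, (p i).left y = t := fun t => by
    obtain ⟨i, y, hy⟩ := hsurj (T.hom t)
    obtain ⟨w, hw, -⟩ := Scheme.Pullback.exists_preimage_pullback (f := T.hom) (g := (Y i).hom) t y
      hy.symm
    exact ⟨i, w, hw⟩
  have hagree : ∀ (Y₁ Y₂ : Over S) [IsAffine Y₁.left] [IsAffine Y₂.left] (y₁ : Y₁ ⟶ T)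
      (y₂ : Y₂ ⟶ T) (M₁ M₂ : Type) [AddCommGroup M₁] [AddCommGroup M₂]
      (h₁ : Y₁ ⊗ Red.DS S M₁ ⟶ H) (h₂ : Y₂ ⊗ Red.DS S M₂ ⟶ H) (_ : IsChart Y₁ M₁ h₁)
      (_ : IsChart Y₂ M₂ h₂) (Z : Over S) [IsAffine Z.left] (a : Z ⟶ Y₁) (b : Z ⟶ Y₂),
      a ≫ y₁ = b ≫ y₂ → a ≫ v₁ Y₁ y₁ M₁ h₁ = b ≫ v₁ Y₂ y₂ M₂ h₂ := by
    intro Y₁ Y₂ _ _ y₁ y₂ M₁ M₂ _ _ h₁ h₂ k₁ k₂ Z _ a b hab
    exact ((hv₁ Y₁ y₁ M₁ h₁).chart_compat hJ k₁ (k₂.comp b) a hab).unique (map_sq hJ _)
      ((hv₁ Y₂ y₂ M₂ h₂).chart_compat hJ k₂ (k₂.comp b) b rfl)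
  obtain ⟨v, hv⟩ := exists_desc (fun i => T ⊗ Y i) p hflat' hcov
    (fun i => v₁ _ (p i) (M i) ((snd T (Y i) ▷ _) ≫ h i))
    fun i j Z _ a b hab => hagree _ _ _ _ _ _ _ _ (hp i) (hp j) Z a b hab
  have hav : IsAvg hJ φ v := by
    intro Y' _ y M' _ h' hh'
    have e : y ≫ v = v₁ Y' y M' h' := by
      haveI := fun i => tensor_isAffine Y' (Y i)
      let P : (∐ fun i => (Y' ⊗ Y i).left) ⟶ Y'.left := Sigma.desc fun i => (fst Y' (Y i)).left
      haveI : Surjective P := ⟨fun t => by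
        obtain ⟨i, y₀, hy⟩ := hsurj (Y'.hom t)
        obtain ⟨w, hw, -⟩ := Scheme.Pullback.exists_preimage_pullback (f := Y'.hom)
          (g := (Y i).hom) t y₀ hy.symm
        refine ⟨Sigma.ι (fun i => (Y' ⊗ Y i).left) i w, ?_⟩
        simp only [P, ← Scheme.Hom.comp_apply, Sigma.ι_desc]
        exact hw⟩
      haveI : Flat P := IsZariskiLocalAtSource.sigmaDesc fun i => by
        haveI := hflat i
        show Flat (pullback.fst Y'.hom (Y i).hom)
        infer_instance
      haveI : Epi P := Flat.epi_of_flat_of_surjective P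
      refine Over.OverMorphism.ext ((cancel_epi P).mp (Sigma.hom_ext _ _ fun i => ?_))
      have h1 := hagree (T ⊗ Y i) Y' (p i) y _ _ _ h' (hp i) hh' (Y' ⊗ Y i) (y ▷ Y i)
        (fst Y' (Y i)) (by simp [p])
      rw [← hv, ← Category.assoc, show (y ▷ Y i) ≫ p i = fst _ _ ≫ y by simp [p], Category.assoc]
        at h1
      have h2 := congrArg CommaMorphism.left h1
      simpa [P] using h2
    rw [e]
    exact hv₁ Y' y M' h'
  refine ⟨v, hav, ?_⟩
  -- modulo `J` it is `z`
  haveI := fun i => tensor_isAffine (redObj T J) (Y i)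
  let P : (∐ fun i => (redObj T J ⊗ Y i).left) ⟶ (redObj T J).left :=
    Sigma.desc fun i => (fst (redObj T J) (Y i)).left
  haveI : Surjective P := ⟨fun t => by
    obtain ⟨i, y₀, hy⟩ := hsurj ((redObj T J).hom t)
    obtain ⟨w, hw, -⟩ := Scheme.Pullback.exists_preimage_pullback (f := (redObj T J).hom)
      (g := (Y i).hom) t y₀ hy.symm
    refine ⟨Sigma.ι (fun i => (redObj T J ⊗ Y i).left) i w, ?_⟩
    simp only [P, ← Scheme.Hom.comp_apply, Sigma.ι_desc]
    exact hw⟩
  haveI : Flat P := IsZariskiLocalAtSource.sigmaDesc fun i => by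
    haveI := hflat i
    show Flat (pullback.fst (redObj T J).hom (Y i).hom)
    infer_instance
  haveI : Epi P := Flat.epi_of_flat_of_surjective P
  refine Over.OverMorphism.ext ((cancel_epi P).mp (Sigma.hom_ext _ _ fun i => ?_))
  let yy : redObj T J ⊗ Y i ⟶ T := fst _ _ ≫ redMap T J
  have hzero : J.map yy.left.appTop.hom = ⊥ := by
    refine (Ideal.map_eq_bot_iff_le_ker _).mpr fun x hx => ?_
    rw [RingHom.mem_ker]
    show (fst (redObj T J) (Y i)).left.appTop ((redMap T J).left.appTop x) = 0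
    rw [(redMap_appTop_eq_iff T J x 0).mpr (by rwa [sub_zero]), map_zero, map_zero]
  have h1 := hv₁z _ yy (M i) ((snd (redObj T J) (Y i) ▷ _) ≫ h i)
  have h2 : yy ≫ v = v₁ _ yy (M i) ((snd (redObj T J) (Y i) ▷ _) ≫ h i) :=
    (hav _ yy (M i) _ ((hh i).comp _)).unique (map_sq hJ yy) (hv₁ _ yy (M i) _)
  haveI : IsIso (redMap (redObj T J ⊗ Y i) (J.map yy.left.appTop.hom)).left := by
    rw [hzero]
    show IsIso (Spec.map (CommRingCat.ofHom (Ideal.Quotient.mk ⊥)) ≫ _)
    haveI : IsIso (CommRingCat.ofHom (Ideal.Quotient.mk (⊥ : Ideal (Gam (redObj T J ⊗ Y i))))) :=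
      (ConcreteCategory.isIso_iff_bijective _).mpr
        ⟨(RingHom.injective_iff_ker_eq_bot _).mpr (Ideal.mk_ker), Ideal.Quotient.mk_surjective⟩
    infer_instance
  rw [← h2] at h1
  have h3 := congrArg CommaMorphism.left h1
  simp only [Over.comp_left, cancel_epi, yy, Category.assoc] at h3
  simpa [P] using h3

/-- Averages commute with morphisms of targets. -/
theorem IsAvg.comp {G' : Over S} {φ : T ⊗ H ⟶ G} {v : T ⟶ G} (hv : IsAvg hJ φ v) (f : G ⟶ G') :
    IsAvg hJ (φ ≫ f) (v ≫ f) := fun Y _ y M _ h hh => by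
  rw [onChart, ← Category.assoc, ← Category.assoc y]
  exact (hv Y y M h hh).comp _ f

theorem isAvg_const (v : T ⟶ G) : IsAvg hJ (fst T H ≫ v) v := fun Y _ y M _ h _ => by
  rw [onChart, lift_fst_assoc, Category.assoc]
  exact isMidAv_proj _ _

theorem IsAvg.mul {G : Over S} [GrpObj G] {φ ψ : T ⊗ H ⟶ G} {v w : T ⟶ G} (hv : IsAvg hJ φ v)
    (hw : IsAvg hJ ψ w) : IsAvg hJ (φ * ψ) (v * w) := fun Y _ y M _ h hh => by
  rw [onChart, MonObj.comp_mul, MonObj.comp_mul]
  exact (hv Y y M h hh).mul _ (hw Y y M h hh)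

/-- Averages are invariant under translations. -/
theorem IsAvg.translate {φ : T ⊗ H ⟶ G} {v : T ⟶ G} (hv : IsAvg hJ φ v) (s : T ⟶ H) :
    IsAvg hJ (CartesianMonoidalCategory.lift (fst T H) ((fst T H ≫ s) * snd T H) ≫ φ) v := by
  intro Y _ y M _ h hh
  obtain ⟨W, hW, hW', hc⟩ := exists_transition hh hh (𝟙 Y) (y ≫ s)
  have := (hv Y y M h hh).map (map_sq hJ y) (map_sq hJ y) W (𝟙 Y) hW
    (fun x hx => by simpa using hx) hc
  rw [Category.id_comp, onChart, comp_lift_assoc, hW', reassoc_of% hW] at this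
  simp only [onChart, comp_lift_assoc, MonObj.comp_mul, lift_fst_assoc, lift_fst, lift_snd,
    Category.assoc]
  exact this

/-- Averages are compatible with base change. -/
theorem IsAvg.base {φ : T ⊗ H ⟶ G} {v : T ⟶ G} (hv : IsAvg hJ φ v) {T' : Over S} [IsAffine T'.left]
    (g : T' ⟶ T) :
    IsAvg (map_sq hJ g) ((g ▷ H) ≫ φ) (g ≫ v) := by
  intro Y _ y M _ h hh
  have hI : J.map (y ≫ g).left.appTop.hom = (J.map g.left.appTop.hom).map y.left.appTop.hom := by
    rw [Over.comp_left, Scheme.Hom.comp_appTop, CommRingCat.hom_comp, Ideal.map_map]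
  have := (hv Y (y ≫ g) M h hh)
  have h' := this.map (map_sq hJ (y ≫ g)) (map_sq (map_sq hJ g) y) (𝟙 _) (𝟙 Y) (by simp)
    (fun x hx => by rw [hI] at hx; simpa using hx) (fun x => by simp)
  rw [Category.id_comp, Category.id_comp] at h'
  rw [onChart, lift_whiskerRight_assoc, Category.assoc, ← Category.assoc y]
  exact h'

end Groth.Agent.RedPts82
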