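import Groth.Agent.RedPts82.AvgLift

/-!
Deformations of homomorphisms between groups of multiplicative type, and passage to an affine base
with a nilpotent ideal.
-/

universe u

open CategoryTheory MonoidalCategory CartesianMonoidalCategory MonObj GrpObj AlgebraicGeometry
open CategoryTheory.Limits

namespace Groth.Agent.RedPts82

variable {S : Scheme.{u}} [IsAffine S] {H K G : Over S} [GrpObj H] [GrpObj K] [GrpObj G]

omit [GrpObj G] in
/-- A family of homomorphisms on charts. -/
theorem exists_chart_relHom {Y : Over S} [IsAffine Y.left] {M N : Type} [AddCommGroup M]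
    [AddCommGroup N] {h : Y ⊗ Red.DS S M ⟶ H} {k : Y ⊗ Red.DS S N ⟶ K} (hh : IsChart Y M h)
    (hk : IsChart Y N k) {A : Over S} (a : A ⟶ Y) (f : A ⊗ H ⟶ K) (hf : IsRelMul f) :
    ∃ f' : A ⊗ Red.DS S M ⟶ Red.DS S N,
      (∀ (Z : Over S) (z : Z ⟶ A) (t : Z ⟶ Red.DS S M),
        CartesianMonoidalCategory.lift (z ≫ a) (CartesianMonoidalCategory.lift z t ≫ f') ≫ k =
          CartesianMonoidalCategory.lift z (CartesianMonoidalCategory.lift (z ≫ a) t ≫ h) ≫ f) ∧
      IsRelHom f' := by
  obtain ⟨f', hf'⟩ := hk.surj (A ⊗ Red.DS S M) (fst _ _ ≫ a)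
    (CartesianMonoidalCategory.lift (fst _ _) ((a ▷ Red.DS S M) ≫ h) ≫ f)
  have key : ∀ (Z : Over S) (z : Z ⟶ A) (t : Z ⟶ Red.DS S M),
      CartesianMonoidalCategory.lift (z ≫ a) (CartesianMonoidalCategory.lift z t ≫ f') ≫ k =
        CartesianMonoidalCategory.lift z (CartesianMonoidalCategory.lift (z ≫ a) t ≫ h) ≫ f := by
    intro Z z t
    have := congrArg (fun w => CartesianMonoidalCategory.lift z t ≫ w) hf'
    simpa only [comp_lift_assoc, lift_fst_assoc, lift_fst, lift_whiskerRight_assoc] using this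
  refine ⟨f', key, fun Z z t t' => hk.inj Z (z ≫ a) _ _ ?_⟩
  rw [hk.mul, key, key, key, hh.mul, hf]

omit [GrpObj G] in
/-- Families of homomorphisms between groups of multiplicative type congruent modulo an ideal of
square zero agree on charts. -/
theorem eq_on_charts {T : Over S} [IsAffine T.left] {J : Ideal (Gam T)} (hJ : J * J = ⊥)
    {M N : Type} [AddCommGroup M] [AddCommGroup N] {h : T ⊗ Red.DS S M ⟶ H}
    {k : T ⊗ Red.DS S N ⟶ K} (hh : IsChart T M h) (hk : IsChart T N k) {f f' : T ⊗ H ⟶ K}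
    (hf : IsRelMul f) (hf' : IsRelMul f') (e : (redMap T J ▷ H) ≫ f = (redMap T J ▷ H) ≫ f') :
    f = f' := by
  obtain ⟨g, hg, hgm⟩ := exists_chart_relHom hh hk (𝟙 T) f hf
  obtain ⟨g', hg', hgm'⟩ := exists_chart_relHom hh hk (𝟙 T) f' hf'
  simp only [Category.comp_id] at hg hg'
  have hgg : g = g' := IsRelHom.eq_of_congr hJ hgm hgm' fun Z z t => hk.inj Z (z ≫ redMap T J) _ _ (by
    have := congrArg (fun w => CartesianMonoidalCategory.lift z
      (CartesianMonoidalCategory.lift (z ≫ redMap T J) t ≫ h) ≫ w) e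
    simp only [lift_whiskerRight_assoc] at this
    rw [hg, hg', this])
  obtain ⟨t, ht⟩ := hh.surj (T ⊗ H) (fst _ _) (snd _ _)
  have h1 := hg _ (fst T H) t
  have h2 := hg' _ (fst T H) t
  rw [ht, lift_fst_snd, Category.id_comp] at h1 h2
  rw [← h1, ← h2, hgg]

omit [IsAffine S] [GrpObj H] [GrpObj K] [GrpObj G] in
theorem isPullback_whisker {A B : Over S} (p : A ⟶ B) :
    IsPullback (fst A H).left (p ▷ H).left p.left (fst B H).left := by
  refine IsPullback.flip (IsPullback.of_right (h₁₂ := (snd B H).left) (v₁₃ := H.hom) (h₂₂ := B.hom) ?_ ?_ ?_)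
  · have e : (p ▷ H).left ≫ (snd B H).left = (snd A H).left :=
      congrArg CommaMorphism.left (whiskerRight_snd p H)
    rw [e, Over.w p]
    exact (IsPullback.of_hasPullback A.hom H.hom).flip
  · exact congrArg CommaMorphism.left (whiskerRight_fst p H)
  · exact (IsPullback.of_hasPullback B.hom H.hom).flip

omit [GrpObj G] in
/-- Charts of two groups over a common finite flat cover. -/
theorem exists_charts₂ (hH : IsMultType H) (hK : IsMultType K) (T : Over S) [IsAffine T.left] :
    ∃ (κ : Type u) (_ : Finite κ) (Y : κ → Over S) (_ : ∀ i, IsAffine (Y i).left)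
      (p : ∀ i, Y i ⟶ T) (M N : κ → Type) (_ : ∀ i, AddCommGroup (M i))
      (_ : ∀ i, AddCommGroup (N i)) (h : ∀ i, Y i ⊗ Red.DS S (M i) ⟶ H)
      (k : ∀ i, Y i ⊗ Red.DS S (N i) ⟶ K),
      (∀ i, IsChart (Y i) (M i) (h i)) ∧ (∀ i, IsChart (Y i) (N i) (k i)) ∧
        (∀ i, Flat (p i).left) ∧ ∀ t : T.left, ∃ i y, (p i).left y = t := by
  obtain ⟨κ₁, _, Y₁, hY₁, M, hM, h, hh, hflat₁, hsurj₁⟩ := exists_charts hH
  obtain ⟨κ₂, _, Y₂, hY₂, N, hN, k, hk, hflat₂, hsurj₂⟩ := exists_charts hK
  letI := hM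
  letI := hN
  refine ⟨κ₁ × κ₂, inferInstance, fun ij => T ⊗ (Y₁ ij.1 ⊗ Y₂ ij.2), fun ij => ?_,
    fun ij => fst _ _, fun ij => M ij.1, fun ij => N ij.2, fun ij => hM ij.1, fun ij => hN ij.2,
    fun ij => ((snd T _ ≫ fst _ _) ▷ _) ≫ h ij.1, fun ij => ((snd T _ ≫ snd _ _) ▷ _) ≫ k ij.2,
    fun ij => (hh ij.1).comp _, fun ij => (hk ij.2).comp _, fun ij => ?_, fun t => ?_⟩
  · haveI := tensor_isAffine (Y₁ ij.1) (Y₂ ij.2)
    exact tensor_isAffine T _
  · haveI := hflat₁ ij.1
    haveI := hflat₂ ij.2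
    show Flat (pullback.fst T.hom (pullback.fst (Y₁ ij.1).hom (Y₂ ij.2).hom ≫ (Y₁ ij.1).hom))
    infer_instance
  · obtain ⟨i, a, ha⟩ := hsurj₁ (T.hom t)
    obtain ⟨j, b, hb⟩ := hsurj₂ (T.hom t)
    obtain ⟨c, hc, -⟩ := Scheme.Pullback.exists_preimage_pullback (f := (Y₁ i).hom)
      (g := (Y₂ j).hom) a b (ha.trans hb.symm)
    obtain ⟨d, hd, -⟩ := Scheme.Pullback.exists_preimage_pullback (f := T.hom)
      (g := (Y₁ i ⊗ Y₂ j).hom) t c (by
        show T.hom t = (Y₁ i).hom ((pullback.fst (Y₁ i).hom (Y₂ j).hom) c)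
        rw [hc, ha])
    exact ⟨(i, j), d, hd⟩

omit [GrpObj G] in
theorem whisker_cover {κ : Type u} {T : Over S} {Y : κ → Over S} (p : ∀ i, Y i ⟶ T)
    (hflat : ∀ i, Flat (p i).left) (hsurj : ∀ t : T.left, ∃ i y, (p i).left y = t) :
    (∀ i, Flat (p i ▷ H).left) ∧ ∀ w : (T ⊗ H).left, ∃ i y, (p i ▷ H).left y = w := by
  refine ⟨fun i => MorphismProperty.of_isPullback (isPullback_whisker (p i)) (hflat i), fun w => ?_⟩
  obtain ⟨i, y, hy⟩ := hsurj ((fst T H).left w)
  let sq := isPullback_whisker (H := H) (p i)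
  obtain ⟨z, -, hz⟩ := Scheme.Pullback.exists_preimage_pullback (f := (p i).left)
    (g := (fst T H).left) y w hy
  refine ⟨i, sq.isoPullback.inv z, ?_⟩
  rw [← hz, ← Scheme.Hom.comp_apply, IsPullback.isoPullback_inv_snd]

omit [IsAffine S] [GrpObj H] [GrpObj K] [GrpObj G] in
/-- Morphisms can be compared on a flat cover of an object below the source. -/
theorem hom_ext_of_flat {κ : Type u} {T : Over S} {Y : κ → Over S} (p : ∀ i, Y i ⟶ T)
    (hflat : ∀ i, Flat (p i).left) (hsurj : ∀ t : T.left, ∃ i y, (p i).left y = t) {Z X : Over S}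
    (x : Z ⟶ T) (a b : Z ⟶ X)
    (h : ∀ i (W : Over S) (w : W ⟶ Z) (y : W ⟶ Y i), w ≫ x = y ≫ p i → w ≫ a = w ≫ b) : a = b := by
  let P : (∐ fun i => pullback x.left (p i).left) ⟶ Z.left :=
    Sigma.desc fun i => pullback.fst x.left (p i).left
  haveI : Surjective P := ⟨fun w => by
    obtain ⟨i, y, hy⟩ := hsurj (x.left w)
    obtain ⟨z, hz, -⟩ := Scheme.Pullback.exists_preimage_pullback (f := x.left) (g := (p i).left) w y
      hy.symm
    exact ⟨Sigma.ι (fun i => pullback x.left (p i).left) i z, by simpa [P, ← Scheme.Hom.comp_apply] using hz⟩⟩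
  haveI : Flat P := IsZariskiLocalAtSource.sigmaDesc fun i => by
    haveI := hflat i
    infer_instance
  haveI : Epi P := Flat.epi_of_flat_of_surjective P
  refine Over.OverMorphism.ext ((cancel_epi P).mp (Sigma.hom_ext _ _ fun i => ?_))
  let W : Over S := Over.mk (pullback.fst x.left (p i).left ≫ Z.hom)
  let w : W ⟶ Z := Over.homMk (pullback.fst x.left (p i).left) rfl
  let y : W ⟶ Y i := Over.homMk (pullback.snd x.left (p i).left) (by
    show _ ≫ (Y i).hom = _ ≫ Z.hom
    rw [← Over.w x, ← Over.w (p i), ← Category.assoc, ← Category.assoc, pullback.condition])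
  have := congrArg CommaMorphism.left (h i W w y (Over.OverMorphism.ext pullback.condition))
  simpa [P, w] using this

omit [GrpObj G] in
/-- Families of homomorphisms between groups of multiplicative type congruent modulo an ideal of
square zero are equal. -/
theorem relMul_eq_of_congr (hH : IsMultType H) (hK : IsMultType K) (T : Over S) [IsAffine T.left]
    {J : Ideal (Gam T)} (hJ : J * J = ⊥) {f f' : T ⊗ H ⟶ K} (hf : IsRelMul f) (hf' : IsRelMul f')
    (e : (redMap T J ▷ H) ≫ f = (redMap T J ▷ H) ≫ f') : f = f' := by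
  obtain ⟨κ, _, Y, hY, p, M, N, hM, hN, h, k, hh, hk, hflat, hsurj⟩ := exists_charts₂ hH hK T
  letI := hM
  letI := hN
  obtain ⟨hflat', hsurj'⟩ := whisker_cover (H := H) p hflat hsurj
  have hff : ∀ i, (p i ▷ H) ≫ f = (p i ▷ H) ≫ f' := by
    intro i
    obtain ⟨r, hr⟩ := exists_factor_red (J := J)
      (redMap (Y i) (J.map (p i).left.appTop.hom) ≫ p i) (by
        rw [Over.comp_left, Scheme.Hom.comp_appTop, CommRingCat.hom_comp, ← Ideal.map_map]
        exact map_redMap_eq_bot _ _)
    refine eq_on_charts (map_sq hJ (p i)) (hh i) (hk i) ?_ ?_ ?_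
    · intro Z z a a'
      simp only [lift_whiskerRight_assoc]
      exact hf Z _ a a'
    · intro Z z a a'
      simp only [lift_whiskerRight_assoc]
      exact hf' Z _ a a'
    · rw [← comp_whiskerRight_assoc, ← comp_whiskerRight_assoc, ← hr, comp_whiskerRight_assoc,
        comp_whiskerRight_assoc, e]
  refine hom_ext_of_flat (fun i => p i ▷ H) hflat' hsurj' (𝟙 _) f f' fun i W w y hwy => ?_
  rw [Category.comp_id] at hwy
  rw [hwy, Category.assoc, Category.assoc, hff]

omit [GrpObj G] in
set_option maxHeartbeats 1000000 in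
/-- Homomorphisms between groups of multiplicative type lift along ideals of square zero. -/
theorem exists_mult_hom_lift_sq (hH : IsMultType H) (hK : IsMultType K) (T : Over S)
    [IsAffine T.left] {J : Ideal (Gam T)} (hJ : J * J = ⊥) (f₀ : redObj T J ⊗ H ⟶ K)
    (hf₀ : IsRelMul f₀) : ∃ f : T ⊗ H ⟶ K, (redMap T J ▷ H) ≫ f = f₀ ∧ IsRelMul f := by
  haveI := isMultType_isAffineHom hH
  obtain ⟨κ, _, Y, hY, p, M, N, hM, hN, h, k, hh, hk, hflat, hsurj⟩ := exists_charts₂ hH hK T
  letI := hM
  letI := hN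
  obtain ⟨hflat', hsurj'⟩ := whisker_cover (H := H) p hflat hsurj
  let I : ∀ i, Ideal (Gam (Y i)) := fun i => J.map (p i).left.appTop.hom
  have hloc : ∀ i, ∃ F : Y i ⊗ H ⟶ K, IsRelMul F ∧ ∀ r : redObj (Y i) (I i) ⟶ redObj T J,
      r ≫ redMap T J = redMap (Y i) (I i) ≫ p i →
      (redMap (Y i) (I i) ▷ H) ≫ F = (r ▷ H) ≫ f₀ := by
    intro i
    obtain ⟨r, hr⟩ := exists_factor_red (J := J) (redMap (Y i) (I i) ≫ p i) (by
      rw [Over.comp_left, Scheme.Hom.comp_appTop, CommRingCat.hom_comp, ← Ideal.map_map]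
      exact map_redMap_eq_bot _ _)
    have hr0 : IsRelMul ((r ▷ H) ≫ f₀) := fun Z z a a' => by
      simp only [lift_whiskerRight_assoc]
      exact hf₀ Z _ a a'
    obtain ⟨f₁, hf₁, hm₁⟩ := exists_chart_relHom (hh i) (hk i) (redMap (Y i) (I i)) _ hr0
    obtain ⟨f', hm', hf'⟩ := exists_relHom_lift (map_sq hJ (p i)) f₁ hm₁
    obtain ⟨t, ht⟩ := (hh i).surj (Y i ⊗ H) (fst _ _) (snd _ _)
    let F : Y i ⊗ H ⟶ K := CartesianMonoidalCategory.lift (fst _ _)
      (CartesianMonoidalCategory.lift (fst _ _) t ≫ f') ≫ k i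
    have hF : ∀ (Z : Over S) (z : Z ⟶ Y i) (s : Z ⟶ Red.DS S (M i)),
        CartesianMonoidalCategory.lift z (CartesianMonoidalCategory.lift z s ≫ h i) ≫ F =
          CartesianMonoidalCategory.lift z (CartesianMonoidalCategory.lift z s ≫ f') ≫ k i := by
      intro Z z s
      have hts : CartesianMonoidalCategory.lift z (CartesianMonoidalCategory.lift z s ≫ h i) ≫ t = s := by
        refine (hh i).inj Z z _ _ ?_
        have := congrArg
          (fun w => CartesianMonoidalCategory.lift z (CartesianMonoidalCategory.lift z s ≫ h i) ≫ w) ht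
        simpa only [comp_lift_assoc, lift_fst, lift_snd] using this
      simp only [F, comp_lift_assoc, lift_fst, hts]
    refine ⟨F, fun Z z a a' => ?_, fun r' hr' => ?_⟩
    · obtain ⟨s, rfl⟩ := (hh i).surj Z z a
      obtain ⟨s', rfl⟩ := (hh i).surj Z z a'
      rw [← (hh i).mul, hF, hF, hF, hm', (hk i).mul]
    · haveI : Mono (redMap T J).left := inferInstanceAs (Mono (Spec.map _ ≫ _))
      haveI : Mono (redMap T J) := Over.mono_of_mono_left _
      obtain rfl : r' = r := (cancel_mono (redMap T J)).mp (hr'.trans hr.symm)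
      obtain ⟨s, hs⟩ := (hh i).surj (redObj (Y i) (I i) ⊗ H) (fst _ _ ≫ redMap (Y i) (I i)) (snd _ _)
      have h1 := hf₁ _ (fst (redObj (Y i) (I i)) H) s
      rw [← hf', hs, ← hF, hs, lift_fst_snd, Category.id_comp] at h1
      rw [← h1]
      refine congrArg (· ≫ F) ?_
      apply CartesianMonoidalCategory.hom_ext <;> simp
  choose F hFm hF using hloc
  haveI := fun i => isAffine_tensor' (H := H) (isMultType_isAffineHom hH) (Y i)
  haveI := isAffine_tensor' (H := H) (isMultType_isAffineHom hH) T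
  obtain ⟨f, hf⟩ := exists_desc (fun i => Y i ⊗ H) (fun i => p i ▷ H) hflat' hsurj' F
    fun i j Z _ a b hab => by
    let ai := a ≫ fst _ _
    let bj := b ≫ fst _ _
    have hp : ai ≫ p i = bj ≫ p j := by
      have := congrArg (· ≫ fst T H) hab
      simpa [ai, bj] using this
    have hs : a ≫ snd _ _ = b ≫ snd _ _ := by
      have := congrArg (· ≫ snd T H) hab
      simpa using this
    have key : (ai ▷ H) ≫ F i = (bj ▷ H) ≫ F j := by
      obtain ⟨ri, hri⟩ := exists_factor_red (J := J) (redMap (Y i) (I i) ≫ p i) (by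
        rw [Over.comp_left, Scheme.Hom.comp_appTop, CommRingCat.hom_comp, ← Ideal.map_map]
        exact map_redMap_eq_bot _ _)
      obtain ⟨rj, hrj⟩ := exists_factor_red (J := J) (redMap (Y j) (I j) ≫ p j) (by
        rw [Over.comp_left, Scheme.Hom.comp_appTop, CommRingCat.hom_comp, ← Ideal.map_map]
        exact map_redMap_eq_bot _ _)
      let IZ := J.map (ai ≫ p i).left.appTop.hom
      obtain ⟨qi, hqi⟩ := exists_factor_red (J := I i) (redMap Z IZ ≫ ai) (by
        rw [Ideal.map_map, ← CommRingCat.hom_comp, ← Scheme.Hom.comp_appTop, ← Over.comp_left,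
          Category.assoc, Over.comp_left, Scheme.Hom.comp_appTop, CommRingCat.hom_comp,
          ← Ideal.map_map]
        exact map_redMap_eq_bot _ _)
      obtain ⟨qj, hqj⟩ := exists_factor_red (J := I j) (redMap Z IZ ≫ bj) (by
        rw [Ideal.map_map, ← CommRingCat.hom_comp, ← Scheme.Hom.comp_appTop, ← Over.comp_left,
          Category.assoc, ← hp]
        rw [Over.comp_left, Scheme.Hom.comp_appTop, CommRingCat.hom_comp,
          ← Ideal.map_map]
        exact map_redMap_eq_bot _ _)
      refine relMul_eq_of_congr hH hK Z (map_sq hJ (ai ≫ p i)) ?_ ?_ ?_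
      · intro W z u u'
        simp only [lift_whiskerRight_assoc]
        exact hFm i W _ u u'
      · intro W z u u'
        simp only [lift_whiskerRight_assoc]
        exact hFm j W _ u u'
      · show (redMap Z IZ ▷ H) ≫ (ai ▷ H) ≫ F i = (redMap Z IZ ▷ H) ≫ (bj ▷ H) ≫ F j
        rw [← comp_whiskerRight_assoc, ← comp_whiskerRight_assoc, ← hqi, ← hqj,
          comp_whiskerRight_assoc, comp_whiskerRight_assoc, hF i ri hri, hF j rj hrj,
          ← comp_whiskerRight_assoc, ← comp_whiskerRight_assoc]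
        haveI : Mono (redMap T J).left := inferInstanceAs (Mono (Spec.map _ ≫ _))
        haveI : Mono (redMap T J) := Over.mono_of_mono_left _
        rw [show qi ≫ ri = qj ≫ rj by
          rw [← cancel_mono (redMap T J), Category.assoc, Category.assoc, hri, hrj, ← Category.assoc,
            ← Category.assoc, hqi, hqj, Category.assoc (redMap Z IZ) ai (p i),
            Category.assoc (redMap Z IZ) bj (p j), hp]]
    have e1 : CartesianMonoidalCategory.lift (𝟙 Z) (a ≫ snd _ _) ≫ (ai ▷ H) = a := by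
      apply CartesianMonoidalCategory.hom_ext <;> simp [ai]
    have e2 : CartesianMonoidalCategory.lift (𝟙 Z) (a ≫ snd _ _) ≫ (bj ▷ H) = b := by
      apply CartesianMonoidalCategory.hom_ext <;> simp [bj, hs]
    rw [← e1, Category.assoc, key, ← Category.assoc, e2]
  refine ⟨f, ?_, fun Z x u u' => ?_⟩
  · refine hom_ext_of_flat p hflat hsurj (fst _ _ ≫ redMap T J) _ _ fun i W w y hwy => ?_
    -- the projection to `Y i` kills the ideal
    let Q : Over S := Over.mk (pullback.fst (redMap T J).left (p i).left ≫ (redObj T J).hom)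
    let c : Q ⟶ redObj T J := Over.homMk (pullback.fst (redMap T J).left (p i).left) rfl
    let d : Q ⟶ Y i := Over.homMk (pullback.snd (redMap T J).left (p i).left) (by
      show _ ≫ (Y i).hom = _ ≫ (redObj T J).hom
      rw [← Over.w (redMap T J), ← Over.w (p i), ← Category.assoc, ← Category.assoc,
        pullback.condition])
    haveI : IsAffine Q.left := inferInstanceAs (IsAffine (pullback (redMap T J).left (p i).left))
    have hcd : c ≫ redMap T J = d ≫ p i := Over.OverMorphism.ext pullback.condition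
    obtain ⟨q, hq⟩ := exists_factor_red (J := I i) d (by
      rw [Ideal.map_map, ← CommRingCat.hom_comp, ← Scheme.Hom.comp_appTop, ← Over.comp_left, ← hcd,
        Over.comp_left, Scheme.Hom.comp_appTop, CommRingCat.hom_comp, ← Ideal.map_map,
        map_redMap_eq_bot, Ideal.map_bot])
    obtain ⟨r, hr⟩ := exists_factor_red (J := J) (redMap (Y i) (I i) ≫ p i) (by
      rw [Over.comp_left, Scheme.Hom.comp_appTop, CommRingCat.hom_comp, ← Ideal.map_map]
      exact map_redMap_eq_bot _ _)
    haveI : Mono (redMap T J).left := inferInstanceAs (Mono (Spec.map _ ≫ _))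
    haveI : Mono (redMap T J) := Over.mono_of_mono_left _
    have hqr : q ≫ r = c := by
      rw [← cancel_mono (redMap T J), Category.assoc, hr, reassoc_of% hq, hcd]
    let l : W ⟶ Q := Over.homMk (pullback.lift (w ≫ fst _ _).left y.left (by
        have := congrArg CommaMorphism.left hwy
        simpa using this)) (by
      show pullback.lift _ _ _ ≫ pullback.fst _ _ ≫ (redObj T J).hom = _
      rw [pullback.lift_fst_assoc]
      exact Over.w (w ≫ fst _ _))
    have hlc : l ≫ c = w ≫ fst _ _ := Over.OverMorphism.ext (pullback.lift_fst _ _ _)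
    have e : (q ▷ H) ≫ (redMap (Y i) (I i) ▷ H) ≫ F i = (c ▷ H) ≫ f₀ := by
      rw [hF i r hr, ← comp_whiskerRight_assoc, hqr]
    have h1 := congrArg (fun k => CartesianMonoidalCategory.lift l (w ≫ snd _ _) ≫ k) e
    simp only [← hf i, ← comp_whiskerRight_assoc, hq, hcd.symm] at h1
    simp only [lift_whiskerRight_assoc, reassoc_of% hlc, hlc] at h1
    have e2 : CartesianMonoidalCategory.lift (w ≫ fst _ _) (w ≫ snd _ _) = w := by
      rw [← comp_lift, lift_fst_snd, Category.comp_id]
    rw [← Category.assoc, show w ≫ (redMap T J ▷ H) =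
      CartesianMonoidalCategory.lift (w ≫ fst _ _ ≫ redMap T J) (w ≫ snd _ _) by
        apply CartesianMonoidalCategory.hom_ext <;> simp]
    rw [reassoc_of% hq, ← hcd, reassoc_of% hlc] at h1
    exact h1.trans (by rw [e2])
  · refine hom_ext_of_flat p hflat hsurj x _ _ fun i W w y hwy => ?_
    have := hFm i W y (w ≫ u) (w ≫ u')
    rw [← hf i] at this
    simp only [lift_whiskerRight_assoc, ← hwy] at this
    simpa only [MonObj.comp_mul, comp_lift_assoc] using this

end Groth.Agent.RedPts82
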