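import Groth.Agent.RedPts82.GaCoord
import Groth.Agent.RedPts82.TorusBasic
import Groth.Agent.RedPts82.Comm
import Groth.Agent.RedPts82.Bridge
import Groth.Agent.S5421
import Mathlib.FieldTheory.IsAlgClosed.AlgebraicClosure

/-!
The big cell of a rank-one system: decomposition of its points, stability under the torus, and
rigidity of morphisms out of the additive group which commute with the action of the torus.
-/

universe u

open CategoryTheory MonoidalCategory CartesianMonoidalCategory MonObj GrpObj AlgebraicGeometry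
open CategoryTheory.Limits

namespace Groth.Agent.RedPts82

variable {S : Scheme.{u}}

/-- A character nontrivial on the geometric fibres has roots after a flat surjective extension. -/
theorem exists_root {T : Over S} [GrpObj T] (hT : Red.IsTorus T) (α : T ⟶ Red.Gm S) [IsMonHom α]
    (hα : ∀ s : S, (Over.pullback (Red.geomPt s)).map α ≠ 1) {X : Over S} (z : X ⟶ Red.Gm S) :
    ∃ (X' : Over S) (g : X' ⟶ X) (t : X' ⟶ T), Flat g.left ∧ Surjective g.left ∧ t ≫ α = g ≫ z := by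
  obtain ⟨hf, hs⟩ := (Groth.Agent.S5421.result S T hT α).2.mp hα
  refine ⟨Over.mk (pullback.fst z.left α.left ≫ X.hom), Over.homMk (pullback.fst z.left α.left) rfl,
    Over.homMk (pullback.snd z.left α.left) ?_, ?_, ?_, ?_⟩
  · show _ = pullback.fst z.left α.left ≫ X.hom
    rw [← Over.w z, ← Over.w α, pullback.condition_assoc]
  · exact MorphismProperty.pullback_fst (P := @Flat) _ _ hf
  · exact MorphismProperty.pullback_fst (P := @Surjective) _ _ hs
  · exact Over.OverMorphism.ext pullback.condition.symm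

theorem coeff_eval₂_single {A B : Type u} [CommRing A] [CommRing B] (φ : A →+* B) (b : B)
    (p : Polynomial A) (n : ℕ) :
    (p.eval₂ (MonoidAlgebra.singleOneRingHom.comp φ)
      (MonoidAlgebra.single (Multiplicative.ofAdd (1 : ℤ)) b)).coeff (Multiplicative.ofAdd (n : ℤ)) =
      φ (p.coeff n) * b ^ n := by
  classical
  induction p using Polynomial.induction_on' with
  | add p q hp hq =>
    simp only [Polynomial.eval₂_add, MonoidAlgebra.coeff_add, Finsupp.add_apply, hp, hq,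
      Polynomial.coeff_add, map_add, add_mul]
  | monomial m a =>
    rw [Polynomial.eval₂_monomial, MonoidAlgebra.single_pow]
    show (MonoidAlgebra.single (1 : Multiplicative ℤ) (φ a) * _).coeff _ = _
    rw [MonoidAlgebra.single_mul_single, _root_.one_mul, MonoidAlgebra.coeff_single,
      Finsupp.single_apply, Polynomial.coeff_monomial, ← ofAdd_nsmul]
    by_cases h : m = n
    · subst h
      simp
    · rw [if_neg h, if_neg, map_zero, zero_mul]
      intro h'
      apply h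
      simpa using h'

variable {G T : Over S} [GrpObj G] [GrpObj T]

/-- The cell map. -/
noncomputable abbrev cell (i : T ⟶ G) (pp pm : Red.Ga S ⟶ G) :
    (Red.Ga S ⊗ T) ⊗ Red.Ga S ⟶ G :=
  ((pm ⊗ₘ i) ⊗ₘ pp) ≫ (μ[G] ▷ G) ≫ μ[G]

omit [GrpObj T] in
theorem cell_pt (i : T ⟶ G) (pp pm : Red.Ga S ⟶ G) {X : Over S} (w : X ⟶ (Red.Ga S ⊗ T) ⊗ Red.Ga S) :
    w ≫ cell i pp pm =
      (w ≫ fst _ _ ≫ fst _ _ ≫ pm) * (w ≫ fst _ _ ≫ snd _ _ ≫ i) * (w ≫ snd _ _ ≫ pp) := by
  have hw : w = lift (lift (w ≫ fst _ _ ≫ fst _ _) (w ≫ fst _ _ ≫ snd _ _)) (w ≫ snd _ _) := by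
    ext <;> simp
  conv_lhs => rw [hw]
  simp [cell, Hom.mul_def]
  exact (_root_.mul_assoc _ _ _).symm

/-- A point lies in the cell, set-theoretically. -/
def InCell (i : T ⟶ G) (pp pm : Red.Ga S ⟶ G) {X : Over S} (g : X ⟶ G) : Prop :=
  Set.range g.left.base ⊆ Set.range (cell i pp pm).left.base

omit [GrpObj T] in
theorem InCell.comp {i : T ⟶ G} {pp pm : Red.Ga S ⟶ G} {X X' : Over S} {g : X ⟶ G}
    (h : InCell i pp pm g) (k : X' ⟶ X) : InCell i pp pm (k ≫ g) := by
  rintro _ ⟨x, rfl⟩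
  exact h ⟨k.left x, rfl⟩

omit [GrpObj T] in
theorem InCell.of_surjective {i : T ⟶ G} {pp pm : Red.Ga S ⟶ G} {X X' : Over S} {g : X ⟶ G}
    (k : X' ⟶ X) (hk : Surjective k.left) (h : InCell i pp pm (k ≫ g)) : InCell i pp pm g := by
  rintro _ ⟨x, rfl⟩
  obtain ⟨x', rfl⟩ := hk.1 x
  exact h ⟨x', rfl⟩

omit [GrpObj T] in
theorem cell_lift (i : T ⟶ G) (pp pm : Red.Ga S ⟶ G) {X : Over S} (y : X ⟶ Red.Ga S) (t : X ⟶ T)
    (x : X ⟶ Red.Ga S) : lift (lift y t) x ≫ cell i pp pm = (y ≫ pm) * (t ≫ i) * (x ≫ pp) := by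
  rw [cell_pt]
  simp

omit [GrpObj T] in
theorem inCell_mk (i : T ⟶ G) (pp pm : Red.Ga S ⟶ G) {X : Over S} (y : X ⟶ Red.Ga S) (t : X ⟶ T)
    (x : X ⟶ Red.Ga S) : InCell i pp pm ((y ≫ pm) * (t ≫ i) * (x ≫ pp)) := by
  rw [← cell_lift]
  rintro _ ⟨p, rfl⟩
  exact ⟨(lift (lift y t) x).left p, rfl⟩

/-- The hypotheses on a rank-one cell, bundled. -/
structure BC (G T : Over S) [GrpObj G] [GrpObj T] (i : T ⟶ G) (α : T ⟶ Red.Gm S)
    (pp pm : Red.Ga S ⟶ G) : Prop where
  hi : IsMonHom i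
  hα : IsMonHom α
  hp : IsMonHom pp
  hm : IsMonHom pm
  hT : Red.IsTorus T
  hpp : ∀ (X : Over S) (t : X ⟶ T) (x : X ⟶ Red.Ga S), ∃ x' : X ⟶ Red.Ga S,
      x' ≫ pp = (t ≫ i) * (x ≫ pp) * (t ≫ i)⁻¹ ∧ Red.gaFn x' = Red.gmFn (t ≫ α) * Red.gaFn x
  hpm : ∀ (X : Over S) (t : X ⟶ T) (y : X ⟶ Red.Ga S), ∃ y' : X ⟶ Red.Ga S,
      y' ≫ pm = (t ≫ i) * (y ≫ pm) * (t ≫ i)⁻¹ ∧ Red.gaFn y' * Red.gmFn (t ≫ α) = Red.gaFn y
  hne : ∀ s : S, (Over.pullback (Red.geomPt s)).map α ≠ 1
  hΩ : IsOpenImmersion (cell i pp pm).left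

variable {i : T ⟶ G} {α : T ⟶ Red.Gm S} {pp pm : Red.Ga S ⟶ G} (H : BC G T i α pp pm)

include H in
theorem BC.mono_cell : Mono (cell i pp pm) := by
  have := H.hΩ
  exact Over.mono_of_mono_left _

include H in
theorem BC.inj {X : Over S} {y y' : X ⟶ Red.Ga S} {t t' : X ⟶ T} {x x' : X ⟶ Red.Ga S}
    (h : (y ≫ pm) * (t ≫ i) * (x ≫ pp) = (y' ≫ pm) * (t' ≫ i) * (x' ≫ pp)) :
    y = y' ∧ t = t' ∧ x = x' := by
  have := H.mono_cell
  have e : lift (lift y t) x = lift (lift y' t') x' := by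
    exact (cancel_mono (cell i pp pm)).mp
      ((cell_lift i pp pm y t x).trans (h.trans (cell_lift i pp pm y' t' x').symm))
  have e1 := congrArg (fun k => k ≫ fst _ _ ≫ fst _ _) e
  have e2 := congrArg (fun k => k ≫ fst _ _ ≫ snd _ _) e
  have e3 := congrArg (fun k => k ≫ snd _ _) e
  simp at e1 e2 e3
  exact ⟨e1, e2, e3⟩

include H in
theorem BC.exists_of_inCell {X : Over S} {g : X ⟶ G} (h : InCell i pp pm g) :
    ∃ (y : X ⟶ Red.Ga S) (t : X ⟶ T) (x : X ⟶ Red.Ga S), g = (y ≫ pm) * (t ≫ i) * (x ≫ pp) := by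
  have := H.hΩ
  let w : X ⟶ (Red.Ga S ⊗ T) ⊗ Red.Ga S :=
    Over.homMk (IsOpenImmersion.lift (cell i pp pm).left g.left h) (by
      rw [← Over.w (cell i pp pm), ← Category.assoc, IsOpenImmersion.lift_fac]
      exact Over.w g)
  have hw : w ≫ cell i pp pm = g :=
    Over.OverMorphism.ext (IsOpenImmersion.lift_fac (cell i pp pm).left g.left h)
  refine ⟨w ≫ fst _ _ ≫ fst _ _, w ≫ fst _ _ ≫ snd _ _, w ≫ snd _ _, ?_⟩
  rw [← hw, cell_pt]
  simp only [Category.assoc]

include H in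
theorem BC.exists_iff {X : Over S} (g : X ⟶ G) :
    InCell i pp pm g ↔ ∃ w : X ⟶ (Red.Ga S ⊗ T) ⊗ Red.Ga S, w ≫ cell i pp pm = g := by
  refine ⟨fun h => ?_, ?_⟩
  · obtain ⟨y, t, x, rfl⟩ := H.exists_of_inCell h
    exact ⟨lift (lift y t) x, cell_lift i pp pm y t x⟩
  · rintro ⟨w, rfl⟩ _ ⟨p, rfl⟩
    exact ⟨w.left p, rfl⟩

include H in
/-- Conjugation of a cell decomposition by a point of the torus. -/
theorem BC.conj_cell {X : Over S} (t s : X ⟶ T) (y x : X ⟶ Red.Ga S) :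
    ∃ y' x' : X ⟶ Red.Ga S, Red.gaFn y' * Red.gmFn (t ≫ α) = Red.gaFn y ∧
      Red.gaFn x' = Red.gmFn (t ≫ α) * Red.gaFn x ∧
      (t ≫ i) * ((y ≫ pm) * (s ≫ i) * (x ≫ pp)) * (t ≫ i)⁻¹ = (y' ≫ pm) * (s ≫ i) * (x' ≫ pp) := by
  have := H.hi
  obtain ⟨y', hy, hy'⟩ := H.hpm X t y
  obtain ⟨x', hx, hx'⟩ := H.hpp X t x
  refine ⟨y', x', hy', hx', ?_⟩
  have hcomm : (t ≫ i) * (s ≫ i) = (s ≫ i) * (t ≫ i) := by
    rw [← MonObj.mul_comp t s i, ← MonObj.mul_comp s t i, isTorus_points_comm H.hT]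
  rw [hy, hx]
  calc _ = ((t ≫ i) * (y ≫ pm) * (t ≫ i)⁻¹) * ((t ≫ i) * (s ≫ i)) * (t ≫ i)⁻¹ *
      ((t ≫ i) * (x ≫ pp) * (t ≫ i)⁻¹) := by group
    _ = _ := by rw [hcomm]; group

include H in
theorem BC.inCell_conj {X : Over S} (t : X ⟶ T) {g : X ⟶ G} (h : InCell i pp pm g) :
    InCell i pp pm ((t ≫ i) * g * (t ≫ i)⁻¹) := by
  obtain ⟨y, s, x, rfl⟩ := H.exists_of_inCell h
  obtain ⟨y', x', -, -, e⟩ := H.conj_cell t s y x
  rw [e]
  exact inCell_mk ..

omit [GrpObj T] in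
theorem InCell.of_field_points {X : Over S} {g : X ⟶ G}
    (h : ∀ (K : Type u) [Field K] [IsAlgClosed K] (W : Over S) [IsAffine W.left]
      (_ : K ≃+* Γ(W.left, ⊤)) (x : W ⟶ X), InCell i pp pm (x ≫ g)) : InCell i pp pm g := by
  rintro _ ⟨p, rfl⟩
  let K := AlgebraicClosure (X.left.residueField p)
  let l : Spec (CommRingCat.of K) ⟶ X.left :=
    Spec.map (CommRingCat.ofHom (algebraMap (X.left.residueField p) K)) ≫ X.left.fromSpecResidueField p
  have : IsAffine (Over.mk (l ≫ X.hom)).left := inferInstanceAs (IsAffine (Spec (CommRingCat.of K)))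
  have hin := h K (Over.mk (l ≫ X.hom))
    (Scheme.ΓSpecIso (CommRingCat.of K)).commRingCatIsoToRingEquiv.symm (Over.homMk l rfl)
  refine hin ⟨(IsLocalRing.closedPoint K : Spec (CommRingCat.of K)), ?_⟩
  exact congrArg g.left (Scheme.fromSpecResidueField_apply p _)

include H in
theorem BC.inCell_of_scaling_aux (φ : Red.Ga S ⟶ G)
    (h0 : ∀ X : Over S, InCell i pp pm (gaPt (X := X) 0 ≫ φ))
    (hscale : ∀ (X : Over S) (t : X ⟶ T) (x x' : X ⟶ Red.Ga S),
      Red.gaFn x' = Red.gmFn (t ≫ α) * Red.gaFn x → InCell i pp pm (x ≫ φ) →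
        InCell i pp pm (x' ≫ φ))
    (K : Type u) [Field K] [IsAlgClosed K] (W : Over S) [IsAffine W.left] (e : K ≃+* Γ(W.left, ⊤))
    (x : W ⟶ Red.Ga S) (q : W.left) : InCell i pp pm (x ≫ φ) := by
  classical
  have := H.hα
  by_cases ha : Red.gaFn x = 0
  · rw [← gaPt_gaFn x, ha]
    exact h0 W
  -- the preimage of the cell on the affine line over the field
  let O : (polyGa W).left.Opens := (gaTu W ≫ φ).left ⁻¹ᵁ (cell i pp pm).left.opensRange (H := H.hΩ)
  obtain ⟨w₀, -, hw₀, hw₀'⟩ := exists_gaLift (𝟙 W) (gaPt (X := W) 0)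
  have hq0 : w₀.left q ∈ O := by
    show (gaTu W ≫ φ).left (w₀.left q) ∈ Set.range (cell i pp pm).left.base
    refine h0 W ⟨q, ?_⟩
    rw [← hw₀, Category.assoc]
    rfl
  obtain ⟨f, hfO, hfq⟩ :=
    (isAffineOpen_top (polyGa W).left).exists_basicOpen_le (V := O) ⟨_, hq0⟩ trivial
  obtain ⟨g, rfl⟩ := (gaCoordHom_bijective W).2 f
  let gK : Polynomial K := g.map e.symm.toRingHom
  have heval : ∀ b : K, evalGa (𝟙 W) (gaPt (X := W) (e b)) g = e (gK.eval b) := by
    intro b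
    show g.eval₂ _ (Red.gaFn (gaPt (e b))) = e (gK.eval b)
    rw [gaFn_gaPt, Polynomial.eval_map, ← RingEquiv.coe_toRingHom e, Polynomial.hom_eval₂]
    congr 1
    ext a
    exact (e.apply_symm_apply a).symm
  have hnz : gK.eval 0 ≠ 0 := by
    intro hz
    have h1 : w₀.left ⁻¹ᵁ (polyGa W).left.basicOpen (gaCoordHom W g) = ⊥ := by
      rw [Scheme.preimage_basicOpen_top, hw₀']
      have := heval 0
      rw [map_zero, hz, map_zero] at this
      rw [this, Scheme.basicOpen_zero]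
    have h2 : q ∈ w₀.left ⁻¹ᵁ (polyGa W).left.basicOpen (gaCoordHom W g) := hfq
    rw [h1] at h2
    exact h2
  have hgK : gK ≠ 0 := fun h => hnz (by rw [h, Polynomial.eval_zero])
  have : Infinite K := IsAlgClosed.instInfinite
  obtain ⟨b, hb⟩ := Infinite.exists_notMem_finset (insert (0 : K) gK.roots.toFinset)
  simp only [Finset.mem_insert, Multiset.mem_toFinset, Polynomial.mem_roots hgK,
    Polynomial.IsRoot.def, not_or] at hb
  have hin_b : InCell i pp pm (gaPt (X := W) (e b) ≫ φ) := by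
    obtain ⟨wb, -, hwb, hwb'⟩ := exists_gaLift (𝟙 W) (gaPt (X := W) (e b))
    rintro _ ⟨q', rfl⟩
    rw [← hwb]
    have htop : wb.left ⁻¹ᵁ (polyGa W).left.basicOpen (gaCoordHom W g) = ⊤ := by
      rw [Scheme.preimage_basicOpen_top, hwb', heval]
      exact Scheme.basicOpen_of_isUnit _ ((Ne.isUnit hb.2).map e)
    have hmem : q' ∈ wb.left ⁻¹ᵁ (polyGa W).left.basicOpen (gaCoordHom W g) := by
      rw [htop]; trivial
    exact hfO hmem
  have hu : IsUnit (Red.gaFn x * e b⁻¹) := by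
    refine IsUnit.mul ?_ ((Ne.isUnit (inv_ne_zero hb.1)).map e)
    rw [← e.apply_symm_apply (Red.gaFn x)]
    exact (Ne.isUnit fun h => ha (by rw [← e.apply_symm_apply (Red.gaFn x), h, map_zero])).map e
  obtain ⟨z, hz⟩ := gmFn_surjective (S := S) hu
  obtain ⟨X', k, t, -, hks, ht⟩ := exists_root H.hT α H.hne z
  refine InCell.of_surjective k hks ?_
  rw [← Category.assoc]
  refine hscale X' t (k ≫ gaPt (e b)) _ ?_ (by rw [Category.assoc]; exact hin_b.comp k)
  rw [ht, gmFn_comp, gaFn_comp, gaFn_comp, gaFn_gaPt, hz, ← map_mul, _root_.mul_assoc, ← map_mul,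
    inv_mul_cancel₀ hb.1, map_one, _root_.mul_one]

include H in
/-- A morphism out of the additive group which sends zero into the cell and whose preimage of the
cell is stable under scaling lands in the cell. -/
theorem BC.inCell_of_scaling (φ : Red.Ga S ⟶ G)
    (h0 : ∀ X : Over S, InCell i pp pm (gaPt (X := X) 0 ≫ φ))
    (hscale : ∀ (X : Over S) (t : X ⟶ T) (x x' : X ⟶ Red.Ga S),
      Red.gaFn x' = Red.gmFn (t ≫ α) * Red.gaFn x → InCell i pp pm (x ≫ φ) →
        InCell i pp pm (x' ≫ φ)) : InCell i pp pm φ :=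
  InCell.of_field_points fun K _ _ W _ e x => by
    rintro _ ⟨q, rfl⟩
    exact H.inCell_of_scaling_aux φ h0 hscale K W e x q ⟨q, rfl⟩

include H in
theorem BC.eq_of_root {X : Over S} (z : X ⟶ Red.Gm S) {P : Over S} {f g : X ⟶ P}
    (h : ∀ (X' : Over S) (k : X' ⟶ X) (t : X' ⟶ T), t ≫ α = k ≫ z → k ≫ f = k ≫ g) : f = g := by
  have := H.hα
  obtain ⟨X', k, t, hf, hs, ht⟩ := exists_root H.hT α H.hne z
  have : Epi k := by
    have : Epi k.left := Flat.epi_of_flat_of_surjective _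
    exact (Over.forget S).epi_of_epi_map (f := k) this
  exact (cancel_epi k).mp (h X' k t ht)

include H in
/-- An endomorphism of the additive group of weight one is linear. -/
theorem BC.linear_of_weight_one (ψ : Red.Ga S ⟶ Red.Ga S)
    (h : ∀ (X : Over S) (t : X ⟶ T) (x x' : X ⟶ Red.Ga S),
      Red.gaFn x' = Red.gmFn (t ≫ α) * Red.gaFn x →
        Red.gaFn (x' ≫ ψ) = Red.gmFn (t ≫ α) * Red.gaFn (x ≫ ψ))
    {X : Over S} (x : X ⟶ Red.Ga S) :
    Red.gaFn (x ≫ ψ) = Red.gaFn (gaPt (X := X) 1 ≫ ψ) * Red.gaFn x := by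
  classical
  have hz : ∀ (Z : Over S) (z : Z ⟶ Red.Gm S) (x x' : Z ⟶ Red.Ga S),
      Red.gaFn x' = Red.gmFn z * Red.gaFn x →
        Red.gaFn (x' ≫ ψ) = Red.gmFn z * Red.gaFn (x ≫ ψ) := by
    intro Z z x x' hx
    have key : x' ≫ ψ = gaPt (Red.gmFn z * Red.gaFn (x ≫ ψ)) := by
      refine H.eq_of_root z fun X' k t ht => gaFn_injective ?_
      rw [← Category.assoc, h X' t (k ≫ x) (k ≫ x') (by
        rw [ht, gmFn_comp, gaFn_comp, gaFn_comp, hx, map_mul]), ht, Category.assoc, gaFn_comp k,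
        gaFn_comp k, gmFn_comp, gaFn_gaPt, map_mul]
    rw [key, gaFn_gaPt]
  suffices hsuff : ∀ (Z : Over S) (_ : IsAffine Z.left) (x : Z ⟶ Red.Ga S),
      Red.gaFn (x ≫ ψ) = Red.gaFn (gaPt (X := Z) 1 ≫ ψ) * Red.gaFn x by
    have key : x ≫ ψ = gaPt (Red.gaFn (gaPt (X := X) 1 ≫ ψ) * Red.gaFn x) := by
      refine hom_ext_affine fun Z hZ k => gaFn_injective ?_
      have e1 : k ≫ gaPt (X := X) 1 = gaPt (X := Z) 1 :=
        gaFn_injective (by rw [gaFn_comp, gaFn_gaPt, gaFn_gaPt, map_one])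
      rw [← Category.assoc, hsuff Z hZ (k ≫ x), gaFn_comp k x, gaFn_comp k, gaFn_gaPt, map_mul,
        ← gaFn_comp k (gaPt 1 ≫ ψ), ← Category.assoc, e1]
    rw [key, gaFn_gaPt]
  intro Y hY x
  obtain ⟨p, hp⟩ := exists_poly Y ψ
  -- the universal scaled point
  let P := polyGa Y
  let W := polyDS P ℤ
  let κ := polyCoord P ℤ
  have hzW : Red.gmFn (polyTu P ℤ) = κ (MonoidAlgebra.single (Multiplicative.ofAdd (1 : ℤ)) 1) := by
    rw [gmFn_eq, dsFn_polyTu]
  let x₁ : W ⟶ Red.Ga S := polyProj P ℤ ≫ gaTu Y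
  have hx₁ : Red.gaFn x₁ = κ (MonoidAlgebra.single 1 (gaCoordHom Y Polynomial.X)) := by
    rw [gaFn_comp, gaFn_gaTu, polyProj_appTop]
  have hmain := hz W (polyTu P ℤ) x₁ (gaPt (Red.gmFn (polyTu P ℤ) * Red.gaFn x₁)) (gaFn_gaPt _)
  rw [hp W (polyProj P ℤ ≫ gaProj Y), hp W (polyProj P ℤ ≫ gaProj Y)] at hmain
  let φ : Gam Y →+* Gam P := (gaCoordHom Y).comp Polynomial.C
  have hzc : ∀ a, (polyProj P ℤ ≫ gaProj Y).left.appTop a = κ (MonoidAlgebra.single 1 (φ a)) := by
    intro a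
    rw [Over.comp_left, Scheme.Hom.comp_appTop]
    show (polyProj P ℤ).left.appTop ((gaProj Y).left.appTop a) = _
    rw [gaProj_appTop, polyProj_appTop]
    rfl
  have hev : ∀ (b : Gam P) (g : Multiplicative ℤ) (q : Polynomial (Gam Y)) (y : W ⟶ Red.Ga S),
      Red.gaFn y = κ (MonoidAlgebra.single g b) →
      evalGa (polyProj P ℤ ≫ gaProj Y) y q =
        κ (q.eval₂ (MonoidAlgebra.singleOneRingHom.comp φ) (MonoidAlgebra.single g b)) := by
    intro b g q y hy
    rw [Polynomial.hom_eval₂]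
    show q.eval₂ _ (Red.gaFn y) = _
    rw [hy]
    congr 1
    exact RingHom.ext hzc
  rw [hev (gaCoordHom Y Polynomial.X) (Multiplicative.ofAdd (1 : ℤ)) p _ (by
      rw [gaFn_gaPt, hzW, hx₁, ← map_mul, MonoidAlgebra.single_mul_single, _root_.mul_one,
        _root_.one_mul]),
    hev (gaCoordHom Y Polynomial.X) 1 p _ hx₁, hzW, ← map_mul] at hmain
  have hmain' := (polyCoord_bijective P ℤ).1 hmain
  have hcoef : ∀ n, n ≠ 1 → p.coeff n = 0 := by
    intro n hn
    have e := congrArg (fun r => r.coeff (Multiplicative.ofAdd (n : ℤ))) hmain'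
    simp only [coeff_eval₂_single] at e
    have hzero : ((MonoidAlgebra.single (Multiplicative.ofAdd (1 : ℤ)) (1 : Gam P)) *
        p.eval₂ (MonoidAlgebra.singleOneRingHom.comp φ)
          (MonoidAlgebra.single 1 (gaCoordHom Y Polynomial.X))).coeff
            (Multiplicative.ofAdd (n : ℤ)) = 0 := by
      have : p.eval₂ (MonoidAlgebra.singleOneRingHom.comp φ)
          (MonoidAlgebra.single (1 : Multiplicative ℤ) (gaCoordHom Y Polynomial.X)) =
          MonoidAlgebra.singleOneRingHom (p.eval₂ φ (gaCoordHom Y Polynomial.X)) := by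
        rw [Polynomial.hom_eval₂]
        rfl
      rw [this]
      show ((MonoidAlgebra.single (Multiplicative.ofAdd (1 : ℤ)) (1 : Gam P)) * MonoidAlgebra.single (1 : Multiplicative ℤ) (p.eval₂ φ (gaCoordHom Y Polynomial.X))).coeff _ = 0
      rw [MonoidAlgebra.single_mul_single, MonoidAlgebra.coeff_single, Finsupp.single_apply, if_neg]
      intro h'
      apply hn
      simpa using h'.symm
    rw [hzero] at e
    have e' : gaCoordHom Y (Polynomial.C (p.coeff n) * Polynomial.X ^ n) = 0 := by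
      rw [map_mul, map_pow]; exact e
    have := (map_eq_zero_iff _ (gaCoordHom_bijective Y).1).mp e'
    simpa using congrArg (fun r => r.coeff n) this
  have hlin : p = Polynomial.C (p.coeff 1) * Polynomial.X := by
    ext n
    rw [Polynomial.coeff_C_mul, Polynomial.coeff_X]
    by_cases hn : 1 = n
    · subst hn; simp
    · rw [if_neg hn, mul_zero, hcoef n (Ne.symm hn)]
  rw [hp Y (𝟙 Y) x, hp Y (𝟙 Y) (gaPt 1), hlin, map_mul, map_mul, evalGa_C, evalGa_C, evalGa_X,
    evalGa_X, gaFn_gaPt, _root_.mul_one]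

include H in
/-- An endomorphism of the additive group of weight minus one is zero. -/
theorem BC.zero_of_weight_neg_one (ψ : Red.Ga S ⟶ Red.Ga S)
    (h : ∀ (X : Over S) (t : X ⟶ T) (x x' : X ⟶ Red.Ga S),
      Red.gaFn x' = Red.gmFn (t ≫ α) * Red.gaFn x →
        Red.gaFn (x' ≫ ψ) * Red.gmFn (t ≫ α) = Red.gaFn (x ≫ ψ)) : ψ = 1 := by
  classical
  have hz : ∀ (Z : Over S) (z : Z ⟶ Red.Gm S) (x x' : Z ⟶ Red.Ga S),
      Red.gaFn x' = Red.gmFn z * Red.gaFn x →
        Red.gaFn (x' ≫ ψ) * Red.gmFn z = Red.gaFn (x ≫ ψ) := by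
    intro Z z x x' hx
    have key : gaPt (Red.gaFn (x' ≫ ψ) * Red.gmFn z) = x ≫ ψ := by
      refine H.eq_of_root z fun X' k t ht => gaFn_injective ?_
      rw [gaFn_comp k, gaFn_gaPt, map_mul, ← gaFn_comp k, ← gmFn_comp k, ← ht, ← Category.assoc,
        ← Category.assoc k x ψ]
      exact h X' t (k ≫ x) (k ≫ x') (by rw [ht, gmFn_comp, gaFn_comp, gaFn_comp, hx, map_mul])
    rw [← key, gaFn_gaPt]
  refine hom_ext_affine fun Y hY x => gaFn_injective ?_
  rw [MonObj.comp_one, gaFn_one]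
  obtain ⟨p, hp⟩ := exists_poly Y ψ
  let P := polyGa Y
  let W := polyDS P ℤ
  let κ := polyCoord P ℤ
  have hzW : Red.gmFn (polyTu P ℤ) = κ (MonoidAlgebra.single (Multiplicative.ofAdd (1 : ℤ)) 1) := by
    rw [gmFn_eq, dsFn_polyTu]
  let x₁ : W ⟶ Red.Ga S := polyProj P ℤ ≫ gaTu Y
  have hx₁ : Red.gaFn x₁ = κ (MonoidAlgebra.single 1 (gaCoordHom Y Polynomial.X)) := by
    rw [gaFn_comp, gaFn_gaTu, polyProj_appTop]
  have hmain := hz W (polyTu P ℤ) x₁ (gaPt (Red.gmFn (polyTu P ℤ) * Red.gaFn x₁)) (gaFn_gaPt _)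
  rw [hp W (polyProj P ℤ ≫ gaProj Y), hp W (polyProj P ℤ ≫ gaProj Y)] at hmain
  let φ : Gam Y →+* Gam P := (gaCoordHom Y).comp Polynomial.C
  have hzc : ∀ a, (polyProj P ℤ ≫ gaProj Y).left.appTop a = κ (MonoidAlgebra.single 1 (φ a)) := by
    intro a
    rw [Over.comp_left, Scheme.Hom.comp_appTop]
    show (polyProj P ℤ).left.appTop ((gaProj Y).left.appTop a) = _
    rw [gaProj_appTop, polyProj_appTop]
    rfl
  have hev : ∀ (b : Gam P) (g : Multiplicative ℤ) (y : W ⟶ Red.Ga S),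
      Red.gaFn y = κ (MonoidAlgebra.single g b) →
      evalGa (polyProj P ℤ ≫ gaProj Y) y p =
        κ (p.eval₂ (MonoidAlgebra.singleOneRingHom.comp φ) (MonoidAlgebra.single g b)) := by
    intro b g y hy
    rw [Polynomial.hom_eval₂]
    show p.eval₂ _ (Red.gaFn y) = _
    rw [hy]
    congr 1
    exact RingHom.ext hzc
  rw [hev (gaCoordHom Y Polynomial.X) (Multiplicative.ofAdd (1 : ℤ)) _ (by
      rw [gaFn_gaPt, hzW, hx₁, ← map_mul, MonoidAlgebra.single_mul_single, _root_.mul_one,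
        _root_.one_mul]),
    hev (gaCoordHom Y Polynomial.X) 1 _ hx₁, hzW, ← map_mul] at hmain
  have hmain' := (polyCoord_bijective P ℤ).1 hmain
  have hp0 : p = 0 := by
    ext n
    have e := congrArg (fun r => r.coeff
      (Multiplicative.ofAdd (n : ℤ) * Multiplicative.ofAdd (1 : ℤ))) hmain'
    simp only [MonoidAlgebra.coeff_mul_single_mul, coeff_eval₂_single, _root_.mul_one] at e
    have hzero : (p.eval₂ (MonoidAlgebra.singleOneRingHom.comp φ)
        (MonoidAlgebra.single 1 (gaCoordHom Y Polynomial.X))).coeff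
          (Multiplicative.ofAdd (n : ℤ) * Multiplicative.ofAdd (1 : ℤ)) = 0 := by
      have : p.eval₂ (MonoidAlgebra.singleOneRingHom.comp φ)
          (MonoidAlgebra.single (1 : Multiplicative ℤ) (gaCoordHom Y Polynomial.X)) =
          MonoidAlgebra.singleOneRingHom (p.eval₂ φ (gaCoordHom Y Polynomial.X)) := by
        rw [Polynomial.hom_eval₂]
        rfl
      rw [this]
      show (MonoidAlgebra.single (1 : Multiplicative ℤ) (p.eval₂ φ (gaCoordHom Y Polynomial.X))).coeff _ = 0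
      rw [MonoidAlgebra.coeff_single, Finsupp.single_apply, if_neg]
      intro h'
      rw [← ofAdd_add] at h'
      have h'' := congrArg Multiplicative.toAdd h'
      simp at h''
      omega
    rw [hzero] at e
    have e' : gaCoordHom Y (Polynomial.C (p.coeff n) * Polynomial.X ^ n) = 0 := by
      rw [map_mul, map_pow]; exact e
    have := (map_eq_zero_iff _ (gaCoordHom_bijective Y).1).mp e'
    simpa using congrArg (fun r => r.coeff n) this
  rw [hp Y (𝟙 Y) x, hp0, map_zero]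

/-- Two morphisms to an affine scheme over the base which agree after an extension with injective
restriction of functions are equal. -/
theorem eq_of_appTop_injective {P : Over S} (hP : IsAffineHom P.hom) {Z W W' : Over S}
    [IsAffine Z.left] (proj : W ⟶ Z) (j : W' ⟶ W)
    (hj : Function.Injective j.left.appTop) {f g : W ⟶ P} (h : j ≫ f = j ≫ g) : f = g := by
  have : IsAffineHom (fst Z P).left := inferInstanceAs (IsAffineHom (pullback.fst Z.hom P.hom))
  have : IsAffine (Z ⊗ P).left := isAffine_of_isAffineHom (fst Z P).left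
  have e : lift proj f = lift proj g := by
    apply Over.OverMorphism.ext
    apply ext_of_isAffine
    refine CommRingCat.hom_ext (RingHom.ext fun a => hj ?_)
    have h' : j ≫ lift proj f = j ≫ lift proj g := by ext1 <;> simp [h]
    exact congrArg (fun k => k.left.appTop a) h'
  simpa using congrArg (fun k => k ≫ snd Z P) e

include H in
/-- An invariant morphism from the additive group to the torus is constant. -/
theorem BC.const_of_weight_zero (τ : Red.Ga S ⟶ T)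
    (h : ∀ (X : Over S) (t : X ⟶ T) (x x' : X ⟶ Red.Ga S),
      Red.gaFn x' = Red.gmFn (t ≫ α) * Red.gaFn x → x' ≫ τ = x ≫ τ)
    {X : Over S} (x : X ⟶ Red.Ga S) : x ≫ τ = gaPt (X := X) 0 ≫ τ := by
  have hz : ∀ (Z : Over S) (z : Z ⟶ Red.Gm S) (x x' : Z ⟶ Red.Ga S),
      Red.gaFn x' = Red.gmFn z * Red.gaFn x → x' ≫ τ = x ≫ τ := by
    intro Z z x x' hx
    refine H.eq_of_root z fun X' k t ht => ?_
    rw [← Category.assoc, ← Category.assoc]
    exact h X' t (k ≫ x) (k ≫ x') (by rw [ht, gmFn_comp, gaFn_comp, gaFn_comp, hx, map_mul])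
  suffices hsuff : ∀ (Z : Over S) (_ : IsAffine Z.left) (x : Z ⟶ Red.Ga S),
      x ≫ τ = gaPt (X := Z) 1 ≫ τ by
    refine hom_ext_affine fun Z hZ k => ?_
    rw [← Category.assoc, ← Category.assoc, hsuff Z hZ (k ≫ x), hsuff Z hZ (k ≫ gaPt 0)]
  intro Y hY x
  -- on the universal point it suffices to check away from zero
  obtain ⟨j, hj₁, hj₂, hj₃⟩ := exists_gaLift (polyProj Y ℤ) (gaPt (Red.gmFn (polyTu Y ℤ)))
  have hinj : Function.Injective j.left.appTop := by
    refine (injective_iff_map_eq_zero j.left.appTop.hom).mpr fun r hr => ?_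
    obtain ⟨p, rfl⟩ := (gaCoordHom_bijective Y).2 r
    change j.left.appTop (gaCoordHom Y p) = 0 at hr
    rw [hj₃] at hr
    have hev : evalGa (polyProj Y ℤ) (gaPt (Red.gmFn (polyTu Y ℤ))) p =
        polyCoord Y ℤ (p.eval₂ (MonoidAlgebra.singleOneRingHom.comp (RingHom.id _))
          (MonoidAlgebra.single (Multiplicative.ofAdd (1 : ℤ)) 1)) := by
      rw [Polynomial.hom_eval₂]
      show p.eval₂ _ (Red.gaFn (gaPt _)) = _
      rw [gaFn_gaPt, gmFn_eq, dsFn_polyTu]
      congr 1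
      exact RingHom.ext (polyProj_appTop Y ℤ)
    rw [hev, ← map_zero (polyCoord Y ℤ)] at hr
    have hp := (polyCoord_bijective Y ℤ).1 hr
    have : p = 0 := Polynomial.ext fun n => by
      have e := congrArg (fun r => r.coeff (Multiplicative.ofAdd (n : ℤ))) hp
      simp only [coeff_eval₂_single] at e
      simpa using e
    rw [this, map_zero]
  have key : gaTu Y ≫ τ = gaProj Y ≫ gaPt (X := Y) 1 ≫ τ := by
    refine eq_of_appTop_injective (isTorus_isAffineHom H.hT) (gaProj Y) j hinj ?_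
    rw [← Category.assoc, hj₂, ← Category.assoc, hj₁, ← Category.assoc]
    refine hz _ (polyTu Y ℤ) (polyProj Y ℤ ≫ gaPt (X := Y) 1) _ ?_
    rw [gaFn_gaPt, gaFn_comp, gaFn_gaPt, map_one, _root_.mul_one]
  obtain ⟨w, hw₁, hw₂, -⟩ := exists_gaLift (𝟙 Y) x
  rw [← hw₂, Category.assoc, key, ← Category.assoc, hw₁, Category.id_comp]

end Groth.Agent.RedPts82
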