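import Groth.Agent.AGF80.Luna.DoubleRoot
import Groth.Agent.SGA3a.NonAff.Bridge
import Groth.Agent.AGF80.Luna.SplitBC
import Groth.Agent.Roots36.Exists
import Groth.Agent.AGF80.Luna.ChamberBase
import Groth.Agent.RedPts82.SplitSub
import Groth.Agent.RedPts82.SplitNormal

/-!
The geometric fibre of a splitting is a splitting; hence the root datum of a split reductive group over a
nonempty base is reduced and has a base.
-/

set_option autoImplicit false
set_option linter.unusedSectionVars false
set_option linter.style.haveILetI false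
set_option backward.isDefEq.respectTransparency.types false
set_option synthInstance.maxHeartbeats 200000
set_option maxHeartbeats 1600000

universe u

open CategoryTheory MonoidalCategory CartesianMonoidalCategory MonObj GrpObj AlgebraicGeometry
open Groth.Agent.RedPts82 Groth.Agent.AGF80

noncomputable section

namespace Groth.Agent.RedPts82.SplitFibre

variable {S : Scheme.{u}} {K : Type u} [Field K] [IsAlgClosed K] (σ : Spec (CommRingCat.of K) ⟶ S)

variable {G : Over S} [GrpObj G] (D : Red.SplitRed G)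

/-- The diagonalisation of the torus over the extension. -/
theorem exists_split_bc :
    ∃ e : Grp.mk (Red.bc σ D.T) ≅ Grp.mk (Red.DS (Spec (CommRingCat.of K)) D.M),
      ∀ (X : Over (Spec (CommRingCat.of K))) (t : X ⟶ Red.bc σ D.T) (m : D.M),
        dsFn (t ≫ e.hom.hom.hom) m = dsFn (toBase σ t ≫ D.split.hom.hom.hom) m := by
  obtain ⟨a, ham, hai, ha⟩ := exists_ds_bc σ D.M
  haveI := ham
  haveI := hai
  haveI : IsMonHom (inv a) := isMonHom_of_points (inv a) fun X x y => by
    rw [← cancel_mono a, MonObj.mul_comp _ _ a]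
    simp only [Category.assoc, IsIso.inv_hom_id, Category.comp_id]
  haveI : IsMonHom D.split.hom.hom.hom := D.split.hom.hom.isMonHom_hom
  haveI : IsIso D.split.hom.hom.hom :=
    ⟨D.split.inv.hom.hom, congrArg (fun f => f.hom.hom) D.split.hom_inv_id,
      congrArg (fun f => f.hom.hom) D.split.inv_hom_id⟩
  let h : Red.bc σ D.T ⟶ Red.DS (Spec (CommRingCat.of K)) D.M :=
    (Over.pullback σ).map D.split.hom.hom.hom ≫ inv a
  refine ⟨Grp.mkIso' (asIso h), fun X t m => ?_⟩
  show dsFn (t ≫ h) m = _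
  rw [← ha, ← toBase_comp_map σ t]
  congr 2
  simp [h]

/-- The diagonalisation. -/
def splitIso : Grp.mk (Red.bc σ D.T) ≅ Grp.mk (Red.DS (Spec (CommRingCat.of K)) D.M) :=
  (exists_split_bc σ D).choose

theorem splitIso_spec {X : Over (Spec (CommRingCat.of K))} (t : X ⟶ Red.bc σ D.T) (m : D.M) :
    dsFn (t ≫ (splitIso σ D).hom.hom.hom) m = dsFn (toBase σ t ≫ D.split.hom.hom.hom) m :=
  (exists_split_bc σ D).choose_spec X t m

/-- A point of the additive group over the extension as a point over the base. -/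
def gaT {X : Over (Spec (CommRingCat.of K))} (x : X ⟶ Red.Ga (Spec (CommRingCat.of K))) :
    (Over.map σ).obj X ⟶ Red.Ga S :=
  gaPt (S := S) (X := (Over.map σ).obj X)
    (Red.gaFn (S := Spec (CommRingCat.of K)) (X := X) x)

theorem gaFn_gaT {X : Over (Spec (CommRingCat.of K))} (x : X ⟶ Red.Ga (Spec (CommRingCat.of K))) :
    Red.gaFn (gaT σ x) = Red.gaFn x := gaFn_gaPt _

/-- The comparison of the additive groups. -/
def gaB : Red.Ga (Spec (CommRingCat.of K)) ⟶ Red.bc σ (Red.Ga S) :=
  ofBase σ (gaT σ (𝟙 _))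

theorem toBase_gaB {X : Over (Spec (CommRingCat.of K))} (x : X ⟶ Red.Ga (Spec (CommRingCat.of K))) :
    toBase σ (x ≫ gaB σ) = gaT σ x := by
  refine gaFn_injective ?_
  rw [gaB, toBase_comp, toBase_ofBase, gaFn_comp, gaFn_gaT, gaFn_gaT]
  have := gaFn_comp x (𝟙 (Red.Ga (Spec (CommRingCat.of K))))
  rw [Category.comp_id] at this
  exact this.symm

theorem isIso_gaB : IsIso (gaB σ) := by
  let β : Red.bc σ (Red.Ga S) ⟶ Red.Ga (Spec (CommRingCat.of K)) :=
    gaPt (S := Spec (CommRingCat.of K)) (X := Red.bc σ (Red.Ga S))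
      (Red.gaFn (S := S)
        (X := (Over.map σ).obj (Red.bc σ (Red.Ga S))) (toBase σ (𝟙 _)))
  have hβ : ∀ (X : Over (Spec (CommRingCat.of K))) (x : X ⟶ Red.bc σ (Red.Ga S)),
      Red.gaFn (x ≫ β) = Red.gaFn (toBase σ x) := by
    intro X x
    rw [gaFn_comp, gaFn_gaPt]
    conv_rhs => rw [show x = x ≫ 𝟙 _ from (Category.comp_id x).symm, toBase_comp, gaFn_comp]
    rfl
  refine ⟨β, gaFn_injective ?_, toBase_injective σ (gaFn_injective ?_)⟩
  · rw [hβ, ← Category.id_comp (gaB σ), toBase_gaB, gaFn_gaT]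
  · rw [toBase_gaB, gaFn_gaT, ← Category.id_comp β, hβ]

/-- The root homomorphism over the extension. -/
def rootBC (a : D.idx) : Red.Ga (Spec (CommRingCat.of K)) ⟶ Red.bc σ G :=
  gaB σ ≫ (Over.pullback σ).map (D.u a)

theorem toBase_rootBC (a : D.idx) {X : Over (Spec (CommRingCat.of K))} (x : X ⟶ Red.Ga (Spec (CommRingCat.of K))) :
    toBase σ (x ≫ rootBC σ D a) = gaT σ x ≫ D.u a := by
  rw [rootBC, ← Category.assoc, toBase_comp_map, toBase_gaB]

theorem rootBC_isRootHom (a : D.idx) :
    Red.IsRootHom ((Over.pullback σ).map D.i)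
      ((splitIso σ D).hom.hom.hom ≫ Red.chi (Spec (CommRingCat.of K)) (D.P.root a)) (rootBC σ D a) := by
  obtain ⟨hm, hcl, hconj⟩ := D.rootHom a
  haveI := hm
  haveI := hcl
  refine ⟨isMonHom_of_points _ fun X x y => toBase_injective σ ?_, ?_, fun X t x => ?_⟩
  · rw [toBase_mul, toBase_rootBC, toBase_rootBC, toBase_rootBC, ← MonObj.mul_comp]
    refine congrArg (· ≫ D.u a) (gaFn_injective ?_)
    rw [gaFn_mul, gaFn_gaT, gaFn_gaT, gaFn_gaT, gaFn_mul]
  · haveI := isIso_gaB σ
    haveI : IsIso (gaB σ).left := inferInstanceAs (IsIso ((Over.forget _).map (gaB σ)))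
    haveI : IsClosedImmersion ((Over.pullback σ).map (D.u a)).left :=
      MorphismProperty.of_isPullback (P := @IsClosedImmersion) (RedPts82.isPullback_bc_map (D.u a) σ) inferInstance
    rw [rootBC, Over.comp_left]
    infer_instance
  · obtain ⟨y, hy, hyf⟩ := hconj _ (toBase σ t) (gaT σ x)
    refine ⟨gaPt (S := Spec (CommRingCat.of K)) (X := X)
      (Red.gaFn (S := S) (X := (Over.map σ).obj X) y), toBase_injective σ ?_, ?_⟩
    · rw [toBase_rootBC, toBase_mul, toBase_mul, toBase_inv, toBase_comp_map, toBase_rootBC, ← hy]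
      exact congrArg (· ≫ D.u a) (gaFn_injective ((gaFn_gaT σ _).trans (gaFn_gaPt _)))
    · rw [gaFn_gaPt, hyf, gaFn_gaT, ← Category.assoc, ← Category.assoc, gmFn_chi, gmFn_chi, splitIso_spec]

/-- The splitting over the extension. -/
def splitBC (hred : Red.IsReductive (Red.bc σ G))
    (hmax : Red.IsMaximalTorus ((Over.pullback σ).map D.i))
    (hdim : ∀ t : Spec (CommRingCat.of K), topologicalKrullDim ↥(Red.geomFibre t (Red.bc σ G)).left =
      ((Module.finrank ℤ D.M + Fintype.card D.idx : ℕ) : WithBot ℕ∞)) : Red.SplitRed (Red.bc σ G) where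
  T := Red.bc σ D.T
  i := (Over.pullback σ).map D.i
  M := D.M
  idx := D.idx
  P := D.P
  pairing_eq := D.pairing_eq
  u := rootBC σ D
  reductive := hred
  maximalTorus := hmax
  split := splitIso σ D
  rootHom := rootBC_isRootHom σ D
  refl a := by
    obtain ⟨n, hn⟩ := D.refl a
    refine ⟨ofBase σ (toUnit _ ≫ n), fun X t => toBase_injective σ ?_⟩
    have e1 : toBase σ (toUnit X ≫ ofBase σ (toUnit ((Over.map σ).obj (𝟙_ _)) ≫ n)) = toUnit _ ≫ n := by
      rw [toBase_comp, toBase_ofBase, ← Category.assoc]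
      exact congrArg (· ≫ n) (toUnit_unique _ _)
    rw [toBase_mul, toBase_mul, toBase_inv, e1, toBase_comp_map, hn, ← Category.assoc t,
      ← Category.assoc (t ≫ _), ← Category.assoc ((t ≫ _) ≫ _), toBase_comp_map]
    simp only [← Category.assoc]
    refine congrArg (· ≫ D.i) ?_
    haveI : IsIso D.split.hom.hom.hom :=
      ⟨D.split.inv.hom.hom, congrArg (fun f => f.hom.hom) D.split.hom_inv_id,
        congrArg (fun f => f.hom.hom) D.split.inv_hom_id⟩
    rw [← cancel_mono D.split.hom.hom.hom]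
    refine dsFn_injective fun m => ?_
    rw [← splitIso_spec]
    simp only [Category.assoc]
    rw [show D.split.inv.hom.hom ≫ D.split.hom.hom.hom = 𝟙 _ from congrArg (fun f => f.hom.hom) D.split.inv_hom_id,
      show (splitIso σ D).inv.hom.hom ≫ (splitIso σ D).hom.hom.hom = 𝟙 _ from
        congrArg (fun f => f.hom.hom) (splitIso σ D).inv_hom_id, Category.comp_id, Category.comp_id,
      ← Category.assoc, ← Category.assoc, dsFn_DSmap, dsFn_DSmap, splitIso_spec]
  dim_fibre := hdim

end Groth.Agent.RedPts82.SplitFibre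

namespace Groth.Agent.RedPts82

variable {S : Scheme.{u}} {G : Over S} [GrpObj G]

/-- The geometric fibre of a splitting. -/
theorem exists_split_geomFibre' (D : Red.SplitRed G) (s : S) :
    Red.IsReductive (Red.bc (Red.geomPt s) G) ∧
      Red.IsMaximalTorus ((Over.pullback (Red.geomPt s)).map D.i) ∧
      ∀ t : Spec (CommRingCat.of (AlgebraicClosure (S.residueField s))),
        topologicalKrullDim ↥(Red.geomFibre t (Red.bc (Red.geomPt s) G)).left =
          ((Module.finrank ℤ D.M + Fintype.card D.idx : ℕ) : WithBot ℕ∞) := by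
  let K := AlgebraicClosure (S.residueField s)
  let σ : Spec (CommRingCat.of K) ⟶ S := Red.geomPt s
  have hover : Red.IsReductiveOver K (Red.bc σ G) := D.reductive.2.2 s
  have hred : Red.IsReductive (Red.bc σ G) := by
    obtain ⟨ha, hs, -, -⟩ := id hover
    haveI := hs
    exact ⟨MorphismProperty.pullback_snd (P := @IsAffineHom) _ _ D.reductive.1, hs,
      fun t => AGF80.Luna.isReductiveOver_bc (Red.geomPt t) hover⟩
  obtain ⟨hm, hmono, hT, hmax⟩ := id D.maximalTorus
  haveI := hm
  haveI := hmono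
  haveI : Mono ((Over.pullback σ).map D.i) :=
    haveI := (Over.mapPullbackAdj σ).rightAdjoint_preservesLimits
    inferInstance
  obtain ⟨b⟩ := grpIso_DS_of_addEquiv (W := Spec (CommRingCat.of K))
    (Module.finBasis ℤ D.M).equivFun.toAddEquiv
  let E := (SplitFibre.splitIso σ D ≪≫ b).symm
  let E' : Red.DS (Spec (CommRingCat.of K)) (Fin (Module.finrank ℤ D.M) → ℤ) ≅ Red.bc σ D.T :=
    (Grp.forget _).mapIso E
  haveI : IsMonHom E'.hom := E.hom.hom.isMonHom_hom
  have hTK : Red.IsTorus (Red.bc σ D.T) := UnipRad.isTorus_of_grpIso E' (isTorus_DS_free _ _)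
  have hmT : AGF.IsMaxTorus ((Over.pullback σ).map D.i) :=
    ⟨inferInstance, inferInstance, hTK, hmax s⟩
  have hdim : ∀ t : Spec (CommRingCat.of K), topologicalKrullDim ↥(Red.geomFibre t (Red.bc σ G)).left =
      ((Module.finrank ℤ D.M + Fintype.card D.idx : ℕ) : WithBot ℕ∞) := fun t => by
    haveI := hred.1
    haveI := hred.2.1
    rw [← D.dim_fibre s]
    obtain ⟨φ, hφ⟩ := Spec.map_surjective (Red.geomPt t)
    show topologicalKrullDim ↥(Red.bc (Red.geomPt t) (Red.bc σ G)).left = _
    rw [← hφ]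
    exact FlatMor68.FibDimBC.dim_eq_of_isPullback_field φ.hom (Red.bc σ G).hom _ _
      (IsPullback.of_hasPullback _ _)
  exact ⟨hred, SGA3a.NonAff.isMaximalTorus_of_isMaxTorus hmT, hdim⟩

/-- The geometric fibre of a split group is split, of the same root datum. -/
theorem exists_split_geomFibre (D : Red.SplitRed G) (s : S) :
    ∃ E : Red.SplitRed (Red.geomFibre s G), Nonempty (RootPairing.Equiv E.P D.P) := by
  obtain ⟨h1, h2, h3⟩ := exists_split_geomFibre' D s
  exact ⟨SplitFibre.splitBC (Red.geomPt s) D h1 h2 h3, ⟨RootPairing.Equiv.id D.P⟩⟩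

/-- The root datum of a split reductive group over a nonempty base is reduced. -/
theorem isReduced_of_nonempty [Nonempty S] (D : Red.SplitRed G) : D.P.IsReduced := by
  obtain ⟨s⟩ := ‹Nonempty S›
  obtain ⟨h1, h2, h3⟩ := exists_split_geomFibre' D s
  exact AGF80.Luna.isReduced_of_algClosed (SplitFibre.splitBC (Red.geomPt s) D h1 h2 h3)

/-- The root datum of a split reductive group over a nonempty base has a base. -/
theorem exists_base [Nonempty S] (D : Red.SplitRed G) : Nonempty D.P.Base := by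
  classical
  have := isReduced_of_nonempty D
  obtain ⟨s, hs⟩ := Roots36.exists_isSimpleSys D.P
  obtain ⟨b, -⟩ := AGF80.Luna.exists_base_of_isSimpleSys hs
  exact ⟨b⟩

end Groth.Agent.RedPts82
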