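import Groth.Agent.AGF80.Luna.BorelAll
import Groth.Agent.RedPts82.SplitFibre

/-!
The Borel subgroup of a chamber of a split reductive group over an arbitrary base.
-/

set_option autoImplicit false
set_option linter.unusedSectionVars false
set_option linter.style.haveILetI false
set_option backward.isDefEq.respectTransparency.types false
set_option synthInstance.maxHeartbeats 200000

universe u

open CategoryTheory MonoidalCategory CartesianMonoidalCategory MonObj GrpObj AlgebraicGeometry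
open Groth.Agent.RedPts82

noncomputable section

namespace Groth.Agent.RedPts82.BorelBase

variable {S : Scheme.{u}} {G : Over S} [GrpObj G] {D : Red.SplitRed G} {l : D.M →+ ℤ}

theorem inBorel_one (X : Over S) : InBorel D l (1 : X ⟶ G) :=
  ⟨1, 1, one_mem _, by rw [tpt_one, _root_.one_mul]⟩

theorem inBorel_mul {X : Over S} {g h : X ⟶ G} (hg : InBorel D l g)
    (hh : InBorel D l h) : InBorel D l (g * h) := by
  obtain ⟨t, v, hv, rfl⟩ := hg
  obtain ⟨s, w, hw, rfl⟩ := hh
  have := fixed_conj_up (l := l) (tpt_mem_fixed (D := D) s⁻¹) hv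
  rw [tpt_inv, _root_.inv_inv] at this
  refine ⟨t * s, (tpt D s)⁻¹ * v * tpt D s * w, mul_mem this hw, ?_⟩
  rw [tpt_mul]
  group

theorem inBorel_inv {X : Over S} {g : X ⟶ G} (hg : InBorel D l g) : InBorel D l g⁻¹ := by
  obtain ⟨t, v, hv, rfl⟩ := hg
  refine ⟨t⁻¹, tpt D t * v⁻¹ * (tpt D t)⁻¹, fixed_conj_up (tpt_mem_fixed t) (inv_mem hv), ?_⟩
  rw [tpt_inv]
  group

/-- The points of the Borel subgroup of a chamber in coordinates. -/
theorem inBorel_iff_prod {N : ℕ} {e : Fin N → D.idx} (hl : Chamber D l) (he : Function.Injective e)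
    (hr : Set.range e = {c | 0 < l (D.P.root c)}) {X : Over S} (g : X ⟶ G) :
    InBorel D l g ↔ ∃ (t : X ⟶ Red.DS S D.M) (x : Fin N → Γ(X.left, ⊤)),
      g = tpt D t * (List.ofFn fun k => rp D (e k) (x k)).prod := by
  constructor
  · rintro ⟨t, v, hv, rfl⟩
    obtain ⟨x, rfl⟩ := hl.exists_prod he hr hv
    exact ⟨t, x, rfl⟩
  · rintro ⟨t, x, rfl⟩
    exact ⟨t, _, prod_mem_up e (fun j => (Set.ext_iff.mp hr (e j)).mp ⟨j, rfl⟩) x, rfl⟩

/-- The points of the parametrisation. -/
theorem borelMap_pt {N : ℕ} (e : Fin N → D.idx) {X : Over S} (w : X ⟶ D.T ⊗ RedSub.pow (Red.Ga S) N) :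
    w ≫ RedSub.borelMap D e = tpt D ((w ≫ fst _ _) ≫ D.split.hom.hom.hom) *
      (List.ofFn fun k => rp D (e k) (Red.gaFn ((w ≫ snd _ _) ≫ powProj (Red.Ga S) N k))).prod := by
  rw [RedSub.borelMap, MonObj.comp_mul, ← Category.assoc, ← Category.assoc w (snd _ _), prodMap_pt]
  have hid : D.split.hom.hom.hom ≫ D.split.inv.hom.hom = 𝟙 _ :=
    congrArg (fun f => f.hom.hom) D.split.hom_inv_id
  simp only [rp, gaPt_gaFn, tpt, Category.assoc]
  congr 2
  rw [← Category.assoc D.split.hom.hom.hom, hid, Category.id_comp]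

theorem inBorel_iff_factor {N : ℕ} {e : Fin N → D.idx} (hl : Chamber D l) (he : Function.Injective e)
    (hr : Set.range e = {c | 0 < l (D.P.root c)}) {X : Over S} (g : X ⟶ G) :
    InBorel D l g ↔ ∃ w : X ⟶ D.T ⊗ RedSub.pow (Red.Ga S) N, w ≫ RedSub.borelMap D e = g := by
  rw [inBorel_iff_prod hl he hr]
  constructor
  · rintro ⟨t, x, rfl⟩
    refine ⟨lift (t ≫ D.split.inv.hom.hom) (powTuple fun k => gaPt (x k)), ?_⟩
    have hid : D.split.inv.hom.hom ≫ D.split.hom.hom.hom = 𝟙 _ :=
      congrArg (fun f => f.hom.hom) D.split.inv_hom_id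
    rw [borelMap_pt, lift_fst, lift_snd, Category.assoc, hid, Category.comp_id]
    simp only [powTuple_proj, gaFn_gaPt]
  · rintro ⟨w, rfl⟩
    exact ⟨_, _, borelMap_pt e w⟩

/-- The parametrisation is a closed immersion. -/
theorem isClosedImmersion_borelMap {N : ℕ} {e : Fin N → D.idx} (hl : Chamber D l) (he : Function.Injective e)
    (hr : Set.range e = {c | 0 < l (D.P.root c)}) : IsClosedImmersion (RedSub.borelMap D e).left := by
  have := D.maximalTorus.1
  haveI : IsIso D.split.hom.hom.hom := inferInstanceAs (IsIso ((Grp.forget _).map D.split.hom))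
  let jT : Red.DS S D.M ⟶ G := D.split.inv.hom.hom ≫ D.i
  haveI : IsMonHom D.split.inv.hom.hom := D.split.inv.hom.isMonHom_hom
  haveI : Mono jT := by
    haveI := D.maximalTorus.2.1
    haveI : IsIso D.split.inv.hom.hom := inferInstanceAs (IsIso ((Grp.forget _).map D.split.inv))
    exact mono_comp _ _
  have C := cellData_of_regular D l hl.inj (posEnum D (-l)) e posEnum_injective he (fun j => by
    have := posEnum_pos (D := D) (l := -l) j
    simp only [AddMonoidHom.neg_apply] at this
    omega) fun j => (Set.ext_iff.mp hr (e j)).mp ⟨j, rfl⟩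
  have hcl := torusProd_isClosedImmersion jT D.reductive.1 C.pos fun Z t s => by
    have := C.comm Z t (s ≫ D.split.inv.hom.hom)
    simpa only [jT, Category.assoc] using this
  have e1 : RedSub.borelMap D e = (D.split.hom.hom.hom ▷ _) ≫ torusProd jT (fun k => D.u (e k)) := by
    have hid : D.split.hom.hom.hom ≫ D.split.inv.hom.hom = 𝟙 _ :=
      congrArg (fun f => f.hom.hom) D.split.hom_inv_id
    simp only [torusProd, RedSub.borelMap, MonObj.comp_mul, jT, whiskerRight_fst_assoc,
      whiskerRight_snd_assoc]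
    rw [← Category.assoc D.split.hom.hom.hom, hid, Category.id_comp]
  rw [e1, Over.comp_left]
  haveI : IsIso (D.split.hom.hom.hom ▷ RedSub.pow (Red.Ga S) N).left :=
    inferInstanceAs (IsIso ((Over.forget _).map (D.split.hom.hom.hom ▷ RedSub.pow (Red.Ga S) N)))
  haveI := hcl
  infer_instance

section Fibre

variable {K : Type u} [Field K] [IsAlgClosed K] (σ : Spec (CommRingCat.of K) ⟶ S)
  (hred : Red.IsReductive (Red.bc σ G)) (hmax : Red.IsMaximalTorus ((Over.pullback σ).map D.i))
  (hdim : ∀ t : Spec (CommRingCat.of K), topologicalKrullDim ↥(Red.geomFibre t (Red.bc σ G)).left =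
    ((Module.finrank ℤ D.M + Fintype.card D.idx : ℕ) : WithBot ℕ∞))

local notation "E" => SplitFibre.splitBC σ D hred hmax hdim

theorem toBase_rp (c : D.idx) {X : Over (Spec (CommRingCat.of K))} (r : Γ(X.left, ⊤)) :
    toBase σ (rp E c r) = rp (S := S) (X := (Over.map σ).obj X) D c r := by
  show toBase σ (gaPt (S := Spec (CommRingCat.of K)) (X := X) r ≫ SplitFibre.rootBC σ D c) = _
  rw [SplitFibre.toBase_rootBC]
  refine congrArg (· ≫ D.u c) (gaFn_injective ?_)
  rw [SplitFibre.gaFn_gaT, gaFn_gaPt, gaFn_gaPt]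

theorem toBase_one {X : Over (Spec (CommRingCat.of K))} : toBase σ (1 : X ⟶ Red.bc σ G) = 1 :=
  mul_eq_left.mp ((toBase_mul σ (1 : X ⟶ Red.bc σ G) 1).symm.trans (by rw [_root_.mul_one]))

theorem toBase_prod {X : Over (Spec (CommRingCat.of K))} (L : List (X ⟶ Red.bc σ G)) :
    toBase σ L.prod = (L.map (toBase σ)).prod := by
  induction L with
  | nil => exact toBase_one σ
  | cons a L ih => rw [List.prod_cons, List.map_cons, List.prod_cons, toBase_mul, ih]

theorem toBase_tpt {X : Over (Spec (CommRingCat.of K))} (s : X ⟶ Red.bc σ D.T) :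
    toBase σ (tpt E (s ≫ (SplitFibre.splitIso σ D).hom.hom.hom)) = tpt D (toBase σ s ≫ D.split.hom.hom.hom) := by
  have h1 : (SplitFibre.splitIso σ D).hom.hom.hom ≫ (SplitFibre.splitIso σ D).inv.hom.hom = 𝟙 _ :=
    congrArg (fun f => f.hom.hom) (SplitFibre.splitIso σ D).hom_inv_id
  have h2 : D.split.hom.hom.hom ≫ D.split.inv.hom.hom = 𝟙 _ :=
    congrArg (fun f => f.hom.hom) D.split.hom_inv_id
  show toBase σ ((s ≫ (SplitFibre.splitIso σ D).hom.hom.hom) ≫
    (SplitFibre.splitIso σ D).inv.hom.hom ≫ (Over.pullback σ).map D.i) = _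
  simp only [tpt, Category.assoc]
  rw [← Category.assoc (SplitFibre.splitIso σ D).hom.hom.hom, h1, Category.id_comp, toBase_comp_map,
    ← Category.assoc D.split.hom.hom.hom, h2, Category.id_comp]

include hred hmax hdim in
/-- The points of a chamber over the fibre. -/
theorem inBorel_fibre (hl : Chamber D l) {X : Over (Spec (CommRingCat.of K))} (g : X ⟶ Red.bc σ G) :
    InBorel E l g ↔ InBorel D l (toBase σ g) := by
  have hlE : Chamber E l := ⟨hl.inj, hl.ne⟩
  rw [inBorel_iff_prod (D := E) (e := posEnum D l) hlE posEnum_injective posEnum_range,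
    inBorel_iff_prod (D := D) (e := posEnum D l) hl posEnum_injective posEnum_range]
  constructor
  · rintro ⟨t, x, rfl⟩
    refine ⟨toBase σ (t ≫ (SplitFibre.splitIso σ D).inv.hom.hom) ≫ D.split.hom.hom.hom, x, ?_⟩
    have hid : (SplitFibre.splitIso σ D).inv.hom.hom ≫ (SplitFibre.splitIso σ D).hom.hom.hom = 𝟙 _ :=
      congrArg (fun f => f.hom.hom) (SplitFibre.splitIso σ D).inv_hom_id
    have e1 : tpt E t = tpt E ((t ≫ (SplitFibre.splitIso σ D).inv.hom.hom) ≫
        (SplitFibre.splitIso σ D).hom.hom.hom) := congrArg (tpt E)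
      ((Category.assoc _ _ _).trans ((congrArg (t ≫ ·) hid).trans (Category.comp_id t))).symm
    refine (toBase_mul σ _ _).trans (congrArg₂ (· * ·)
      ((congrArg (toBase σ) e1).trans (toBase_tpt σ hred hmax hdim _)) ?_)
    rw [toBase_prod, List.map_ofFn]
    exact congrArg List.prod (congrArg List.ofFn (funext fun k => toBase_rp σ hred hmax hdim _ (x k)))
  · rintro ⟨t, x, hg⟩
    refine ⟨ofBase σ (t ≫ D.split.inv.hom.hom) ≫ (SplitFibre.splitIso σ D).hom.hom.hom, x,
      toBase_injective σ ?_⟩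
    refine hg.trans (Eq.symm ((toBase_mul σ _ _).trans (congrArg₂ (· * ·)
      ((toBase_tpt σ hred hmax hdim _).trans ?_) ?_)))
    · rw [toBase_ofBase, Category.assoc,
        show D.split.inv.hom.hom ≫ D.split.hom.hom.hom = 𝟙 _ from
          congrArg (fun f => f.hom.hom) D.split.inv_hom_id, Category.comp_id]
    · rw [toBase_prod, List.map_ofFn]
      exact congrArg List.prod (congrArg List.ofFn (funext fun k => toBase_rp σ hred hmax hdim _ (x k)))

include hred hmax hdim in
/-- The fibre of a subgroup with the points of a chamber is a Borel subgroup. -/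
theorem isBorelOver_fibre (hl : Chamber D l) {B : Over S} [GrpObj B] (i : B ⟶ G) [IsMonHom i]
    [IsClosedImmersion i.left] [Smooth B.hom] (t : D.T ⟶ B) (ht : t ≫ i = D.i)
    (hpts : ∀ (X : Over S) (g : X ⟶ G), (∃ b, b ≫ i = g) ↔ InBorel D l g) :
    Red.IsBorelOver K ((Over.pullback σ).map i) := by
  obtain ⟨B₀, _, i₀, t₀, hi₀, hcl₀, hsm₀, hconn₀, -, -, hpts₀⟩ :=
    AGF80.Luna.exists_borelChamber (D := E) (l := l) ⟨hl.inj, hl.ne⟩
  have hpts' : ∀ (X : Over (Spec (CommRingCat.of K))) (g : X ⟶ Red.bc σ G),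
      (∃ b, b ≫ (Over.pullback σ).map i = g) ↔ InBorel E l g := fun X g => by
    rw [inBorel_fibre σ hred hmax hdim hl, ← hpts]
    constructor
    · rintro ⟨b, rfl⟩
      exact ⟨toBase σ b, (toBase_comp_map σ b i).symm⟩
    · rintro ⟨b, hb⟩
      exact ⟨ofBase σ b, toBase_injective σ (by rw [toBase_comp_map, toBase_ofBase, hb])⟩
  haveI := hcl₀
  haveI : IsClosedImmersion ((Over.pullback σ).map i).left :=
    MorphismProperty.of_isPullback (P := @IsClosedImmersion) (RedPts82.isPullback_bc_map i σ) inferInstance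
  haveI : Smooth (Red.bc σ B).hom := MorphismProperty.pullback_snd (P := @Smooth) _ _ inferInstance
  haveI : Mono ((Over.pullback σ).map i) := Over.mono_of_mono_left _
  haveI : Mono i₀ := Over.mono_of_mono_left _
  haveI : IsMonHom ((Over.pullback σ).map i) := isMonHom_of_points _ fun X x y => toBase_injective σ (by
    rw [toBase_comp_map, toBase_mul, toBase_mul, toBase_comp_map, toBase_comp_map, MonObj.mul_comp])
  obtain ⟨a, ha⟩ := (hpts₀ _ _).mpr ((hpts' _ ((Over.pullback σ).map i)).mp ⟨𝟙 _, Category.id_comp _⟩)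
  obtain ⟨c, hc⟩ := (hpts' _ _).mpr ((hpts₀ _ i₀).mp ⟨𝟙 _, Category.id_comp _⟩)
  haveI : ConnectedSpace (Red.bc σ B).left := by
    haveI := hconn₀
    refine Function.Surjective.connectedSpace (f := c.left.base) (fun x => ⟨a.left.base x, ?_⟩) c.left.continuous
    have e : a ≫ c = 𝟙 _ := by
      rw [← cancel_mono ((Over.pullback σ).map i), Category.assoc, hc, ha, Category.id_comp]
    rw [← Scheme.Hom.comp_apply, ← Over.comp_left, e]
    rfl
  exact AGF80.Luna.isBorelOver_chamber (D := E) ⟨hl.inj, hl.ne⟩ ((Over.pullback σ).map i)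
    (AGF80.Luna.isSolvable_of_inBorel (D := E) ⟨hl.inj, hl.ne⟩ ((Over.pullback σ).map i)
      fun X b => (hpts' X _).mp ⟨b, rfl⟩)
    ((Over.pullback σ).map t) (((Over.pullback σ).map_comp t i).symm.trans (congrArg _ ht)) hpts'

end Fibre

/-- The Borel subgroup of a chamber: the parametrisation is an isomorphism onto it. -/
theorem exists_borel {N : ℕ} {e : Fin N → D.idx} (hl : Chamber D l) (he : Function.Injective e)
    (hr : Set.range e = {c | 0 < l (D.P.root c)}) :
    ∃ (_ : GrpObj (D.T ⊗ RedSub.pow (Red.Ga S) N)) (t : D.T ⟶ D.T ⊗ RedSub.pow (Red.Ga S) N),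
      Red.IsBorel (RedSub.borelMap D e) ∧ t ≫ RedSub.borelMap D e = D.i ∧
      ∀ (X : Over S) (g : X ⟶ G), (∃ b, b ≫ RedSub.borelMap D e = g) ↔ InBorel D l g := by
  haveI := isClosedImmersion_borelMap hl he hr
  haveI : Mono (RedSub.borelMap D e) := Over.mono_of_mono_left _
  have hiff := fun (X : Over S) (g : X ⟶ G) => (inBorel_iff_factor hl he hr g)
  obtain ⟨_, hβ⟩ := exists_grpObj_mono (RedSub.borelMap D e) (fun X => (hiff X _).mp (inBorel_one X))
    (fun X a b => (hiff X _).mp (inBorel_mul ((hiff X _).mpr ⟨a, rfl⟩) ((hiff X _).mpr ⟨b, rfl⟩)))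
    (fun X a => (hiff X _).mp (inBorel_inv ((hiff X _).mpr ⟨a, rfl⟩)))
  haveI := hβ
  haveI : Smooth D.T.hom := by
    haveI : IsIso D.split.hom.hom.hom.left :=
      inferInstanceAs (IsIso ((Grp.forget _ ⋙ Over.forget S).map D.split.hom))
    haveI := (relDim_DS (S := S) D.M).smooth
    rw [← Over.w D.split.hom.hom.hom]
    infer_instance
  haveI : Smooth (D.T ⊗ RedSub.pow (Red.Ga S) N).hom := by
    haveI := (relDim_pow (relDim_ga (S := S)) N).smooth
    rw [Over.tensorObj_hom]
    exact inferInstanceAs (Smooth (_ ≫ _))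
  have hi1 : InBorel D l (D.i : D.T ⟶ G) := ⟨D.split.hom.hom.hom, 1, one_mem _, by
    have hid : D.split.hom.hom.hom ≫ D.split.inv.hom.hom = 𝟙 _ :=
      congrArg (fun f => f.hom.hom) D.split.hom_inv_id
    rw [_root_.mul_one, tpt, ← Category.assoc, hid, Category.id_comp]⟩
  obtain ⟨t, ht⟩ := (hiff _ _).mp hi1
  refine ⟨inferInstance, t, ⟨hβ, inferInstance, inferInstance, fun s => ?_⟩, ht, fun X g => (hiff X g).symm⟩
  obtain ⟨h1, h2, h3⟩ := exists_split_geomFibre' D s
  exact isBorelOver_fibre (Red.geomPt s) h1 h2 h3 hl _ t ht fun X g => (hiff X g).symm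

end Groth.Agent.RedPts82.BorelBase
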