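import Groth.Agent.RedPts82.BruhatCells

/-!
Covering by translates of the big cell along simple root groups.
-/

universe u

open CategoryTheory MonoidalCategory CartesianMonoidalCategory MonObj GrpObj AlgebraicGeometry
open CategoryTheory.Limits

namespace Groth.Agent.RedPts82

variable {S : Scheme.{u}} {G : Over S} [GrpObj G] {D : Red.SplitRed G} {b : D.P.Base} {l : D.M →+ ℤ}

theorem InBig.up_mul {X : Over S} {u g : X ⟶ G} (hu : u ∈ Up D (-l) X) (h : InBig D l g) :
    InBig D l (u * g) := by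
  obtain ⟨u', hu', t, v, hv, rfl⟩ := h
  exact ⟨u * u', mul_mem hu hu', t, v, hv, by group⟩

theorem InBig.mul_up {X : Over S} {v g : X ⟶ G} (hv : v ∈ Up D l X) (h : InBig D l g) :
    InBig D l (g * v) := by
  obtain ⟨u', hu', t, v', hv', rfl⟩ := h
  exact ⟨u', hu', t, v' * v, mul_mem hv' hv, by group⟩

theorem InBig.mul_tpt {X : Over S} {g : X ⟶ G} (h : InBig D l g) (t : X ⟶ Red.DS S D.M) :
    InBig D l (g * tpt D t) := by
  obtain ⟨u', hu', s, v, hv, rfl⟩ := h
  refine ⟨u', hu', s * t, (tpt D t)⁻¹ * v * tpt D t, ?_, by rw [tpt_mul]; group⟩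
  have := fixed_conj_up (l := l) (tpt_mem_fixed (D := D) t⁻¹) hv
  rwa [tpt_inv, _root_.inv_inv] at this

theorem tpt_inBig {X : Over S} (t : X ⟶ Red.DS S D.M) : InBig D l (tpt D t) :=
  ⟨1, one_mem _, t, 1, one_mem _, by group⟩

theorem Wall.inBig_of_levi {a : D.idx} (h : Wall D l a) {X : Over S} {g : X ⟶ G} (hg : InLevi D a g) :
    InBig D l g := by
  obtain ⟨y, t, x, rfl⟩ := hg
  refine ⟨_, rp_mem_up ?_ y, t, _, rp_mem_up h.pos x, rfl⟩
  rw [root_negIdx, AddMonoidHom.neg_apply, map_neg, _root_.neg_neg]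
  exact h.pos

theorem BaseChamber.posOf_iff (h : BaseChamber D b l) (c : D.idx) :
    c ∈ RootD.posOf D.P (b.support : Set D.idx) ↔ 0 < l (D.P.root c) := by
  rw [h.pos_iff, Roots36.isPos_iff_posOf]

variable {a : D.idx} {n : 𝟙_ (Over S) ⟶ G}

section

variable (hl : BaseChamber D b l) (ha : a ∈ b.support) (hn : Acts D n (RootPairing.Equiv.reflection D.P a))
include hl ha hn

/-- The translate of the big cell by the reflection is covered by two translates. -/
theorem inBig_or_translate {K : Type u} [Field K] {X : Over S} (eK : K ≃+* Γ(X.left, ⊤))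
    (c : Γ(X.left, ⊤)ˣ) {h : X ⟶ G} (hh : InBig D l h) :
    InBig D l (np n X * h) ∨ InBig D l ((rp D a (c : Γ(X.left, ⊤)))⁻¹ * (np n X * h)) := by
  obtain ⟨u, hu, t, v, hv, rfl⟩ := hh
  have hw := hl.wall ha
  have hn' : Acts D n (RootPairing.Equiv.reflection D.P (negIdx D a)) := by rwa [reflection_negIdx]
  obtain ⟨y, r, hr, -, hur⟩ := hw.neg.exists_split (inv_mem hu)
  let r' := np n X * r⁻¹ * (np n X)⁻¹
  have hr' : r' ∈ Rest D (-l) (negIdx D a) X := hw.neg.rest_conj_refl b hn' (inv_mem hr)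
  have e : np n X * (u * tpt D t * v) = r' * (np n X * rp D (negIdx D a) (-y) * tpt D t) * v := by
    rw [show u = r⁻¹ * rp D (negIdx D a) (-y) by
      rw [rp_neg, ← _root_.mul_inv_rev, ← hur, _root_.inv_inv]]
    simp only [r']
    group
  rcases RedPts82.isUnit_or_eq_zero eK (-y) with hy | hy
  · left
    rw [e]
    refine InBig.mul_up hv (InBig.up_mul hr'.1 (InBig.mul_tpt (hw.inBig_of_levi ?_) t))
    have := hw.exists_form_unit b hn hy.unit
    rwa [IsUnit.unit_spec] at this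
  · right
    have h1 := hw.neg.rest_conj_neg (((-c : Γ(X.left, ⊤)ˣ) : Γ(X.left, ⊤))) hr'
    rw [negIdx_negIdx] at h1
    rw [e, hy, rp_zero, _root_.mul_one, show (rp D a (c : Γ(X.left, ⊤)))⁻¹ * (r' * (np n X * tpt D t) * v) =
        (rp D a (((-c : Γ(X.left, ⊤)ˣ) : Γ(X.left, ⊤))) * r' * (rp D a (((-c : Γ(X.left, ⊤)ˣ) : Γ(X.left, ⊤))))⁻¹) *
          (rp D a (((-c : Γ(X.left, ⊤)ˣ) : Γ(X.left, ⊤))) * np n X * tpt D t) * v by
      rw [Units.val_neg, rp_neg]; group]
    exact InBig.mul_up hv (InBig.up_mul h1.1 (InBig.mul_tpt (hw.inBig_of_levi (hw.exists_form_pos b hn _)) t))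

/-- A point of the big cell times a point of the opposite of a simple root group. -/
theorem inBig_mul_neg {K : Type u} [Field K] {X : Over S} (eK : K ≃+* Γ(X.left, ⊤))
    (c : Γ(X.left, ⊤)ˣ) {g : X ⟶ G} (hg : InBig D l g) (y : Γ(X.left, ⊤)) :
    InBig D l (g * rp D (negIdx D a) y) ∨
      InBig D l ((rp D a (c : Γ(X.left, ⊤)))⁻¹ * (g * rp D (negIdx D a) y)) := by
  obtain ⟨u, hu, t, v, hv, rfl⟩ := hg
  have hw := hl.wall ha
  obtain ⟨q, r, hr, -, rfl⟩ := hw.exists_split hv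
  let M := rp D (negIdx D a) y
  let r'' := M⁻¹ * r * M
  have hr'' : r'' ∈ Up D l X := by
    have := hw.rest_conj_neg (-y) hr
    rw [rp_neg, _root_.inv_inv] at this
    exact this.1
  have e : u * tpt D t * (rp D a q * r) * rp D (negIdx D a) y = u * tpt D t * (rp D a q * M) * r'' := by
    simp only [r'', M]; group
  rw [e]
  rcases RedPts82.isUnit_or_eq_zero eK y with hy | hy
  · obtain ⟨z, hz⟩ := hn.exists_moves_unit b (negIdx D a)
    obtain ⟨p₀, τ₀, q₀, hp₀, hf⟩ := hw.exists_form b hn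
    let P₀ : Γ(X.left, ⊤)ˣ := (hp₀.map X.hom.appTop.hom).unit
    have h2 := scale_form hn (hf X) (P₀ * hy.unit⁻¹)
    have hcoef : (((P₀ * hy.unit⁻¹)⁻¹ : Γ(X.left, ⊤)ˣ) : Γ(X.left, ⊤)) * cst X p₀ = y := by
      rw [show cst X p₀ = (P₀ : Γ(X.left, ⊤)) from rfl, _root_.mul_inv_rev, _root_.inv_inv, Units.val_mul,
        _root_.mul_assoc, Units.inv_mul, _root_.mul_one]
      rfl
    rw [hcoef, _root_.mul_one] at h2
    have hrefl : RootPairing.Equiv.reflection D.P a • negIdx D a = a := D.P.reflectionPerm_self a a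
    have h3 := hz.conj (X := X) ((P₀ * hy.unit⁻¹ : Γ(X.left, ⊤)ˣ) : Γ(X.left, ⊤))
    rw [hrefl] at h3
    generalize ((((P₀ * hy.unit⁻¹)⁻¹ : Γ(X.left, ⊤)ˣ) : Γ(X.left, ⊤)) * cst X q₀) = q₁ at h2
    generalize hτ : hpt D a (P₀ * hy.unit⁻¹) * tpt D (toUnit X ≫ τ₀) = T₁ at h2
    obtain ⟨τ₁, rfl⟩ : ∃ τ₁, tpt D τ₁ = T₁ := ⟨_, by rw [← hτ, hpt_eq_tpt, ← tpt_mul]⟩
    let d := cst X (z : Γ(S, ⊤)) * ((P₀ * hy.unit⁻¹ : Γ(X.left, ⊤)ˣ) : Γ(X.left, ⊤))
    have hM : M = rp D a d * np n X * (rp D a q₁)⁻¹ * (tpt D τ₁)⁻¹ := by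
      simp only [d, M]
      rw [← h3]
      rw [show np n X * rp D (negIdx D a) ((P₀ * hy.unit⁻¹ : Γ(X.left, ⊤)ˣ) : Γ(X.left, ⊤)) * (np n X)⁻¹ *
          np n X = rp D (negIdx D a) y * tpt D τ₁ * rp D a q₁ by rw [← h2]; group]
      group
    rcases RedPts82.isUnit_or_eq_zero eK (q + d) with hqd | hqd
    · left
      obtain ⟨y₁, t₁, x₁, hlev⟩ := hw.exists_form_pos b hn hqd.unit
      rw [IsUnit.unit_spec] at hlev
      rw [show rp D a q * M = rp D (negIdx D a) y₁ * tpt D t₁ * rp D a x₁ * (rp D a q₁)⁻¹ * tpt D τ₁⁻¹ by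
        rw [← hlev, rp_add, hM, tpt_inv]; group]
      rw [show u * tpt D t * (rp D (negIdx D a) y₁ * tpt D t₁ * rp D a x₁ * (rp D a q₁)⁻¹ * tpt D τ₁⁻¹) * r'' =
        u * (tpt D t * rp D (negIdx D a) y₁ * (tpt D t)⁻¹) * (tpt D t * tpt D t₁ * (rp D a x₁ * (rp D a q₁)⁻¹) *
          tpt D τ₁⁻¹) * r'' by group]
      refine InBig.mul_up hr'' (InBig.up_mul (mul_mem hu ?_) (InBig.mul_tpt (InBig.mul_up
        (mul_mem (rp_mem_up hw.pos _) (inv_mem (rp_mem_up hw.pos _))) ?_) _))
      · refine fixed_conj_up (tpt_mem_fixed t) (rp_mem_up ?_ _)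
        rw [root_negIdx, AddMonoidHom.neg_apply, map_neg, _root_.neg_neg]
        exact hw.pos
      · rw [← tpt_mul]; exact tpt_inBig _
    · have hqM : rp D a q * M = np n X * ((rp D a q₁)⁻¹ * tpt D τ₁⁻¹) := by
        rw [hM, tpt_inv, show rp D a q * (rp D a d * np n X * (rp D a q₁)⁻¹ * (tpt D τ₁)⁻¹) =
          rp D a q * rp D a d * np n X * ((rp D a q₁)⁻¹ * (tpt D τ₁)⁻¹) by group, ← rp_add, hqd, rp_zero,
          _root_.one_mul]
      rw [hqM]
      have hn' : Acts D n⁻¹ (RootPairing.Equiv.reflection D.P (negIdx D a)) := by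
        rw [reflection_negIdx]
        simpa only [RootPairing.Equiv.reflection_inv] using hn.inv
      obtain ⟨y₁, r₁, hr₁, -, hur₁⟩ := hw.neg.exists_split (inv_mem hu)
      have hs : u * tpt D t * np n X = np n X * ((np n X)⁻¹ * r₁⁻¹ * np n X *
          ((np n X)⁻¹ * rp D (negIdx D a) (-y₁) * np n X) * tpt D (tw (RootPairing.Equiv.reflection D.P a)⁻¹ t)) := by
        rw [show u = r₁⁻¹ * rp D (negIdx D a) (-y₁) by
          rw [rp_neg, ← _root_.mul_inv_rev, ← hur₁, _root_.inv_inv],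
          _root_.mul_assoc (r₁⁻¹ * rp D (negIdx D a) (-y₁)), hn.swap']
        group
      obtain ⟨k', hk'⟩ := hn.inv.exists_moves b (negIdx D a)
      have h4 := hk'.conj (X := X) (-y₁)
      rw [np_inv, _root_.inv_inv, RootPairing.Equiv.reflection_inv, hrefl] at h4
      rw [h4] at hs
      rw [show u * tpt D t * (np n X * ((rp D a q₁)⁻¹ * tpt D τ₁⁻¹)) * r'' =
        (u * tpt D t * np n X) * ((rp D a q₁)⁻¹ * tpt D τ₁⁻¹ * r'') by group, hs, _root_.mul_assoc]
      refine inBig_or_translate hl ha hn eK c ?_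
      have hr₁' := hw.neg.rest_conj_refl b hn' (inv_mem hr₁)
      rw [np_inv, _root_.inv_inv] at hr₁'
      rw [show (np n X)⁻¹ * r₁⁻¹ * np n X * rp D a (cst X k' * -y₁) *
          tpt D (tw (RootPairing.Equiv.reflection D.P a)⁻¹ t) * ((rp D a q₁)⁻¹ * tpt D τ₁⁻¹ * r'') =
        (np n X)⁻¹ * r₁⁻¹ * np n X * (tpt D (1 : X ⟶ Red.DS S D.M) * rp D a (cst X k' * -y₁) *
          tpt D (tw (RootPairing.Equiv.reflection D.P a)⁻¹ t) * (rp D a q₁)⁻¹ * tpt D τ₁⁻¹) * r'' by
        rw [tpt_one]; group]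
      exact InBig.mul_up hr'' (InBig.up_mul hr₁'.1 (InBig.mul_tpt (InBig.mul_up (inv_mem (rp_mem_up hw.pos _))
        (InBig.mul_tpt (InBig.mul_up (rp_mem_up hw.pos _) (tpt_inBig _)) _)) _))
  · left
    simp only [M, hy, rp_zero, _root_.mul_one]
    exact InBig.mul_up hr'' ⟨u, hu, t, _, rp_mem_up hw.pos q, rfl⟩

end

/-- Two sections with the same action differ by a torus point. -/
theorem Acts.exists_torus {n n' : 𝟙_ (Over S) ⟶ G} {g : D.P.Aut} (h : Acts D n g) (h' : Acts D n' g)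
    (X : Over S) : ∃ τ : X ⟶ Red.DS S D.M, np n X = np n' X * tpt D τ := by
  obtain ⟨τ, hτ⟩ := centralizer_torus D ((np n' X)⁻¹ * np n X) fun Z k t => by
    rw [MonObj.comp_mul, GrpObj.comp_inv, comp_np, comp_np, ← np_inv, ← np_mul, i_eq_tpt]
    have := (h'.inv.mul h).swap (X := Z) (t ≫ D.split.hom.hom.hom)
    rwa [inv_mul_cancel, tw_one] at this
  rw [i_eq_tpt] at hτ
  exact ⟨τ ≫ D.split.hom.hom.hom, by rw [hτ, mul_inv_cancel_left]⟩

theorem exists_monoid_point (hl : BaseChamber D b l) {nr : D.idx → (𝟙_ (Over S) ⟶ G)}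
    (hnr : ∀ a ∈ b.support, Acts D (nr a) (RootPairing.Equiv.reflection D.P a)) {X : Over S}
    (c : D.idx → Γ(X.left, ⊤)) (hc : ∀ a ∈ b.support, IsUnit (c a)) {g : X ⟶ G}
    (hg : Decomp D b l nr g) :
    ∃ gm₀ ∈ Submonoid.closure {x : X ⟶ G | ∃ a ∈ b.support, x = rp D a (c a)}, InBig D l (gm₀⁻¹ * g) := by
  obtain ⟨w, hw, hrest⟩ := hg
  induction hlen : w.length using Nat.strong_induction_on generalizing w g with
  | _ k ih =>
    obtain ⟨u, hu, t, v, hv, rfl⟩ := hrest
    cases w with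
    | nil =>
      refine ⟨1, one_mem _, ?_⟩
      rw [inv_one, _root_.one_mul, List.map_nil, List.prod_nil, np, MonObj.comp_one, _root_.mul_one]
      exact ⟨u, hu, t, v, hv, rfl⟩
    | cons a w' =>
      have ha : a ∈ b.support := hw a (by simp)
      have hw' : ∀ c ∈ w', c ∈ b.support := fun c hc => hw c (by simp [hc])
      have hn := hnr a ha
      have hwall := hl.wall ha
      have hN := acts_word hnr hw'
      set g' := Roots36.wprod D.P w' with hg'
      by_cases hpos : 0 < l (D.P.root (g'⁻¹ • a))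
      · have hn' : Acts D (nr a) (RootPairing.Equiv.reflection D.P (negIdx D a)) := by rwa [reflection_negIdx]
        obtain ⟨y, r, hr, -, hur⟩ := hwall.neg.exists_split (inv_mem hu)
        let C := ((-(hc a ha).unit : Γ(X.left, ⊤)ˣ) : Γ(X.left, ⊤))
        have hr'' := hwall.neg.rest_conj_neg C (inv_mem hr)
        rw [negIdx_negIdx] at hr''
        obtain ⟨k₁, hk₁⟩ := hn.inv.exists_moves b (negIdx D a)
        have h4 := hk₁.conj (X := X) (-y)
        have hrefl : RootPairing.Equiv.reflection D.P a • negIdx D a = a := D.P.reflectionPerm_self a a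
        rw [np_inv, _root_.inv_inv, RootPairing.Equiv.reflection_inv, hrefl] at h4
        obtain ⟨p, τ, q, hlev⟩ := hwall.exists_form_pos b hn (-(hc a ha).unit)
        have ht := hn.swap' (X := X) t
        set t₁ := tw (RootPairing.Equiv.reflection D.P a)⁻¹ t
        obtain ⟨k₂, hk₂⟩ := hN.inv.exists_moves b a
        have key : ∀ x, rp D a x * nword nr w' X = nword nr w' X * rp D (g'⁻¹ • a) (cst X k₂ * x) := by
          intro x
          rw [← hk₂.conj, np_inv]
          group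
        have e : (rp D a (c a))⁻¹ * (u * tpt D t * np (List.map nr (a :: w')).prod X * v) =
            (rp D a C * r⁻¹ * (rp D a C)⁻¹ * rp D (negIdx D a) p) * tpt D τ *
              (rp D a q * rp D a (cst X k₁ * -y)) * tpt D t₁ * nword nr w' X * v := by
          rw [← h4, show rp D (negIdx D a) p = rp D (negIdx D a) p * tpt D τ * rp D a q *
              (rp D a q)⁻¹ * (tpt D τ)⁻¹ by group, ← hlev]
          rw [show u = r⁻¹ * rp D (negIdx D a) (-y) by
            rw [rp_neg, ← _root_.mul_inv_rev, ← hur, _root_.inv_inv]]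
          rw [List.map_cons, List.prod_cons, np_mul,
            show r⁻¹ * rp D (negIdx D a) (-y) * tpt D t * (np (nr a) X * np (List.map nr w').prod X) * v =
              r⁻¹ * rp D (negIdx D a) (-y) * (tpt D t * np (nr a) X) * np (List.map nr w').prod X * v by group,
            ht, show (rp D a (c a))⁻¹ = rp D a C by simp [C, rp_neg, IsUnit.unit_spec]]
          simp only [C, nword]
          group
        obtain ⟨x₀, hx₀⟩ : ∃ x₀, tpt D τ * (rp D a q * rp D a (cst X k₁ * -y)) * tpt D t₁ =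
            tpt D (τ * t₁) * rp D a x₀ := by
          refine ⟨dsFn t₁⁻¹ (D.P.root a) * (q + cst X k₁ * -y), ?_⟩
          rw [← tpt_conj_rp, tpt_mul, tpt_inv, rp_add]
          group
        obtain ⟨gm₀, hgm, hin⟩ := ih w'.length (by rw [← hlen]; simp) (g := (rp D a (c a))⁻¹ * (u * tpt D t *
            np (List.map nr (a :: w')).prod X * v)) w' hw'
          ⟨rp D a C * r⁻¹ * (rp D a C)⁻¹ * rp D (negIdx D a) p, mul_mem hr''.1 (rp_mem_up (by
              rw [root_negIdx, AddMonoidHom.neg_apply, map_neg, _root_.neg_neg]; exact hwall.pos) _),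
            τ * t₁, rp D (g'⁻¹ • a) (cst X k₂ * x₀) * v, mul_mem (rp_mem_up hpos _) hv, by
              rw [e, show (rp D a C * r⁻¹ * (rp D a C)⁻¹ * rp D (negIdx D a) p) * tpt D τ *
                  (rp D a q * rp D a (cst X k₁ * -y)) * tpt D t₁ * nword nr w' X * v =
                (rp D a C * r⁻¹ * (rp D a C)⁻¹ * rp D (negIdx D a) p) * (tpt D τ *
                  (rp D a q * rp D a (cst X k₁ * -y)) * tpt D t₁) * nword nr w' X * v by group, hx₀,
                show (rp D a C * r⁻¹ * (rp D a C)⁻¹ * rp D (negIdx D a) p) * (tpt D (τ * t₁) * rp D a x₀) *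
                    nword nr w' X * v =
                  (rp D a C * r⁻¹ * (rp D a C)⁻¹ * rp D (negIdx D a) p) * tpt D (τ * t₁) *
                    (rp D a x₀ * nword nr w' X) * v by group, key]
              group⟩ rfl
        refine ⟨rp D a (c a) * gm₀, mul_mem (Submonoid.subset_closure ⟨a, ha, rfl⟩) hgm, ?_⟩
        rwa [_root_.mul_inv_rev, _root_.mul_assoc]
      · have := isReduced_of_base b
        obtain ⟨m, hm, he⟩ := Roots36.exchange (Roots36.base_isSimpleSys b) (l := w'.reverse)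
          (fun c hc => hw' c (List.mem_reverse.mp hc)) ha (by
            rw [hl.posOf_iff, Roots36.wprod_reverse]; exact hpos)
        let w'' := (w'.reverse.eraseIdx m).reverse
        have hw'' : ∀ c ∈ w'', c ∈ b.support := fun c hc =>
          hw' c (List.mem_reverse.mp (List.mem_of_mem_eraseIdx (List.mem_reverse.mp hc)))
        have hg'' : Roots36.wprod D.P w'' = Roots36.wprod D.P (a :: w') := by
          rw [Roots36.wprod_reverse, ← he, Roots36.wprod_reverse, _root_.mul_inv_rev, _root_.inv_inv,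
            RootPairing.Equiv.reflection_inv, Roots36.wprod_cons]
        have hA := acts_word hnr hw''
        rw [hg''] at hA
        obtain ⟨τ, hτ⟩ := (acts_word hnr hw).exists_torus hA X
        refine ih w''.length (by
          rw [← hlen]
          simp only [w'', List.length_reverse, List.length_cons, List.length_eraseIdx]
          split <;> omega) w'' hw'' ⟨u, hu, t * tw (Roots36.wprod D.P (a :: w')) τ, v, hv, ?_⟩ rfl
        rw [hτ, tpt_mul, ← hA X τ]
        group

theorem BaseChamber.exists_cellMap (hl : BaseChamber D b l) {n m : ℕ} {eneg : Fin n → D.idx}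
    {epos : Fin m → D.idx} (hneg : RedSub.Enumerates (RedSub.negRoots D.P b) eneg)
    (hpos : RedSub.Enumerates (RedSub.posRoots D.P b) epos) {X : Over S} {g : X ⟶ G}
    (h : InBig D l g) : ∃ z, z ≫ RedSub.cellMap D eneg epos = g := by
  obtain ⟨u, hu, t, v, hv, rfl⟩ := h
  obtain ⟨y, rfl⟩ := hl.toChamber.neg.exists_prod hneg.1 (hl.range_neg hneg) hu
  obtain ⟨x, rfl⟩ := hl.exists_prod hpos.1 (hl.range_pos hpos) hv
  exact exists_cellS eneg epos y t x

theorem BaseChamber.inBig_cellMap (hl : BaseChamber D b l) {n m : ℕ} {eneg : Fin n → D.idx}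
    {epos : Fin m → D.idx} (hneg : RedSub.Enumerates (RedSub.negRoots D.P b) eneg)
    (hpos : RedSub.Enumerates (RedSub.posRoots D.P b) epos) {X : Over S}
    (z : X ⟶ RedSub.pow (Red.Ga S) n ⊗ (D.T ⊗ RedSub.pow (Red.Ga S) m)) :
    InBig D l (z ≫ RedSub.cellMap D eneg epos) :=
  ⟨_, prod_mem_up eneg (fun k => (Set.ext_iff.mp (hl.range_neg hneg) (eneg k)).mp ⟨k, rfl⟩) _, _, _,
    prod_mem_up epos (fun k => (Set.ext_iff.mp (hl.range_pos hpos) (epos k)).mp ⟨k, rfl⟩) _,
    cellS_eq_prod eneg epos z⟩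

theorem point_rootHom (a : D.idx) (x : 𝟙_ (Over S) ⟶ Red.Ga S) (X : Over S) :
    np (x ≫ D.u a) X = rp D a (Red.gaFn (toUnit X ≫ x)) := by
  rw [np, rp, gaPt_gaFn, Category.assoc]

theorem isUnit_gaFn (x : 𝟙_ (Over S) ⟶ Red.Ga S) (hx : IsUnit (Red.gaFn x)) (X : Over S) :
    IsUnit (Red.gaFn (toUnit X ≫ x)) := by
  rw [gaFn_comp]
  exact hx.map _

/-- A point which becomes a cell point after translating lies in the translate. -/
theorem BaseChamber.mem_range_transl (hl : BaseChamber D b l) {n m : ℕ} {eneg : Fin n → D.idx}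
    {epos : Fin m → D.idx} (hneg : RedSub.Enumerates (RedSub.negRoots D.P b) eneg)
    (hpos : RedSub.Enumerates (RedSub.posRoots D.P b) epos) {W : Over S} {g : W ⟶ G}
    (N : 𝟙_ (Over S) ⟶ G) (h : InBig D l ((np N W)⁻¹ * g)) (q : W.left) :
    g.left q ∈ Set.range (transl N (RedSub.cellMap D eneg epos)).left.base := by
  obtain ⟨z, hz⟩ := hl.exists_cellMap hneg hpos h
  have key : z ≫ transl N (RedSub.cellMap D eneg epos) = g := by
    rw [transl_pt, hz, mul_inv_cancel_left]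
  exact ⟨z.left q, congrArg (fun f : W ⟶ G => f.left q) key⟩

end Groth.Agent.RedPts82
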