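import Groth.Agent.RedPts82.BruhatCells

/-!
Generators of the sections of a pinned group over a local ring.
-/

universe u

open CategoryTheory MonoidalCategory CartesianMonoidalCategory MonObj GrpObj AlgebraicGeometry
open CategoryTheory.Limits

namespace Groth.Agent.RedPts82

theorem coroot_point_mem {S : Scheme.{u}} {G : Over S} [GrpObj G] {D : Red.SplitRed G} {b : D.P.Base}
    {l : D.M →+ ℤ} (hl : BaseChamber D b l) {a : D.idx} (ha : a ∈ b.support) {n : 𝟙_ (Over S) ⟶ G}
    (hn : Acts D n (RootPairing.Equiv.reflection D.P a)) {X : Over S} (H : Subgroup (X ⟶ G))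
    (hP : ∀ r : Γ(X.left, ⊤), rp D a r ∈ H) (hM : ∀ r : Γ(X.left, ⊤), rp D (negIdx D a) r ∈ H)
    (hH : ∀ (t : X ⟶ Red.DS S D.M) (x : X ⟶ G), x ∈ H → tpt D t * x * (tpt D t)⁻¹ ∈ H)
    (z : Γ(X.left, ⊤)ˣ) : hpt D a z ∈ H := by
  obtain ⟨p, τ, q, -, h⟩ := (hl.wall ha).exists_form b hn
  have h1 := h X
  have h2 := scale_form hn h1 z
  rw [_root_.mul_one] at h2
  generalize toUnit X ≫ τ = τ₀ at h1 h2
  have e : hpt D a z = (rp D (negIdx D a) (((z⁻¹ : Γ(X.left, ⊤)ˣ) : Γ(X.left, ⊤)) * cst X p))⁻¹ *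
      rp D (negIdx D a) (cst X p) * (tpt D τ₀ * (rp D a (cst X q) * (rp D (negIdx D a) 1)⁻¹ *
        rp D (negIdx D a) (z : Γ(X.left, ⊤)) *
        (rp D a (((z⁻¹ : Γ(X.left, ⊤)ˣ) : Γ(X.left, ⊤)) * cst X q))⁻¹) * (tpt D τ₀)⁻¹) := by
    have h2' := h2
    have hn' : np n X = rp D (negIdx D a) (cst X p) * tpt D τ₀ * rp D a (cst X q) *
        (rp D (negIdx D a) 1)⁻¹ := by rw [← h1]; group
    rw [hn'] at h2'
    generalize rp D (negIdx D a) (cst X p) = M₁ at h2' ⊢
    generalize rp D (negIdx D a) (((z⁻¹ : Γ(X.left, ⊤)ˣ) : Γ(X.left, ⊤)) * cst X p) = M₂ at h2' ⊢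
    generalize rp D (negIdx D a) (z : Γ(X.left, ⊤)) = M₃ at h2' ⊢
    generalize rp D (negIdx D a) (1 : Γ(X.left, ⊤)) = M₄ at h2' ⊢
    generalize rp D a (((z⁻¹ : Γ(X.left, ⊤)ˣ) : Γ(X.left, ⊤)) * cst X q) = P₁ at h2' ⊢
    generalize rp D a (cst X q) = P₂ at h2' ⊢
    calc hpt D a z = M₂⁻¹ * (M₂ * (hpt D a z * tpt D τ₀) * P₁) * P₁⁻¹ * (tpt D τ₀)⁻¹ := by group
      _ = _ := by rw [← h2']; group
  rw [e]
  exact mul_mem (mul_mem (inv_mem (hM _)) (hM _))
    (hH τ₀ _ (mul_mem (mul_mem (mul_mem (hP _) (inv_mem (hM _))) (hM _)) (inv_mem (hP _))))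

variable {A : Type u} [CommRing A] {G : Over (Spec (CommRingCat.of A))} [GrpObj G]
  (D : Red.Pinning G)

/-- A subgroup of sections with the torus and the simple root groups and their opposites is everything. -/
theorem eq_top_of_gens [IsLocalRing A] (H : Subgroup (𝟙_ (Over (Spec (CommRingCat.of A))) ⟶ G))
    (hT : ∀ t, tpt D.toSplitRed t ∈ H)
    (hU : ∀ a ∈ D.base.support, ∀ r, rp D.toSplitRed a r ∈ H ∧ rp D.toSplitRed (negIdx D.toSplitRed a) r ∈ H) :
    H = ⊤ := by
  obtain ⟨l, hl⟩ := exists_baseChamber (D := D.toSplitRed) D.base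
  choose nr hnr using D.refl
  have hA : ∀ a, Acts D.toSplitRed (nr a) (RootPairing.Equiv.reflection D.P a) := fun a => acts_of_refl (hnr a)
  have hn : ∀ a ∈ D.base.support, np (nr a) (𝟙_ (Over (Spec (CommRingCat.of A)))) ∈ H := by
    intro a ha
    obtain ⟨p, τ, q, -, h⟩ := (hl.wall ha).exists_form D.base (hA a)
    rw [show np (nr a) (𝟙_ _) = rp D.toSplitRed (negIdx D.toSplitRed a) (cst _ p) * tpt D.toSplitRed (toUnit _ ≫ τ) *
        rp D.toSplitRed a (cst _ q) * (rp D.toSplitRed (negIdx D.toSplitRed a) 1)⁻¹ by rw [← h]; group]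
    exact mul_mem (mul_mem (mul_mem (hU a ha _).2 (hT _)) (hU a ha _).1) (inv_mem (hU a ha _).2)
  have hmove : ∀ j ∈ D.base.support, ∀ c, (∀ r, rp D.toSplitRed c r ∈ H) →
      ∀ r, rp D.toSplitRed (D.P.reflectionPerm j c) r ∈ H := by
    intro j hj c hc r
    obtain ⟨k, hk⟩ := (hA j).exists_moves_unit D.base c
    have e := hk.conj (X := 𝟙_ (Over (Spec (CommRingCat.of A)))) (cst (𝟙_ (Over (Spec (CommRingCat.of A)))) ((k⁻¹ : Γ(Spec (CommRingCat.of A), ⊤)ˣ) : _) * r)
    rw [← _root_.mul_assoc, cst, cst, ← map_mul, Units.mul_inv, map_one, _root_.one_mul,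
      Roots36.reflection_smul_index] at e
    rw [← e]
    exact mul_mem (mul_mem (hn j hj) (hc _)) (inv_mem (hn j hj))
  have := isReduced_of_base D.base
  have hroot : ∀ c r, rp D.toSplitRed c r ∈ H := fun c => by
    refine (D.base.induction_reflect c (p := fun c => (∀ r, rp D.toSplitRed c r ∈ H) ∧
      ∀ r, rp D.toSplitRed (negIdx D.toSplitRed c) r ∈ H) (fun i hi => ?_) (fun i hi => ?_)
      (fun i j hi hj => ?_)).1
    · exact ⟨hi.2, by
        rw [show D.P.reflectionPerm i i = negIdx D.toSplitRed i from rfl, negIdx_negIdx]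
        exact hi.1⟩
    · exact ⟨fun r => (hU i hi r).1, fun r => (hU i hi r).2⟩
    · exact ⟨hmove j hj i hi.1, by rw [negIdx_reflectionPerm]; exact hmove j hj _ hi.2⟩
  refine eq_top_iff.mpr fun g _ => ?_
  obtain ⟨n, eneg, hneg⟩ := exists_enumerates (D := D.toSplitRed) (RedSub.negRoots D.P D.base)
  obtain ⟨m, epos, hpos⟩ := exists_enumerates (D := D.toSplitRed) (RedSub.posRoots D.P D.base)
  obtain ⟨w, hwmem, hx⟩ := exists_translate_point (D := D.toSplitRed) (fun a _ => hA a) hneg hpos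
    (g.left (IsLocalRing.closedPoint A : Spec (CommRingCat.of A)))
  have := cellMap_isOpenImmersion D.toSplitRed D.base eneg epos hneg hpos
  have := openImmersion_transl (w.map nr).prod (RedSub.cellMap D.toSplitRed eneg epos)
  obtain ⟨c, hc⟩ := exists_factor_of_range (transl (w.map nr).prod (RedSub.cellMap D.toSplitRed eneg epos)) g (by
    rintro _ ⟨p, rfl⟩
    exact ((IsLocalRing.specializes_closedPoint (R := A) p).map g.left.continuous).mem_open
      (transl (w.map nr).prod (RedSub.cellMap D.toSplitRed eneg epos)).left.isOpenEmbedding.isOpen_range hx)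
  rw [← hc, transl_pt, cellMap_eq, cellS_eq_prod]
  have hword : np (w.map nr).prod (𝟙_ (Over (Spec (CommRingCat.of A)))) ∈ H := by
    clear hc hx this
    induction w with
    | nil => rw [List.map_nil, List.prod_nil, np, MonObj.comp_one]; exact one_mem H
    | cons a w ih =>
      rw [List.map_cons, List.prod_cons, np_mul]
      exact mul_mem (hn a (hwmem a (by simp))) (ih fun c hc => hwmem c (by simp [hc]))
  exact mul_mem hword (mul_mem (mul_mem (list_prod_mem' fun _ => hroot _ _) (hT _))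
    (list_prod_mem' fun _ => hroot _ _))

/-- With spanning coroots the torus points come from the simple coroots. -/
theorem torus_mem_of_coroots (hsc : Submodule.span ℤ (Set.range D.P.coroot) = ⊤)
    {X : Over (Spec (CommRingCat.of A))} (H : Subgroup (X ⟶ G))
    (hh : ∀ a ∈ D.base.support, ∀ z, hpt D.toSplitRed a z ∈ H) (t : X ⟶ Red.DS _ D.M) :
    tpt D.toSplitRed t ∈ H := by
  classical
  let pt : (Module.Dual ℤ D.M) → Γ(X.left, ⊤)ˣ → (X ⟶ G) := fun φ z =>
    tpt D.toSplitRed (gmPt z ≫ Red.DSmap _ φ.toAddMonoidHom)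
  have hadd : ∀ φ ψ z, pt (φ + ψ) z = pt φ z * pt ψ z := fun φ ψ z => by
    rw [← tpt_mul]
    refine congrArg (tpt D.toSplitRed) (dsFn_injective fun m => ?_)
    simp only [dsFn_mul, dsFn_DSmap, dsFn_int, LinearMap.toAddMonoidHom_coe, LinearMap.add_apply,
      ← Units.val_mul, ← zpow_add]
  have hzero : ∀ z, pt 0 z = 1 := fun z => by
    have := hadd 0 0 z
    rwa [add_zero, left_eq_mul] at this
  let Q : AddSubgroup (Module.Dual ℤ D.M) :=
    { carrier := {φ | ∀ z, pt φ z ∈ H}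
      add_mem' := fun {φ ψ} h h' z => by rw [hadd]; exact mul_mem (h z) (h' z)
      zero_mem' := fun z => by rw [hzero]; exact one_mem H
      neg_mem' := fun {φ} h z => by
        have e := hadd φ (-φ) z
        rw [add_neg_cancel, hzero] at e
        rw [eq_inv_of_mul_eq_one_right e.symm]
        exact inv_mem (h z) }
  have hsimple : ∀ a ∈ D.base.support, D.P.coroot a ∈ Q := fun a ha z => by
    show pt _ z ∈ H
    have := hh a ha z
    rwa [hpt_eq_tpt] at this
  have hcl : AddSubmonoid.closure (D.P.coroot '' (D.base.support : Set D.idx)) ≤ Q.toAddSubmonoid := by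
    rw [AddSubmonoid.closure_le]
    rintro _ ⟨a, ha, rfl⟩
    exact hsimple a ha
  have hQ : ∀ φ, φ ∈ Q := fun φ => by
    have : φ ∈ Submodule.span ℤ (Set.range D.P.coroot) := by rw [hsc]; trivial
    induction this using Submodule.span_induction with
    | mem x hx =>
      obtain ⟨i, rfl⟩ := hx
      rcases D.base.coroot_mem_or_neg_mem i with h | h
      · exact hcl h
      · simpa using Q.neg_mem (hcl h)
    | zero => exact Q.zero_mem
    | add x y _ _ hx hy => exact Q.add_mem hx hy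
    | smul c x _ hx => exact Q.zsmul_mem hx c
  let B := Module.Free.chooseBasis ℤ D.M
  let z : _ → Γ(X.left, ⊤)ˣ := fun j => (dsFn_isUnit t (B j)).unit
  have key : ∀ s : Finset (Module.Free.ChooseBasisIndex ℤ D.M), ∃ t' : X ⟶ Red.DS _ D.M,
      tpt D.toSplitRed t' ∈ H ∧ ∀ m, dsFn t' m = dsFn t (∑ j ∈ s, B.repr m j • B j) := by
    intro s
    induction s using Finset.induction_on with
    | empty =>
      exact ⟨1, by rw [tpt_one]; exact one_mem H, fun m => by rw [dsFn_one, Finset.sum_empty, dsFn_zero]⟩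
    | insert j s hj ih =>
      obtain ⟨t', ht', he⟩ := ih
      refine ⟨(gmPt (z j) ≫ Red.DSmap _ (B.coord j).toAddMonoidHom) * t', ?_, fun m => ?_⟩
      · rw [tpt_mul]; exact mul_mem (hQ (B.coord j) (z j)) ht'
      · rw [Finset.sum_insert hj, dsFn_mul, dsFn_add, ← he m, dsFn_DSmap, dsFn_int,
          show gmU (gmPt (z j)) = z j from Units.ext (gmFn_gmPt _), dsFn_zsmul]
        rfl
  obtain ⟨t', ht', he⟩ := key Finset.univ
  rwa [show t = t' from dsFn_injective fun m => by rw [he m, B.sum_repr]]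

end Groth.Agent.RedPts82
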