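import Groth.Agent.RedPts82.BruhatTorusMove

/-!
The torus component of the big cell modulo the characters killed by all coroots extends to a
homomorphism on the whole group.
-/

universe u

open CategoryTheory MonoidalCategory CartesianMonoidalCategory MonObj GrpObj AlgebraicGeometry
open CategoryTheory.Limits

namespace Groth.Agent.RedPts82

variable {S : Scheme.{u}} {G : Over S} [GrpObj G] {D : Red.SplitRed G} {l : D.M →+ ℤ}

theorem exists_unit_affine {K : Type u} [Field K] [IsAlgClosed K] {W : Over S} (eK : K ≃+* Γ(W.left, ⊤))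
    {s₁ c₁ s₂ c₂ : Γ(W.left, ⊤)} (h₁ : IsUnit s₁ ∨ IsUnit c₁) (h₂ : IsUnit s₂ ∨ IsUnit c₂) :
    ∃ r, IsUnit ((s₁ * r + c₁) * (s₂ * r + c₂)) := by
  classical
  let f := eK.symm
  obtain ⟨d, hd⟩ := Infinite.exists_notMem_finset ({-f c₁ / f s₁, -f c₂ / f s₂} : Finset K)
  simp only [Finset.mem_insert, Finset.mem_singleton, not_or] at hd
  refine ⟨eK d, ?_⟩
  have key : ∀ {s c : Γ(W.left, ⊤)}, IsUnit s ∨ IsUnit c → d ≠ -f c / f s → IsUnit (s * eK d + c) := by
    intro s c h hne
    refine (isUnit_or_eq_zero eK _).resolve_right fun h0 => ?_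
    have h1 := congrArg f h0
    rw [map_add, map_mul, map_zero, show f (eK d) = d from eK.symm_apply_apply d] at h1
    by_cases hs : f s = 0
    · rw [hs, zero_mul, zero_add] at h1
      rcases h with h | h
      · exact (h.map f).ne_zero hs
      · exact (h.map f).ne_zero h1
    · exact hne (by field_simp; linear_combination h1)
  exact (key h₁ hd.1).mul (key h₂ hd.2)

theorem Chamber.openImmersion_bigMap (hl : Chamber D l) : IsOpenImmersion (bigMap D l).left := by
  classical
  have C := cellData_of_regular D l hl.inj (posEnum D (-l)) (posEnum D l) posEnum_injective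
    posEnum_injective (fun k => by
      have := posEnum_pos (D := D) (l := -l) k
      simp only [AddMonoidHom.neg_apply] at this
      omega) posEnum_pos
  have : Mono (RedSub.cellMap D (posEnum D (-l)) (posEnum D l)) := C.mono_cell
  refine cellMap_open_of_mono D _ _ ?_
  rw [Fintype.card_congr (Equiv.subtypeEquivRight
    (p := fun c => 0 < (-l) (D.P.root c)) (q := fun c => ¬ 0 < l (D.P.root c))
    fun c => by have := hl.ne c; simp only [AddMonoidHom.neg_apply]; omega),
    Fintype.card_subtype_compl, Nat.sub_add_cancel (Fintype.card_subtype_le _)]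

theorem Chamber.one_range_bigMap (D : Red.SplitRed G) (l : D.M →+ ℤ) (X : Over S) :
    Set.range (1 : X ⟶ G).left.base ⊆ Set.range (bigMap D l).left.base :=
  one_range_cell (fun k => rootHom_gaPt_zero D _) (fun k => rootHom_gaPt_zero D _) D.maximalTorus.1

theorem affineHom_pow_ga (m : ℕ) : IsAffineHom (RedSub.pow (Red.Ga S) m).hom := by
  induction m with
  | zero => exact inferInstanceAs (IsAffineHom (𝟙 S))
  | succ m ih => exact affineHom_tensor affineHom_ga ih

theorem Chamber.affineHom_bigMap_dom (D : Red.SplitRed G) (l : D.M →+ ℤ) {n m : ℕ} :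
    IsAffineHom (RedSub.pow (Red.Ga S) n ⊗ (D.T ⊗ RedSub.pow (Red.Ga S) m)).hom :=
  affineHom_tensor (affineHom_pow_ga n)
    (affineHom_tensor (isTorus_isAffineHom D.maximalTorus.2.2.1) (affineHom_pow_ga m))

/-- Finitely many fibrewise non-empty open conditions on a point of an open subobject hold at a point
after a flat surjective extension. -/
theorem exists_generic_point {A : Over S} (hG : Red.IsReductive G) (j : A ⟶ G) [IsOpenImmersion j.left]
    (h1 : ∀ X : Over S, Set.range (1 : X ⟶ G).left.base ⊆ Set.range j.left.base)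
    {X : Over S} {ι' : Type} [Fintype ι'] (L : ι' → (X ⊗ A ⟶ G)) (z : ι' → (X ⟶ A))
    (hz : ∀ i, Set.range (lift (𝟙 X) (z i) ≫ L i).left.base ⊆ Set.range j.left.base) :
    ∃ (X' : Over S) (k : X' ⟶ X) (p : X' ⟶ A), Flat k.left ∧ Surjective k.left ∧
      ∀ i, Set.range (lift k p ≫ L i).left.base ⊆ Set.range j.left.base := by
  classical
  have := geometricallyIrreducible_of_reductive hG
  have := hG.2.1
  have := openImmersion_whiskerLeft X j
  let q : X ⊗ G ⟶ X := fst X G
  let U : ι' → (X ⊗ G).left.Opens := fun i => (X ◁ j).left ''ᵁ ((L i).left ⁻¹ᵁ j.left.opensRange)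
  let W : (X ⊗ G).left.Opens :=
    ⟨Set.range (X ◁ j).left.base ∩ ⋂ i, (U i : Set (X ⊗ G).left),
      (X ◁ j).left.isOpenEmbedding.isOpen_range.inter (isOpen_iInter_of_finite fun i => (U i).isOpen)⟩
  have hgi : GeometricallyIrreducible q.left :=
    inferInstanceAs (GeometricallyIrreducible (pullback.fst X.hom G.hom))
  have hsm : Smooth q.left := inferInstanceAs (Smooth (pullback.fst X.hom G.hom))
  have hwit : ∀ i, ∀ x : X.left, ((lift (𝟙 X) (z i) ≫ (X ◁ j)).left x) ∈ U i ∧
      q.left ((lift (𝟙 X) (z i) ≫ (X ◁ j)).left x) = x := fun i x => by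
    refine ⟨⟨(lift (𝟙 X) (z i)).left x, hz i ⟨x, rfl⟩, rfl⟩, ?_⟩
    show ((lift (𝟙 X) (z i) ≫ (X ◁ j)) ≫ fst X G).left x = x
    rw [Category.assoc, whiskerLeft_fst, lift_fst]
    rfl
  obtain hι | ⟨⟨i₀⟩⟩ := isEmpty_or_nonempty ι'
  · obtain ⟨X', k, h, a, hf, hs, -⟩ := exists_translate (X := X) (n := 1) hG j h1 (fun _ => 1)
    exact ⟨X', k, a 0, hf, hs, fun i => hι.elim i⟩
  have hsurj : Surjective (W.ι ≫ q.left) := by
    refine ⟨fun x => ?_⟩
    have hirr := q.left.isIrreducible_preimage q.left.isOpenMap (isIrreducible_singleton (x := x))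
    obtain ⟨p, hp, hp'⟩ := isIrreducible_iff_sInter.mp hirr
      (Finset.univ.image fun i => (U i : Set (X ⊗ G).left))
      (fun u hu => by
        obtain ⟨i, -, rfl⟩ := Finset.mem_image.mp hu
        exact (U i).isOpen)
      (fun u hu => by
        obtain ⟨i, -, rfl⟩ := Finset.mem_image.mp hu
        exact ⟨_, (hwit i x).2, (hwit i x).1⟩)
    have hpi : ∀ i, p ∈ U i := fun i => hp' _ (by simp)
    have hpW : p ∈ W := by
      refine ⟨?_, Set.mem_iInter.mpr hpi⟩
      obtain ⟨w, -, rfl⟩ := hpi i₀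
      exact ⟨w, rfl⟩
    exact ⟨⟨p, hpW⟩, hp⟩
  let X' : Over S := Over.mk (W.ι ≫ (X ⊗ G).hom)
  let ι₁ : X' ⟶ X ⊗ G := Over.homMk W.ι rfl
  obtain ⟨c, hc⟩ := exists_factor_of_range (X ◁ j) ι₁ (by
    rintro _ ⟨w, rfl⟩
    exact w.2.1)
  refine ⟨X', ι₁ ≫ q, c ≫ snd X A, inferInstanceAs (Flat (W.ι ≫ q.left)), hsurj, fun i => ?_⟩
  have e : lift (ι₁ ≫ q) (c ≫ snd X A) = c := by
    ext1
    · rw [lift_fst, ← hc, Category.assoc, whiskerLeft_fst]
    · rw [lift_snd]
  rw [e]
  rintro _ ⟨w, rfl⟩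
  obtain ⟨w', hw', hw''⟩ := Set.mem_iInter.mp w.2.2 i
  have e2 : w' = c.left w := (X ◁ j).left.isOpenEmbedding.injective
    (hw''.trans (congrArg (fun f : X' ⟶ X ⊗ G => f.left w) hc).symm)
  subst e2
  exact hw'

/-- The coordinates of a positive unipotent point are unique. -/
theorem Chamber.coord_eq_zero (hl : Chamber D l) {X : Over S}
    {x : Fin (Fintype.card {c // 0 < l (D.P.root c)}) → Γ(X.left, ⊤)}
    (h : (List.ofFn fun i => rp D (posEnum D l i) (x i)).prod = 1) (j) : x j = 0 := by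
  classical
  have := hl.openImmersion_bigMap
  have : Mono (bigMap D l) := Over.mono_of_mono_left _
  let w : (Fin (Fintype.card {c // 0 < l (D.P.root c)}) → Γ(X.left, ⊤)) →
      (X ⟶ RedSub.pow (Red.Ga S) (Fintype.card {c // 0 < (-l) (D.P.root c)}) ⊗
        (D.T ⊗ RedSub.pow (Red.Ga S) (Fintype.card {c // 0 < l (D.P.root c)}))) := fun c =>
    lift (powTuple fun _ => gaPt (0 : Γ(X.left, ⊤))) (lift (1 : X ⟶ D.T) (powTuple fun i => gaPt (c i)))
  have hw : ∀ c, w c ≫ bigMap D l = (List.ofFn fun i => rp D (posEnum D l i) (c i)).prod := fun c => by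
    have := D.maximalTorus.1
    simp only [w, bigMap, cellS_lift, powTuple_prodMap, MonObj.one_comp, _root_.one_mul]
    rw [List.prod_eq_one (l := List.ofFn fun k => rp D _ 0) (fun f hf => by
      obtain ⟨k, rfl⟩ := (List.mem_ofFn' _ _).mp hf
      exact rp_zero _ _), _root_.one_mul]
  have h0 : (List.ofFn fun i => rp D (posEnum D l i) ((fun _ => 0 : _ → Γ(X.left, ⊤)) i)).prod = 1 :=
    List.prod_eq_one fun f hf => by
      obtain ⟨k, rfl⟩ := (List.mem_ofFn' _ _).mp hf
      exact rp_zero _ _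
  have e := (cancel_mono (bigMap D l)).mp (((hw x).trans h).trans ((hw fun _ => 0).trans h0).symm)
  have := congrArg (fun f => Red.gaFn ((f ≫ snd _ _ ≫ snd _ _) ≫ powProj (Red.Ga S) _ j)) e
  simpa [w, powTuple_proj, gaFn_gaPt] using this

variable {b : D.P.Base} {N : AddSubgroup D.M} (hl : BaseChamber D b l)
  (hN : ∀ x ∈ N, ∀ c : D.idx, D.P.coroot c x = 0)
include hl hN

/-- Left multiplication by any root group does not change the torus component modulo `N`. -/
theorem tor_rp_mul (c : D.idx) {X : Over S} {x : Γ(X.left, ⊤)} {g : X ⟶ G} (hg : InBig D l g)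
    (hxg : InBig D l (rp D c x * g)) : tor N l (rp D c x * g) = tor N l g := by
  by_cases hc : b.IsPos c
  swap
  · exact tor_up_mul (rp_mem_up ((hl.neg_iff c).mpr hc) x) hg
  have := isReduced_of_base b
  refine hc.induction_on_reflect (p := fun c => ∀ (X : Over S) (x : Γ(X.left, ⊤)) (g : X ⟶ G),
    InBig D l g → InBig D l (rp D c x * g) → tor N l (rp D c x * g) = tor N l g) ?_ ?_ X x g hg hxg
  · intro a ha X x g hg hxg
    choose nr hnr using D.refl
    obtain ⟨e, he⟩ := (hl.wall ha).exists_dual b (acts_of_refl (hnr a))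
    exact (hl.wall ha).tor_simple_mul hN he hg hxg
  intro i a hi ha X x g hg hxg
  choose nr hnr using D.refl
  have hn : Acts D (nr a) (RootPairing.Equiv.reflection D.P a) := acts_of_refl (hnr a)
  obtain ⟨e, he⟩ := (hl.wall ha).exists_dual b hn
  obtain ⟨K, hK⟩ := (hl.wall ha).exists_conj_inBig hN he b hn
  obtain ⟨k', hk'⟩ := hn.exists_moves b (D.P.reflectionPerm a i)
  rw [show RootPairing.Equiv.reflection D.P a • D.P.reflectionPerm a i = i from
    (D.P.reflectionPerm_self a i)] at hk'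
  refine hom_ext_affine fun Y hY k₀ => ?_
  rw [tor_comp hxg, tor_comp hg]
  have hg₁ := hg.comp k₀
  have hxg₁ := hxg.comp k₀
  rw [MonObj.comp_mul, comp_rp] at hxg₁ ⊢
  generalize k₀ ≫ g = g₁ at hg₁ hxg₁ ⊢
  generalize k₀.left.appTop x = x₁ at hxg₁ ⊢
  obtain ⟨A₁, B₁, h₁⟩ := hK hg₁
  obtain ⟨A₂, B₂, h₂⟩ := hK hxg₁
  let E := cst Y (e : Γ(S, ⊤))
  let K' := cst Y (K : Γ(S, ⊤))
  obtain ⟨Z, k, σ, -, hf, hs, hσ⟩ := exists_avoid Y
    ((Polynomial.C (E * A₁ * K') * Polynomial.X + Polynomial.C (1 + E * A₁ * B₁)) *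
      (Polynomial.C (E * A₂ * K') * Polynomial.X + Polynomial.C (1 + E * A₂ * B₂))) fun F _ _ W _ eF y => by
    have hu : ∀ A B : Γ(Y.left, ⊤), IsUnit (y.left.appTop (E * A * K')) ∨
        IsUnit (y.left.appTop (1 + E * A * B)) := fun A B => by
      rcases isUnit_or_eq_zero eF (y.left.appTop A) with hA | hA
      · refine Or.inl ?_
        rw [map_mul, map_mul]
        exact (((e.isUnit.map Y.hom.appTop.hom).map y.left.appTop.hom).mul hA).mul
          ((K.isUnit.map Y.hom.appTop.hom).map y.left.appTop.hom)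
      · refine Or.inr ?_
        rw [map_add, map_mul, map_mul, hA, mul_zero, zero_mul, map_one, add_zero]
        exact isUnit_one
    obtain ⟨r, hr⟩ := exists_unit_affine eF (hu A₁ B₁) (hu A₂ B₂)
    refine ⟨r, ?_⟩
    simp only [Polynomial.eval₂_mul, Polynomial.eval₂_add, Polynomial.eval₂_C, Polynomial.eval₂_X]
    exact hr
  have := epi_of_flat_surjective k hf hs
  refine (cancel_epi k).mp ?_
  rw [tor_comp hxg₁, tor_comp hg₁]
  simp only [Polynomial.eval₂_mul, Polynomial.eval₂_add, Polynomial.eval₂_C, Polynomial.eval₂_X,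
    IsUnit.mul_iff] at hσ
  have hE : k.left.appTop.hom E = cst Z (e : Γ(S, ⊤)) := cst_appTop k _
  have hK' : k.left.appTop.hom K' = cst Z (K : Γ(S, ⊤)) := cst_appTop k _
  obtain ⟨i1, t1⟩ := h₁ Z k σ (by
    convert hσ.1 using 1
    simp only [map_add, map_mul, map_one, hE, hK']
    ring)
  obtain ⟨i2, t2⟩ := h₂ Z k σ (by
    convert hσ.2 using 1
    simp only [map_add, map_mul, map_one, hE, hK']
    ring)
  have e' : np (nr a) Z * (k ≫ (rp D (D.P.reflectionPerm a i) x₁ * g₁) * rp D a σ) * (np (nr a) Z)⁻¹ =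
      rp D i (cst Z k' * k.left.appTop x₁) *
        (np (nr a) Z * (k ≫ g₁ * rp D a σ) * (np (nr a) Z)⁻¹) := by
    rw [← hk'.conj, MonObj.comp_mul, comp_rp]
    group
  rw [e'] at i2 t2
  rw [← t1, ← t2]
  exact hi Z _ _ i1 i2

/-- Left multiplication by positive unipotent points does not change the torus component modulo
`N`. -/
theorem tor_pos_mul {X : Over S} {v g : X ⟶ G} (hv : v ∈ Up D l X) (hg : InBig D l g)
    (hvg : InBig D l (v * g)) : tor N l (v * g) = tor N l g := by
  classical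
  obtain ⟨x, hx⟩ := hl.toChamber.exists_prod posEnum_injective posEnum_range hv
  let m := Fintype.card {c // 0 < l (D.P.root c)}
  let P : Over S := RedSub.pow (Red.Ga S) m
  let F : Fin m → (P ⟶ G) := fun i => powProj (Red.Ga S) m i ≫ D.u (posEnum D l i)
  let pm : ℕ → (P ⟶ G) := fun k => ((List.ofFn F).take k).prod
  have hpt : ∀ {Z : Over S} (y : Z ⟶ P) (i : Fin m),
      y ≫ F i = rp D (posEnum D l i) (Red.gaFn (y ≫ powProj (Red.Ga S) m i)) := fun y i => by
    simp only [F, rp, gaPt_gaFn, Category.assoc]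
  have hprod : ∀ {Z : Over S} (y : Z ⟶ P) (k : ℕ),
      y ≫ pm k = (((List.ofFn F).take k).map fun f => y ≫ f).prod := fun {Z} y k =>
    map_list_prod (MonoidHom.mk' (fun f : P ⟶ G => y ≫ f) fun a c => MonObj.comp_mul ..) _
  have hall : ∀ {Z : Over S} (y : Z ⟶ P), y ≫ pm m =
      (List.ofFn fun i => rp D (posEnum D l i) (Red.gaFn (y ≫ powProj (Red.Ga S) m i))).prod := fun y => by
    rw [hprod, List.take_of_length_le (by simp), List.map_ofFn]
    congr 2
    exact funext fun i => hpt y i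
  -- a chain of prefixes in the big cell does not change the torus component
  have chain : ∀ {Z : Over S} (y : Z ⟶ P) {h : Z ⟶ G},
      (∀ k : Fin (m + 1), InBig D l ((y ≫ pm k)⁻¹ * h)) → tor N l ((y ≫ pm m)⁻¹ * h) = tor N l h := by
    intro Z y h hk
    suffices ∀ k, k ≤ m → tor N l ((y ≫ pm k)⁻¹ * h) = tor N l h from this m le_rfl
    intro k
    induction k with
    | zero =>
      intro
      simp only [pm, List.take_zero, List.prod_nil, MonObj.comp_one, inv_one, _root_.one_mul]
    | succ k ih =>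
      intro hk1
      rw [← ih (by omega)]
      have e : y ≫ pm k * (y ≫ F ⟨k, hk1⟩) = y ≫ pm (k + 1) := by
        rw [← MonObj.comp_mul]
        simp only [pm]
        rw [List.prod_take_succ _ _ (by simpa using Nat.lt_of_succ_le hk1), List.getElem_ofFn]
      have h1 := hk ⟨k + 1, by omega⟩
      have h2 := hk ⟨k, by omega⟩
      have e2 : (y ≫ pm k)⁻¹ * h =
          rp D (posEnum D l ⟨k, hk1⟩) (Red.gaFn (y ≫ powProj (Red.Ga S) m ⟨k, hk1⟩)) * ((y ≫ pm (k + 1))⁻¹ * h) := by
        rw [← hpt, ← e]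
        group
      simp only at h1 h2
      rw [e2] at h2 ⊢
      exact (tor_rp_mul hl hN _ h1 h2).symm
  -- generic points of the positive part
  let A : Over S := RedSub.pow (Red.Ga S) (Fintype.card {c // 0 < (-l) (D.P.root c)}) ⊗ (D.T ⊗ P)
  let Y := X ⊗ A
  let y : Y ⟶ P := snd X A ≫ snd _ _ ≫ snd _ _
  have hy : (fst X A ≫ v)⁻¹ * (y ≫ pm m) ∈ Up D l Y := by
    refine mul_mem (inv_mem (Up.comp hv _)) ?_
    rw [hall]
    exact prod_mem_up _ posEnum_pos _
  obtain ⟨x', hx'⟩ := hl.toChamber.exists_prod posEnum_injective posEnum_range hy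
  let y' : Y ⟶ P := powTuple fun i => gaPt (x' i)
  have hy' : y' ≫ pm m = (fst X A ≫ v)⁻¹ * (y ≫ pm m) := by
    rw [hall, hx']
    simp only [y', powTuple_proj, gaFn_gaPt]
  have hfst : ∀ {Z : Over S} (q : Z ⟶ X) (r : Z ⟶ A) (w : X ⟶ G),
      (lift q r : Z ⟶ Y) ≫ (fst X A ≫ w : Y ⟶ G) = q ≫ w := fun q r w => by simp [Y]
  let L : Fin (m + 1) ⊕ Fin (m + 1) → (Y ⟶ G) := Sum.elim
    (fun k => (y ≫ pm k)⁻¹ * (fst X A ≫ (v * g))) (fun k => (y' ≫ pm k)⁻¹ * (fst X A ≫ g))
  let pt : (Fin m → Γ(X.left, ⊤)) → (X ⟶ A) := fun c =>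
    lift (powTuple fun _ => gaPt 0) (lift 1 (powTuple fun i => gaPt (c i)))
  have hzero : ∀ {Z : Over S} (w : Z ⟶ P), (∀ i, Red.gaFn (w ≫ powProj (Red.Ga S) m i) = 0) →
      ∀ k, w ≫ pm k = 1 := fun w hw k => by
    rw [hprod]
    refine List.prod_eq_one fun f hf => ?_
    obtain ⟨f', hf', rfl⟩ := List.mem_map.mp hf
    obtain ⟨i, rfl⟩ := (List.mem_ofFn' _ _).mp (List.mem_of_mem_take hf')
    rw [hpt, hw, rp_zero]
  have hpty : ∀ c i, Red.gaFn ((lift (𝟙 X) (pt c) ≫ y) ≫ powProj (Red.Ga S) m i) = c i := fun c i => by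
    simp only [y, pt, lift_snd_assoc, lift_snd, powTuple_proj, gaFn_gaPt, Category.assoc]
  have := hl.toChamber.openImmersion_bigMap
  obtain ⟨X', k, p, hf, hs, hL⟩ := exists_generic_point D.reductive (bigMap D l)
    (Chamber.one_range_bigMap D l) L
    (Sum.elim (fun _ => pt fun _ => 0) (fun _ => pt x)) (by
      rintro (i | i)
      · simp only [L, Sum.elim_inl, MonObj.comp_mul, GrpObj.comp_inv, hfst, Category.id_comp,
          ← Category.assoc (lift (𝟙 X) (pt fun _ => 0)) y]
        rw [hzero _ (hpty _) i, inv_one, _root_.one_mul]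
        exact hl.toChamber.range_of_inBig hvg
      · simp only [L, Sum.elim_inr, MonObj.comp_mul, GrpObj.comp_inv, hfst, Category.id_comp,
          ← Category.assoc (lift (𝟙 X) (pt x)) y']
        rw [hzero _ (fun j => ?_) i, inv_one, _root_.one_mul]
        · exact hl.toChamber.range_of_inBig hg
        · have e : (lift (𝟙 X) (pt x) ≫ y') ≫ pm m = 1 := by
            rw [Category.assoc, hy']
            simp only [MonObj.comp_mul, GrpObj.comp_inv, hfst, Category.id_comp]
            rw [← Category.assoc, hall, inv_mul_eq_one, hx]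
            congr 2
            exact funext fun i => by rw [hpty]
          rw [hall] at e
          exact hl.toChamber.coord_eq_zero e j)
  have := epi_of_flat_surjective k hf hs
  refine (cancel_epi k).mp ?_
  have hi : ∀ i, InBig D l (lift k p ≫ L i) := fun i => hl.toChamber.inBig_of_range (hL i)
  rw [tor_comp hvg, tor_comp hg]
  have c1 := chain (lift k p ≫ y) (h := k ≫ (v * g)) fun i => by
    have := hi (Sum.inl i)
    simp only [L, Sum.elim_inl, MonObj.comp_mul, GrpObj.comp_inv, hfst,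
      ← Category.assoc (lift k p) y] at this
    rwa [MonObj.comp_mul]
  have c2 := chain (lift k p ≫ y') (h := k ≫ g) fun i => by
    have := hi (Sum.inr i)
    simp only [L, Sum.elim_inr, MonObj.comp_mul, GrpObj.comp_inv, hfst,
      ← Category.assoc (lift k p) y'] at this
    exact this
  rw [← c1, ← c2]
  congr 1
  rw [Category.assoc _ y', hy']
  simp only [MonObj.comp_mul, GrpObj.comp_inv, hfst, Category.assoc]
  group

/-- The torus component modulo `N` of the big cell extends to a homomorphism on the group. -/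
theorem exists_torusHom : ∃ F : G ⟶ Red.DS S N, IsMonHom F ∧
    ∀ {X : Over S} {g : X ⟶ G}, InBig D l g → g ≫ F = tor N l g := by
  classical
  have := hl.toChamber.openImmersion_bigMap
  have hbig : ∀ {Z : Over S} (a : Z ⟶ _), InBig D l (a ≫ bigMap D l) := fun a =>
    hl.toChamber.inBig_of_range fun _ ⟨p, hp⟩ => ⟨_, hp⟩
  let φ := tor N l (bigMap D l)
  have hj : InBig D l (bigMap D l) := by simpa using hbig (𝟙 _)
  obtain ⟨F, ⟨hF, hFj⟩, -⟩ := exists_extend D.reductive (Chamber.affineHom_bigMap_dom D l) (bigMap D l)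
    (Chamber.one_range_bigMap D l) φ fun X a b' c e => by
    rw [tor_comp hj, tor_comp hj, tor_comp hj, e]
    have hb := hbig b'
    have hab := hbig c
    rw [e] at hab
    obtain ⟨u, hu, t, v, hv, ha⟩ := hbig a
    generalize b' ≫ bigMap D l = g at hb hab ⊢
    rw [ha] at hab ⊢
    rw [show u * tpt D t * v * g = u * (tpt D t * (v * g)) by group] at hab ⊢
    have hvg : InBig D l (v * g) := by
      have := (InBig.up_mul (inv_mem hu) hab).tpt_mul t⁻¹
      rw [tpt_inv] at this
      convert this using 1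
      group
    rw [tor_up_mul hu (hvg.tpt_mul t), tor_tpt_mul t hvg, tor_pos_mul hl hN hv hb hvg, tor_eq t hu hv]
  refine ⟨F, hF, fun {X g} hg => ?_⟩
  obtain ⟨w, rfl⟩ := hl.toChamber.exists_bigMap hg
  rw [Category.assoc, hFj]
  exact tor_comp hj w

end Groth.Agent.RedPts82
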