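import Groth.Agent.RedPts82.BruhatTorusHom

/-!
The part of the big cell killed by the homomorphism to the torus modulo the coroots.
-/

universe u

open CategoryTheory MonoidalCategory CartesianMonoidalCategory MonObj GrpObj AlgebraicGeometry
open CategoryTheory.Limits

namespace Groth.Agent.RedPts82

variable {S : Scheme.{u}} {G : Over S} [GrpObj G] {D : Red.SplitRed G}

theorem exists_lift_quot (N : AddSubgroup D.M) {X : Over S} (t : X ⟶ Red.DS S D.M)
    (h : kap N t = 1) : ∃ t' : X ⟶ Red.DS S (D.M ⧸ N), t' ≫ Red.DSmap S (QuotientAddGroup.mk' N) = t := by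
  have hn : ∀ m ∈ N, dsFn t m = 1 := fun m hm => by
    have := congrArg (fun f => dsFn f (⟨m, hm⟩ : N)) h
    simp only [dsFn_one, kap] at this
    rwa [dsFn_DSmap] at this
  have hwd : ∀ a b : D.M, a - b ∈ N → dsFn t a = dsFn t b := fun a b hab => by
    rw [show a = (a - b) + b by abel, dsFn_add, hn _ hab, _root_.one_mul]
  obtain ⟨t', ht'⟩ := dsFn_surjective (X := X) (M := D.M ⧸ N) (S := S)
    { toFun := fun q => Quotient.liftOn' (Multiplicative.toAdd q) (fun m => dsFn t m) fun a b hab => hwd a b (by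
        rw [QuotientAddGroup.leftRel_apply] at hab
        simpa [neg_add_eq_sub] using N.neg_mem hab)
      map_one' := dsFn_zero t
      map_mul' := fun a b => by
        induction a using Multiplicative.rec with
        | ofAdd a =>
          induction b using Multiplicative.rec with
          | ofAdd b =>
            induction a using QuotientAddGroup.induction_on with
            | H a => induction b using QuotientAddGroup.induction_on with
              | H b => exact dsFn_add t a b }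
  exact ⟨t', dsFn_injective fun m => by rw [dsFn_DSmap]; exact ht' _⟩

variable (D)

/-- The map of `U⁻ × T' × U` to the group, with `T'` the subtorus with characters `M / N`. -/
noncomputable abbrev primeMap (N : AddSubgroup D.M) {n m : ℕ} (eneg : Fin n → D.idx)
    (epos : Fin m → D.idx) :
    RedSub.pow (Red.Ga S) n ⊗ (Red.DS S (D.M ⧸ N) ⊗ RedSub.pow (Red.Ga S) m) ⟶ G :=
  (fst _ _ ≫ RedSub.prodMap (Red.Ga S) n (fun k => D.u (eneg k))) *
    ((snd _ _ ≫ fst _ _ ≫ Red.DSmap S (QuotientAddGroup.mk' N) ≫ D.split.inv.hom.hom ≫ D.i) *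
      (snd _ _ ≫ snd _ _ ≫ RedSub.prodMap (Red.Ga S) m (fun k => D.u (epos k))))

variable {D}

theorem openImmersion_cellMap {b : D.P.Base} {n m : ℕ} {eneg : Fin n → D.idx} {epos : Fin m → D.idx}
    (hneg : RedSub.Enumerates (RedSub.negRoots D.P b) eneg)
    (hpos : RedSub.Enumerates (RedSub.posRoots D.P b) epos) :
    IsOpenImmersion (RedSub.cellMap D eneg epos).left := by
  classical
  obtain ⟨l, hl⟩ := exists_baseChamber (D := D) b
  have hn := hl.range_neg hneg
  have hp := hl.range_pos hpos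
  have C := cellData_of_regular D l hl.inj eneg epos hneg.1 hpos.1 (fun k => by
      have := (Set.ext_iff.mp hn (eneg k)).mp ⟨k, rfl⟩
      simp only [Set.mem_ofPred_eq, AddMonoidHom.neg_apply] at this
      omega) (fun k => (Set.ext_iff.mp hp (epos k)).mp ⟨k, rfl⟩)
  have : Mono (RedSub.cellMap D eneg epos) := C.mono_cell
  refine cellMap_open_of_mono D _ _ ?_
  rw [card_of_range hneg.1 hn, card_of_range hpos.1 hp, Fintype.card_congr (Equiv.subtypeEquivRight
    (p := fun c => 0 < (-l) (D.P.root c)) (q := fun c => ¬ 0 < l (D.P.root c))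
    fun c => by have := hl.ne c; simp only [AddMonoidHom.neg_apply]; omega),
    Fintype.card_subtype_compl, Nat.sub_add_cancel (Fintype.card_subtype_le _)]

theorem one_range_cellMap {n m : ℕ} (eneg : Fin n → D.idx) (epos : Fin m → D.idx) (X : Over S) :
    Set.range (1 : X ⟶ G).left.base ⊆ Set.range (RedSub.cellMap D eneg epos).left.base :=
  one_range_cell (fun k => rootHom_gaPt_zero D _) (fun k => rootHom_gaPt_zero D _) D.maximalTorus.1

/-- The homomorphism extending the torus component modulo `N`, in terms of enumerations. -/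
theorem exists_torusHom_cell {b : D.P.Base} {n m : ℕ} {eneg : Fin n → D.idx} {epos : Fin m → D.idx}
    (hneg : RedSub.Enumerates (RedSub.negRoots D.P b) eneg)
    (hpos : RedSub.Enumerates (RedSub.posRoots D.P b) epos) {N : AddSubgroup D.M}
    (hN : ∀ x ∈ N, ∀ c : D.idx, D.P.coroot c x = 0) :
    ∃ F : G ⟶ Red.DS S N, IsMonHom F ∧
      (∀ {X : Over S} (z : X ⟶ RedSub.pow (Red.Ga S) n ⊗ (D.T ⊗ RedSub.pow (Red.Ga S) m)),
        z ≫ RedSub.cellMap D eneg epos ≫ F =
          z ≫ snd _ _ ≫ fst _ _ ≫ D.split.hom.hom.hom ≫ Red.DSmap S N.subtype) ∧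
      (∀ {X : Over S} (g : X ⟶ RedSub.pow (Red.Ga S) n ⊗ (Red.DS S (D.M ⧸ N) ⊗ RedSub.pow (Red.Ga S) m)),
        g ≫ primeMap D N eneg epos ≫ F = 1) ∧
      ∀ {X : Over S} (z : X ⟶ RedSub.pow (Red.Ga S) n ⊗ (D.T ⊗ RedSub.pow (Red.Ga S) m)),
        z ≫ RedSub.cellMap D eneg epos ≫ F = 1 →
          ∃ g, g ≫ primeMap D N eneg epos = z ≫ RedSub.cellMap D eneg epos := by
  obtain ⟨l, hl⟩ := exists_baseChamber (D := D) b
  obtain ⟨F, hF, hFg⟩ := exists_torusHom (N := N) hl hN
  have hup : ∀ {X : Over S} (y : X ⟶ RedSub.pow (Red.Ga S) n),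
      y ≫ RedSub.prodMap (Red.Ga S) n (fun k => D.u (eneg k)) ∈ Up D (-l) X := fun y => by
    rw [prodMap_eq_list]
    exact prod_mem_up eneg (fun k => (Set.ext_iff.mp (hl.range_neg hneg) (eneg k)).mp ⟨k, rfl⟩) _
  have hdn : ∀ {X : Over S} (y : X ⟶ RedSub.pow (Red.Ga S) m),
      y ≫ RedSub.prodMap (Red.Ga S) m (fun k => D.u (epos k)) ∈ Up D l X := fun y => by
    rw [prodMap_eq_list]
    exact prod_mem_up epos (fun k => (Set.ext_iff.mp (hl.range_pos hpos) (epos k)).mp ⟨k, rfl⟩) _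
  have hcell : ∀ {X : Over S} (z : X ⟶ RedSub.pow (Red.Ga S) n ⊗ (D.T ⊗ RedSub.pow (Red.Ga S) m)),
      z ≫ RedSub.cellMap D eneg epos ≫ F = kap N (z ≫ snd _ _ ≫ fst _ _ ≫ D.split.hom.hom.hom) := by
    intro X z
    rw [← Category.assoc, show z ≫ RedSub.cellMap D eneg epos = _ from cellS_eq_prod eneg epos z,
      hFg ⟨_, prod_mem_up eneg (fun k => (Set.ext_iff.mp (hl.range_neg hneg) (eneg k)).mp ⟨k, rfl⟩) _, _, _,
        prod_mem_up epos (fun k => (Set.ext_iff.mp (hl.range_pos hpos) (epos k)).mp ⟨k, rfl⟩) _, rfl⟩,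
      tor_eq _ (prod_mem_up eneg (fun k => (Set.ext_iff.mp (hl.range_neg hneg) (eneg k)).mp ⟨k, rfl⟩) _)
        (prod_mem_up epos (fun k => (Set.ext_iff.mp (hl.range_pos hpos) (epos k)).mp ⟨k, rfl⟩) _)]
  have hprime : ∀ {X : Over S} (g : X ⟶ RedSub.pow (Red.Ga S) n ⊗ (Red.DS S (D.M ⧸ N) ⊗ RedSub.pow (Red.Ga S) m)),
      g ≫ primeMap D N eneg epos = (g ≫ fst _ _) ≫ RedSub.prodMap (Red.Ga S) n (fun k => D.u (eneg k)) *
        tpt D ((g ≫ snd _ _ ≫ fst _ _) ≫ Red.DSmap S (QuotientAddGroup.mk' N)) *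
        ((g ≫ snd _ _ ≫ snd _ _) ≫ RedSub.prodMap (Red.Ga S) m (fun k => D.u (epos k))) := by
    intro X g
    simp only [primeMap, MonObj.comp_mul, tpt, Category.assoc]
    exact (_root_.mul_assoc _ _ _).symm
  refine ⟨F, hF, fun z => (hcell z).trans (by simp only [kap, Category.assoc]), fun g => ?_, fun z hz => ?_⟩
  · rw [← Category.assoc, hprime, hFg ⟨_, hup _, _, _, hdn _, rfl⟩, tor_eq _ (hup _) (hdn _)]
    refine dsFn_injective fun x => ?_
    rw [kap, dsFn_DSmap, dsFn_DSmap, dsFn_one,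
      show QuotientAddGroup.mk' N (N.subtype x) = 0 from (QuotientAddGroup.eq_zero_iff _).mpr x.2, dsFn_zero]
  · rw [hcell] at hz
    obtain ⟨t', ht'⟩ := exists_lift_quot N _ hz
    refine ⟨lift (z ≫ fst _ _) (lift t' (z ≫ snd _ _ ≫ snd _ _)), ?_⟩
    rw [hprime, show z ≫ RedSub.cellMap D eneg epos = _ from cellS_eq_prod eneg epos z, prodMap_eq_list,
      prodMap_eq_list]
    simp only [lift_fst, lift_snd_assoc, lift_snd, lift_fst_assoc, ht', Category.assoc]

end Groth.Agent.RedPts82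

namespace Groth.Agent.RedPts82

variable {S : Scheme.{u}} {G H : Over S} [GrpObj G] [GrpObj H] (F : G ⟶ H) [IsMonHom F]

theorem ker_conj {X : Over S} (a : X ⟶ G) {g : X ⟶ G} (hg : g ≫ F = 1) : (a * g * a⁻¹) ≫ F = 1 := by
  rw [MonObj.mul_comp, MonObj.mul_comp, hg, _root_.mul_one, GrpObj.inv_comp, mul_inv_cancel]

theorem ker_mul {X : Over S} {a g : X ⟶ G} (ha : a ≫ F = 1) (hg : g ≫ F = 1) : (a * g) ≫ F = 1 := by
  rw [MonObj.mul_comp, ha, hg, _root_.mul_one]

end Groth.Agent.RedPts82
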