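import Groth.Agent.RedPts82.BruhatCover
import Groth.Agent.RedPts82.BruhatDual
import Groth.Agent.RedPts82.RankOneHom
import Groth.Agent.RedPts82.Extend

/-!
The torus component of the big cell modulo the characters killed by all coroots: it does not change
when a point of a root group is multiplied from the left.
-/

universe u

open CategoryTheory MonoidalCategory CartesianMonoidalCategory MonObj GrpObj AlgebraicGeometry
open CategoryTheory.Limits

namespace Groth.Agent.RedPts82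

variable {S : Scheme.{u}} {G : Over S} [GrpObj G] {D : Red.SplitRed G} {l : D.M →+ ℤ}

theorem InBig.comp {X X' : Over S} {g : X ⟶ G} (h : InBig D l g) (k : X' ⟶ X) : InBig D l (k ≫ g) := by
  obtain ⟨u, hu, t, v, hv, rfl⟩ := h
  exact ⟨_, Up.comp hu k, k ≫ t, _, Up.comp hv k, by rw [MonObj.comp_mul, MonObj.comp_mul, comp_tpt]⟩

theorem tpt_conj_up {X : Over S} (s : X ⟶ Red.DS S D.M) {v : X ⟶ G} (hv : v ∈ Up D l X) :
    (tpt D s)⁻¹ * v * tpt D s ∈ Up D l X := by
  have := fixed_conj_up (l := l) (tpt_mem_fixed (D := D) s⁻¹) hv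
  rwa [tpt_inv, _root_.inv_inv] at this

/-- The torus point modulo `N`. -/
noncomputable def kap (N : AddSubgroup D.M) {X : Over S} (t : X ⟶ Red.DS S D.M) : X ⟶ Red.DS S N :=
  t ≫ Red.DSmap S N.subtype

theorem kap_mul (N : AddSubgroup D.M) {X : Over S} (t t' : X ⟶ Red.DS S D.M) :
    kap N (t * t') = kap N t * kap N t' :=
  dsFn_injective fun m => by simp only [kap, dsFn_mul, dsFn_DSmap]

theorem kap_one (N : AddSubgroup D.M) {X : Over S} : kap N (1 : X ⟶ Red.DS S D.M) = 1 :=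
  dsFn_injective fun m => by simp only [kap, dsFn_one, dsFn_DSmap]

open Classical in
/-- The torus component modulo `N` of a point of the big cell. -/
noncomputable def tor (N : AddSubgroup D.M) (l : D.M →+ ℤ) {X : Over S} (g : X ⟶ G) : X ⟶ Red.DS S N :=
  if h : InBig D l g then kap N h.choose_spec.2.choose else 1

variable {N : AddSubgroup D.M}

theorem tor_eq {X : Over S} {u v : X ⟶ G} (t : X ⟶ Red.DS S D.M) (hu : u ∈ Up D (-l) X)
    (hv : v ∈ Up D l X) : tor N l (u * tpt D t * v) = kap N t := by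
  have h : InBig D l (u * tpt D t * v) := ⟨u, hu, t, v, hv, rfl⟩
  rw [tor, dif_pos h]
  obtain ⟨v', hv', e⟩ := h.choose_spec.2.choose_spec
  exact congrArg (kap N) (tpt_injective (split_unique hu h.choose_spec.1 (tpt_mem_fixed _)
    (tpt_mem_fixed _) hv hv' e).2.1).symm

theorem tor_tpt {X : Over S} (t : X ⟶ Red.DS S D.M) : tor N l (tpt D t) = kap N t := by
  have := tor_eq (N := N) (l := l) t (one_mem _) (one_mem _)
  rwa [_root_.one_mul, _root_.mul_one] at this

theorem tor_comp {X X' : Over S} {g : X ⟶ G} (h : InBig D l g) (k : X' ⟶ X) :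
    k ≫ tor N l g = tor N l (k ≫ g) := by
  obtain ⟨u, hu, t, v, hv, rfl⟩ := h
  rw [tor_eq t hu hv, MonObj.comp_mul, MonObj.comp_mul, comp_tpt, tor_eq _ (Up.comp hu k) (Up.comp hv k)]
  exact (Category.assoc _ _ _).symm

theorem tor_up_mul {X : Over S} {u g : X ⟶ G} (hu : u ∈ Up D (-l) X) (h : InBig D l g) :
    tor N l (u * g) = tor N l g := by
  obtain ⟨u', hu', t, v, hv, rfl⟩ := h
  rw [tor_eq t hu' hv, show u * (u' * tpt D t * v) = u * u' * tpt D t * v by group,
    tor_eq t (mul_mem hu hu') hv]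

theorem tor_mul_up {X : Over S} {v g : X ⟶ G} (hv : v ∈ Up D l X) (h : InBig D l g) :
    tor N l (g * v) = tor N l g := by
  obtain ⟨u, hu, t, v', hv', rfl⟩ := h
  rw [tor_eq t hu hv', show u * tpt D t * v' * v = u * tpt D t * (v' * v) by group,
    tor_eq t hu (mul_mem hv' hv)]

theorem InBig.tpt_mul {X : Over S} {g : X ⟶ G} (h : InBig D l g) (s : X ⟶ Red.DS S D.M) :
    InBig D l (tpt D s * g) := by
  obtain ⟨u, hu, t, v, hv, rfl⟩ := h
  refine ⟨tpt D s * u * (tpt D s)⁻¹, fixed_conj_up (tpt_mem_fixed s) hu, s * t, v, hv, ?_⟩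
  rw [RedPts82.tpt_mul]; group

theorem tor_tpt_mul {X : Over S} {g : X ⟶ G} (s : X ⟶ Red.DS S D.M) (h : InBig D l g) :
    tor N l (tpt D s * g) = kap N s * tor N l g := by
  obtain ⟨u, hu, t, v, hv, rfl⟩ := h
  rw [tor_eq t hu hv, show tpt D s * (u * tpt D t * v) =
    (tpt D s * u * (tpt D s)⁻¹) * (tpt D s * tpt D t) * v by group, ← RedPts82.tpt_mul,
    tor_eq _ (fixed_conj_up (tpt_mem_fixed s) hu) hv, kap_mul]

theorem tor_mul_tpt {X : Over S} {g : X ⟶ G} (s : X ⟶ Red.DS S D.M) (h : InBig D l g) :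
    tor N l (g * tpt D s) = tor N l g * kap N s := by
  obtain ⟨u, hu, t, v, hv, rfl⟩ := h
  rw [tor_eq t hu hv, show u * tpt D t * v * tpt D s =
    u * (tpt D t * tpt D s) * ((tpt D s)⁻¹ * v * tpt D s) by group, ← RedPts82.tpt_mul,
    tor_eq _ hu (tpt_conj_up s hv), kap_mul]

variable (hN : ∀ x ∈ N, ∀ c : D.idx, D.P.coroot c x = 0)
include hN

theorem kap_hpt (a : D.idx) {X : Over S} (z : Γ(X.left, ⊤)ˣ) :
    kap N (gmPt z ≫ Red.DSmap S (D.P.coroot a).toAddMonoidHom) = 1 :=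
  dsFn_injective fun m => by
    rw [kap, dsFn_DSmap, dsFn_DSmap, dsFn_one,
      show (D.P.coroot a).toAddMonoidHom (N.subtype m) = 0 from hN _ m.2 a, dsFn_zero]

theorem kap_tw_refl (a : D.idx) {X : Over S} (t : X ⟶ Red.DS S D.M) :
    kap N (tw (RootPairing.Equiv.reflection D.P a) t) = kap N t :=
  dsFn_injective fun m => by
    rw [kap, kap, dsFn_DSmap, dsFn_DSmap, dsFn_tw, RootPairing.Equiv.reflection_inv,
      RootPairing.Equiv.reflection_smul, RootPairing.reflection_apply]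
    have e := congrArg (fun f => f (m : D.M) (D.P.coroot a)) D.pairing_eq
    simp only [Module.Dual.eval_apply, hN _ m.2 a] at e
    rw [show D.P.coroot' a (N.subtype m) = 0 by simpa [RootPairing.coroot'] using e, zero_smul, sub_zero]

omit hN

/-- The rule of the dual with unit coefficient. -/
def DualRel (D : Red.SplitRed G) (a : D.idx) (e : Γ(S, ⊤)ˣ) : Prop :=
  ∀ (X : Over S) (x y : Γ(X.left, ⊤)) (z : Γ(X.left, ⊤)ˣ),
    (z : Γ(X.left, ⊤)) = 1 + cst X (e : Γ(S, ⊤)) * x * y →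
    rp D a x * rp D (negIdx D a) y =
      rp D (negIdx D a) (y * ((z⁻¹ : Γ(X.left, ⊤)ˣ) : Γ(X.left, ⊤))) * hpt D a z *
        rp D a (x * ((z⁻¹ : Γ(X.left, ⊤)ˣ) : Γ(X.left, ⊤)))

variable {a : D.idx} {e : Γ(S, ⊤)ˣ}

theorem Wall.neg_rp_mem (h : Wall D l a) {X : Over S} (r : Γ(X.left, ⊤)) :
    rp D (negIdx D a) r ∈ Up D (-l) X :=
  rp_mem_up (by rw [root_negIdx, AddMonoidHom.neg_apply, map_neg, _root_.neg_neg]; exact h.pos) r

/-- A product `P(x) M(y)` lies in the big cell only where `1 + e x y` is a unit. -/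
theorem Wall.isUnit_of_inBig (h : Wall D l a) (hE : DualRel D a e) {X : Over S}
    {x y : Γ(X.left, ⊤)} (hin : InBig D l (rp D a x * rp D (negIdx D a) y)) :
    IsUnit (1 + cst X (e : Γ(S, ⊤)) * x * y) := by
  refine isUnit_of_field_points _ fun K _ _ W _ eK k hk => ?_
  have hin' := hin.comp k
  rw [MonObj.comp_mul, comp_rp, comp_rp] at hin'
  rw [map_add, map_one, map_mul, map_mul, cst_appTop] at hk
  generalize k.left.appTop x = x' at hin' hk
  generalize k.left.appTop y = y' at hin' hk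
  obtain ⟨p, t, q, hpq⟩ := h.inLevi_of_fixed hin'
    (mul_mem (rp_mem_fixed (wallF_self l a) _) (rp_mem_fixed (wallF_neg_self l a) _))
  have : Nontrivial Γ(W.left, ⊤) := eK.symm.toEquiv.nontrivial
  let E := cst W (e : Γ(S, ⊤))
  have hE0 : IsUnit E := (e.isUnit.map W.hom.appTop.hom)
  classical
  obtain ⟨d, hd⟩ := Infinite.exists_notMem_finset
    ({0, -(eK.symm (E * p))⁻¹} : Finset K)
  simp only [Finset.mem_insert, Finset.mem_singleton, not_or] at hd
  let δ := eK d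
  have hδ : IsUnit δ := (Ne.isUnit hd.1).map eK
  have hy : IsUnit y' := (isUnit_or_eq_zero eK y').resolve_right fun h0 => by
    rw [h0, mul_zero, add_zero] at hk
    exact (isUnit_one (M := Γ(W.left, ⊤))).ne_zero hk
  have hz1 : IsUnit (1 + E * δ * p) := (isUnit_or_eq_zero eK _).resolve_right fun h0 => by
    have h1 := congrArg eK.symm h0
    rw [map_add, map_one, map_mul, map_mul, map_zero, RingEquiv.symm_apply_apply, mul_right_comm,
      ← map_mul] at h1
    refine hd.2 ?_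
    have hne : eK.symm (E * p) ≠ 0 := fun h2 => by
      rw [h2, zero_mul, add_zero] at h1; exact one_ne_zero h1
    field_simp
    linear_combination h1
  have hz2 : IsUnit (1 + E * (x' + δ) * y') := by
    rw [show 1 + E * (x' + δ) * y' = E * δ * y' by linear_combination hk]
    exact (hE0.mul hδ).mul hy
  have e1 := hE W δ p hz1.unit hz1.unit_spec
  have e2 := hE W (x' + δ) y' hz2.unit hz2.unit_spec
  rw [show rp D a (x' + δ) = rp D a δ * rp D a x' by rw [← rp_add, add_comm],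
    _root_.mul_assoc (rp D a δ), hpq,
    show rp D a δ * (rp D (negIdx D a) p * tpt D t * rp D a q) =
      rp D a δ * rp D (negIdx D a) p * tpt D t * rp D a q by group, e1, hpt_eq_tpt, hpt_eq_tpt] at e2
  rw [show ∀ A T P T' Q : W ⟶ G, A * T * P * T' * Q = A * (T * T') * (T'⁻¹ * P * T' * Q) from
    fun _ _ _ _ _ => by group, ← RedPts82.tpt_mul] at e2
  have h5 := rootHom_gaPt_injective (D := D) (negIdx D a) (split_unique (h.neg_rp_mem _) (h.neg_rp_mem _)
    (tpt_mem_fixed _) (tpt_mem_fixed _) (mul_mem (tpt_conj_up t (rp_mem_up h.pos _)) (rp_mem_up h.pos _))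
    (rp_mem_up h.pos _) e2).1
  have h6 : p * (1 + E * (x' + δ) * y') = y' * (1 + E * δ * p) := by
    have a1 : ((hz1.unit⁻¹ : Γ(W.left, ⊤)ˣ) : Γ(W.left, ⊤)) * (1 + E * δ * p) = 1 := hz1.val_inv_mul
    have a2 : ((hz2.unit⁻¹ : Γ(W.left, ⊤)ˣ) : Γ(W.left, ⊤)) * (1 + E * (x' + δ) * y') = 1 := hz2.val_inv_mul
    linear_combination ((1 + E * δ * p) * (1 + E * (x' + δ) * y')) * h5 -
      p * (1 + E * (x' + δ) * y') * a1 + y' * (1 + E * δ * p) * a2
  refine hy.ne_zero ?_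
  linear_combination p * hk - h6

include hN

/-- Left multiplication by the root group of a wall. -/
theorem Wall.tor_simple_mul (h : Wall D l a) (hE : DualRel D a e) {X : Over S} {x : Γ(X.left, ⊤)}
    {g : X ⟶ G} (hg : InBig D l g) (hxg : InBig D l (rp D a x * g)) :
    tor N l (rp D a x * g) = tor N l g := by
  obtain ⟨u, hu, t, v, hv, rfl⟩ := hg
  obtain ⟨y, r₀, hr₀, -, rfl⟩ := h.neg.exists_split hu
  have hr := h.neg.rest_conj_self y hr₀
  have hPr := h.neg.rest_conj_neg x hr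
  rw [negIdx_negIdx] at hPr
  generalize hR : rp D (negIdx D a) y * r₀ * (rp D (negIdx D a) y)⁻¹ = R at hr hPr
  rw [show rp D (negIdx D a) y * r₀ = R * rp D (negIdx D a) y by rw [← hR]; group] at hxg ⊢
  have e0 : rp D a x * (R * rp D (negIdx D a) y * tpt D t * v) =
      (rp D a x * R * (rp D a x)⁻¹) * (rp D a x * rp D (negIdx D a) y) * tpt D t * v := by group
  have hPM : InBig D l (rp D a x * rp D (negIdx D a) y) := by
    have h1 := ((InBig.up_mul (inv_mem hPr.1) (InBig.mul_up (inv_mem hv) hxg))).mul_tpt t⁻¹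
    rw [e0, tpt_inv] at h1
    convert h1 using 1
    group
  have hz := h.isUnit_of_inBig hE hPM
  rw [e0, hE X x y hz.unit hz.unit_spec, tor_eq t (mul_mem hr.1 (h.neg_rp_mem y)) hv, hpt_eq_tpt,
    show ∀ (A M T P T' V : X ⟶ G), A * (M * T * P) * T' * V = A * M * (T * T') * (T'⁻¹ * P * T' * V) from
      fun _ _ _ _ _ _ => by group, ← RedPts82.tpt_mul,
    tor_eq _ (mul_mem hPr.1 (h.neg_rp_mem _)) (mul_mem (tpt_conj_up t (rp_mem_up h.pos _)) hv),
    kap_mul, kap_hpt hN]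
  exact one_mul (M := X ⟶ Red.DS S N) _

/-- Conjugation by the reflection of a wall, after a right perturbation. -/
theorem Wall.exists_conj_inBig (h : Wall D l a) (hE : DualRel D a e) (b : D.P.Base)
    {n : 𝟙_ (Over S) ⟶ G} (hn : Acts D n (RootPairing.Equiv.reflection D.P a)) :
    ∃ K : Γ(S, ⊤)ˣ, ∀ {X : Over S} {g : X ⟶ G}, InBig D l g → ∃ A B : Γ(X.left, ⊤),
      ∀ (X' : Over S) (k : X' ⟶ X) (σ : Γ(X'.left, ⊤)),
        IsUnit (1 + cst X' (e : Γ(S, ⊤)) * k.left.appTop A *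
          (k.left.appTop B + cst X' (K : Γ(S, ⊤)) * σ)) →
        InBig D l (np n X' * ((k ≫ g) * rp D a σ) * (np n X')⁻¹) ∧
          tor N l (np n X' * ((k ≫ g) * rp D a σ) * (np n X')⁻¹) = tor N l (k ≫ g) := by
  obtain ⟨k1, hk1⟩ := hn.exists_moves_unit b a
  obtain ⟨k2, hk2⟩ := hn.exists_moves b (negIdx D a)
  rw [show RootPairing.Equiv.reflection D.P a • a = negIdx D a from rfl] at hk1
  rw [show RootPairing.Equiv.reflection D.P a • negIdx D a = a from D.P.reflectionPerm_self a a] at hk2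
  refine ⟨k1, fun {X g} hg => ?_⟩
  obtain ⟨u, hu, t, v, hv, rfl⟩ := hg
  obtain ⟨y, r₀, hr₀, -, rfl⟩ := h.neg.exists_split hu
  obtain ⟨x, w₀, hw₀, -, rfl⟩ := h.exists_split hv
  have hr := h.neg.rest_conj_self y hr₀
  refine ⟨dsFn (tw (RootPairing.Equiv.reflection D.P a) t)⁻¹ (D.P.root a) * (cst X k2 * y),
    cst X (k1 : Γ(S, ⊤)) * x, fun X' k σ hu1 => ?_⟩
  let n' := np n X'
  let T := tw (RootPairing.Equiv.reflection D.P a) (k ≫ t)
  let M : X' ⟶ G := rp D (negIdx D a) (k.left.appTop y)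
  let R : X' ⟶ G := k ≫ (rp D (negIdx D a) y * r₀ * (rp D (negIdx D a) y)⁻¹)
  let V : X' ⟶ G := (rp D a σ)⁻¹ * (k ≫ w₀) * rp D a σ
  have hn' : Acts D n (RootPairing.Equiv.reflection D.P (negIdx D a)) := by rw [reflection_negIdx]; exact hn
  have hR : R ∈ Rest D (-l) (negIdx D a) X' := ⟨Up.comp hr.1 k, Up.comp hr.2 k⟩
  have hV : V ∈ Rest D l a X' := by
    have := h.rest_conj_self (-σ) (g := k ≫ w₀) ⟨Up.comp hw₀.1 k, Up.comp hw₀.2 k⟩
    rwa [rp_neg, _root_.inv_inv] at this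
  have hnR := (h.neg.rest_conj_refl b hn' hR).1
  have hnV := (h.rest_conj_refl b hn hV).1
  have hg : k ≫ (rp D (negIdx D a) y * r₀ * tpt D t * (rp D a x * w₀)) =
      R * M * tpt D (k ≫ t) * (rp D a (k.left.appTop x) * (k ≫ w₀)) := by
    simp only [R, M, MonObj.comp_mul, GrpObj.comp_inv, comp_rp, comp_tpt]
    group
  have hd : (tpt D T)⁻¹ * rp D a (cst X' k2 * k.left.appTop y) * tpt D T =
      rp D a (k.left.appTop (dsFn (tw (RootPairing.Equiv.reflection D.P a) t)⁻¹ (D.P.root a) * (cst X k2 * y))) := by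
    have := tpt_conj_rp T⁻¹ a (cst X' k2 * k.left.appTop y)
    rw [tpt_inv, _root_.inv_inv] at this
    rw [this, map_mul, map_mul, cst_appTop]
    congr 2
  generalize hA : k.left.appTop (dsFn (tw (RootPairing.Equiv.reflection D.P a) t)⁻¹ (D.P.root a) *
    (cst X k2 * y)) = A' at hd hu1
  rw [map_mul, cst_appTop, ← mul_add] at hu1
  have hcore : n' * (R * M * tpt D (k ≫ t) * (rp D a (k.left.appTop x) * (k ≫ w₀)) * rp D a σ) * n'⁻¹ =
      (n' * R * n'⁻¹) * tpt D T * (rp D a A' *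
        rp D (negIdx D a) (cst X' (k1 : Γ(S, ⊤)) * (k.left.appTop x + σ))) * (n' * V * n'⁻¹) := by
    rw [← hd, show tpt D T = n' * tpt D (k ≫ t) * n'⁻¹ from (hn X' (k ≫ t)).symm,
      ← hk2.conj (X := X'), ← hk1.conj (X := X'), rp_add]
    simp only [V, n', M]
    group
  have hz := hE X' A' (cst X' (k1 : Γ(S, ⊤)) * (k.left.appTop x + σ)) hu1.unit hu1.unit_spec
  rw [hz, hpt_eq_tpt] at hcore
  have key : ∀ (A T M' H P B : X' ⟶ G), A * T * (M' * H * P) * B =
      (A * (T * M' * T⁻¹)) * (T * H) * (P * B) := fun _ _ _ _ _ _ => by group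
  rw [key, ← RedPts82.tpt_mul] at hcore
  have hl' : (n' * R * n'⁻¹) * (tpt D T * rp D (negIdx D a)
      (cst X' (k1 : Γ(S, ⊤)) * (k.left.appTop x + σ) * ((hu1.unit⁻¹ : Γ(X'.left, ⊤)ˣ) : Γ(X'.left, ⊤))) *
        (tpt D T)⁻¹) ∈ Up D (-l) X' :=
    mul_mem hnR (fixed_conj_up (tpt_mem_fixed T) (h.neg_rp_mem _))
  have hr' : rp D a (A' * ((hu1.unit⁻¹ : Γ(X'.left, ⊤)ˣ) : Γ(X'.left, ⊤))) * (n' * V * n'⁻¹) ∈ Up D l X' :=
    mul_mem (rp_mem_up h.pos _) hnV
  rw [hg, show np n X' = n' from rfl, hcore]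
  refine ⟨⟨_, hl', _, _, hr', rfl⟩, ?_⟩
  rw [tor_eq _ hl' hr', tor_eq _ (mul_mem hR.1 (h.neg_rp_mem _))
    (mul_mem (rp_mem_up h.pos _) (Up.comp hw₀.1 k)), kap_mul, kap_hpt hN]
  exact (_root_.mul_one _).trans (kap_tw_refl hN a (k ≫ t))

end Groth.Agent.RedPts82
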