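import Groth.Agent.RedPts82.SplitCochar

/-!
Points contracted to one lie in the positive part of the cell, whatever the ordering of the roots.
-/

universe u

open CategoryTheory MonoidalCategory CartesianMonoidalCategory MonObj GrpObj AlgebraicGeometry
open CategoryTheory.Limits

namespace Groth.Agent.RedPts82

variable {S : Scheme.{u}}

theorem denseRange_of_appTop_injective {X Y : Scheme.{u}} [IsAffine X] [IsAffine Y] (f : X ⟶ Y)
    (h : Function.Injective f.appTop) : DenseRange f := by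
  have hd : DenseRange (Spec.map f.appTop) :=
    (PrimeSpectrum.denseRange_comap_iff_ker_le_nilRadical (f := f.appTop.hom)).mpr (by
      rw [(RingHom.injective_iff_ker_eq_bot _).mp h]; exact bot_le)
  have : IsDominant (Spec.map f.appTop) := ⟨hd⟩
  have e : f = X.isoSpec.hom ≫ Spec.map f.appTop ≫ Y.isoSpec.inv := by
    rw [← Category.assoc, Scheme.isoSpec_hom_naturality, Category.assoc, Iso.hom_inv_id, Category.comp_id]
  have : IsDominant f := by rw [e]; infer_instance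
  exact f.denseRange

theorem subsingleton_of_field {K : Type u} [Field K] {W : Scheme.{u}} [IsAffine W] (e : K ≃+* Γ(W, ⊤)) :
    Subsingleton W := by
  have : Subsingleton (PrimeSpectrum Γ(W, ⊤)) :=
    ⟨fun a b => (PrimeSpectrum.comapEquiv e).symm.injective (Subsingleton.elim _ _)⟩
  exact ⟨fun a b => W.isoSpec.hom.homeomorph.injective
    (Subsingleton.elim (α := PrimeSpectrum Γ(W, ⊤)) _ _)⟩

/-- A scheme over the base whose points all map into an open subobject factors through it. -/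
theorem exists_factor_of_range {A B X : Over S} (j : A ⟶ B) [IsOpenImmersion j.left] (g : X ⟶ B)
    (h : Set.range g.left.base ⊆ Set.range j.left.base) : ∃ a : X ⟶ A, a ≫ j = g :=
  ⟨Over.homMk (IsOpenImmersion.lift j.left g.left h) (by
      rw [← Over.w j, ← Category.assoc, IsOpenImmersion.lift_fac]; exact Over.w g),
    Over.OverMorphism.ext (IsOpenImmersion.lift_fac _ _ _)⟩

variable {G T : Over S} [GrpObj G] [GrpObj T] {i : T ⟶ G} {ν : Red.Gm S ⟶ G}
  {n m : ℕ} {dn : Fin n → ℕ} {un : Fin n → (Red.Ga S ⟶ G)} {dp : Fin m → ℕ}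
  {up : Fin m → (Red.Ga S ⟶ G)}

theorem Weighted.exists_conj {d : Fin m → ℕ} {u : Fin m → (Red.Ga S ⟶ G)} (H : Weighted ν d u)
    {W : Over S} (t : W ⟶ Red.Gm S) (x : W ⟶ RedSub.pow (Red.Ga S) m) :
    ∃ x' : W ⟶ RedSub.pow (Red.Ga S) m, x' ≫ RedSub.prodMap (Red.Ga S) m u =
      (t ≫ ν) * (x ≫ RedSub.prodMap (Red.Ga S) m u) * (t ≫ ν)⁻¹ :=
  ⟨powTuple fun k => gaPt (Red.gmFn t ^ d k * Red.gaFn (x ≫ powProj (Red.Ga S) m k)),
    (H.prodMap_conj t x _ fun k => by rw [powTuple_proj, gaFn_gaPt]).symm⟩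

variable (C : CellData i ν dn un dp up)
include C

theorem CellData.isMonHom_neg (hν : IsMonHom ν) : IsMonHom (negCochar ν) := by
  have := isMonHom_gm_neg (S := S)
  infer_instance

/-- The cell is stable under conjugation by the cocharacter. -/
theorem CellData.exists_conj {W : Over S} (hν : IsMonHom ν) (t : W ⟶ Red.Gm S)
    (c : W ⟶ RedSub.pow (Red.Ga S) n ⊗ (T ⊗ RedSub.pow (Red.Ga S) m)) :
    ∃ c', c' ≫ cellS i un up = (t ≫ ν)⁻¹ * (c ≫ cellS i un up) * (t ≫ ν) := by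
  obtain ⟨y', hy'⟩ := C.neg.exists_conj t (c ≫ fst _ _)
  obtain ⟨x', hx'⟩ := C.pos.exists_conj t⁻¹ (c ≫ snd _ _ ≫ snd _ _)
  refine ⟨lift y' (lift (c ≫ snd _ _ ≫ fst _ _) x'), ?_⟩
  have hinv : t⁻¹ ≫ ν = (t ≫ ν)⁻¹ := by
    refine (inv_eq_of_mul_eq_one_right ?_).symm
    rw [← MonObj.mul_comp t t⁻¹ ν, mul_inv_cancel, MonObj.one_comp]
  rw [cellS_lift, hy', hx', pt_negCochar, hinv, cellS_pt]
  have hc := C.comm W t (c ≫ snd _ _ ≫ fst _ _)
  generalize t ≫ ν = a at hc ⊢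
  generalize (c ≫ snd _ _ ≫ fst _ _) ≫ i = s at hc ⊢
  generalize (c ≫ fst _ _) ≫ RedSub.prodMap (Red.Ga S) n un = y
  generalize (c ≫ snd _ _ ≫ snd _ _) ≫ RedSub.prodMap (Red.Ga S) m up = x
  calc a⁻¹ * y * a⁻¹⁻¹ * (s * (a⁻¹ * x * a⁻¹⁻¹))
      = a⁻¹ * y * (a * s) * a⁻¹ * x * a := by group
    _ = a⁻¹ * y * (s * a) * a⁻¹ * x * a := by rw [hc]
    _ = a⁻¹ * (y * (s * x)) * a := by group

omit C in
theorem one_range_cell {X : Over S} (hn : ∀ k, gaPt (X := X) 0 ≫ un k = 1)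
    (hp : ∀ k, gaPt (X := X) 0 ≫ up k = 1) (hi : IsMonHom i) :
    Set.range (1 : X ⟶ G).left.base ⊆ Set.range (cellS i un up).left.base := by
  have e : lift (powTuple fun _ => gaPt 0) (lift (1 : X ⟶ T) (powTuple fun _ => gaPt 0)) ≫
      cellS i un up = 1 := by
    rw [cellS_lift, prodMap_pt, prodMap_pt, List.prod_eq_one, List.prod_eq_one, MonObj.one_comp]
    · rw [_root_.one_mul, _root_.one_mul]
    · intro a ha
      obtain ⟨k, rfl⟩ := (List.mem_ofFn' _ _).mp ha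
      simp only [powTuple_proj, hp]
    · intro a ha
      obtain ⟨k, rfl⟩ := (List.mem_ofFn' _ _).mp ha
      simp only [powTuple_proj, hn]
  rw [← e]
  rintro _ ⟨p, rfl⟩
  exact ⟨_, rfl⟩

theorem CellData.range_contr (hν : IsMonHom ν) [IsOpenImmersion (cellS i un up).left] {X : Over S}
    {g : X ⟶ G} (h : Contr ν g 1) :
    Set.range g.left.base ⊆ Set.range (cellS i un up).left.base := by
  rintro _ ⟨p, rfl⟩
  obtain ⟨K, _, _, Z, hZ, eK, z, q, rfl⟩ := exists_field_point p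
  obtain ⟨w, h1, h2⟩ := h.comp z
  let L : polyGa Z ⟶ Z ⊗ Red.Ga S := lift (gaProj Z) (gaTu Z)
  let U : (polyGa Z).left.Opens := (L ≫ w).left ⁻¹ᵁ (cellS i un up).left.opensRange
  obtain ⟨o, ho1, ho2, -⟩ := exists_gaLift (𝟙 Z) (gaPt (X := Z) 0)
  have hoL : o ≫ L ≫ w = 1 := by
    rw [← Category.assoc o L w]
    have : o ≫ L = lift (𝟙 Z) (gaPt 0) := by
      simp only [L]
      ext1
      · rw [Category.assoc, lift_fst, lift_fst, ho1]
      · rw [Category.assoc, lift_snd, lift_snd, ho2]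
    rw [this, h2, MonObj.comp_one, MonObj.comp_one]
  have hU : (U : Set (polyGa Z).left).Nonempty := by
    refine ⟨o.left q, ?_⟩
    have := one_range_cell (X := Z) (fun k => C.neg.zero k Z) (fun k => C.pos.zero k Z) C.hi ⟨q, rfl⟩
    rw [← hoL] at this
    exact this
  obtain ⟨j, hj1, hj2, hj3⟩ := exists_unit_line Z
  have : IsAffine (polyDS Z ℤ).left := inferInstance
  have : IsAffine (polyGa Z).left := inferInstance
  obtain ⟨_, hr, ⟨r, rfl⟩⟩ :=
    (denseRange_of_appTop_injective j.left hj3).inter_open_nonempty _ U.2 hU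
  obtain ⟨K', _, _, Z', hZ', eK', z', q', rfl⟩ := exists_field_point r
  have := subsingleton_of_field eK'
  let t := z' ≫ polyTu Z ℤ
  have hjL : z' ≫ j ≫ L ≫ w = (t ≫ ν) * ((z' ≫ polyProj Z ℤ) ≫ z ≫ g) * (t ≫ ν)⁻¹ := by
    have e : z' ≫ j ≫ L = lift (z' ≫ polyProj Z ℤ) (gaPt (Red.gmFn t)) := by
      simp only [L, t]
      ext1
      · rw [Category.assoc, Category.assoc, lift_fst, lift_fst, hj1]
      · rw [Category.assoc, Category.assoc, lift_snd, lift_snd, hj2, comp_gaPt, gmFn_comp]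
    rw [← h1, ← e]
    simp only [Category.assoc]
  have hin : Set.range (z' ≫ j ≫ L ≫ w).left.base ⊆ Set.range (cellS i un up).left.base := by
    rintro _ ⟨a, rfl⟩
    rw [Subsingleton.elim a q']
    exact hr
  obtain ⟨c, hc⟩ := exists_factor_of_range (cellS i un up) _ hin
  obtain ⟨c', hc'⟩ := C.exists_conj hν t c
  have e : c' ≫ cellS i un up = ((z' ≫ polyProj Z ℤ) ≫ z) ≫ g := by
    rw [hc', hc, hjL, Category.assoc (z' ≫ polyProj Z ℤ) z g]
    group
  refine ⟨c'.left q', ?_⟩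
  show (c' ≫ cellS i un up).left q' = _
  rw [e]
  show g.left (z.left ((z' ≫ polyProj Z ℤ).left q')) = g.left (z.left q)
  have := subsingleton_of_field eK
  rw [Subsingleton.elim ((z' ≫ polyProj Z ℤ).left q') q]

theorem CellData.exists_pos (hν : IsMonHom ν) [IsOpenImmersion (cellS i un up).left] {X : Over S}
    {g : X ⟶ G} (h : Contr ν g 1) :
    ∃ x : X ⟶ RedSub.pow (Red.Ga S) m, x ≫ RedSub.prodMap (Red.Ga S) m up = g := by
  obtain ⟨c, hc⟩ := exists_factor_of_range (cellS i un up) g (C.range_contr hν h)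
  rw [cellS_pt] at hc
  refine ⟨c ≫ snd _ _ ≫ snd _ _, ?_⟩
  set y := (c ≫ fst _ _) ≫ RedSub.prodMap (Red.Ga S) n un
  set x := (c ≫ snd _ _ ≫ snd _ _) ≫ RedSub.prodMap (Red.Ga S) m up
  set s := (c ≫ snd _ _ ≫ fst _ _) ≫ i
  have hs : Contr ν s s := C.contr_torus _
  have hxc : Contr ν x 1 := C.pos.contr_prod _
  have hy : y = g * x⁻¹ * s⁻¹ := by rw [← hc]; group
  have h1 : Contr ν y (1 * 1⁻¹ * s⁻¹) := by rw [hy]; exact (h.mul hxc.inv).mul hs.inv
  have hy1 := h1.eq_one_of_neg C.hG (C.neg.contr_prod (c ≫ fst _ _))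
  rw [hy1, _root_.one_mul] at hc
  have e : g * x⁻¹ = s := by rw [← hc]; group
  have h2 := h.mul hxc.inv
  rw [e] at h2
  have hs1 := hs.limit_unique C.hG h2
  rw [inv_one, _root_.one_mul] at hs1
  rw [← hc, hs1, _root_.one_mul]

theorem CellData.exists_neg (hν : IsMonHom ν) [IsOpenImmersion (cellS i up un).left] {X : Over S}
    {g : X ⟶ G} (h : Contr (negCochar ν) g 1) :
    ∃ x : X ⟶ RedSub.pow (Red.Ga S) n, x ≫ RedSub.prodMap (Red.Ga S) n un = g :=
  C.symm.exists_pos (C.isMonHom_neg hν) h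

end Groth.Agent.RedPts82
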