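import Groth.Agent.RedPts82.BruhatActs
import Groth.Agent.RedPts82.SplitOrder

/-!
Unipotent subgroups cut out by cocharacters, and the splitting of a root subgroup at a wall.
-/

universe u

open CategoryTheory MonoidalCategory CartesianMonoidalCategory MonObj GrpObj AlgebraicGeometry
open CategoryTheory.Limits

namespace Groth.Agent.RedPts82

variable {S : Scheme.{u}} {G : Over S} [GrpObj G]

theorem isMonHom_cochar (D : Red.SplitRed G) (l : D.M →+ ℤ) : IsMonHom (cochar D l) := by
  have := D.maximalTorus.1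
  have : IsMonHom D.split.inv.hom.hom := D.split.inv.hom.isMonHom_hom
  unfold cochar
  infer_instance

theorem cochar_pt (D : Red.SplitRed G) (l : D.M →+ ℤ) {X : Over S} (t : X ⟶ Red.Gm S) :
    t ≫ cochar D l = tpt D (t ≫ Red.DSmap S l) := by
  simp only [cochar, tpt, Category.assoc]

theorem negCochar_cochar (D : Red.SplitRed G) (l : D.M →+ ℤ) : negCochar (cochar D l) = cochar D (-l) := by
  rw [← Category.id_comp (negCochar _), ← Category.id_comp (cochar D (-l)), pt_negCochar, cochar_pt,
    cochar_pt]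
  congr 1
  refine dsFn_injective fun m => ?_
  rw [dsFn_DSmap, dsFn_DSmap, dsFn_int, dsFn_int, AddMonoidHom.neg_apply, zpow_neg, ← inv_zpow]
  congr 2
  refine eq_inv_of_mul_eq_one_left (Units.ext ?_)
  rw [Units.val_mul, val_gmU, val_gmU, ← gmFn_mul, inv_mul_cancel, gmFn_one, Units.val_one]

/-- The points contracted to the unit by the cocharacter of `l`. -/
noncomputable def Up (D : Red.SplitRed G) (l : D.M →+ ℤ) (X : Over S) : Subgroup (X ⟶ G) where
  carrier := {g | Contr (cochar D l) g 1}
  mul_mem' {a b} ha hb := by simpa using Contr.mul ha hb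
  one_mem' := Contr.one
  inv_mem' {a} ha := by simpa using Contr.inv ha

/-- The points fixed by the cocharacter of `l`. -/
noncomputable def Fixed (D : Red.SplitRed G) (l : D.M →+ ℤ) (X : Over S) : Subgroup (X ⟶ G) where
  carrier := {g | ∀ (Z : Over S) (z : Z ⟶ X) (t : Z ⟶ Red.Gm S),
    Commute (t ≫ cochar D l) (z ≫ g)}
  mul_mem' {a b} ha hb := fun Z z t => by rw [MonObj.comp_mul]; exact (ha Z z t).mul_right (hb Z z t)
  one_mem' := fun Z z t => by rw [MonObj.comp_one]; exact Commute.one_right _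
  inv_mem' {a} ha := fun Z z t => by rw [GrpObj.comp_inv]; exact (ha Z z t).inv_right

variable {D : Red.SplitRed G} {l : D.M →+ ℤ}

theorem Up.comp {X X' : Over S} {g : X ⟶ G} (h : g ∈ Up D l X) (k : X' ⟶ X) : k ≫ g ∈ Up D l X' := by
  have := Contr.comp h k
  rwa [MonObj.comp_one] at this

theorem fixed_contr {X : Over S} {g : X ⟶ G} (h : g ∈ Fixed D l X) : Contr (cochar D l) g g :=
  Contr.of_comm fun Z z t => h Z z t

theorem tpt_mem_fixed {X : Over S} (t : X ⟶ Red.DS S D.M) : tpt D t ∈ Fixed D l X := fun Z z s => by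
  show _ * _ = _ * _
  rw [comp_tpt, cochar_pt, tpt_comm]

theorem cochar_conj_rp (c : D.idx) {X : Over S} (t : X ⟶ Red.Gm S) (r : Γ(X.left, ⊤)) :
    (t ≫ cochar D l) * rp D c r * (t ≫ cochar D l)⁻¹ = rp D c (dsFn t (l (D.P.root c)) * r) := by
  rw [cochar_pt, tpt_conj_rp, dsFn_DSmap]

theorem rp_mem_fixed {c : D.idx} (hc : l (D.P.root c) = 0) {X : Over S} (r : Γ(X.left, ⊤)) :
    rp D c r ∈ Fixed D l X := fun Z z t => by
  show _ * _ = _ * _
  have e := cochar_conj_rp (l := l) c t (z.left.appTop r)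
  rw [hc, dsFn_zero, _root_.one_mul, mul_inv_eq_iff_eq_mul] at e
  rw [comp_rp, e]

theorem rp_mem_up {c : D.idx} (hc : 0 < l (D.P.root c)) {X : Over S} (r : Γ(X.left, ⊤)) :
    rp D c r ∈ Up D l X := by
  have H := splitRed_weighted D l ![c] (cochar D l) (fun _ : Fin 1 => (l (D.P.root c)).toNat)
    (fun a b _ => Subsingleton.elim a b) (fun _ => by omega) (fun k X t x => by
      have e : (![c] : Fin 1 → D.idx) k = c := by fin_cases k; rfl
      show (t ≫ cochar D l) * (x ≫ D.u _) * _ = _
      rw [e, cochar_conj]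
      congr 3
      rw [← dsFn_gm_zpow, Int.toNat_of_nonneg hc.le])
  exact H.contr_u 0 (gaPt r)

theorem Acts.mem_fixed {n : 𝟙_ (Over S) ⟶ G} {g : D.P.Aut} (h : Acts D n g)
    (hl : ∀ m, l (g⁻¹ • m) = l m) (X : Over S) : np n X ∈ Fixed D l X := fun Z z t => by
  show _ * _ = _ * _
  rw [comp_np, cochar_pt, h.swap]
  congr 2
  exact dsFn_injective fun m => by rw [dsFn_tw, dsFn_DSmap, dsFn_DSmap, hl]

theorem fixed_conj_up {X : Over S} {x g : X ⟶ G} (hx : x ∈ Fixed D l X) (hg : g ∈ Up D l X) :
    x * g * x⁻¹ ∈ Up D l X := by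
  have := (Contr.mul (fixed_contr hx) hg).mul (Contr.inv (fixed_contr hx))
  show Contr _ _ 1
  simpa using this

theorem fixed_neg {X : Over S} {g : X ⟶ G} (h : g ∈ Fixed D l X) : g ∈ Fixed D (-l) X := fun Z z t => by
  rw [← negCochar_cochar, pt_negCochar]
  exact h Z z _

/-- The decomposition of a point into the three parts of a cocharacter is unique. -/
theorem split_unique {X : Over S} {y y' m m' x x' : X ⟶ G}
    (hy : y ∈ Up D (-l) X) (hy' : y' ∈ Up D (-l) X) (hm : m ∈ Fixed D l X) (hm' : m' ∈ Fixed D l X)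
    (hx : x ∈ Up D l X) (hx' : x' ∈ Up D l X) (h : y * m * x = y' * m' * x') :
    y = y' ∧ m = m' ∧ x = x' := by
  have e : y'⁻¹ * y = m' * x' * x⁻¹ * m⁻¹ := by
    rw [show y = y' * m' * x' * x⁻¹ * m⁻¹ by rw [← h]; group]
    group
  have h1 : Contr (cochar D l) (y'⁻¹ * y) (m' * m⁻¹) := by
    rw [e]
    have := ((Contr.mul (fixed_contr hm') hx').mul (Contr.inv hx)).mul (Contr.inv (fixed_contr hm))
    simpa using this
  have h2 : Contr (negCochar (cochar D l)) (y'⁻¹ * y) 1 := by
    rw [negCochar_cochar]; exact (Up D (-l) X).mul_mem ((Up D (-l) X).inv_mem hy') hy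
  have hyy : y = y' := (inv_mul_eq_one.mp (h1.eq_one_of_neg D.reductive.1 h2)).symm
  subst hyy
  have h3 : m * x = m' * x' := mul_left_cancel (a := y) (by rwa [← _root_.mul_assoc, ← _root_.mul_assoc])
  have hmm : m = m' := by
    refine Contr.limit_unique D.reductive.1 (ν := cochar D l) (g := m * x) ?_ ?_
    · simpa using Contr.mul (fixed_contr hm) hx
    · rw [h3]; simpa using Contr.mul (fixed_contr hm') hx'
  subst hmm
  exact ⟨rfl, rfl, mul_left_cancel h3⟩

theorem eq_one_of_fixed_up {X : Over S} {g : X ⟶ G} (hf : g ∈ Fixed D l X) (hu : g ∈ Up D l X) :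
    g = 1 :=
  Contr.limit_unique D.reductive.1 (fixed_contr hf) hu

theorem eq_one_of_fixed_up_neg {X : Over S} {g : X ⟶ G} (hf : g ∈ Fixed D l X) (hu : g ∈ Up D (-l) X) :
    g = 1 :=
  eq_one_of_fixed_up (fixed_neg hf) hu

/-- A functional separating the roots from zero and from each other. -/
structure Chamber (D : Red.SplitRed G) (l : D.M →+ ℤ) : Prop where
  inj : Function.Injective fun c => l (D.P.root c)
  ne : ∀ c, l (D.P.root c) ≠ 0

theorem Chamber.neg (h : Chamber D l) : Chamber D (-l) :=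
  ⟨fun a b e => h.inj (by simpa using e), fun c => by simpa using h.ne c⟩

/-- The composite of a functional with an automorphism. -/
noncomputable def lAct (l : D.M →+ ℤ) (g : D.P.Aut) : D.M →+ ℤ :=
  l.comp (DistribMulAction.toAddMonoidHom D.M g)

theorem lAct_apply (l : D.M →+ ℤ) (g : D.P.Aut) (m : D.M) : lAct l g m = l (g • m) := rfl

theorem lAct_root (l : D.M →+ ℤ) (g : D.P.Aut) (c : D.idx) :
    lAct l g (D.P.root c) = l (D.P.root (g • c)) := by
  rw [lAct_apply, Roots36.root_smul]

theorem Chamber.act (h : Chamber D l) (g : D.P.Aut) : Chamber D (lAct l g) :=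
  ⟨fun a b e => MulAction.injective g (h.inj (by simpa only [lAct_root] using e)),
    fun c => by rw [lAct_root]; exact h.ne _⟩

open scoped Classical in
/-- The roots which are positive for `l`. -/
noncomputable def posEnum (D : Red.SplitRed G) (l : D.M →+ ℤ) :
    Fin (Fintype.card {c // 0 < l (D.P.root c)}) → D.idx :=
  fun k => ((Fintype.equivFin {c // 0 < l (D.P.root c)}).symm k).1

open scoped Classical in
theorem posEnum_injective : Function.Injective (posEnum D l) :=
  Subtype.val_injective.comp (Equiv.injective _)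

open scoped Classical in
theorem posEnum_pos (k) : 0 < l (D.P.root (posEnum D l k)) :=
  ((Fintype.equivFin {c // 0 < l (D.P.root c)}).symm k).2

open scoped Classical in
theorem posEnum_range : Set.range (posEnum D l) = {c | 0 < l (D.P.root c)} := by
  ext c
  exact ⟨fun ⟨k, hk⟩ => hk ▸ posEnum_pos k,
    fun hc => ⟨Fintype.equivFin _ ⟨c, hc⟩, by simp [posEnum]⟩⟩

theorem card_of_range {α : Type} [Fintype α] {p : α → Prop} [DecidablePred p] {n : ℕ} {e : Fin n → α}
    (he : Function.Injective e) (hr : Set.range e = {c | p c}) : n = Fintype.card {c // p c} := by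
  refine (Fintype.card_fin n).symm.trans (Fintype.card_of_bijective
    (f := fun k => (⟨e k, (Set.ext_iff.mp hr (e k)).mp ⟨k, rfl⟩⟩ : {c // p c})) ⟨?_, ?_⟩)
  · exact fun a b h => he (congrArg Subtype.val h)
  · rintro ⟨c, hc⟩
    obtain ⟨k, rfl⟩ := (Set.ext_iff.mp hr c).mpr hc
    exact ⟨k, rfl⟩

/-- A contracted point is the product of its coordinates, in any enumeration. -/
theorem Chamber.exists_prod (h : Chamber D l) {m : ℕ} {ep : Fin m → D.idx}
    (he : Function.Injective ep) (hr : Set.range ep = {c | 0 < l (D.P.root c)}) {X : Over S}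
    {g : X ⟶ G} (hg : g ∈ Up D l X) :
    ∃ x : Fin m → Γ(X.left, ⊤), g = (List.ofFn fun k => rp D (ep k) (x k)).prod := by
  classical
  let en := posEnum D (-l)
  have hen : ∀ k, l (D.P.root (en k)) < 0 := fun k => by
    have := posEnum_pos (D := D) (l := -l) k
    simp only [AddMonoidHom.neg_apply] at this
    show l (D.P.root (posEnum D (-l) k)) < 0
    omega
  have hep : ∀ k, 0 < l (D.P.root (ep k)) := fun k => (Set.ext_iff.mp hr (ep k)).mp ⟨k, rfl⟩
  have C := cellData_of_regular D l h.inj en ep posEnum_injective he hen hep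
  have : Mono (RedSub.cellMap D en ep) := C.mono_cell
  have hcard : Fintype.card {c // 0 < (-l) (D.P.root c)} + m = Fintype.card D.idx := by
    rw [card_of_range he hr, Fintype.card_congr (Equiv.subtypeEquivRight
      (p := fun c => 0 < (-l) (D.P.root c)) (q := fun c => ¬ 0 < l (D.P.root c))
      fun c => by have := h.ne c; simp only [AddMonoidHom.neg_apply]; omega),
      Fintype.card_subtype_compl, Nat.sub_add_cancel (Fintype.card_subtype_le _)]
  have : IsOpenImmersion (cellS D.i (fun k => D.u (en k)) fun k => D.u (ep k)).left :=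
    cellMap_open_of_mono D en ep hcard
  obtain ⟨w, hw⟩ := C.exists_pos (isMonHom_cochar D l) (show Contr (cochar D l) g 1 from hg)
  refine ⟨fun k => Red.gaFn (w ≫ powProj (Red.Ga S) m k), ?_⟩
  rw [← hw, prodMap_pt]
  simp only [rp, gaPt_gaFn]

theorem list_prod_mem' {M : Type*} [Group M] {H : Subgroup M} {n : ℕ} {f : Fin n → M} (h : ∀ k, f k ∈ H) :
    (List.ofFn f).prod ∈ H :=
  list_prod_mem fun _ hx => by
    obtain ⟨k, rfl⟩ := (List.mem_ofFn' _ _).mp hx
    exact h k

/-- Every root group of positive value is contracted, so their products are. -/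
theorem prod_mem_up {m : ℕ} (e : Fin m → D.idx) (he : ∀ k, 0 < l (D.P.root (e k))) {X : Over S}
    (x : Fin m → Γ(X.left, ⊤)) : (List.ofFn fun k => rp D (e k) (x k)).prod ∈ Up D l X :=
  list_prod_mem' fun k => rp_mem_up (he k) _

/-- Conjugation by a section carries `Up` to `Up` of the transported functional. -/
theorem Acts.conj_up {n : 𝟙_ (Over S) ⟶ G} {g : D.P.Aut} (hn : Acts D n g) (b : D.P.Base)
    (hl : Chamber D l) {X : Over S} {x : X ⟶ G} (hx : x ∈ Up D l X) :
    np n X * x * (np n X)⁻¹ ∈ Up D (lAct l g⁻¹) X := by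
  classical
  obtain ⟨r, rfl⟩ := hl.exists_prod posEnum_injective posEnum_range hx
  rw [conj_list_prod]
  refine list_prod_mem' fun k => ?_
  obtain ⟨u, hu⟩ := hn.exists_moves b (posEnum D l k)
  rw [hu.conj]
  refine rp_mem_up ?_ _
  rw [lAct_root, inv_smul_smul]
  exact posEnum_pos k

/-- `a` spans a wall of the chamber of `l`. -/
structure Wall (D : Red.SplitRed G) (l : D.M →+ ℤ) (a : D.idx) : Prop extends Chamber D l where
  pos : 0 < l (D.P.root a)
  refl : ∀ c, c ≠ a → 0 < l (D.P.root c) → 0 < l (D.P.root (D.P.reflectionPerm a c))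

/-- The chamber beyond the wall. -/
noncomputable def flipF (l : D.M →+ ℤ) (a : D.idx) : D.M →+ ℤ :=
  lAct l (RootPairing.Equiv.reflection D.P a)

theorem flipF_root (l : D.M →+ ℤ) (a c : D.idx) :
    flipF l a (D.P.root c) = l (D.P.root (D.P.reflectionPerm a c)) := by
  rw [flipF, lAct_root, Roots36.reflection_smul_index]

/-- A functional on the wall. -/
noncomputable def wallF (l : D.M →+ ℤ) (a : D.idx) : D.M →+ ℤ := l + flipF l a

theorem wallF_root (l : D.M →+ ℤ) (a c : D.idx) :
    wallF l a (D.P.root c) = l (D.P.root c) + l (D.P.root (D.P.reflectionPerm a c)) := by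
  rw [wallF, AddMonoidHom.add_apply, flipF_root]

theorem wallF_apply_reflection (l : D.M →+ ℤ) (a : D.idx) (m : D.M) :
    wallF l a ((RootPairing.Equiv.reflection D.P a)⁻¹ • m) = wallF l a m := by
  rw [RootPairing.Equiv.reflection_inv, wallF, AddMonoidHom.add_apply, AddMonoidHom.add_apply, flipF,
    lAct_apply, lAct_apply, ← mul_smul, Roots36.reflection_sq, one_smul, add_comm]

theorem root_negIdx (a : D.idx) : D.P.root (negIdx D a) = -D.P.root a := Roots36.root_neg (P := D.P) a

theorem wallF_self (l : D.M →+ ℤ) (a : D.idx) : wallF l a (D.P.root a) = 0 := by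
  rw [wallF_root, root_negIdx, map_neg, add_neg_cancel]

theorem wallF_neg_self (l : D.M →+ ℤ) (a : D.idx) : wallF l a (D.P.root (negIdx D a)) = 0 := by
  rw [root_negIdx, map_neg, wallF_self, neg_zero]

theorem flipF_flipF (l : D.M →+ ℤ) (a : D.idx) : flipF (flipF l a) (negIdx D a) = l := by
  ext m
  rw [flipF, flipF, lAct_apply, lAct_apply, reflection_negIdx, ← mul_smul, Roots36.reflection_sq, one_smul]

theorem wallF_flip (l : D.M →+ ℤ) (a : D.idx) : wallF (flipF l a) (negIdx D a) = wallF l a := by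
  rw [wallF, wallF, flipF_flipF, add_comm]

theorem wallF_neg (l : D.M →+ ℤ) (a : D.idx) : wallF (-l) (negIdx D a) = -wallF l a := by
  ext m
  simp only [wallF, flipF, lAct_apply, AddMonoidHom.add_apply, AddMonoidHom.neg_apply, reflection_negIdx,
    neg_add_rev]
  ring

theorem reflectionPerm_negIdx (a c : D.idx) :
    D.P.reflectionPerm (negIdx D a) c = D.P.reflectionPerm a c := by
  rw [← Roots36.reflection_smul_index, reflection_negIdx, Roots36.reflection_smul_index]

variable {a : D.idx}

theorem Wall.neg (h : Wall D l a) : Wall D (-l) (negIdx D a) := by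
  refine ⟨h.toChamber.neg, ?_, fun c hne hc => ?_⟩
  · rw [root_negIdx, AddMonoidHom.neg_apply, map_neg, _root_.neg_neg]; exact h.pos
  · have hne' : negIdx D c ≠ a := fun he => hne (by rw [← he, negIdx_negIdx])
    have := h.refl (negIdx D c) hne' (by rw [root_negIdx, map_neg]; simpa using hc)
    rw [← negIdx_reflectionPerm, root_negIdx, map_neg] at this
    rw [reflectionPerm_negIdx, AddMonoidHom.neg_apply]
    exact this

theorem Wall.flip (h : Wall D l a) : Wall D (flipF l a) (negIdx D a) := by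
  refine ⟨h.toChamber.act _, ?_, fun c hne hc => ?_⟩
  · rw [flipF_root, show D.P.reflectionPerm a (negIdx D a) = a from D.P.reflectionPerm_self a a]
    exact h.pos
  · rw [flipF_root] at hc
    rw [reflectionPerm_negIdx, flipF_root]
    refine h.refl _ (fun he => hne ?_) hc
    exact (D.P.reflectionPerm a).injective (by rw [he]; exact (D.P.reflectionPerm_self a a).symm)

theorem Wall.wallF_pos (h : Wall D l a) {c : D.idx} (hne : c ≠ a) (hc : 0 < l (D.P.root c)) :
    0 < wallF l a (D.P.root c) := by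
  rw [wallF_root]; have := h.refl c hne hc; omega

/-- The part of a contracted subgroup away from the wall. -/
noncomputable def Rest (D : Red.SplitRed G) (l : D.M →+ ℤ) (a : D.idx) (X : Over S) : Subgroup (X ⟶ G) :=
  Up D l X ⊓ Up D (wallF l a) X

/-- An enumeration of the positive roots with the wall root first. -/
theorem Wall.exists_enum (h : Wall D l a) : ∃ (q : ℕ) (e : Fin q → D.idx),
    Function.Injective (Fin.cons a e : Fin (q + 1) → D.idx) ∧
      Set.range (Fin.cons a e : Fin (q + 1) → D.idx) = {c | 0 < l (D.P.root c)} ∧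
      ∀ k, e k ≠ a ∧ 0 < l (D.P.root (e k)) := by
  classical
  let A := {c // 0 < l (D.P.root c) ∧ c ≠ a}
  let e : Fin (Fintype.card A) → D.idx := fun k => ((Fintype.equivFin A).symm k).1
  have he : ∀ k, e k ≠ a ∧ 0 < l (D.P.root (e k)) := fun k => ((Fintype.equivFin A).symm k).2.symm
  refine ⟨_, e, Fin.cons_injective_iff.mpr ⟨?_, Subtype.val_injective.comp (Equiv.injective _)⟩, ?_, he⟩
  · rintro ⟨k, hk⟩
    exact (he k).1 hk
  · rw [Fin.range_cons]
    ext c
    constructor
    · rintro (rfl | ⟨k, rfl⟩)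
      exacts [h.pos, (he k).2]
    · intro hc
      by_cases hca : c = a
      · exact Or.inl hca
      · exact Or.inr ⟨Fintype.equivFin A ⟨c, hc, hca⟩, by simp [e]⟩

theorem Wall.rp_mem_rest (h : Wall D l a) {c : D.idx} (hne : c ≠ a) (hc : 0 < l (D.P.root c))
    {X : Over S} (r : Γ(X.left, ⊤)) : rp D c r ∈ Rest D l a X :=
  ⟨rp_mem_up hc r, rp_mem_up (h.wallF_pos hne hc) r⟩

/-- Splitting a contracted point at the wall. -/
theorem Wall.exists_split (h : Wall D l a) {X : Over S} {g : X ⟶ G} (hg : g ∈ Up D l X) :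
    ∃ (r : Γ(X.left, ⊤)) (v : X ⟶ G), v ∈ Rest D l a X ∧ v ∈ Up D (flipF l a) X ∧ g = rp D a r * v := by
  obtain ⟨q, e, hinj, hr, he⟩ := h.exists_enum
  obtain ⟨x, rfl⟩ := h.toChamber.exists_prod hinj hr hg
  refine ⟨x 0, (List.ofFn fun k => rp D (e k) (x k.succ)).prod,
    list_prod_mem' fun k => h.rp_mem_rest (he k).1 (he k).2 _,
    prod_mem_up e (fun k => by rw [flipF_root]; exact h.refl _ (he k).1 (he k).2) _, ?_⟩
  rw [List.ofFn_succ, List.prod_cons]
  simp [rp]

theorem Wall.rest_le_flip (h : Wall D l a) (X : Over S) : Rest D l a X ≤ Up D (flipF l a) X := by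
  rintro g ⟨hg, hw⟩
  obtain ⟨r, v, hv, hv', rfl⟩ := h.exists_split hg
  have hr : rp D a r = 1 := eq_one_of_fixed_up (rp_mem_fixed (wallF_self l a) r)
    (((Up D (wallF l a) X).mul_mem_cancel_right hv.2).mp hw)
  rw [hr, _root_.one_mul]
  exact hv'

theorem Wall.rest_flip (h : Wall D l a) (X : Over S) :
    Rest D (flipF l a) (negIdx D a) X = Rest D l a X := by
  refine le_antisymm (le_inf ?_ ?_) (le_inf (h.rest_le_flip X) ?_)
  · have h1 := h.flip.rest_le_flip X
    rw [flipF_flipF l a] at h1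
    exact h1
  · rw [Rest, wallF_flip l a]
    exact inf_le_right
  · rw [wallF_flip l a]
    exact inf_le_right

theorem Wall.rest_conj_self (h : Wall D l a) {X : Over S} (r : Γ(X.left, ⊤)) {g : X ⟶ G}
    (hg : g ∈ Rest D l a X) : rp D a r * g * (rp D a r)⁻¹ ∈ Rest D l a X :=
  ⟨(Up D l X).mul_mem ((Up D l X).mul_mem (rp_mem_up h.pos r) hg.1) ((Up D l X).inv_mem (rp_mem_up h.pos r)),
    fixed_conj_up (rp_mem_fixed (wallF_self l a) r) hg.2⟩

theorem Wall.rest_conj_neg (h : Wall D l a) {X : Over S} (r : Γ(X.left, ⊤)) {g : X ⟶ G}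
    (hg : g ∈ Rest D l a X) :
    rp D (negIdx D a) r * g * (rp D (negIdx D a) r)⁻¹ ∈ Rest D l a X := by
  rw [← h.rest_flip] at hg ⊢
  exact h.flip.rest_conj_self r hg

theorem Wall.rest_conj_refl (h : Wall D l a) (b : D.P.Base) {n : 𝟙_ (Over S) ⟶ G}
    (hn : Acts D n (RootPairing.Equiv.reflection D.P a)) {X : Over S} {g : X ⟶ G}
    (hg : g ∈ Rest D l a X) : np n X * g * (np n X)⁻¹ ∈ Rest D l a X := by
  refine ⟨?_, fixed_conj_up (hn.mem_fixed (wallF_apply_reflection l a) X) hg.2⟩
  have h1 := hn.conj_up b (h.toChamber.act _) (h.rest_le_flip X hg)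
  have e : lAct (lAct l (RootPairing.Equiv.reflection D.P a)) (RootPairing.Equiv.reflection D.P a) = l := by
    ext m
    rw [lAct_apply, lAct_apply, ← mul_smul, Roots36.reflection_sq, one_smul]
  rw [RootPairing.Equiv.reflection_inv, e] at h1
  exact h1

end Groth.Agent.RedPts82
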