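import Groth.Agent.RedPts82.OpenClosed

/-!
Points normalising a subgroup of multiplicative type and centralising it modulo a square zero ideal.
-/

universe u

open CategoryTheory MonoidalCategory CartesianMonoidalCategory MonObj GrpObj AlgebraicGeometry
open CategoryTheory.Limits

namespace Groth.Agent.RedPts82

variable {S : Scheme.{u}}

set_option maxHeartbeats 1000000 in
theorem centralizes_of_congr {H G : Over S} [GrpObj H] [GrpObj G] (hH' : IsMultType H) (i : H ⟶ G)
    [IsMonHom i] [Mono i] {T : Over S} [IsAffine T.left] {J : Ideal (Gam T)} (hJ : J * J = ⊥)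
    (g : T ⟶ G) (hn : ∀ (Z : Over S) (z : Z ⟶ T) (h : Z ⟶ H),
      ∃ h', (z ≫ g) * (h ≫ i) * (z ≫ g)⁻¹ = h' ≫ i)
    (h0 : ∀ (Z : Over S) (z : Z ⟶ redObj T J) (h : Z ⟶ H),
      (z ≫ redMap T J ≫ g) * (h ≫ i) = (h ≫ i) * (z ≫ redMap T J ≫ g))
    {X' : Over S} (x : X' ⟶ T) (h : X' ⟶ H) : (x ≫ g) * (h ≫ i) = (h ≫ i) * (x ≫ g) := by
  obtain ⟨S', p, hp, hs, hqc, hloc⟩ := hH'
  choose U₀ hU₀ M hM he using hloc
  choose W hW hsW hWU using fun s' => exists_isAffineOpen_mem_and_subset (hU₀ s')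
  refine hom_ext_of_cover p W hsW _ _ fun s' Y _ y => ?_
  obtain ⟨e⟩ := he s'
  haveI : IsAffine (W s' : Scheme.{u}) := hW s'
  let φ : (W s' : Scheme.{u}) ⟶ S := (W s').ι ≫ p
  obtain ⟨c, hc, hcm, hsurj⟩ := exists_ds_cover_mono (S'.homOfLE (hWU s'))
    ((U₀ s').ι ≫ p) φ (by simp [φ]) e
  haveI : Mono ((Over.pullback φ).map i) := inferInstance
  obtain ⟨t, ht⟩ := hsurj Y (ofBase φ (y ≫ h))
  obtain ⟨v, hv⟩ := exists_red_map φ (y ≫ x) J
  have hJ' : J.map (y ≫ x).left.appTop.hom * J.map (y ≫ x).left.appTop.hom = ⊥ := by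
    rw [← Ideal.map_mul, hJ, Ideal.map_bot]
  have h1 := rigid_centralizer (c ≫ (Over.pullback φ).map i) hJ'
    (ofBase φ ((y ≫ x) ≫ g)) (fun Y' m t' => by
      obtain ⟨h', e'⟩ := hn _ ((Over.map φ).map m ≫ y ≫ x) (toBase φ (t' ≫ c))
      obtain ⟨t'', ht''⟩ := hsurj Y' (ofBase φ h')
      refine ⟨t'', toBase_injective φ ?_⟩
      simp only [← Category.assoc, toBase_mul, toBase_inv,
        toBase_comp_map]
      rw [toBase_comp φ m, toBase_ofBase, ht'', toBase_ofBase]
      simp only [Category.assoc] at e' ⊢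
      exact e') (fun Y' m t' => by
      have e' := h0 _ ((Over.map φ).map m ≫ v) (toBase φ (t' ≫ c))
      apply toBase_injective φ
      simp only [← Category.assoc, toBase_mul, toBase_comp_map]
      rw [toBase_comp φ, toBase_ofBase]
      simp only [Functor.map_comp, Category.assoc, reassoc_of% hv] at e' ⊢
      exact e') (𝟙 Y) t
  have h2 := congrArg (toBase φ) h1
  simp only [← Category.assoc, toBase_mul, toBase_comp_map, ht,
    toBase_ofBase, Category.id_comp] at h2
  simp only [MonObj.comp_mul, Category.assoc] at h2 ⊢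
  exact h2


end Groth.Agent.RedPts82
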