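import Groth.Agent.RedPts82.ChevDual

/-!
The equations satisfied by the structure constants along a root string of a Chevalley system.
-/

universe u

open CategoryTheory MonoidalCategory CartesianMonoidalCategory MonObj GrpObj AlgebraicGeometry
open CategoryTheory.Limits

namespace Groth.Agent.RedPts82

variable {S : Scheme.{u}} {G : Over S} [GrpObj G] (D : Red.SplitRed G)

/-- A Chevalley system on the root groups of a splitting, with chosen duals. -/
structure Chev (vd : D.idx → (Red.Ga S ⟶ G)) : Prop where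
  dual : ∀ c, IsDual D c (vd c)
  sign : ∀ c b, ∃ s : ℤ, (s = 1 ∨ s = -1) ∧ ∀ (X : Over S) (r : Γ(X.left, ⊤)),
    npt D c (vd c) X * (gaPt r ≫ D.u b) * (npt D c (vd c) X)⁻¹ =
      gaPt ((s : Γ(X.left, ⊤)) * r) ≫ D.u (D.P.reflectionPerm c b)

/-- A root string of length `n`. -/
structure Str {n : ℕ} (a : D.idx) (f : Fin (n + 1) → D.idx) : Prop where
  hf : ∀ k, D.P.root (f k) = D.P.root (f 0) + ((k : ℕ) : ℤ) • D.P.root a
  htop : ∀ p : ℕ, n < p → D.P.root (f 0) + (p : ℤ) • D.P.root a ∉ Set.range D.P.root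
  hbot : ∀ p : ℕ, 0 < p → D.P.root (f 0) - (p : ℤ) • D.P.root a ∉ Set.range D.P.root
  hpair : D.P.pairing (f 0) a = -(n : ℤ)
  hsmall : D.P.pairingIn ℤ (f 0) a * D.P.pairingIn ℤ a (f 0) < 4

variable {D} {n : ℕ} {a : D.idx} {f : Fin (n + 1) → D.idx} (T : Str D a f)
include T

theorem Str.up : UpString D a f := ⟨T.hf, T.htop⟩

theorem Str.pairing_eq (k : Fin (n + 1)) : D.P.pairing (f k) a = 2 * ((k : ℕ) : ℤ) - n := by
  rw [← pairing_eq_coroot, T.hf, map_add, map_zsmul, pairing_eq_coroot, pairing_eq_coroot,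
    RootPairing.pairing_same, T.hpair, smul_eq_mul]
  ring

theorem Str.refl_eq (k : Fin (n + 1)) : D.P.reflectionPerm a (f k) = f k.rev := by
  apply D.P.root.injective
  rw [RootPairing.root_reflectionPerm, RootPairing.reflection_apply_root, T.pairing_eq, T.hf k,
    T.hf k.rev, Fin.val_rev, Nat.cast_sub (by omega)]
  push_cast
  module

theorem Str.down : UpString D (negIdx D a) (f ∘ Fin.rev) := by
  have h0 : D.P.root ((f ∘ Fin.rev) 0) = D.P.root (f 0) + (n : ℤ) • D.P.root a := by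
    rw [Function.comp_apply, Fin.rev_zero, T.hf, Fin.val_last]
  have hneg : D.P.root (negIdx D a) = -D.P.root a := Roots36.root_neg (P := D.P) a
  refine ⟨fun k => ?_, fun p hp => ?_⟩
  · rw [h0, hneg, Function.comp_apply, T.hf, Fin.val_rev, Nat.cast_sub (by omega)]
    push_cast
    module
  · rw [h0, hneg]
    have := T.hbot (p - n) (by omega)
    rw [Nat.cast_sub hp.le] at this
    convert this using 2
    module

theorem Str.exists_pos : ∃ l : D.M →+ ℤ, PosSys D f l ∧ 0 < l (D.P.root a) := by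
  obtain ⟨l, hne, hl, ha, h0⟩ := exists_functional_indep (P := D.P) (a := a) (b := f 0)
    (by rw [mul_comm]; exact T.hsmall)
  exact ⟨l, T.up.posSys D hl hne ha h0, ha⟩

theorem Str.exists_pos_down :
    ∃ l : D.M →+ ℤ, (∀ c, l (D.P.root c) ≠ 0) ∧ (Function.Injective fun c => l (D.P.root c)) ∧
      0 < l (D.P.root (negIdx D a)) ∧ 0 < l (D.P.root ((f ∘ Fin.rev) 0)) := by
  refine exists_functional_indep (P := D.P) ?_
  rw [Function.comp_apply, ← T.refl_eq]
  have e : ∀ i j, D.P.pairingIn ℤ i j = D.P.pairing i j := fun i j => D.P.algebraMap_pairingIn ℤ i j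
  have h := T.hsmall
  simp only [e, negIdx] at h ⊢
  rw [RootPairing.pairing_reflectionPerm_self_left, RootPairing.pairing_reflectionPerm_self_right,
    RootPairing.pairing_reflectionPerm, ← RootPairing.pairing_reflectionPerm D.P a (f 0) a,
    RootPairing.pairing_reflectionPerm_self_left, RootPairing.pairing_reflectionPerm_self_right,
    neg_neg, neg_neg, mul_comm]
  exact h

/-- Reversing the order of the string. -/
theorem Str.lp_rev {X : Over S} {δ : Γ(X.left, ⊤)} (hδ : δ * δ = 0) (z : Fin (n + 1) → Γ(X.left, ⊤)) :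
    lp D δ (f ∘ Fin.rev) z = lp D δ f (z ∘ Fin.rev) := by
  obtain ⟨l, H, -⟩ := T.exists_pos
  have hz : z ∘ Fin.rev = ∑ k, Pi.single k.rev (z k) := by
    funext j
    rw [Finset.sum_apply, Finset.sum_eq_single j.rev]
    · simp
    · intro b _ hb
      exact Pi.single_eq_of_ne (fun h => hb (by rw [h, Fin.rev_rev])) _
    · simp
  rw [hz, H.lp_sum D hδ, lp]
  congr 2
  funext k
  rw [lp_single]
  rfl

omit T

theorem eq_zero_of_delta (r : Γ(S, ⊤))
    (h : ∀ (X : Over S) (δ : Γ(X.left, ⊤)), δ * δ = 0 → cst X r * δ = 0) : r = 0 := by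
  have happ : ∀ c : Γ(S, ⊤), cst (𝟙_ (Over S)) c = c := fun c => by
    show (𝟙 S : S ⟶ S).appTop c = c
    simp
  have key : (gaPt (cst (𝟙_ (Over S)) r) : 𝟙_ (Over S) ⟶ Red.Ga S) = gaPt 0 := by
    refine hom_ext_affine fun Y hY k => ?_
    rw [comp_gaPt, comp_gaPt, map_zero]
    congr 1
    obtain ⟨N, c, -, ε, hε, -, huniq, -⟩ := exists_trunc Y
    have h1 := h N (ε ^ 2) (by rw [← pow_add, show 2 + 2 = 3 + 1 from rfl, pow_add, hε, zero_mul])
    have e : k.left.appTop (cst (𝟙_ (Over S)) r) = cst Y r := by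
      rw [show k.left.appTop (cst (𝟙_ (Over S)) r) = (k.left ≫ (𝟙_ (Over S)).hom).appTop r by
        rw [Scheme.Hom.comp_appTop]; rfl, Over.w k]
    have e' : cst N r = c.left.appTop (cst Y r) := by
      rw [show c.left.appTop (cst Y r) = (c.left ≫ Y.hom).appTop r by rw [Scheme.Hom.comp_appTop]; rfl,
        Over.w c]
    rw [e]
    exact (huniq 0 0 (cst Y r) (by rw [map_zero, zero_mul, zero_add, zero_add, ← e', h1])).2.2
  have := gaPt_injective key
  rwa [happ] at this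

theorem eq_zero_of_delta₂ (r : Γ(S, ⊤))
    (h : ∀ (X : Over S) (y δ : Γ(X.left, ⊤)), y * y = 0 → δ * δ = 0 → cst X r * y * δ = 0) : r = 0 := by
  refine eq_zero_of_delta r fun X δ hδ => ?_
  have key : (gaPt (cst X r * δ) : X ⟶ Red.Ga S) = gaPt 0 := by
    refine hom_ext_affine fun Y hY k => ?_
    rw [comp_gaPt, comp_gaPt, map_zero]
    congr 1
    obtain ⟨N, c, -, ε, hε, -, huniq, -⟩ := exists_trunc Y
    have h1 := h N (c.left.appTop (k.left.appTop δ)) (ε ^ 2) (by rw [← map_mul, ← map_mul, hδ, map_zero, map_zero])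
      (by rw [← pow_add, show 2 + 2 = 3 + 1 from rfl, pow_add, hε, zero_mul])
    have e : cst N r = c.left.appTop (k.left.appTop (cst X r)) := by
      rw [show c.left.appTop (k.left.appTop (cst X r)) = ((c ≫ k).left ≫ X.hom).appTop r by
        rw [Scheme.Hom.comp_appTop, Over.comp_left, Scheme.Hom.comp_appTop]; rfl, Over.w]
    exact (huniq 0 0 _ (by rw [map_zero, zero_mul, zero_add, zero_add, map_mul, map_mul, ← e, h1])).2.2
  exact gaPt_injective key

theorem unit_zpow_of_sq_zero {A : Type*} [CommRing A] {z : Aˣ} {y : A} (hz : (z : A) = 1 + y) (hy : y * y = 0)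
    (k : ℤ) : ((z ^ k : Aˣ) : A) = 1 + (k : A) * y := by
  induction k using Int.induction_on with
  | zero => simp
  | succ m ih =>
    rw [zpow_add_one, Units.val_mul, ih, hz]
    push_cast
    linear_combination (m : A) * hy
  | pred m ih =>
    refine z.isUnit.mul_right_cancel ?_
    rw [← Units.val_mul, ← zpow_add_one, sub_add_cancel, ih, hz]
    push_cast
    linear_combination ((m : A) + 1) * hy

theorem one_sub_pow_of_sq_zero {A : Type*} [CommRing A] {y : A} (hy : y * y = 0) (k : ℕ) :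
    (1 - y) ^ k = 1 - (k : A) * y := by
  induction k with
  | zero => simp
  | succ k ih =>
    rw [pow_succ, ih]
    push_cast
    linear_combination (k : A) * hy

/-- The part of step one of a lower triangular matrix. -/
def stepOne {R : Type*} [Zero R] {n : ℕ} (Dm : Fin (n + 1) → Fin (n + 1) → R) (i k : Fin (n + 1)) : R :=
  if (k : ℕ) + 1 = i then Dm i k else 0

theorem lower_pow_of_sq_zero {A : Type*} [CommRing A] {Dm : Fin (n + 1) → Fin (n + 1) → A}
    (h0 : ∀ i k, i < k → Dm i k = 0) (h1 : ∀ i, Dm i i = 1) {y : A} (hy : y * y = 0) (i j : Fin (n + 1)) :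
    Dm i j * y ^ ((i : ℕ) - j) = (if i = j then 1 else 0) + stepOne Dm i j * y := by
  rcases lt_trichotomy i j with h | rfl | h
  · rw [h0 i j h, stepOne, if_neg h.ne, if_neg (by have := Fin.lt_def.mp h; omega)]
    ring
  · simp [h1, stepOne]
  · have h' := Fin.lt_def.mp h
    rw [if_neg h.ne', stepOne]
    split_ifs with hk
    · rw [show (i : ℕ) - j = 1 by omega, pow_one, zero_add]
    · rw [show (i : ℕ) - j = 2 + ((i : ℕ) - j - 2) by omega, pow_add, pow_two, hy]
      ring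

include T

/-- The structure constants of a string with a dual pair, and their equations. -/
theorem Str.exists_coeffs_gen {w : Red.Ga S ⟶ G} (hd : IsDual D a w) (σ : Γ(S, ⊤))
    (hw : ∀ (X : Over S) (r : Γ(X.left, ⊤)), gaPt r ≫ w = gaPt (cst X σ * r) ≫ D.u (negIdx D a))
    (s : Fin (n + 1) → Γ(S, ⊤))
    (hsign : ∀ i (X : Over S) (r : Γ(X.left, ⊤)),
      npt D a w X * (gaPt r ≫ D.u (f i)) * (npt D a w X)⁻¹ = gaPt (cst X (s i) * r) ≫ D.u (f i.rev)) :
    ∃ (C Dm : Fin (n + 1) → Fin (n + 1) → Γ(S, ⊤)),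
      (∀ i k, k < i → C i k = 0) ∧ (∀ i, C i i = 1) ∧
      (∀ i k, i < k → Dm i k = 0) ∧ (∀ i, Dm i i = 1) ∧
      (∀ (X : Over S) (δ : Γ(X.left, ⊤)), δ * δ = 0 → ∀ (x : Γ(X.left, ⊤)) (z : Fin (n + 1) → Γ(X.left, ⊤)),
        (gaPt x ≫ D.u a) * lp D δ f z * (gaPt x ≫ D.u a)⁻¹ =
          lp D δ f fun k => ∑ i, cst X (C i k) * x ^ ((k : ℕ) - i) * z i) ∧
      (∀ i j, C i j = s i * ∑ k, C i.rev k * (-1) ^ ((k : ℕ) - i.rev) * Dm k j) ∧
      (∀ i m, ∑ k, stepOne Dm i k * C k m =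
        C i m * (((m : ℕ) : ℤ) + ((i : ℕ) : ℤ) - (n : ℤ) : ℤ) + ∑ k, C i k * stepOne Dm k m) := by
  classical
  obtain ⟨l, H, ha⟩ := T.exists_pos
  obtain ⟨l', hne', hl', ha', h0'⟩ := T.exists_pos_down
  obtain ⟨C, hC0, hC1, hC⟩ := exists_conj_lin D T.up H.hl H.hne ha (H.hpos 0)
  obtain ⟨C', hC0', hC1', hC'⟩ := exists_conj_lin D T.down hl' hne' ha' h0'
  let Dm : Fin (n + 1) → Fin (n + 1) → Γ(S, ⊤) := fun i k => C' i.rev k.rev * σ ^ ((i : ℕ) - k)
  have hM : ∀ (X : Over S) (δ : Γ(X.left, ⊤)), δ * δ = 0 → ∀ (y : Γ(X.left, ⊤)) (z : Fin (n + 1) → Γ(X.left, ⊤)),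
      (gaPt y ≫ w) * lp D δ f z * (gaPt y ≫ w)⁻¹ =
        lp D δ f fun k => ∑ i, cst X (Dm i k) * y ^ ((i : ℕ) - k) * z i := by
    intro X δ hδ y z
    rw [hw, show z = (z ∘ Fin.rev) ∘ Fin.rev by funext k; simp,
      ← T.lp_rev hδ, hC' X δ hδ, T.lp_rev hδ]
    congr 1
    funext k
    rw [Function.comp_apply, ← Equiv.sum_comp Fin.revPerm]
    refine Finset.sum_congr rfl fun i _ => ?_
    simp only [Fin.revPerm_apply, Function.comp_apply, Fin.rev_rev, Dm, cst, map_mul, map_pow,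
      mul_pow, Fin.val_rev]
    have hi := i.isLt
    have hk := k.isLt
    rw [show n + 1 - ((k : ℕ) + 1) - (n + 1 - ((i : ℕ) + 1)) = (i : ℕ) - k by omega]
    ring
  have hconjn : ∀ (X : Over S) (δ : Γ(X.left, ⊤)) (i : Fin (n + 1)),
      npt D a w X * lp D δ f (Pi.single i 1) * (npt D a w X)⁻¹ =
        lp D δ f (Pi.single i.rev (cst X (s i))) := by
    intro X δ i
    rw [lp_single, lp_single, _root_.mul_one, hsign i X δ, mul_comm]
  refine ⟨C, Dm, hC0, hC1, fun i k h => ?_, fun i => ?_, hC, fun i j => ?_, fun i m => ?_⟩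
  · simp only [Dm]
    rw [hC0' _ _ (Fin.rev_lt_rev.mpr h), zero_mul]
  · simp only [Dm, hC1', Nat.sub_self, pow_zero, _root_.mul_one]
  · rw [← sub_eq_zero]
    refine eq_zero_of_delta _ fun X δ hδ => ?_
    have e : (gaPt (1 : Γ(X.left, ⊤)) ≫ D.u a) * lp D δ f (Pi.single i 1) * (gaPt 1 ≫ D.u a)⁻¹ =
        (gaPt 1 ≫ w) * ((gaPt (-1) ≫ D.u a) * lp D δ f (Pi.single i.rev (cst X (s i))) *
          (gaPt (-1) ≫ D.u a)⁻¹) * (gaPt 1 ≫ w)⁻¹ := by
      rw [← hconjn, npt, rootHom_gaPt_neg]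
      group
    rw [hC X δ hδ, hC X δ hδ, hM X δ hδ] at e
    have h := H.lp_injective D δ e j
    simp only [Pi.single_apply, mul_ite, mul_zero, Finset.sum_ite_eq', Finset.mem_univ, if_true,
      one_pow, _root_.mul_one] at h
    rw [cst, map_sub, sub_mul, sub_eq_zero]
    simp only [cst, map_mul, map_sum, map_pow, map_neg, map_one, map_intCast, Finset.mul_sum,
      Finset.sum_mul] at h ⊢
    rw [mul_comm, h]
    exact Finset.sum_congr rfl fun k _ => by ring
  · rw [← sub_eq_zero]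
    refine eq_zero_of_delta₂ _ fun X y δ hy hδ => ?_
    let z : Γ(X.left, ⊤)ˣ := ⟨1 + y, 1 - y, by linear_combination -hy, by linear_combination -hy⟩
    have hrel := hd.rel D (1 : Γ(X.left, ⊤)) y z (by rw [_root_.one_mul])
    rw [show y * ((z⁻¹ : Γ(X.left, ⊤)ˣ) : Γ(X.left, ⊤)) = y by
      show y * (1 - y) = y
      linear_combination -hy, _root_.one_mul,
      show ((z⁻¹ : Γ(X.left, ⊤)ˣ) : Γ(X.left, ⊤)) = 1 - y from rfl] at hrel
    have hh : ∀ w' : Fin (n + 1) → Γ(X.left, ⊤), hpt D a z * lp D δ f w' * (hpt D a z)⁻¹ =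
        lp D δ f fun k => (1 + ((2 * ((k : ℕ) : ℤ) - n : ℤ) : Γ(X.left, ⊤)) * y) * w' k := by
      intro w'
      rw [lp, conj_list_prod, lp]
      congr 2
      funext k
      rw [hpt_conj, T.pairing_eq, unit_zpow_of_sq_zero (show (z : Γ(X.left, ⊤)) = 1 + y from rfl) hy]
      congr 2
      ring
    have e : (gaPt (1 : Γ(X.left, ⊤)) ≫ D.u a) * ((gaPt y ≫ w) * lp D δ f (Pi.single i 1) *
          (gaPt y ≫ w)⁻¹) * (gaPt 1 ≫ D.u a)⁻¹ =
        (gaPt y ≫ w) * (hpt D a z * ((gaPt (1 - y) ≫ D.u a) * lp D δ f (Pi.single i 1) *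
          (gaPt (1 - y) ≫ D.u a)⁻¹) * (hpt D a z)⁻¹) * (gaPt y ≫ w)⁻¹ := by
      generalize gaPt (1 : Γ(X.left, ⊤)) ≫ D.u a = P1 at hrel ⊢
      generalize gaPt y ≫ w = My at hrel ⊢
      generalize gaPt (1 - y) ≫ D.u a = Pz at hrel ⊢
      calc _ = (P1 * My) * lp D δ f (Pi.single i 1) * (P1 * My)⁻¹ := by group
        _ = _ := by rw [hrel]; group
    rw [hM X δ hδ, hC X δ hδ, hC X δ hδ, hh, hM X δ hδ] at e
    have h := H.lp_injective D δ e m
    have hlow := fun (p q : Fin (n + 1)) => lower_pow_of_sq_zero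
      (Dm := fun p q => cst X (Dm p q))
      (fun p q hpq => by
        show cst X (C' p.rev q.rev * _) = 0
        rw [hC0' _ _ (Fin.rev_lt_rev.mpr hpq), zero_mul, cst, map_zero])
      (fun p => by
        show cst X (C' p.rev p.rev * _) = 1
        rw [hC1', Nat.sub_self, pow_zero, _root_.mul_one, cst, map_one]) hy p q
    have hup : ∀ j, cst X (C i j) * (1 - y) ^ ((j : ℕ) - i) =
        cst X (C i j) * (1 - (((j : ℕ) : ℤ) - ((i : ℕ) : ℤ) : ℤ) * y) := by
      intro j
      rcases lt_or_ge j i with hj | hj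
      · rw [hC0 i j hj, cst, map_zero, zero_mul, zero_mul]
      · have := Fin.le_def.mp hj
        rw [one_sub_pow_of_sq_zero hy, ← Int.cast_natCast, Nat.cast_sub this]
    have hstep : ∀ p q, stepOne (fun p q => cst X (Dm p q)) p q = cst X (stepOne Dm p q) := by
      intro p q
      simp only [stepOne, cst]
      split_ifs <;> simp
    have hi1 : ∀ j, (∑ q, cst X (Dm q j) * y ^ ((q : ℕ) - j) * Pi.single (M := fun _ => Γ(X.left, ⊤)) i 1 q) =
        (if i = j then 1 else 0) + cst X (stepOne Dm i j) * y := by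
      intro j
      rw [Finset.sum_eq_single i (fun b _ hb => by rw [Pi.single_eq_of_ne hb, mul_zero]) (by simp),
        Pi.single_eq_same, _root_.mul_one, hlow i j, hstep]
    have hi2 : ∀ j, (∑ q, cst X (C q j) * (1 - y) ^ ((j : ℕ) - q) * Pi.single (M := fun _ => Γ(X.left, ⊤)) i 1 q) =
        cst X (C i j) * (1 - (((j : ℕ) : ℤ) - ((i : ℕ) : ℤ) : ℤ) * y) := by
      intro j
      rw [Finset.sum_eq_single i (fun b _ hb => by rw [Pi.single_eq_of_ne hb, mul_zero]) (by simp),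
        Pi.single_eq_same, _root_.mul_one, hup]
    simp only [hi1, hi2] at h
    simp only [hlow, hstep, one_pow, _root_.mul_one] at h
    have hL : ∀ c : Fin (n + 1) → Γ(X.left, ⊤),
        (∑ j, cst X (C j m) * ((if i = j then 1 else 0) + c j * y)) =
          cst X (C i m) + y * ∑ j, c j * cst X (C j m) := by
      intro c
      simp only [mul_add, mul_ite, _root_.mul_one, mul_zero, Finset.sum_add_distrib, Finset.sum_ite_eq,
        Finset.mem_univ, if_true, Finset.mul_sum]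
      exact congrArg _ (Finset.sum_congr rfl fun j _ => by ring)
    have hR : ∀ c p q : Fin (n + 1) → Γ(X.left, ⊤),
        (∑ j, ((if j = m then 1 else 0) + c j * y) * ((1 + p j * y) * (cst X (C i j) * (1 - q j * y)))) =
          cst X (C i m) * (1 + (p m - q m) * y) + y * ∑ j, cst X (C i j) * c j := by
      intro c p q
      simp only [add_mul, ite_mul, _root_.one_mul, zero_mul, Finset.sum_add_distrib, Finset.sum_ite_eq',
        Finset.mem_univ, if_true, Finset.mul_sum]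
      refine congr_arg₂ (· + ·) ?_ (Finset.sum_congr rfl fun j _ => ?_)
      · linear_combination (-(cst X (C i m) * p m * q m)) * hy
      · linear_combination (cst X (C i j) * c j * (p j - q j - p j * q j * y)) * hy
    rw [hL, hR] at h
    simp only [cst, map_sub, map_add, map_sum, map_mul, map_intCast] at h ⊢
    push_cast at h ⊢
    linear_combination h

variable {vd : D.idx → (Red.Ga S ⟶ G)} (K : Chev D vd)
include K

/-- The structure constants of a string and their equations. -/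
theorem Str.exists_coeffs :
    ∃ (C Dm : Fin (n + 1) → Fin (n + 1) → Γ(S, ⊤)) (s : Fin (n + 1) → ℤ),
      (∀ i, s i = 1 ∨ s i = -1) ∧
      (∀ i k, k < i → C i k = 0) ∧ (∀ i, C i i = 1) ∧
      (∀ i k, i < k → Dm i k = 0) ∧ (∀ i, Dm i i = 1) ∧
      (∀ (X : Over S) (δ : Γ(X.left, ⊤)), δ * δ = 0 → ∀ (x : Γ(X.left, ⊤)) (z : Fin (n + 1) → Γ(X.left, ⊤)),
        (gaPt x ≫ D.u a) * lp D δ f z * (gaPt x ≫ D.u a)⁻¹ =
          lp D δ f fun k => ∑ i, cst X (C i k) * x ^ ((k : ℕ) - i) * z i) ∧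
      (∀ i j, C i j = (s i : Γ(S, ⊤)) * ∑ k, C i.rev k * (-1) ^ ((k : ℕ) - i.rev) * Dm k j) ∧
      (∀ i m, ∑ k, stepOne Dm i k * C k m =
        C i m * (((m : ℕ) : ℤ) + ((i : ℕ) : ℤ) - (n : ℤ) : ℤ) + ∑ k, C i k * stepOne Dm k m) := by
  obtain ⟨σ₀, -, hσ⟩ := K.sign a a
  choose s hs hsign using fun i => K.sign a (f i)
  obtain ⟨C, Dm, h⟩ := T.exists_coeffs_gen (K.dual a) ((-σ₀ : ℤ) : Γ(S, ⊤))
    (fun X r => by rw [(K.dual a).eq_neg D σ₀ hσ, cst, map_intCast])
    (fun i => ((s i : ℤ) : Γ(S, ⊤))) fun i X r => by rw [hsign i X r, T.refl_eq, cst, map_intCast]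
  exact ⟨C, Dm, s, hs, h⟩

end Groth.Agent.RedPts82
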