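import Groth.Agent.RedPts82.CommCoord
import Groth.Agent.Roots36.Form
import Mathlib.LinearAlgebra.RootSystem.Chain

/-!
Root strings, and the roots in the positive quadrant of two roots in each configuration.
-/

open Set Function RootPairing

namespace Groth.Agent.RedPts82

variable {idx M N : Type} [AddCommGroup M] [AddCommGroup N] [Fintype idx] (P : RootPairing idx ℤ M N)

/-- Two roots are independent. -/
def Indep (a b : idx) : Prop := LinearIndependent ℤ ![P.root a, P.root b]

theorem indep_of_forall {a b : idx}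
    (h : ∀ r s : ℤ, r • P.root a + s • P.root b = 0 → r = 0 ∧ s = 0) : Indep P a b :=
  LinearIndependent.pair_iff.mpr h

variable {P}

theorem pairingIn_eq (i j : idx) : P.pairingIn ℤ i j = P.pairing i j := P.algebraMap_pairingIn ℤ i j

theorem Indep.symm {a b : idx} (h : Indep P a b) : Indep P b a :=
  LinearIndependent.pair_symm_iff.mp h

theorem Indep.coeff_eq {a b : idx} (h : Indep P a b) {p q p' q' : ℤ}
    (e : p • P.root a + q • P.root b = p' • P.root a + q' • P.root b) : p = p' ∧ q = q' := by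
  have := LinearIndependent.pair_iff.mp h (p - p') (q - q') (by
    rw [sub_smul, sub_smul, sub_add_sub_comm, e, sub_self])
  omega

theorem Indep.pairing_cases {a b : idx} (h : Indep P a b) :
    (P.pairing a b, P.pairing b a) ∈ ({(0, 0), (1, 1), (-1, -1), (1, 2), (2, 1), (-1, -2), (-2, -1),
      (1, 3), (3, 1), (-1, -3), (-3, -1)} : Set (ℤ × ℤ)) := by
  have := Roots36.isTorsionFree_M P
  have := Roots36.isTorsionFree_N P
  have hne : P.pairing a b * P.pairing b a ≠ 4 := fun h4 => by
    refine ((P.coxeterWeightIn_eq_four_iff_not_linearIndependent ℤ).mp ?_) h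
    rw [coxeterWeightIn, pairingIn_eq, pairingIn_eq]
    exact h4
  have hmem := P.pairingIn_pairingIn_mem_set_of_isCrystallographic a b
  simp only [pairingIn_eq, mem_insert_iff, mem_singleton_iff, Prod.mk.injEq] at hmem ⊢
  rcases hmem with H | H | H | H | H | H | H | H | H | H | H | H | H | H | H | H | H <;>
    first
    | (exfalso; apply hne; rw [H.1, H.2]; norm_num; done)
    | (simp [H.1, H.2])

theorem Indep.prod_lt {a b : idx} (h : Indep P a b) :
    P.pairingIn ℤ a b * P.pairingIn ℤ b a < 4 := by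
  have := h.pairing_cases
  simp only [pairingIn_eq, mem_insert_iff, mem_singleton_iff, Prod.mk.injEq] at this ⊢
  rcases this with H | H | H | H | H | H | H | H | H | H | H <;> rw [H.1, H.2] <;> norm_num

theorem Indep.abs_le {a b : idx} (h : Indep P a b) : -3 ≤ P.pairing a b ∧ P.pairing a b ≤ 3 := by
  have := h.pairing_cases
  simp only [mem_insert_iff, mem_singleton_iff, Prod.mk.injEq] at this
  omega

/-- The string of `b` along `a`. -/
theorem Indep.string {a b : idx} (h : Indep P a b) :
    ∃ s t : ℕ, s + t ≤ 3 ∧ (s : ℤ) - t = P.pairing b a ∧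
      ∀ z : ℤ, P.root b + z • P.root a ∈ range P.root ↔ -(s : ℤ) ≤ z ∧ z ≤ t := by
  refine ⟨P.chainBotCoeff a b, P.chainTopCoeff a b, ?_, ?_, fun z => ?_⟩
  · have h1 := P.chainBotCoeff_add_chainTopCoeff_eq_pairingIn_chainTopIdx h
    have h' : Indep P a (P.chainTopIdx a b) := by
      show LinearIndependent ℤ ![_, _]
      rw [P.root_chainTopIdx, add_comm (P.root b), ← natCast_zsmul,
        LinearIndependent.pair_add_smul_right_iff]
      exact h
    have h2 := h'.symm.abs_le
    rw [← pairingIn_eq] at h2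
    omega
  · rw [← pairingIn_eq]
    exact P.chainBotCoeff_sub_chainTopCoeff h
  · rw [P.root_add_zsmul_mem_range_iff h, mem_Icc]

theorem even_pairing_of_double {a c : idx} (hc : P.root c = (2 : ℤ) • P.root a) (b : idx) :
    ∃ k : ℤ, P.pairing b a = 2 * k := by
  have := Roots36.isTorsionFree_M P
  have := Roots36.isTorsionFree_N P
  have := Roots36.isAddTorsionFree_M P
  have := Roots36.isAddTorsionFree_N P
  refine ⟨P.pairing b c, ?_⟩
  have h1 := coroot_eq_smul_coroot_iff.mpr hc
  rw [← root_coroot_eq_pairing, ← root_coroot_eq_pairing, h1, map_smul, smul_eq_mul]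

theorem coroot_pairing_comb {a b c : idx} {p q : ℤ} (h : P.root c = p • P.root a + q • P.root b)
    (d : idx) : P.pairing c d = p * P.pairing a d + q * P.pairing b d := by
  simp only [← root_coroot_eq_pairing, h, map_add, map_zsmul, LinearMap.add_apply,
    LinearMap.smul_apply, smul_eq_mul]

theorem comb_indep {a b c : idx} (h : Indep P a b) {p q : ℤ}
    (hc : P.root c = p • P.root a + q • P.root b) (hq : q ≠ 0) : Indep P a c := by
  refine indep_of_forall P fun r s hrs => ?_
  rw [hc, smul_add, smul_smul, smul_smul, ← add_assoc, ← add_smul] at hrs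
  obtain ⟨h1, h2⟩ := LinearIndependent.pair_iff.mp h _ _ hrs
  have hs : s = 0 := (mul_eq_zero.mp h2).resolve_right hq
  subst hs
  omega

/-- The roots in a quadrant are found by adding the two roots one at a time. -/
theorem hall_of_closed {a b : idx} (h : Indep P a b) (L : ℕ → ℕ → Prop) (h11 : L 1 1)
    (h20 : P.root b + (2 : ℤ) • P.root a ∈ range P.root → L 2 1)
    (h02 : P.root a + (2 : ℤ) • P.root b ∈ range P.root → L 1 2)
    (hA : ∀ p q, L p q → (p : ℤ) • P.root a + (q : ℤ) • P.root b ∈ range P.root →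
      ((p + 1 : ℕ) : ℤ) • P.root a + (q : ℤ) • P.root b ∈ range P.root → L (p + 1) q)
    (hB : ∀ p q, L p q → (p : ℤ) • P.root a + (q : ℤ) • P.root b ∈ range P.root →
      (p : ℤ) • P.root a + ((q + 1 : ℕ) : ℤ) • P.root b ∈ range P.root → L p (q + 1))
    (c : idx) {p q : ℕ} (hp : 1 ≤ p) (hq : 1 ≤ q)
    (hc : P.root c = (p : ℤ) • P.root a + (q : ℤ) • P.root b) : L p q := by
  induction hn : p + q using Nat.strong_induction_on generalizing p q c with
  | _ n ih =>
    have hpos : 0 < Roots36.bz P c a ∨ 0 < Roots36.bz P c b := by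
      by_contra hcon
      push Not at hcon
      have h1 := Roots36.len_pos' (P := P) c
      have e : Roots36.len P c = (p : ℤ) * Roots36.bz P c a + (q : ℤ) * Roots36.bz P c b := by
        show Roots36.bz P c c = _
        have e1 := Roots36.cast_bz (P := P) c c
        have e2 := Roots36.cast_bz (P := P) c a
        have e3 := Roots36.cast_bz (P := P) c b
        rw [Int.cast_id] at e1 e2 e3
        rw [e1, e2, e3]
        nth_rw 2 [hc]
        simp only [map_add, map_zsmul, smul_eq_mul]
      nlinarith [mul_nonpos_of_nonneg_of_nonpos (show (0 : ℤ) ≤ p by omega) hcon.1,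
        mul_nonpos_of_nonneg_of_nonpos (show (0 : ℤ) ≤ q by omega) hcon.2]
    have hpair : ∀ d : idx, 0 < Roots36.bz P c d → 0 < P.pairingIn ℤ c d := fun d hd => by
      have h1 := Roots36.two_mul_bz (P := P) c d
      by_contra hle
      have h2 := mul_nonpos_of_nonneg_of_nonpos (Roots36.len_pos' (P := P) d).le (not_lt.mp hle)
      omega
    rcases hpos with h' | h'
    · obtain ⟨d, hd⟩ := Roots36.sub_root_mem (hpair a h') fun e => by
        have := h.coeff_eq (p := p) (q := q) (p' := 1) (q' := 0) (by rw [← hc, e]; simp)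
        omega
      obtain ⟨p', rfl⟩ := Nat.exists_eq_add_of_le hp
      have hd' : P.root d = (p' : ℤ) • P.root a + (q : ℤ) • P.root b := by
        rw [hd, hc]; push_cast; module
      rcases Nat.eq_zero_or_pos p' with rfl | hp'
      · rw [Nat.cast_zero, zero_smul, zero_add] at hd'
        have hdvd := root_mult_dvd_two P (a := b) (c := d) (q : ℤ) hd'
        have := Int.le_of_dvd (by norm_num) hdvd
        obtain rfl | rfl : q = 1 ∨ q = 2 := by omega
        · exact h11
        · refine h02 ⟨c, ?_⟩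
          rw [hc]; push_cast; module
      · rw [show 1 + p' = p' + 1 by omega]
        refine hA p' q (ih (p' + q) (by omega) d hp' hq hd' rfl) ⟨d, hd'⟩ ⟨c, ?_⟩
        rw [hc]; push_cast; module
    · obtain ⟨d, hd⟩ := Roots36.sub_root_mem (hpair b h') fun e => by
        have := h.coeff_eq (p := p) (q := q) (p' := 0) (q' := 1) (by rw [← hc, e]; simp)
        omega
      obtain ⟨q', rfl⟩ := Nat.exists_eq_add_of_le hq
      have hd' : P.root d = (p : ℤ) • P.root a + (q' : ℤ) • P.root b := by
        rw [hd, hc]; push_cast; module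
      rcases Nat.eq_zero_or_pos q' with rfl | hq'
      · rw [Nat.cast_zero, zero_smul, add_zero] at hd'
        have hdvd := root_mult_dvd_two P (a := a) (c := d) (p : ℤ) hd'
        have := Int.le_of_dvd (by norm_num) hdvd
        obtain rfl | rfl : p = 1 ∨ p = 2 := by omega
        · exact h11
        · refine h20 ⟨c, ?_⟩
          rw [hc]; push_cast; module
      · rw [show 1 + q' = q' + 1 by omega]
        refine hB p q' (ih (p + q') (by omega) d hp hq' hd' rfl) ⟨d, hd'⟩ ⟨c, ?_⟩
        rw [hc]; push_cast; module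

variable {a b : idx} (h : Indep P a b)
include h

/-- If only the sum occurs along both strings, it is the only root of the quadrant. -/
theorem hall_sum (ha : P.root b + (2 : ℤ) • P.root a ∉ range P.root)
    (hb : P.root a + (2 : ℤ) • P.root b ∉ range P.root)
    (c : idx) {p q : ℕ} (hp : 1 ≤ p) (hq : 1 ≤ q)
    (hc : P.root c = (p : ℤ) • P.root a + (q : ℤ) • P.root b) : p = 1 ∧ q = 1 := by
  refine hall_of_closed h (fun p q => p = 1 ∧ q = 1) ⟨rfl, rfl⟩ (fun h' => absurd h' ha)
    (fun h' => absurd h' hb) ?_ ?_ c hp hq hc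
  · rintro p q ⟨rfl, rfl⟩ - h'
    exact absurd (by convert h' using 1; push_cast; module) ha
  · rintro p q ⟨rfl, rfl⟩ - h'
    exact absurd (by convert h' using 1; push_cast; module) hb

theorem hall_B2 (hA : P.pairing b a = -2) (hB : P.pairing a b = -1)
    (c : idx) {p q : ℕ} (hp : 1 ≤ p) (hq : 1 ≤ q)
    (hc : P.root c = (p : ℤ) • P.root a + (q : ℤ) • P.root b) :
    (p = 1 ∧ q = 1) ∨ (p = 2 ∧ q = 1) ∨ (p = 2 ∧ q = 2) := by
  obtain ⟨s, t, h1, h2, h3⟩ := h.string
  obtain ⟨s', t', h1', h2', h3'⟩ := h.symm.string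
  have hab : P.root b - P.root a ∈ range P.root → 1 ≤ s := fun hh => by
    have := (h3 (-1)).mp (by convert hh using 1; module)
    omega
  have hs' : s' = 0 := by
    by_contra hne
    have hh : P.root a + (-1 : ℤ) • P.root b ∈ range P.root := (h3' (-1)).mpr ⟨by omega, by omega⟩
    obtain ⟨d, hd⟩ := hh
    have := hab ⟨P.reflectionPerm d d, by rw [Roots36.root_neg, hd]; module⟩
    omega
  have no12 : P.root a + (2 : ℤ) • P.root b ∉ range P.root := fun hh => by
    have := (h3' 2).mp hh
    omega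
  refine hall_of_closed h (fun p q => (p = 1 ∧ q = 1) ∨ (p = 2 ∧ q = 1) ∨ (p = 2 ∧ q = 2))
    (Or.inl ⟨rfl, rfl⟩) (fun _ => Or.inr (Or.inl ⟨rfl, rfl⟩)) (fun hh => absurd hh no12) ?_ ?_ c hp hq hc
  · rintro p q hpq ⟨d, hd⟩ hnext
    rcases hpq with ⟨rfl, rfl⟩ | ⟨rfl, rfl⟩ | ⟨rfl, rfl⟩
    · exact Or.inr (Or.inl ⟨rfl, rfl⟩)
    · have := (h3 3).mp (by convert hnext using 1; push_cast; module)
      omega
    · obtain ⟨S, T, k1, k2, k3⟩ := (comb_indep h hd (by norm_num)).string
      rw [coroot_pairing_comb hd a, hA, pairing_same] at k2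
      have hS : S = 0 := by
        by_contra hne
        have h12 := (k3 (-1)).mpr ⟨by omega, by omega⟩
        exact no12 (by convert h12 using 1; rw [hd]; push_cast; module)
      have := (k3 1).mp (by convert hnext using 1; rw [hd]; push_cast; module)
      push_cast at k2
      omega
  · rintro p q hpq ⟨d, hd⟩ hnext
    rcases hpq with ⟨rfl, rfl⟩ | ⟨rfl, rfl⟩ | ⟨rfl, rfl⟩
    · exact absurd (by convert hnext using 1; push_cast; module) no12
    · exact Or.inr (Or.inr ⟨rfl, rfl⟩)
    · obtain ⟨S, T, k1, k2, k3⟩ := (comb_indep h.symm (p := 2) (q := 2) (c := d)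
        (by rw [hd]; push_cast; module) (by norm_num)).string
      rw [coroot_pairing_comb hd b, hB, pairing_same] at k2
      have := (k3 1).mp (by convert hnext using 1; rw [hd]; push_cast; module)
      push_cast at k2
      omega

theorem hall_G2 (hA : P.pairing b a = -3) (hB : P.pairing a b = -1)
    (c : idx) {p q : ℕ} (hp : 1 ≤ p) (hq : 1 ≤ q)
    (hc : P.root c = (p : ℤ) • P.root a + (q : ℤ) • P.root b) :
    (p = 1 ∧ q = 1) ∨ (p = 2 ∧ q = 1) ∨ (p = 3 ∧ q = 1) ∨ (p = 3 ∧ q = 2) := by
  obtain ⟨s, t, h1, h2, h3⟩ := h.string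
  obtain ⟨s', t', h1', h2', h3'⟩ := h.symm.string
  have hab : P.root b - P.root a ∈ range P.root → 1 ≤ s := fun hh => by
    have := (h3 (-1)).mp (by convert hh using 1; module)
    omega
  have hs' : s' = 0 := by
    by_contra hne
    have hh : P.root a + (-1 : ℤ) • P.root b ∈ range P.root := (h3' (-1)).mpr ⟨by omega, by omega⟩
    obtain ⟨d, hd⟩ := hh
    have := hab ⟨P.reflectionPerm d d, by rw [Roots36.root_neg, hd]; module⟩
    omega
  have no12 : P.root a + (2 : ℤ) • P.root b ∉ range P.root := fun hh => by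
    have := (h3' 2).mp hh
    omega
  have no22 : (2 : ℤ) • P.root a + (2 : ℤ) • P.root b ∉ range P.root := by
    rintro ⟨d, hd⟩
    obtain ⟨S, T, k1, k2, k3⟩ := (comb_indep h.symm (p := 2) (q := 2) (c := d)
      (by rw [hd]; module) (by norm_num)).string
    rw [coroot_pairing_comb hd b, hB, pairing_same] at k2
    obtain ⟨e, he⟩ := (k3 (-2)).mpr ⟨by omega, by omega⟩
    obtain ⟨k, hk⟩ := even_pairing_of_double (P := P) (a := a) (c := e) (by rw [he, hd]; module) b
    omega
  refine hall_of_closed h (fun p q => (p = 1 ∧ q = 1) ∨ (p = 2 ∧ q = 1) ∨ (p = 3 ∧ q = 1) ∨ (p = 3 ∧ q = 2))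
    (Or.inl ⟨rfl, rfl⟩) (fun _ => Or.inr (Or.inl ⟨rfl, rfl⟩)) (fun hh => absurd hh no12) ?_ ?_ c hp hq hc
  · rintro p q hpq ⟨d, hd⟩ hnext
    rcases hpq with ⟨rfl, rfl⟩ | ⟨rfl, rfl⟩ | ⟨rfl, rfl⟩ | ⟨rfl, rfl⟩
    · exact Or.inr (Or.inl ⟨rfl, rfl⟩)
    · exact Or.inr (Or.inr (Or.inl ⟨rfl, rfl⟩))
    · have := (h3 4).mp (by convert hnext using 1; push_cast; module)
      omega
    · obtain ⟨S, T, k1, k2, k3⟩ := (comb_indep h hd (by norm_num)).string
      rw [coroot_pairing_comb hd a, hA, pairing_same] at k2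
      have hS : S = 0 := by
        by_contra hne
        have h22 := (k3 (-1)).mpr ⟨by omega, by omega⟩
        exact no22 (by convert h22 using 1; rw [hd]; push_cast; module)
      have := (k3 1).mp (by convert hnext using 1; rw [hd]; push_cast; module)
      push_cast at k2
      omega
  · rintro p q hpq ⟨d, hd⟩ hnext
    rcases hpq with ⟨rfl, rfl⟩ | ⟨rfl, rfl⟩ | ⟨rfl, rfl⟩ | ⟨rfl, rfl⟩
    · exact absurd (by convert hnext using 1; push_cast; module) no12
    · exact absurd (by convert hnext using 1; push_cast; module) no22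
    · exact Or.inr (Or.inr (Or.inr ⟨rfl, rfl⟩))
    · obtain ⟨S, T, k1, k2, k3⟩ := (comb_indep h.symm (p := 2) (q := 3) (c := d)
        (by rw [hd]; push_cast; module) (by norm_num)).string
      rw [coroot_pairing_comb hd b, hB, pairing_same] at k2
      have := (k3 1).mp (by convert hnext using 1; rw [hd]; push_cast; module)
      push_cast at k2
      have hS : S ≤ 1 := by
        by_contra hne
        obtain ⟨e, he⟩ := (k3 (-2)).mpr ⟨by omega, by omega⟩
        have hdvd := root_mult_dvd_two P (a := a) (c := e) 3 (by rw [he, hd]; push_cast; module)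
        norm_num at hdvd
      omega

/-- The short-root configuration of type `G₂`. -/
theorem hall_G2_short (hA : P.pairing b a = -1) (hB : P.pairing a b = -1)
    (ha : P.root b + (2 : ℤ) • P.root a ∈ range P.root)
    (c : idx) {p q : ℕ} (hp : 1 ≤ p) (hq : 1 ≤ q)
    (hc : P.root c = (p : ℤ) • P.root a + (q : ℤ) • P.root b) :
    (p = 1 ∧ q = 1) ∨ (p = 2 ∧ q = 1) ∨ (p = 1 ∧ q = 2) := by
  obtain ⟨s, t, h1, h2, h3⟩ := h.string
  obtain ⟨s', t', h1', h2', h3'⟩ := h.symm.string
  have no22 : (2 : ℤ) • P.root a + (2 : ℤ) • P.root b ∉ range P.root := by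
    rintro ⟨d, hd⟩
    obtain ⟨S, T, k1, k2, k3⟩ := (comb_indep h.symm (p := 2) (q := 2) (c := d)
      (by rw [hd]; module) (by norm_num)).string
    rw [coroot_pairing_comb hd b, hB, pairing_same] at k2
    obtain ⟨e, he⟩ := (k3 (-2)).mpr ⟨by omega, by omega⟩
    obtain ⟨k, hk⟩ := even_pairing_of_double (P := P) (a := a) (c := e) (by rw [he, hd]; module) b
    omega
  have ht := (h3 2).mp ha
  refine hall_of_closed h (fun p q => (p = 1 ∧ q = 1) ∨ (p = 2 ∧ q = 1) ∨ (p = 1 ∧ q = 2))
    (Or.inl ⟨rfl, rfl⟩) (fun _ => Or.inr (Or.inl ⟨rfl, rfl⟩)) (fun _ => Or.inr (Or.inr ⟨rfl, rfl⟩))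
    ?_ ?_ c hp hq hc
  · rintro p q hpq ⟨d, hd⟩ hnext
    rcases hpq with ⟨rfl, rfl⟩ | ⟨rfl, rfl⟩ | ⟨rfl, rfl⟩
    · exact Or.inr (Or.inl ⟨rfl, rfl⟩)
    · have := (h3 3).mp (by convert hnext using 1; push_cast; module)
      omega
    · exact absurd (by convert hnext using 1; push_cast; module) no22
  · rintro p q hpq ⟨d, hd⟩ hnext
    rcases hpq with ⟨rfl, rfl⟩ | ⟨rfl, rfl⟩ | ⟨rfl, rfl⟩
    · exact Or.inr (Or.inr ⟨rfl, rfl⟩)
    · exact absurd (by convert hnext using 1; push_cast; module) no22
    · have := (h3' 3).mp (by convert hnext using 1; push_cast; module)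
      omega

end Groth.Agent.RedPts82
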