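import Groth.Agent.RedPts82.ChevString
import Groth.Agent.RedPts82.RootString

/-!
The structure constants of a Chevalley system in the rank two configurations.
-/

universe u

open CategoryTheory MonoidalCategory CartesianMonoidalCategory MonObj GrpObj AlgebraicGeometry
open CategoryTheory.Limits

namespace Groth.Agent.RedPts82

variable {S : Scheme.{u}} {G : Over S} [GrpObj G] {D : Red.SplitRed G}

/-- A commutator formula. -/
def Formula (D : Red.SplitRed G) (α β : D.idx) {m : ℕ} (e : Fin m → D.idx) (i j : Fin m → ℕ)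
    (C : Fin m → Γ(S, ⊤)) : Prop :=
  Function.Injective e ∧
  (∀ k, 1 ≤ i k ∧ 1 ≤ j k ∧
    D.P.root (e k) = (i k : ℤ) • D.P.root α + (j k : ℤ) • D.P.root β) ∧
  ∀ (X : Over S) (x y : Γ(X.left, ⊤)),
    (gaPt x ≫ D.u α) * (gaPt y ≫ D.u β) * (gaPt x ≫ D.u α)⁻¹ = (gaPt y ≫ D.u β) *
      (List.ofFn fun k => gaPt (cst X (C k) * x ^ i k * y ^ j k) ≫ D.u (e k)).prod

theorem exists_formula {α β : D.idx} (h : Indep D.P α β) {m : ℕ} (e : Fin m → D.idx)
    (i j : Fin m → ℕ) (he : Function.Injective e)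
    (hij : ∀ k, 1 ≤ i k ∧ 1 ≤ j k ∧
      D.P.root (e k) = (i k : ℤ) • D.P.root α + (j k : ℤ) • D.P.root β)
    (hall : ∀ (c : D.idx) (p q : ℕ), 1 ≤ p → 1 ≤ q →
      D.P.root c = (p : ℤ) • D.P.root α + (q : ℤ) • D.P.root β → c ∈ Set.range e) :
    ∃ C : Fin m → Γ(S, ⊤), Formula D α β e i j C := by
  obtain ⟨l, hne, hl, ha, hb⟩ := exists_functional_indep (P := D.P) h.prod_lt
  obtain ⟨C, hC, -⟩ := comm_formula D l hl hne ha hb e i j he hij hall
  exact ⟨C, he, hij, fun X x y => hC X (gaPt x) (gaPt y) _ fun k => by simp only [gaFn_gaPt]⟩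

/-- The statement form of the commutator formula. -/
theorem Formula.eval {α β : D.idx} {m : ℕ} {e : Fin m → D.idx} {i j : Fin m → ℕ}
    {C : Fin m → Γ(S, ⊤)} (F : Formula D α β e i j C) {X : Over S} (x y : X ⟶ Red.Ga S)
    (z : Fin m → (X ⟶ Red.Ga S))
    (hz : ∀ k, Red.gaFn (z k) = cst X ((-1) ^ j k * C k) * Red.gaFn x ^ i k * Red.gaFn y ^ j k) :
    (y ≫ D.u β) * (x ≫ D.u α) * (y ≫ D.u β)⁻¹ * (x ≫ D.u α)⁻¹ =
      (List.ofFn fun k => z k ≫ D.u (e k)).prod := by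
  have h := F.2.2 X (Red.gaFn x) (-Red.gaFn y)
  rw [gaPt_gaFn, rootHom_gaPt_neg, gaPt_gaFn] at h
  have hl : (fun k => z k ≫ D.u (e k)) =
      fun k => gaPt (cst X (C k) * Red.gaFn x ^ i k * (-Red.gaFn y) ^ j k) ≫ D.u (e k) := by
    funext k
    rw [← gaPt_gaFn (z k), hz]
    congr 2
    simp only [cst, map_mul, map_pow, map_neg, map_one]
    rw [neg_pow (Red.gaFn y)]
    ring
  rw [hl]
  calc _ = (y ≫ D.u β) * ((x ≫ D.u α) * (y ≫ D.u β)⁻¹ * (x ≫ D.u α)⁻¹) := by group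
    _ = _ := by rw [h, mul_inv_cancel_left]

section Linear

variable {n : ℕ} {a : D.idx} {f : Fin (n + 1) → D.idx} (T : Str D a f)
  {Cm : Fin (n + 1) → Fin (n + 1) → Γ(S, ⊤)}
  (hCm : ∀ (X : Over S) (δ : Γ(X.left, ⊤)), δ * δ = 0 → ∀ (x : Γ(X.left, ⊤)) (z : Fin (n + 1) → Γ(X.left, ⊤)),
    (gaPt x ≫ D.u a) * lp D δ f z * (gaPt x ≫ D.u a)⁻¹ =
      lp D δ f fun k => ∑ i, cst X (Cm i k) * x ^ ((k : ℕ) - i) * z i)
include T

theorem Str.prod_terms {X : Over S} {δ : Γ(X.left, ⊤)} (hδ : δ * δ = 0) {m : ℕ} (e : Fin m → D.idx)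
    (he : Function.Injective e) (r : Fin m → Γ(X.left, ⊤)) (hr : ∀ k, r k = 0 ∨ e k ∈ Set.range f) :
    ∃ v : Fin (n + 1) → Γ(X.left, ⊤),
      (List.ofFn fun k => gaPt (δ * r k) ≫ D.u (e k)).prod = lp D δ f v ∧
        ∀ k q, e k = f q → v q = r k := by
  classical
  obtain ⟨l, H, -⟩ := T.exists_pos
  let w : Fin m → Fin (n + 1) → Γ(X.left, ⊤) := fun k q => if e k = f q then r k else 0
  refine ⟨∑ k, w k, ?_, fun k q hk => ?_⟩
  · rw [H.lp_sum D hδ]
    congr 2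
    funext k
    rcases hr k with h0 | ⟨q, hq⟩
    · rw [h0, mul_zero, rootHom_gaPt_zero, show w k = 0 from funext fun q => by simp [w, h0], lp_zero]
    · rw [show w k = Pi.single q (r k) from funext fun q' => ?_, lp_single, hq]
      by_cases h : q' = q
      · subst h; simp [w, hq]
      · rw [Pi.single_eq_of_ne h]
        exact if_neg fun h' => h (H.he (h'.symm.trans hq.symm))
  · rw [Finset.sum_apply, Finset.sum_eq_single k (fun b _ hb => if_neg fun h' => hb (he (h'.trans hk.symm)))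
      (by simp)]
    exact if_pos hk

include hCm

/-- The coefficients of degree one in the second variable. -/
theorem Str.coeff_snd {m : ℕ} {e : Fin m → D.idx} {i j : Fin m → ℕ} {C : Fin m → Γ(S, ⊤)} {q q' : Fin (n + 1)}
    (F : Formula D a (f q) e i j C) (k : Fin m) (hj : j k = 1) (hk : e k = f q') :
    C k = Cm q q' := by
  obtain ⟨l, H, ha⟩ := T.exists_pos
  obtain ⟨he, hij, hF⟩ := F
  refine sub_eq_zero.mp (eq_zero_of_delta _ fun X δ hδ => ?_)
  have h := hF X 1 δ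
  have hterm : ∀ k, cst X (C k) * (1 : Γ(X.left, ⊤)) ^ i k * δ ^ j k =
      δ * (if j k = 1 then cst X (C k) else 0) := fun k => by
    split_ifs with h1
    · rw [h1, one_pow, pow_one]; ring
    · obtain ⟨j', hj'⟩ := Nat.exists_eq_add_of_le (show 2 ≤ j k by have := (hij k).2.1; omega)
      rw [hj', pow_add, pow_two, hδ]; ring
  simp only [hterm] at h
  obtain ⟨v, hv, hv'⟩ := T.prod_terms hδ e he (fun k => if j k = 1 then cst X (C k) else 0) fun k => by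
    by_cases h1 : j k = 1
    · refine Or.inr ?_
      obtain ⟨-, -, h3⟩ := hij k
      rw [h1, Nat.cast_one, one_smul, T.hf q] at h3
      have h4 : D.P.root (e k) = D.P.root (f 0) + (((q : ℕ) + i k : ℕ) : ℤ) • D.P.root a := by
        rw [h3]; push_cast; module
      have hlt : (q : ℕ) + i k ≤ n := not_lt.mp fun hlt => T.htop _ hlt ⟨_, h4⟩
      exact ⟨⟨(q : ℕ) + i k, by omega⟩, D.P.root.injective (by rw [T.hf, h4])⟩
    · exact Or.inl (if_neg h1)
  have e1 : gaPt δ ≫ D.u (f q) = lp D δ f (Pi.single q 1) := by rw [lp_single, _root_.mul_one]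
  rw [hv, e1, hCm X δ hδ, ← H.lp_add D hδ] at h
  have h' := H.lp_injective D δ h q'
  have hne : q' ≠ q := fun hq => by
    obtain ⟨h1, -, h3⟩ := hij k
    rw [hk, hq, hj, Nat.cast_one, one_smul] at h3
    have h4 : (i k : ℤ) • D.P.root a = 0 := by simpa using h3.symm
    have := congrArg l h4
    simp only [map_zsmul, map_zero, smul_eq_mul, mul_eq_zero] at this
    omega
  simp only [Pi.single_apply, mul_ite, mul_zero, Finset.sum_ite_eq', Finset.mem_univ, if_true, one_pow,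
    _root_.mul_one, Pi.add_apply, if_neg hne, hv' k q' hk, if_pos hj, zero_add] at h'
  rw [cst, map_sub]
  linear_combination -h'

/-- The coefficients of degree one in the first variable. -/
theorem Str.coeff_fst {m : ℕ} {e : Fin m → D.idx} {i j : Fin m → ℕ} {C : Fin m → Γ(S, ⊤)} {q q' : Fin (n + 1)}
    (F : Formula D (f q) a e i j C) (k : Fin m) (hi : i k = 1) (hk : e k = f q') :
    (-1) ^ j k * C k = Cm q q' := by
  obtain ⟨l, H, ha⟩ := T.exists_pos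
  obtain ⟨he, hij, hF⟩ := F
  refine sub_eq_zero.mp (eq_zero_of_delta _ fun X δ hδ => ?_)
  have h := hF X δ (-1)
  have hterm : ∀ k, cst X (C k) * δ ^ i k * (-1 : Γ(X.left, ⊤)) ^ j k =
      δ * (if i k = 1 then cst X (C k) * (-1) ^ j k else 0) := fun k => by
    split_ifs with h1
    · rw [h1, pow_one]; ring
    · obtain ⟨j', hj'⟩ := Nat.exists_eq_add_of_le (show 2 ≤ i k by have := (hij k).1; omega)
      rw [hj', pow_add, pow_two, hδ]; ring
  simp only [hterm] at h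
  obtain ⟨v, hv, hv'⟩ := T.prod_terms hδ e he (fun k => if i k = 1 then cst X (C k) * (-1) ^ j k else 0) fun k => by
    by_cases h1 : i k = 1
    · refine Or.inr ?_
      obtain ⟨-, -, h3⟩ := hij k
      rw [h1, Nat.cast_one, one_smul, T.hf q] at h3
      have h4 : D.P.root (e k) = D.P.root (f 0) + (((q : ℕ) + j k : ℕ) : ℤ) • D.P.root a := by
        rw [h3]; push_cast; module
      have hlt : (q : ℕ) + j k ≤ n := not_lt.mp fun hlt => T.htop _ hlt ⟨_, h4⟩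
      exact ⟨⟨(q : ℕ) + j k, by omega⟩, D.P.root.injective (by rw [T.hf, h4])⟩
    · exact Or.inl (if_neg h1)
  have e2 : (gaPt (1 : Γ(X.left, ⊤)) ≫ D.u a) * (gaPt δ ≫ D.u (f q)) * (gaPt 1 ≫ D.u a)⁻¹ =
      (List.ofFn fun k => gaPt (δ * (if i k = 1 then cst X (C k) * (-1) ^ j k else 0)) ≫ D.u (e k)).prod *
        (gaPt δ ≫ D.u (f q)) := by
    rw [rootHom_gaPt_neg] at h
    generalize gaPt (1 : Γ(X.left, ⊤)) ≫ D.u a = Pb at h ⊢
    generalize gaPt δ ≫ D.u (f q) = Pg at h ⊢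
    calc Pb * Pg * Pb⁻¹ = Pb * (Pg * Pb⁻¹ * Pg⁻¹) * Pg := by group
      _ = _ := by rw [h, mul_inv_cancel_left]
  have e1 : gaPt δ ≫ D.u (f q) = lp D δ f (Pi.single q 1) := by rw [lp_single, _root_.mul_one]
  rw [hv, e1, hCm X δ hδ, ← H.lp_add D hδ] at e2
  have h' := H.lp_injective D δ e2 q'
  have hne : q' ≠ q := fun hq => by
    obtain ⟨-, h1, h3⟩ := hij k
    rw [hk, hq, hi, Nat.cast_one, one_smul] at h3
    have h4 : (j k : ℤ) • D.P.root a = 0 := by simpa using h3.symm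
    have := congrArg l h4
    simp only [map_zsmul, map_zero, smul_eq_mul, mul_eq_zero] at this
    omega
  simp only [Pi.single_apply, mul_ite, mul_zero, Finset.sum_ite_eq', Finset.mem_univ, if_true, one_pow,
    _root_.mul_one, Pi.add_apply, if_neg hne, hv' k q' hk, if_pos hi, add_zero] at h'
  rw [cst, map_sub, map_mul, map_pow, map_neg, map_one]
  linear_combination -h'

end Linear

theorem exists_str {a g : D.idx} (h : Indep D.P a g) (n : ℕ)
    (hb : D.P.root g - D.P.root a ∉ Set.range D.P.root) (hp : D.P.pairing g a = -(n : ℤ)) :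
    ∃ f : Fin (n + 1) → D.idx, f 0 = g ∧ Str D a f := by
  obtain ⟨s, t, h1, h2, h3⟩ := h.string
  have hs : s = 0 := by
    by_contra hne
    obtain ⟨d, hd⟩ := (h3 (-1)).mpr ⟨by omega, by omega⟩
    exact hb ⟨d, by rw [hd]; module⟩
  subst hs
  have hmem : ∀ k : Fin (n + 1), ∃ d, D.P.root d = D.P.root g + ((k : ℕ) : ℤ) • D.P.root a := fun k =>
    (h3 _).mpr ⟨by omega, by have := k.isLt; omega⟩
  choose f hf using hmem
  have h0 : f 0 = g := D.P.root.injective (by rw [hf]; simp)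
  refine ⟨f, h0, fun k => by rw [hf, h0], fun p hp' => ?_, fun p hp' => ?_, by rw [h0, hp], by
    rw [h0]; exact h.symm.prod_lt⟩
  · rw [h0]
    intro hh
    have := (h3 _).mp hh
    omega
  · rw [h0]
    intro hh
    have := (h3 (-(p : ℤ))).mp (by convert hh using 1; module)
    omega

/-- An integer up to sign. -/
def IsSgn (r : Γ(S, ⊤)) (k : ℤ) : Prop := ∃ s : ℤ, (s = 1 ∨ s = -1) ∧ r = ((s * k : ℤ) : Γ(S, ⊤))

theorem IsSgn.neg {r : Γ(S, ⊤)} {k : ℤ} : IsSgn r k → IsSgn (-r) k := fun ⟨s, hs, h⟩ =>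
  ⟨-s, by omega, by rw [h, neg_mul, Int.cast_neg]⟩

theorem sgn_sq {s : ℤ} (h : s = 1 ∨ s = -1) : (s : Γ(S, ⊤)) * s = 1 := by
  rcases h with rfl | rfl <;> simp

theorem IsSgn.neg_pow {r : Γ(S, ⊤)} {k : ℤ} (h : IsSgn r k) (j : ℕ) : IsSgn ((-1) ^ j * r) k := by
  rcases neg_one_pow_eq_or Γ(S, ⊤) j with e | e <;> rw [e]
  · rwa [_root_.one_mul]
  · rw [neg_one_mul]; exact h.neg

theorem IsSgn.of_neg_pow {r : Γ(S, ⊤)} {k : ℤ} {j : ℕ} (h : IsSgn ((-1) ^ j * r) k) : IsSgn r k := by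
  have := h.neg_pow j
  rwa [← _root_.mul_assoc, ← pow_add, ← two_mul, pow_mul, neg_one_sq, one_pow, _root_.one_mul] at this

theorem IsSgn.sign_mul {r : Γ(S, ⊤)} {k : ℤ} (h : IsSgn r k) {s : ℤ} (hs : s = 1 ∨ s = -1) :
    IsSgn ((s : Γ(S, ⊤)) * r) k := by
  rcases hs with rfl | rfl
  · rwa [Int.cast_one, _root_.one_mul]
  · rw [Int.cast_neg, Int.cast_one, neg_one_mul]; exact h.neg

theorem isSgn_sign {s : ℤ} (hs : s = 1 ∨ s = -1) : IsSgn (s : Γ(S, ⊤)) 1 :=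
  ⟨s, hs, by rw [_root_.mul_one]⟩

variable {vd : D.idx → (Red.Ga S ⟶ G)} (K : Chev D vd)
include K

/-- A string with its conjugation matrix, and the values of the matrix in the three lengths. -/
theorem Str.exists_matrix {n : ℕ} {a : D.idx} {f : Fin (n + 1) → D.idx} (T : Str D a f) :
    ∃ Cm : Fin (n + 1) → Fin (n + 1) → Γ(S, ⊤),
      (∀ (X : Over S) (δ : Γ(X.left, ⊤)), δ * δ = 0 → ∀ (x : Γ(X.left, ⊤)) (z : Fin (n + 1) → Γ(X.left, ⊤)),
        (gaPt x ≫ D.u a) * lp D δ f z * (gaPt x ≫ D.u a)⁻¹ =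
          lp D δ f fun k => ∑ i, cst X (Cm i k) * x ^ ((k : ℕ) - i) * z i) ∧
      IsSgn (Cm 0 (Fin.last n)) 1 ∧
      (n = 2 → ∀ i j k : Fin (n + 1), (i : ℕ) = 0 → (j : ℕ) = 1 → (k : ℕ) = 2 →
        IsSgn (Cm i j) 1 → IsSgn (Cm j k) 2) ∧
      (n = 3 → ∀ i j k m : Fin (n + 1), (i : ℕ) = 0 → (j : ℕ) = 1 → (k : ℕ) = 2 → (m : ℕ) = 3 →
        IsSgn (Cm i j) 1 → IsSgn (Cm i k) 1 ∧ IsSgn (Cm j k) 2 ∧ IsSgn (Cm j m) 3 ∧ IsSgn (Cm k m) 3) := by
  obtain ⟨C, Dm, s, hs, hC0, hC1, hD0, hD1, hC, hN, hH⟩ := T.exists_coeffs K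
  have hrow : ∀ j, C 0 j = (s 0 : Γ(S, ⊤)) * Dm (Fin.last n) j := fun j => by
    rw [hN 0 j, Fin.rev_zero, Finset.sum_eq_single (Fin.last n)]
    · rw [hC1, Nat.sub_self, pow_zero, _root_.one_mul, _root_.one_mul]
    · intro b _ hb
      rw [hC0 _ _ (lt_of_le_of_ne (Fin.le_last b) hb), zero_mul, zero_mul]
    · simp
  refine ⟨C, hC, ?_, ?_, ?_⟩
  · rw [hrow, hD1, _root_.mul_one]
    exact isSgn_sign (hs 0)
  · rintro rfl i j k hi hj hk hone
    obtain rfl : i = 0 := Fin.ext hi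
    obtain rfl : j = 1 := Fin.ext hj
    obtain rfl : k = 2 := Fin.ext hk
    obtain ⟨e, he, h01⟩ := hone
    rw [_root_.mul_one] at h01
    have r1 := hrow 1
    have hH22 := hH 2 2
    simp [Fin.sum_univ_three, stepOne, hC1, hC0 2 0 (by decide), hC0 2 1 (by decide)] at hH22
    rw [h01, show Fin.last 2 = (2 : Fin 3) from rfl] at r1
    refine ⟨s 0 * e, by rcases hs 0 with h | h <;> rcases he with h' | h' <;> simp [h, h'], ?_⟩
    have q1 := sgn_sq (S := S) (hs 0)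
    have q2 := sgn_sq (S := S) he
    push_cast
    linear_combination ((s 0 : Γ(S, ⊤)) * e) * hH22 + ((e : Γ(S, ⊤)) * C 1 2) * r1 - (C 1 2) * q2
  · rintro rfl i j k m hi hj hk hm hone
    obtain rfl : i = 0 := Fin.ext hi
    obtain rfl : j = 1 := Fin.ext hj
    obtain rfl : k = 2 := Fin.ext hk
    obtain rfl : m = 3 := Fin.ext hm
    obtain ⟨e, he, h01⟩ := hone
    rw [_root_.mul_one] at h01
    have r1 := hrow 1
    have r2 := hrow 2
    rw [show Fin.last 3 = (3 : Fin 4) from rfl] at r1 r2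
    rw [h01] at r1
    have h33 := hH 3 3
    simp [Fin.sum_univ_four, stepOne, hC1, hC0 3 0 (by decide), hC0 3 1 (by decide), hC0 3 2 (by decide)] at h33
    have h01' := hH 0 1
    simp [Fin.sum_univ_four, stepOne, h01] at h01'
    have n11 := hN 1 1
    have n12 := hN 1 2
    have n13 := hN 1 3
    simp [Fin.sum_univ_four, hC1, hD1, show (1 : Fin 4).rev = 2 from rfl, hC0 2 0 (by decide),
      hC0 2 1 (by decide), hD0 2 3 (by decide)] at n11 n12 n13
    have q0 := sgn_sq (S := S) (hs 0)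
    have q1 := sgn_sq (S := S) (hs 1)
    have qe := sgn_sq (S := S) he
    have hD32 : Dm 3 2 = (s 0 : Γ(S, ⊤)) * C 0 2 := by linear_combination (-(s 0 : Γ(S, ⊤))) * r2 - Dm 3 2 * q0
    have hD31 : Dm 3 1 = (s 0 : Γ(S, ⊤)) * e := by linear_combination (-(s 0 : Γ(S, ⊤))) * r1 - Dm 3 1 * q0
    have hC02 : C 0 2 = -(s 1 : Γ(S, ⊤)) * e := by
      linear_combination C 0 2 * n11 - (s 1 : Γ(S, ⊤)) * h01' - (C 0 2 * (s 1 : Γ(S, ⊤)) * C 2 3) * hD31 +
        ((s 1 : Γ(S, ⊤)) * C 2 3 * e) * hD32 - ((s 1 : Γ(S, ⊤)) * e) * h33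
    have hC23 : C 2 3 = 3 * (s 0 : Γ(S, ⊤)) * C 0 2 := by
      linear_combination (C 0 2 * (s 0 : Γ(S, ⊤))) * h33 - (C 2 3 * C 0 2 * (s 0 : Γ(S, ⊤))) * hD32 -
        (C 2 3 * ((s 0 : Γ(S, ⊤)) * s 0) * (C 0 2 - (s 1 : Γ(S, ⊤)) * e)) * hC02 - C 2 3 * q0 -
        (C 2 3 * ((s 0 : Γ(S, ⊤)) * s 0)) * q1 -
        (C 2 3 * ((s 0 : Γ(S, ⊤)) * s 0) * ((s 1 : Γ(S, ⊤)) * s 1)) * qe
    have hC12 : C 1 2 = -2 * (s 1 : Γ(S, ⊤)) := by
      linear_combination n12 - (s 1 : Γ(S, ⊤)) * h33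
    have g2 : IsSgn (C 0 2) 1 := ⟨-(s 1 * e), by rcases hs 1 with h | h <;> rcases he with h' | h' <;> simp [h, h'],
      by rw [hC02]; push_cast; ring⟩
    have g23 : IsSgn (C 2 3) 3 := by
      obtain ⟨t, ht, ht'⟩ := g2
      refine ⟨s 0 * t, by rcases hs 0 with h | h <;> rcases ht with h' | h' <;> simp [h, h'], ?_⟩
      rw [hC23, ht']; push_cast; ring
    refine ⟨g2, ⟨-s 1, (hs 1).elim (fun h => Or.inr (by rw [h])) (fun h => Or.inl (by rw [h]; rfl)), by rw [hC12]; push_cast; ring⟩, ?_, g23⟩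
    rw [n13]
    obtain ⟨t, ht, ht'⟩ := g23
    refine ⟨-(s 1 * t), by rcases hs 1 with h | h <;> rcases ht with h' | h' <;> simp [h, h'], ?_⟩
    rw [ht']; push_cast; ring

end Groth.Agent.RedPts82
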