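import Groth.Agent.Roots36.Basic
import Groth.Agent.Roots36.Exists

/-!
A closed set of roots containing no opposite pair is contained in a system of positive roots.
-/

set_option autoImplicit false
set_option linter.unusedSectionVars false

open Set Function RootPairing
open scoped Classical

namespace Groth.Agent.RedPts82

variable {ι M N : Type} [AddCommGroup M] [AddCommGroup N] {P : RootPairing ι ℤ M N} [Fintype ι]

/-- No non-empty sum of roots of a closed asymmetric set is zero. -/
theorem sum_ne_zero {R' : Set ι} (hcl : RootD.IsClosedSub P R') (hneg : ∀ i ∈ R', Roots36.neg P i ∉ R')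
    (s : Multiset ι) (hs : s ≠ 0) (hmem : ∀ i ∈ s, i ∈ R') : (s.map P.root).sum ≠ 0 := by
  induction hn : Multiset.card s using Nat.strong_induction_on generalizing s with
  | _ n ih =>
    intro h0
    obtain ⟨i, t, rfl⟩ : ∃ i t, s = i ::ₘ t := ⟨_, _, (Multiset.cons_erase (Multiset.exists_mem_of_ne_zero hs).choose_spec).symm⟩
    have hi := hmem i (Multiset.mem_cons_self i t)
    have hsum : (P.coroot' i (t.map P.root).sum) = (t.map fun j => P.pairingIn ℤ j i).sum := by
      rw [map_multiset_sum, Multiset.map_map]
      refine congrArg _ (Multiset.map_congr rfl fun j _ => ?_)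
      show P.coroot' i (P.root j) = _
      rw [root_coroot'_eq_pairing, Roots36.pairing_eq_cast]
      simp
    have hneg' : (t.map fun j => P.pairingIn ℤ j i).sum = -2 := by
      rw [← hsum]
      have := congrArg (P.coroot' i) h0
      rw [Multiset.map_cons, Multiset.sum_cons, map_add, map_zero, root_coroot'_eq_pairing, pairing_same] at this
      linarith
    obtain ⟨j, hj, hjneg⟩ : ∃ j ∈ t, P.pairingIn ℤ j i < 0 := by
      by_contra h
      push Not at h
      have : 0 ≤ (t.map fun j => P.pairingIn ℤ j i).sum := Multiset.sum_nonneg fun x hx => by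
        obtain ⟨j, hj, rfl⟩ := Multiset.mem_map.mp hx; exact h j hj
      omega
    have hjm := hmem j (Multiset.mem_cons_of_mem hj)
    have hne : P.root j ≠ -P.root i := fun e => hneg i hi (by
      rwa [show Roots36.neg P i = j from P.root.injective (by rw [Roots36.root_neg, e])])
    obtain ⟨k, hk⟩ := Roots36.add_root_mem hjneg hne
    have hkm : k ∈ R' := hcl hjm hi hk
    obtain ⟨t', rfl⟩ : ∃ t', t = j ::ₘ t' := ⟨_, (Multiset.cons_erase hj).symm⟩
    refine ih (Multiset.card (k ::ₘ t')) (by subst hn; simp) (k ::ₘ t') (Multiset.cons_ne_zero)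
      (fun x hx => ?_) rfl ?_
    · rcases Multiset.mem_cons.mp hx with rfl | hx
      · exact hkm
      · exact hmem x (Multiset.mem_cons_of_mem (Multiset.mem_cons_of_mem hx))
    · rw [Multiset.map_cons, Multiset.sum_cons, hk]
      rw [Multiset.map_cons, Multiset.map_cons, Multiset.sum_cons, Multiset.sum_cons] at h0
      rw [← h0]; abel

/-- A closed asymmetric set of roots lies in a closed asymmetric set meeting each opposite pair. -/
theorem exists_cover {R' : Set ι} (hcl : RootD.IsClosedSub P R') (hneg : ∀ i ∈ R', Roots36.neg P i ∉ R') :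
    ∃ T, R' ⊆ T ∧ RootD.IsClosedSub P T ∧ (∀ i, i ∈ T ∨ Roots36.neg P i ∈ T) ∧ ∀ i ∈ T, Roots36.neg P i ∉ T := by
  induction hn : R'ᶜ.ncard using Nat.strong_induction_on generalizing R' with
  | _ n ih =>
    by_cases hc : ∀ i, i ∈ R' ∨ Roots36.neg P i ∈ R'
    · exact ⟨R', subset_rfl, hcl, hc, hneg⟩
    push Not at hc
    obtain ⟨a, ha, ha'⟩ := hc
    let ext : ι → Set ι := fun e => {r | P.root r ∈ AddSubmonoid.closure (P.root '' insert e R')}
    have hsub : ∀ e, insert e R' ⊆ ext e := fun e r hr => AddSubmonoid.subset_closure ⟨r, hr, rfl⟩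
    have hcl' : ∀ e, RootD.IsClosedSub P (ext e) := fun e i j k hi hj h => by
      show P.root k ∈ AddSubmonoid.closure _
      rw [h]; exact add_mem hi hj
    by_cases hex : ∃ e, e ∉ R' ∧ ∀ r ∈ ext e, Roots36.neg P r ∉ ext e
    · obtain ⟨e, he, hext⟩ := hex
      have hlt : (ext e)ᶜ.ncard < n := by
        rw [← hn]
        refine Set.ncard_lt_ncard ⟨compl_subset_compl.mpr ((subset_insert e R').trans (hsub e)), fun h => ?_⟩
          (Set.toFinite _)
        exact h he (hsub e (mem_insert e R'))
      obtain ⟨T, hT, h⟩ := ih _ hlt (hcl' e) hext rfl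
      exact ⟨T, ((subset_insert e R').trans (hsub e)).trans hT, h⟩
    push Not at hex
    have decomp : ∀ e, ∀ x ∈ AddSubmonoid.closure (P.root '' insert e R'),
        ∃ (m : ℕ) (s : Multiset ι), (∀ i ∈ s, i ∈ R') ∧ x = m • P.root e + (s.map P.root).sum := fun e x hx => by
      induction hx using AddSubmonoid.closure_induction with
      | mem y hy =>
        obtain ⟨r, hr, rfl⟩ := hy
        rcases hr with rfl | hr
        · exact ⟨1, 0, by simp, by simp⟩
        · exact ⟨0, {r}, by simp [hr], by simp⟩
      | zero => exact ⟨0, 0, by simp, by simp⟩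
      | add x y _ _ hx hy =>
        obtain ⟨m, s, hs, rfl⟩ := hx
        obtain ⟨m', s', hs', rfl⟩ := hy
        refine ⟨m + m', s + s', fun i hi => ?_, ?_⟩
        · rcases Multiset.mem_add.mp hi with h | h
          · exact hs i h
          · exact hs' i h
        · rw [Multiset.map_add, Multiset.sum_add, add_nsmul]; abel
    have rel : ∀ e, e ∉ R' → ∃ (m : ℕ) (s : Multiset ι), 0 < m ∧ (∀ i ∈ s, i ∈ R') ∧
        m • P.root e + (s.map P.root).sum = 0 := fun e he => by
      obtain ⟨r, hr, hr'⟩ := hex e he
      obtain ⟨m, s, hs, h⟩ := decomp e _ hr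
      obtain ⟨m', s', hs', h'⟩ := decomp e _ hr'
      have h0 : (m + m') • P.root e + ((s + s').map P.root).sum = 0 := by
        rw [Roots36.root_neg] at h'
        rw [Multiset.map_add, Multiset.sum_add, add_nsmul]
        have := congrArg₂ (· + ·) h.symm h'.symm
        simp only [add_neg_cancel] at this
        rw [← this]; abel
      have hss : ∀ i ∈ s + s', i ∈ R' := fun i hi => by
        rcases Multiset.mem_add.mp hi with h | h
        · exact hs i h
        · exact hs' i h
      rcases Nat.eq_zero_or_pos (m + m') with hm | hm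
      · exfalso
        obtain ⟨hm1, hm2⟩ : m = 0 ∧ m' = 0 := by omega
        subst hm1 hm2
        simp only [zero_nsmul, zero_add] at h h0
        refine sum_ne_zero hcl hneg (s + s') (fun e0 => ?_) hss h0
        have : s = 0 := (add_eq_zero.mp e0).1
        rw [this] at h
        exact P.ne_zero r (by simpa using h)
      · exact ⟨m + m', s + s', hm, hss, h0⟩
    obtain ⟨m, s, hm, hs, h⟩ := rel a ha
    obtain ⟨m', s', hm', hs', h'⟩ := rel _ ha'
    exfalso
    rw [Roots36.root_neg] at h'
    have h0 : ((m' • s + m • s').map P.root).sum = 0 := by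
      rw [Multiset.map_add, Multiset.sum_add, Multiset.map_nsmul, Multiset.map_nsmul, Multiset.sum_nsmul,
        Multiset.sum_nsmul, eq_neg_of_add_eq_zero_right h, eq_neg_of_add_eq_zero_right h']
      module
    rcases eq_or_ne (m' • s + m • s') 0 with e0 | e0
    · have hs0 : s = 0 := by
        have := congrArg Multiset.card e0
        simp only [Multiset.card_add, Multiset.card_nsmul, Multiset.card_zero] at this
        have h1 : m' * Multiset.card s = 0 := by omega
        exact Multiset.card_eq_zero.mp ((Nat.mul_eq_zero.mp h1).resolve_left (by omega))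
      rw [hs0] at h
      have h2 : m • P.root a = m • (0 : M) := by simpa using h
      exact P.ne_zero a (Roots36.nsmul_cancel P (by omega) h2)
    · refine sum_ne_zero hcl hneg _ e0 (fun i hi => ?_) h0
      rcases Multiset.mem_add.mp hi with hh | hh
      · exact hs i (Multiset.mem_of_mem_nsmul hh)
      · exact hs' i (Multiset.mem_of_mem_nsmul hh)

end Groth.Agent.RedPts82
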