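import Mathlib.RingTheory.MvPolynomial.WeightedHomogeneous
import Mathlib.Algebra.MvPolynomial.Supported
import Mathlib.Algebra.MvPolynomial.CommRing
import Mathlib.Algebra.Algebra.Subalgebra.Basic

/-!
A subring of a positively graded polynomial ring which is stable under taking homogeneous
components and meets every coordinate in linear order is everything.
-/

namespace Groth.Agent.RedPts82

open MvPolynomial

theorem eq_top_of_weighted {R : Type*} [CommRing R] {σ : Type*} [Finite σ] [DecidableEq σ] (d : σ → ℕ)
    (hd : Function.Injective d) (hpos : ∀ k, 0 < d k) (B : Subalgebra R (MvPolynomial σ R))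
    (hB : ∀ f ∈ B, ∀ n, weightedHomogeneousComponent d n f ∈ B)
    (hlin : ∀ k, ∃ f ∈ B, coeff (Finsupp.single k 1) f = 1) : B = ⊤ := by
  classical
  suffices h : ∀ n k, d k = n → (X k : MvPolynomial σ R) ∈ B by
    rw [eq_top_iff, ← MvPolynomial.adjoin_range_X, Algebra.adjoin_le_iff]
    rintro _ ⟨k, rfl⟩
    exact h _ k rfl
  intro n
  induction n using Nat.strong_induction_on with
  | _ n ih =>
  intro k hk
  obtain ⟨f, hf, hf1⟩ := hlin k
  set p := weightedHomogeneousComponent d n f with hp
  have hsum : p - X k ∈ B := by
    rw [MvPolynomial.as_sum (p - (X k : MvPolynomial σ R))]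
    refine Subalgebra.sum_mem _ fun e he => ?_
    have hpc : coeff (Finsupp.single k 1) p = 1 := by
      rw [hp, coeff_weightedHomogeneousComponent, if_pos (by simp [Finsupp.weight_single, hk]), hf1]
    have hne : e ≠ Finsupp.single k 1 := by
      rintro rfl
      rw [mem_support_iff, coeff_sub, hpc, coeff_X', if_pos rfl, sub_self] at he
      exact he rfl
    have hwe : Finsupp.weight d e = n := by
      by_contra hwe
      rw [mem_support_iff, coeff_sub, hp, coeff_weightedHomogeneousComponent, if_neg hwe, coeff_X',
        if_neg (Ne.symm hne), sub_zero] at he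
      exact he rfl
    rw [monomial_eq]
    refine mul_mem (Subalgebra.algebraMap_mem B _) (Subalgebra.prod_mem _ fun l hl => pow_mem ?_ _)
    have hl' : e l ≠ 0 := Finsupp.mem_support_iff.mp hl
    have hle : d l * e l ≤ n := by
      rw [← hwe, Finsupp.weight_apply, Finsupp.sum]
      have := Finset.single_le_sum (f := fun j => e j • d j) (fun _ _ => Nat.zero_le _) hl
      simpa [mul_comm] using this
    refine ih (d l) ?_ l rfl
    rcases lt_or_eq_of_le ((Nat.le_mul_of_pos_right _ (Nat.pos_of_ne_zero hl')).trans hle) with h | h
    · exact h
    exfalso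
    have hlk : l = k := hd (h.trans hk.symm)
    subst hlk
    apply hne
    have he1 : e l = 1 := by
      have : d l * e l ≤ d l * 1 := by rw [_root_.mul_one]; exact hle.trans h.ge
      have := Nat.le_of_mul_le_mul_left this (hpos l)
      omega
    ext j
    by_cases hj : l = j
    · subst hj; simp [he1]
    rw [Finsupp.single_eq_of_ne (Ne.symm hj)]
    by_contra hej
    have h2 : e l • d l + e j • d j ≤ Finsupp.weight d e := by
      rw [Finsupp.weight_apply, Finsupp.sum]
      have := Finset.sum_le_sum_of_subset (f := fun j => e j • d j)
        (show ({l, j} : Finset σ) ⊆ e.support by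
          intro x hx
          simp only [Finset.mem_insert, Finset.mem_singleton] at hx
          rcases hx with rfl | rfl
          · exact hl
          · exact Finsupp.mem_support_iff.mpr hej)
      rwa [Finset.sum_pair hj] at this
    rw [he1, hwe, smul_eq_mul, smul_eq_mul, _root_.one_mul, h] at h2
    have := Nat.mul_pos (Nat.pos_of_ne_zero hej) (hpos j)
    omega
  have := sub_mem (hB f hf n) hsum
  simpa [hp] using this

end Groth.Agent.RedPts82
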