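import Groth.Agent.RedPts82.Contract
import Groth.Agent.RedPts82.MvCoord
import Groth.Agent.RedPts82.GradedSurj
import Mathlib.AlgebraicGeometry.Morphisms.ClosedImmersion
import Mathlib.Algebra.BigOperators.Group.List.Lemmas

/-!
An ordered product of contracted one-parameter subgroups with distinct positive weights is a closed
immersion.
-/

universe u

open CategoryTheory MonoidalCategory CartesianMonoidalCategory MonObj GrpObj AlgebraicGeometry
open CategoryTheory.Limits

namespace Groth.Agent.RedPts82

variable {S : Scheme.{u}} {G : Over S} [GrpObj G]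

/-- One-parameter subgroups scaled with positive weights by a cocharacter. -/
structure Weighted (ν : Red.Gm S ⟶ G) {m : ℕ} (d : Fin m → ℕ) (u : Fin m → (Red.Ga S ⟶ G)) : Prop where
  hd : Function.Injective d
  hpos : ∀ k, 0 < d k
  zero : ∀ k (X : Over S), gaPt (X := X) 0 ≫ u k = 1
  closed : ∀ k, IsClosedImmersion (u k).left
  conj : ∀ k (Z : Over S) (t : Z ⟶ Red.Gm S) (x : Z ⟶ Red.Ga S),
    (t ≫ ν) * (x ≫ u k) * (t ≫ ν)⁻¹ = gaPt (Red.gmFn t ^ d k * Red.gaFn x) ≫ u k

variable {ν : Red.Gm S ⟶ G} {m : ℕ} {d : Fin m → ℕ} {u : Fin m → (Red.Ga S ⟶ G)}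

theorem list_prod_single {M : Type*} [Monoid M] {n : ℕ} (f : Fin n → M) (k : Fin n)
    (h : ∀ j, j ≠ k → f j = 1) : (List.ofFn f).prod = f k := by
  induction n with
  | zero => exact k.elim0
  | succ n ih =>
    rw [List.ofFn_succ, List.prod_cons]
    revert h
    refine Fin.cases ?_ (fun j => ?_) k
    · intro h
      rw [List.prod_eq_one, _root_.mul_one]
      intro a ha
      obtain ⟨l, rfl⟩ := (List.mem_ofFn' _ _).mp ha
      exact h _ (Fin.succ_ne_zero l)
    · intro h
      rw [h 0 (Fin.succ_ne_zero j).symm, _root_.one_mul,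
        ih (fun l => f l.succ) j fun l hl => h _ fun e => hl (Fin.succ_inj.mp e)]

theorem conj_list_prod {M : Type*} [Group M] (a : M) {n : ℕ} (f : Fin n → M) :
    a * (List.ofFn f).prod * a⁻¹ = (List.ofFn fun k => a * f k * a⁻¹).prod := by
  induction n with
  | zero => simp
  | succ n ih =>
    rw [List.ofFn_succ, List.ofFn_succ, List.prod_cons, List.prod_cons, ← ih fun l => f l.succ]
    group

theorem Weighted.prodMap_axis (H : Weighted ν d u) {W : Over S} (k : Fin m) (x : W ⟶ Red.Ga S)
    (w : W ⟶ RedSub.pow (Red.Ga S) m)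
    (hw : ∀ l, w ≫ powProj (Red.Ga S) m l = if l = k then x else gaPt 0) :
    w ≫ RedSub.prodMap (Red.Ga S) m u = x ≫ u k := by
  rw [prodMap_pt, list_prod_single _ k fun j hj => by rw [hw, if_neg hj, H.zero], hw, if_pos rfl]

theorem Weighted.prodMap_conj (H : Weighted ν d u) {W : Over S} (t : W ⟶ Red.Gm S)
    (w w' : W ⟶ RedSub.pow (Red.Ga S) m)
    (hw : ∀ k, Red.gaFn (w' ≫ powProj (Red.Ga S) m k) =
      Red.gmFn t ^ d k * Red.gaFn (w ≫ powProj (Red.Ga S) m k)) :
    (t ≫ ν) * (w ≫ RedSub.prodMap (Red.Ga S) m u) * (t ≫ ν)⁻¹ =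
      w' ≫ RedSub.prodMap (Red.Ga S) m u := by
  rw [prodMap_pt, prodMap_pt, conj_list_prod]
  congr 2
  funext k
  rw [H.conj, ← hw, gaPt_gaFn]

theorem coeff_scale {R A : Type u} [CommRing R] [CommRing A] {σ : Type} (c : MvPolynomial σ R →+* A)
    (d : σ → ℕ) (q : MvPolynomial σ R) (n : ℕ) :
    (MvPolynomial.eval₂ (MonoidAlgebra.singleOneRingHom.comp (c.comp MvPolynomial.C))
      (fun k => MonoidAlgebra.single ((Multiplicative.ofAdd (1 : ℤ)) ^ d k) (c (MvPolynomial.X k)))
      q).coeff (Multiplicative.ofAdd (n : ℤ)) =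
      c (MvPolynomial.weightedHomogeneousComponent d n q) := by
  classical
  induction q using MvPolynomial.induction_on' with
  | add p q hp hq =>
    simp only [MvPolynomial.eval₂_add, MonoidAlgebra.coeff_add, Finsupp.add_apply, hp, hq, map_add]
  | monomial e a =>
    have hmon : MvPolynomial.eval₂ (MonoidAlgebra.singleOneRingHom.comp (c.comp MvPolynomial.C))
        (fun k => MonoidAlgebra.single ((Multiplicative.ofAdd (1 : ℤ)) ^ d k) (c (MvPolynomial.X k)))
        (MvPolynomial.monomial e a) =
        MonoidAlgebra.single (Multiplicative.ofAdd ((Finsupp.weight d e : ℕ) : ℤ))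
          (c (MvPolynomial.monomial e a)) := by
      rw [MvPolynomial.eval₂_monomial]
      have hprod : ∀ (f : σ →₀ ℕ), f.prod (fun k j =>
          (MonoidAlgebra.single ((Multiplicative.ofAdd (1 : ℤ)) ^ d k) (c (MvPolynomial.X k))) ^ j) =
          MonoidAlgebra.single (Multiplicative.ofAdd ((Finsupp.weight d f : ℕ) : ℤ))
            (c (MvPolynomial.monomial f 1)) := by
        intro f
        induction f using Finsupp.induction with
        | zero => simp [MonoidAlgebra.one_def]
        | single_add k j f hk hj ih =>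
          rw [Finsupp.prod_add_index' (fun _ => pow_zero _) (fun _ _ _ => pow_add _ _ _)]
          simp only [pow_zero, Finsupp.prod_single_index]
          rw [ih, MonoidAlgebra.single_pow, MonoidAlgebra.single_mul_single]
          congr 1
          · apply Multiplicative.toAdd.injective
            simp [Finsupp.weight_single, map_add]
          · rw [← map_pow, ← map_mul, MvPolynomial.X_pow_eq_monomial, MvPolynomial.monomial_mul,
              _root_.one_mul]
      rw [hprod e]
      show MonoidAlgebra.single (1 : Multiplicative ℤ) (c (MvPolynomial.C a)) * _ = _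
      rw [MonoidAlgebra.single_mul_single, _root_.one_mul, ← map_mul, MvPolynomial.C_mul_monomial,
        _root_.mul_one]
    rw [hmon, MonoidAlgebra.coeff_single, Finsupp.single_apply]
    by_cases h : Finsupp.weight d e = n
    · rw [if_pos (by rw [h])]
      congr 1
      ext e'
      rw [MvPolynomial.coeff_weightedHomogeneousComponent, MvPolynomial.coeff_monomial]
      by_cases he : e = e'
      · subst he; rw [if_pos rfl, if_pos h]
      · rw [if_neg he]; simp
    · rw [if_neg fun h' => h (by exact_mod_cast Multiplicative.ofAdd.injective h')]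
      symm
      rw [← map_zero c]
      congr 1
      ext e'
      rw [MvPolynomial.coeff_weightedHomogeneousComponent, MvPolynomial.coeff_monomial]
      by_cases he : e = e'
      · subst he; rw [if_neg h]; simp
      · rw [if_neg he]; simp

theorem closedImmersion_whiskerLeft (W : Over S) {B C : Over S} (f : B ⟶ C)
    (hf : IsClosedImmersion f.left) : IsClosedImmersion (W ◁ f).left := by
  rw [Over.whiskerLeft_left]
  exact MorphismProperty.pullbackMap (P := @IsClosedImmersion) (f := W.hom) (g := B.hom)
    (i₁ := 𝟙 W.left) (i₂ := f.left) inferInstance hf (Category.id_comp _).symm (Over.w f).symm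

/-- The affine case. -/
theorem Weighted.closed_affine (H : Weighted ν d u) (hG : IsAffineHom G.hom) (Y : Over S)
    [IsAffine Y.left] : IsClosedImmersion (Y ◁ RedSub.prodMap (Red.Ga S) m u).left := by
  classical
  have : IsAffineHom (fst Y G).left := inferInstanceAs (IsAffineHom (pullback.fst Y.hom G.hom))
  have : IsAffine (Y ⊗ G).left := isAffine_of_isAffineHom (fst Y G).left
  let Q := Y ⊗ G
  let P := polyMv Y m
  let π := RedSub.prodMap (Red.Ga S) m u
  let h : P ⟶ Q := lift (mvProj Y m) (mvTu Y m ≫ π)
  let e : MvPolynomial (Fin m) (Gam Y) ≃+* Γ(P.left, ⊤) :=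
    RingEquiv.ofBijective _ (mvCoordHom_bijective Y m)
  let ψ : Γ(Q.left, ⊤) →+* MvPolynomial (Fin m) (Gam Y) :=
    e.symm.toRingHom.comp h.left.appTop.hom
  have hψ : ∀ f, mvCoordHom Y m (ψ f) = h.left.appTop f := fun f => e.apply_symm_apply _
  have hψC : ∀ a, ψ ((fst Y G).left.appTop a) = MvPolynomial.C a := fun a => by
    apply (mvCoordHom_bijective Y m).1
    rw [hψ, ← mvProj_appTop]
    exact congrArg (fun k => k.left.appTop a) (lift_fst (mvProj Y m) (mvTu Y m ≫ π))
  -- the range is a subalgebra stable under taking components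
  let B : Subalgebra (Gam Y) (MvPolynomial (Fin m) (Gam Y)) :=
    { ψ.range.toSubsemiring with
      algebraMap_mem' := fun a => ⟨(fst Y G).left.appTop a, hψC a⟩ }
  have hcomp : ∀ f ∈ B, ∀ n, MvPolynomial.weightedHomogeneousComponent d n f ∈ B := by
    rintro _ ⟨f, rfl⟩ n
    let C : polyDS Q ℤ ⟶ Q := lift (polyProj Q ℤ ≫ fst Y G)
      ((polyTu Q ℤ ≫ ν) * (polyProj Q ℤ ≫ snd Y G) * (polyTu Q ℤ ≫ ν)⁻¹)
    obtain ⟨c, hc⟩ := (polyCoord_bijective Q ℤ).2 (C.left.appTop f)
    refine ⟨c.coeff (Multiplicative.ofAdd (n : ℤ)), ?_⟩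
    obtain ⟨L, hL1, hL2, hL3⟩ := exists_polyLift (polyProj P ℤ ≫ h) (polyTu P ℤ)
    obtain ⟨σ, hσ1, hσ2, hσ3⟩ := exists_mvLift (polyProj P ℤ ≫ mvProj Y m) fun k =>
      gaPt (Red.gmFn (polyTu P ℤ) ^ d k *
        Red.gaFn (polyProj P ℤ ≫ mvTu Y m ≫ powProj (Red.Ga S) m k))
    have hLC : L ≫ C = σ ≫ h := by
      have hconj := H.prodMap_conj (polyTu P ℤ) (polyProj P ℤ ≫ mvTu Y m) (σ ≫ mvTu Y m) fun k => by
        rw [Category.assoc, hσ2, gaFn_gaPt, Category.assoc]
      apply CartesianMonoidalCategory.hom_ext
      · simp only [C, h, Category.assoc, lift_fst]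
        rw [← Category.assoc L, hL1, Category.assoc, hσ1]
        simp only [h, lift_fst]
      · simp only [C, h, Category.assoc, lift_snd, MonObj.comp_mul, GrpObj.comp_inv]
        rw [← Category.assoc L (polyTu Q ℤ) ν, hL2, ← Category.assoc L (polyProj Q ℤ), hL1]
        simp only [h, Category.assoc, lift_snd] at hconj ⊢
        exact hconj
    have e0 := congrArg (fun k => k.left.appTop f) hLC
    change L.left.appTop (C.left.appTop f) = σ.left.appTop (h.left.appTop f) at e0
    rw [← hc, hL3, ← hψ, hσ3] at e0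
    have hl : evalDS (polyProj P ℤ ≫ h) (polyTu P ℤ) c =
        polyCoord P ℤ (MonoidAlgebra.mapRingHom (Multiplicative ℤ) h.left.appTop.hom c) := by
      rw [← RingHom.comp_apply]
      congr 1
      refine MonoidAlgebra.ringHom_ext (fun a => ?_) fun g => ?_
      · rw [RingHom.comp_apply, MonoidAlgebra.mapRingHom_single, ← polyProj_appTop,
          show (1 : Multiplicative ℤ) = Multiplicative.ofAdd 0 from rfl, evalDS_single, dsFn_zero]
        exact _root_.mul_one _
      · rw [RingHom.comp_apply, MonoidAlgebra.mapRingHom_single, map_one,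
          show g = Multiplicative.ofAdd (Multiplicative.toAdd g) from rfl, evalDS_single, map_one,
          _root_.one_mul, dsFn_polyTu]
    have hr : evalMv (polyProj P ℤ ≫ mvProj Y m) (fun k => gaPt (Red.gmFn (polyTu P ℤ) ^ d k *
        Red.gaFn (polyProj P ℤ ≫ mvTu Y m ≫ powProj (Red.Ga S) m k))) (ψ f) =
        polyCoord P ℤ (MvPolynomial.eval₂
          (MonoidAlgebra.singleOneRingHom.comp ((mvCoordHom Y m).comp MvPolynomial.C))
          (fun k => MonoidAlgebra.single ((Multiplicative.ofAdd (1 : ℤ)) ^ d k)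
            (mvCoordHom Y m (MvPolynomial.X k))) (ψ f)) := by
      refine DFunLike.congr_fun (f := evalMv (polyProj P ℤ ≫ mvProj Y m) fun k =>
          gaPt (Red.gmFn (polyTu P ℤ) ^ d k *
            Red.gaFn (polyProj P ℤ ≫ mvTu Y m ≫ powProj (Red.Ga S) m k)))
        (g := (polyCoord P ℤ).comp (MvPolynomial.eval₂Hom
          (MonoidAlgebra.singleOneRingHom.comp ((mvCoordHom Y m).comp MvPolynomial.C))
          (fun k => MonoidAlgebra.single ((Multiplicative.ofAdd (1 : ℤ)) ^ d k)
            (mvCoordHom Y m (MvPolynomial.X k))))) ?_ (ψ f)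
      refine MvPolynomial.ringHom_ext (fun a => ?_) fun k => ?_
      · rw [RingHom.comp_apply, MvPolynomial.eval₂Hom_C]
        refine (MvPolynomial.eval₂Hom_C _ _ a).trans ?_
        rw [Over.comp_left, Scheme.Hom.comp_appTop]
        show (polyProj P ℤ).left.appTop ((mvProj Y m).left.appTop a) = _
        rw [mvProj_appTop, polyProj_appTop]
        rfl
      · rw [RingHom.comp_apply, MvPolynomial.eval₂Hom_X']
        refine (MvPolynomial.eval₂Hom_X' _ _ k).trans ?_
        rw [gaFn_gaPt, gmFn_eq, dsFn_polyTu, gaFn_comp, gaFn_mvTu, polyProj_appTop, ← map_pow,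
          ← map_mul, MonoidAlgebra.single_pow, MonoidAlgebra.single_mul_single, one_pow,
          _root_.one_mul, _root_.mul_one]
    rw [hl, hr] at e0
    have e1 := congrArg (fun r => r.coeff (Multiplicative.ofAdd (n : ℤ)))
      ((polyCoord_bijective P ℤ).1 e0)
    simp only [MonoidAlgebra.coeff_mapRingHom] at e1
    rw [coeff_scale] at e1
    apply (mvCoordHom_bijective Y m).1
    rw [hψ]
    exact e1
  -- every coordinate appears linearly
  have hlin : ∀ k, ∃ f ∈ B, MvPolynomial.coeff (Finsupp.single k 1) f = 1 := by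
    intro k
    let b : polyGa Y ⟶ Q := (gaIso Y).hom ≫ Y ◁ u k
    have hb : IsClosedImmersion b.left := by
      have := closedImmersion_whiskerLeft Y (u k) (H.closed k)
      have : IsIso (gaIso Y).hom.left :=
        inferInstanceAs (IsIso ((Over.forget S).map (gaIso Y).hom))
      exact inferInstanceAs (IsClosedImmersion ((gaIso Y).hom.left ≫ (Y ◁ u k).left))
    obtain ⟨f, hf⟩ := (IsClosedImmersion.isAffine_surjective_of_isAffine (f := b.left)).2
      (gaCoordHom Y Polynomial.X)
    obtain ⟨a, ha1, ha2, ha3⟩ :=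
      exists_mvLift (gaProj Y) fun l => if l = k then gaTu Y else gaPt 0
    have hab : a ≫ h = b := by
      apply CartesianMonoidalCategory.hom_ext
      · simp only [b, h, gaIso, Category.assoc, lift_fst, whiskerLeft_fst, ha1]
      · simp only [b, h, gaIso, Category.assoc, lift_snd, whiskerLeft_snd, lift_snd_assoc]
        rw [← Category.assoc a]
        refine H.prodMap_axis k (gaTu Y) _ fun l => ?_
        rw [Category.assoc]
        exact ha2 l
    refine ⟨ψ f, ⟨f, rfl⟩, ?_⟩
    have e0 : a.left.appTop (h.left.appTop f) = gaCoordHom Y Polynomial.X :=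
      (congrArg (fun k => k.left.appTop f) hab).trans hf
    rw [← hψ, ha3] at e0
    have hev : evalMv (gaProj Y) (fun l => if l = k then gaTu Y else gaPt 0) (ψ f) =
        gaCoordHom Y (MvPolynomial.eval₂ Polynomial.C
          (fun l => if l = k then Polynomial.X else 0) (ψ f)) := by
      refine DFunLike.congr_fun (f := evalMv (gaProj Y) fun l => if l = k then gaTu Y else gaPt 0)
        (g := (gaCoordHom Y).comp (MvPolynomial.eval₂Hom Polynomial.C
          fun l => if l = k then Polynomial.X else 0)) ?_ (ψ f)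
      refine MvPolynomial.ringHom_ext (fun a => ?_) fun l => ?_
      · rw [RingHom.comp_apply, MvPolynomial.eval₂Hom_C, ← gaProj_appTop]
        exact MvPolynomial.eval₂Hom_C _ _ a
      · rw [RingHom.comp_apply, MvPolynomial.eval₂Hom_X']
        refine (MvPolynomial.eval₂Hom_X' _ _ l).trans ?_
        show Red.gaFn (if l = k then gaTu Y else gaPt 0) = _
        split
        · exact gaFn_gaTu Y
        · rw [gaFn_gaPt, map_zero]
    rw [hev] at e0
    have e1 := congrArg (fun q => Polynomial.coeff q 1) ((gaCoordHom_bijective Y).1 e0)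
    simp only [Polynomial.coeff_X_one] at e1
    rw [← e1]
    generalize ψ f = q
    induction q using MvPolynomial.induction_on' with
    | add p q hp hq =>
      simp only [MvPolynomial.coeff_add, MvPolynomial.eval₂_add, Polynomial.coeff_add, hp, hq]
    | monomial e c =>
      rw [MvPolynomial.eval₂_monomial, MvPolynomial.coeff_monomial, Polynomial.coeff_C_mul]
      by_cases he : ∀ l, l ≠ k → e l = 0
      · have : e = Finsupp.single k (e k) := by
          ext l
          by_cases hl : l = k
          · subst hl; simp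
          · rw [Finsupp.single_eq_of_ne hl, he l hl]
        rw [this]
        simp only [pow_zero, Finsupp.prod_single_index, if_true, Polynomial.coeff_X_pow]
        by_cases h1 : e k = 1
        · simp [h1]
        · rw [if_neg (fun h => h1 (Finsupp.single_injective k h)), if_neg (Ne.symm h1), mul_zero]
      · push Not at he
        obtain ⟨l, hl, hel⟩ := he
        rw [if_neg, Finsupp.prod, Finset.prod_eq_zero (Finsupp.mem_support_iff.mpr hel),
          Polynomial.coeff_zero, mul_zero]
        · rw [if_neg hl, zero_pow hel]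
        · rintro rfl
          rw [Finsupp.single_eq_of_ne hl] at hel
          exact hel rfl
  have htop := eq_top_of_weighted d H.hd H.hpos B hcomp hlin
  have hsurj : Function.Surjective h.left.appTop := fun r => by
    obtain ⟨p, rfl⟩ := (mvCoordHom_bijective Y m).2 r
    obtain ⟨f, hf⟩ : p ∈ B := by rw [htop]; trivial
    exact ⟨f, by rw [← hψ, hf]⟩
  have hh : IsClosedImmersion h.left := IsClosedImmersion.of_surjective_of_isAffine _ hsurj
  have e1 : Y ◁ π = (mvIso Y m).inv ≫ h := by
    rw [← cancel_epi (mvIso Y m).hom, Iso.hom_inv_id_assoc]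
    apply CartesianMonoidalCategory.hom_ext
    · simp [h, mvIso]
    · simp [h, mvIso]
  show IsClosedImmersion (Y ◁ π).left
  rw [e1]
  have : IsIso (mvIso Y m).inv.left := inferInstanceAs (IsIso ((Over.forget S).map (mvIso Y m).inv))
  exact inferInstanceAs (IsClosedImmersion ((mvIso Y m).inv.left ≫ h.left))

theorem Weighted.closed_pullback (H : Weighted ν d u) (hG : IsAffineHom G.hom) (Y : Over S)
    [IsAffine Y.left] :
    IsClosedImmersion (pullback.snd (RedSub.prodMap (Red.Ga S) m u).left (snd Y G).left) := by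
  let Pw := RedSub.pow (Red.Ga S) m
  have big : IsPullback (pullback.snd Y.hom Pw.hom) (pullback.fst Y.hom Pw.hom)
      ((RedSub.prodMap (Red.Ga S) m u).left ≫ G.hom) Y.hom := by
    rw [Over.w]; exact (IsPullback.of_hasPullback _ _).flip
  have h1 : (Y ◁ RedSub.prodMap (Red.Ga S) m u).left ≫ pullback.fst Y.hom G.hom =
      pullback.fst Y.hom Pw.hom := by
    rw [Over.whiskerLeft_left]
    exact (pullback.lift_fst _ _ _).trans (Category.comp_id _)
  have h2 : (snd Y Pw).left ≫ (RedSub.prodMap (Red.Ga S) m u).left =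
      (Y ◁ RedSub.prodMap (Red.Ga S) m u).left ≫ (snd Y G).left := by
    rw [← Over.comp_left, ← Over.comp_left, whiskerLeft_snd]
  have hsq : IsPullback (snd Y Pw).left (Y ◁ RedSub.prodMap (Red.Ga S) m u).left
      (RedSub.prodMap (Red.Ga S) m u).left (snd Y G).left :=
    IsPullback.of_bot (h₁₁ := (snd Y Pw).left) (by rw [h1]; exact big) h2
      (IsPullback.of_hasPullback Y.hom G.hom).flip
  rw [← hsq.isoPullback_inv_snd]
  have := H.closed_affine hG Y
  infer_instance

/-- An ordered product with distinct positive weights is a closed immersion. -/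
theorem Weighted.isClosedImmersion (H : Weighted ν d u) (hG : IsAffineHom G.hom) :
    IsClosedImmersion (RedSub.prodMap (Red.Ga S) m u).left := by
  have hcov : ∀ g : G.left, ∃ i y, (snd (Over.mk (S.affineCover.f i)) G).left y = g := fun g => by
    obtain ⟨i, z, hz⟩ := S.affineCover.exists_eq (G.hom g)
    obtain ⟨y, -, hy⟩ := Scheme.Pullback.exists_preimage_pullback (f := S.affineCover.f i)
      (g := G.hom) z g hz
    exact ⟨i, y, hy⟩
  have hop : ∀ i, IsOpenImmersion (snd (Over.mk (S.affineCover.f i)) G).left := fun i =>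
    inferInstanceAs (IsOpenImmersion (pullback.snd (S.affineCover.f i) G.hom))
  refine IsZariskiLocalAtTarget.of_openCover (Scheme.Cover.mkOfCovers S.affineCover.I₀
    (fun i => (Over.mk (S.affineCover.f i) ⊗ G).left)
    (fun i => (snd (Over.mk (S.affineCover.f i)) G).left) hcov hop) fun i => ?_
  exact @Weighted.closed_pullback _ _ _ _ _ _ _ H hG (Over.mk (S.affineCover.f i))
    (inferInstanceAs (IsAffine (S.affineCover.X i)))

end Groth.Agent.RedPts82
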