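import Groth.Agent.RedPts82.CommVanish

/-!
The commutator of two root groups in the coordinates of the positive part of a cell.
-/

universe u

open CategoryTheory MonoidalCategory CartesianMonoidalCategory MonObj GrpObj AlgebraicGeometry
open CategoryTheory.Limits

namespace Groth.Agent.RedPts82

variable {S : Scheme.{u}} {M : Type} [AddCommGroup M] {k : ℕ}

/-- A function of one weight, vanishing on the coordinate hyperplanes, is a monomial when only one
positive exponent has that weight. -/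
theorem exists_coeff_of_weights (τ : RedSub.pow (Red.Ga S) k ⟶ Red.Ga S) (χ : Fin k → M) (wt : M)
    (hτ : ∀ (Z : Over S) (t : Z ⟶ Red.DS S M) (w w' : Z ⟶ RedSub.pow (Red.Ga S) k),
      (∀ l, Red.gaFn (w' ≫ powProj (Red.Ga S) k l) =
        dsFn t (χ l) * Red.gaFn (w ≫ powProj (Red.Ga S) k l)) →
      Red.gaFn (w' ≫ τ) = dsFn t wt * Red.gaFn (w ≫ τ))
    (hvan : ∀ (Z : Over S) (w : Z ⟶ RedSub.pow (Red.Ga S) k) (l : Fin k),
      Red.gaFn (w ≫ powProj (Red.Ga S) k l) = 0 → Red.gaFn (w ≫ τ) = 0)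
    (e₀ : Fin k →₀ ℕ)
    (huniq : ∀ e : Fin k →₀ ℕ, (∀ l, 0 < e l) → Finsupp.weight χ e = wt → e = e₀) :
    ∃ C : Γ(S, ⊤), ∀ (Z : Over S) (w : Z ⟶ RedSub.pow (Red.Ga S) k),
      Red.gaFn (w ≫ τ) = Z.hom.appTop C * ∏ l, Red.gaFn (w ≫ powProj (Red.Ga S) k l) ^ e₀ l := by
  classical
  let one1 : 𝟙_ (Over S) ⟶ RedSub.pow (Red.Ga S) k := powTuple fun _ => gaPt 1
  let C : Γ(S, ⊤) := Red.gaFn (one1 ≫ τ)
  refine ⟨C, ?_⟩
  have key : τ = gaPt ((RedSub.pow (Red.Ga S) k).hom.appTop C *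
      ∏ l, Red.gaFn (powProj (Red.Ga S) k l) ^ e₀ l) := by
    refine hom_ext_affine fun Y hY w => gaFn_injective ?_
    rw [comp_gaPt, gaFn_gaPt, map_mul, map_prod]
    simp only [map_pow, ← gaFn_comp]
    rw [show w.left.appTop ((RedSub.pow (Red.Ga S) k).hom.appTop C) = Y.hom.appTop C from by
      conv_rhs => rw [← Over.w w, Scheme.Hom.comp_appTop]
      rfl]
    obtain ⟨p, hp⟩ := (mvCoordHom_bijective Y k).2 (Red.gaFn (mvTu Y k ≫ τ))
    have hp1 : p = MvPolynomial.monomial e₀ (MvPolynomial.coeff e₀ p) := by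
      ext e
      rw [MvPolynomial.coeff_monomial]
      split_ifs with he
      · rw [he]
      · exact coeff_eq_zero_of_weights τ χ wt hτ hvan Y p hp e
          fun h h' => he (huniq e h h').symm
    have hev : ∀ w : Y ⟶ RedSub.pow (Red.Ga S) k, Red.gaFn (w ≫ τ) =
        MvPolynomial.coeff e₀ p * ∏ l, Red.gaFn (w ≫ powProj (Red.Ga S) k l) ^ e₀ l := fun w => by
      obtain ⟨v, hv1, hv2, hv3⟩ := exists_mvLift (𝟙 Y) fun l => w ≫ powProj (Red.Ga S) k l
      have e : v ≫ mvTu Y k = w := powProj_ext fun l => by rw [Category.assoc, hv2]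
      conv_lhs => rw [← e, Category.assoc, gaFn_comp, ← hp, hv3, hp1]
      refine (MvPolynomial.eval₂Hom_monomial _ _ _ _).trans ?_
      rw [Finsupp.prod_fintype _ _ fun _ => pow_zero _]
      congr 1
    have h1 := hev (toUnit Y ≫ one1)
    simp only [one1, Category.assoc, powTuple_proj, comp_gaPt, map_one, gaFn_gaPt, one_pow,
      Finset.prod_const_one, _root_.mul_one] at h1
    rw [hev w, ← h1]
    congr 1
  intro Z w
  conv_lhs => rw [key, comp_gaPt, gaFn_gaPt, map_mul, map_prod]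
  simp only [map_pow, ← gaFn_comp]
  congr 1
  conv_rhs => rw [← Over.w w, Scheme.Hom.comp_appTop]
  rfl

section Exponents

variable {idx N : Type} [AddCommGroup N] (P : RootPairing idx ℤ M N)

theorem root_mult_dvd_two {a c : idx} (k : ℤ) (h : P.root c = k • P.root a) : k ∣ 2 := by
  refine ⟨P.pairing a c, ?_⟩
  have := congrArg (fun v => P.toLinearMap v (P.coroot c)) h
  simpa [map_zsmul] using this

/-- The exponents of a root in two roots on the same side of a functional are unique. -/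
theorem exponents_unique {a b c : idx} (l : M →+ ℤ) (ha : 0 < l (P.root a)) (hb : 0 < l (P.root b))
    [Module.Free ℤ M] {p q p' q' : ℕ} (hp : 0 < p) (hq : 0 < q) (hp' : 0 < p') (hq' : 0 < q')
    (h : P.root c = (p : ℤ) • P.root a + (q : ℤ) • P.root b)
    (h' : P.root c = (p' : ℤ) • P.root a + (q' : ℤ) • P.root b) : p = p' ∧ q = q' := by
  obtain ⟨Mm, hMm⟩ : ∃ x : ℤ, x = (p : ℤ) - p' := ⟨_, rfl⟩
  obtain ⟨Nn, hNn⟩ : ∃ x : ℤ, x = (q' : ℤ) - q := ⟨_, rfl⟩
  have hrel : Mm • P.root a = Nn • P.root b := by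
    rw [hMm, hNn, sub_smul, sub_smul, sub_eq_sub_iff_add_eq_add, ← h, add_comm, ← h']
  have hl := congrArg l hrel
  simp only [map_zsmul, smul_eq_mul] at hl
  by_cases hN : Nn = 0
  · have : Mm = 0 := by
      rw [hN, zero_mul] at hl
      exact (mul_eq_zero.mp hl).resolve_right ha.ne'
    omega
  have hb' := congrArg (fun v => P.toLinearMap v (P.coroot b)) hrel
  have ha' := congrArg (fun v => P.toLinearMap v (P.coroot a)) hrel
  simp only [map_zsmul, LinearMap.smul_apply, smul_eq_mul, RootPairing.root_coroot_eq_pairing,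
    RootPairing.pairing_same] at ha' hb'
  have hxy : P.pairing b a * P.pairing a b = 4 := by
    refine mul_left_cancel₀ hN ?_
    calc Nn * (P.pairing b a * P.pairing a b) = (Nn * P.pairing b a) * P.pairing a b := by ring
      _ = Mm * 2 * P.pairing a b := by rw [ha']
      _ = 2 * (Mm * P.pairing a b) := by ring
      _ = Nn * 4 := by rw [hb']; ring
  have hM : Mm ≠ 0 := by
    rintro rfl
    rw [zero_mul] at hl
    exact (mul_ne_zero hN hb.ne') hl.symm
  have hxpos : 0 < P.pairing b a := by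
    rcases lt_trichotomy (P.pairing b a) 0 with hx | hx | hx
    · exfalso
      rcases lt_or_gt_of_ne hN with hn | hn
      · have hMm : 0 < Mm := by nlinarith [mul_pos_of_neg_of_neg hn hx]
        nlinarith [mul_pos hMm ha, mul_pos (neg_pos.mpr hn) hb]
      · have hMm : Mm < 0 := by nlinarith [mul_pos hn (neg_pos.mpr hx)]
        nlinarith [mul_pos (neg_pos.mpr hMm) ha, mul_pos hn hb]
    · rw [hx, zero_mul] at hxy; omega
    · exact hx
  have hinj := smul_right_injective (R := ℤ) M hN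
  have hdvd : P.pairing b a ∣ 4 := ⟨_, hxy.symm⟩
  have hle : P.pairing b a ≤ 4 := Int.le_of_dvd (by norm_num) hdvd
  interval_cases hx : P.pairing b a
  · have hab : P.root a = (2 : ℤ) • P.root b := by
      refine smul_right_injective (R := ℤ) M hM ?_
      show Mm • P.root a = Mm • ((2 : ℤ) • P.root b)
      rw [smul_smul, hrel]
      congr 1; omega
    have hc := root_mult_dvd_two P (a := b) (c := c) (2 * (p : ℤ) + q) (by rw [h, hab, smul_smul, ← add_smul, mul_comm])
    have := Int.le_of_dvd (by norm_num) hc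
    omega
  · have hab : P.root b = P.root a := by
      refine hinj ?_
      show Nn • P.root b = Nn • P.root a
      rw [← hrel]
      congr 1; omega
    have hc := root_mult_dvd_two P (a := a) (c := c) ((p : ℤ) + q) (by rw [h, hab, add_smul])
    have hc' := root_mult_dvd_two P (a := a) (c := c) ((p' : ℤ) + q') (by rw [h', hab, add_smul])
    have := Int.le_of_dvd (by norm_num) hc
    have := Int.le_of_dvd (by norm_num) hc'
    omega
  · norm_num at hdvd
  · have hab : P.root b = (2 : ℤ) • P.root a := by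
      refine hinj ?_
      show Nn • P.root b = Nn • ((2 : ℤ) • P.root a)
      rw [smul_smul, ← hrel]
      congr 1; omega
    have hc := root_mult_dvd_two P (a := a) (c := c) ((p : ℤ) + 2 * q) (by rw [h, hab, smul_smul, ← add_smul, mul_comm (q : ℤ)])
    have := Int.le_of_dvd (by norm_num) hc
    omega

end Exponents

variable {G : Over S} [GrpObj G] (D : Red.SplitRed G)

/-- The commutator `u_b(y)⁻¹ u_a(x) u_b(y) u_a(x)⁻¹` in the coordinates of the roots which are positive
for a functional, with its weights and its vanishing on the axes. -/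
theorem exists_comm_coords (l : D.M →+ ℤ) (hl : Function.Injective fun c => l (D.P.root c))
    (hne : ∀ c, l (D.P.root c) ≠ 0) {a b : D.idx} (hla : 0 < l (D.P.root a)) (hlb : 0 < l (D.P.root b))
    {m : ℕ} (ep : Fin m → D.idx) (hep : Function.Injective ep)
    (hrange : ∀ c, c ∈ Set.range ep ↔ 0 < l (D.P.root c)) :
    Mono (RedSub.prodMap (Red.Ga S) m fun k => D.u (ep k)) ∧
    ∃ q : RedSub.pow (Red.Ga S) 2 ⟶ RedSub.pow (Red.Ga S) m,
      (∀ {Z : Over S} (w : Z ⟶ RedSub.pow (Red.Ga S) 2),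
        (w ≫ q) ≫ RedSub.prodMap (Red.Ga S) m (fun k => D.u (ep k)) =
          ((w ≫ powProj (Red.Ga S) 2 1) ≫ D.u b)⁻¹ * ((w ≫ powProj (Red.Ga S) 2 0) ≫ D.u a) *
            ((w ≫ powProj (Red.Ga S) 2 1) ≫ D.u b) * ((w ≫ powProj (Red.Ga S) 2 0) ≫ D.u a)⁻¹) ∧
      ∀ k, (∀ (Z : Over S) (t : Z ⟶ Red.DS S D.M) (w w' : Z ⟶ RedSub.pow (Red.Ga S) 2),
        (∀ j, Red.gaFn (w' ≫ powProj (Red.Ga S) 2 j) =
          dsFn t (![D.P.root a, D.P.root b] j) * Red.gaFn (w ≫ powProj (Red.Ga S) 2 j)) →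
        Red.gaFn (w' ≫ q ≫ powProj (Red.Ga S) m k) =
          dsFn t (D.P.root (ep k)) * Red.gaFn (w ≫ q ≫ powProj (Red.Ga S) m k)) ∧
      ∀ (Z : Over S) (w : Z ⟶ RedSub.pow (Red.Ga S) 2) (j : Fin 2),
        Red.gaFn (w ≫ powProj (Red.Ga S) 2 j) = 0 → Red.gaFn (w ≫ q ≫ powProj (Red.Ga S) m k) = 0 := by
  classical
  let en : Fin (Fintype.card {c // ¬ 0 < l (D.P.root c)}) → D.idx := fun k =>
    ((Fintype.equivFin {c // ¬ 0 < l (D.P.root c)}).symm k).1
  have hen : Function.Injective en := Subtype.val_injective.comp (Equiv.injective _)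
  have hpos : ∀ k, 0 < l (D.P.root (ep k)) := fun k => (hrange _).mp ⟨k, rfl⟩
  have hcard : Fintype.card {c // 0 < l (D.P.root c)} = m := by
    rw [← Fintype.card_fin m]
    exact (Fintype.card_of_bijective (f := fun k => (⟨ep k, hpos k⟩ : {c // 0 < l (D.P.root c)}))
      ⟨fun i j h => hep (congrArg Subtype.val h), fun c => by
        obtain ⟨k, hk⟩ := (hrange c.1).mpr c.2
        exact ⟨k, Subtype.ext hk⟩⟩).symm
  have C := cellData_of_regular D l hl en ep hen hep
    (fun k => lt_of_le_of_ne (not_lt.mp ((Fintype.equivFin {c // ¬ 0 < l (D.P.root c)}).symm k).2) (hne _))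
    hpos
  have : Mono (RedSub.cellMap D en ep) := C.mono_cell
  have : IsOpenImmersion (cellS D.i (fun k => D.u (en k)) fun k => D.u (ep k)).left :=
    cellMap_open_of_mono D en ep (by
      rw [Fintype.card_subtype_compl, ← hcard, Nat.sub_add_cancel (Fintype.card_subtype_le _)])
  have hν : IsMonHom (cochar D l) := by
    have := D.maximalTorus.1
    have : IsMonHom D.split.inv.hom.hom := D.split.inv.hom.isMonHom_hom
    unfold cochar
    infer_instance
  let π := RedSub.prodMap (Red.Ga S) m fun k => D.u (ep k)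
  have : IsClosedImmersion π.left := C.pos.isClosedImmersion C.hG
  have : Mono π := Over.mono_of_mono_left _
  let P₀ := powProj (Red.Ga S) 2 0
  let P₁ := powProj (Red.Ga S) 2 1
  have hcontr : ∀ (d : D.idx), 0 < l (D.P.root d) → ∀ {Z : Over S} (z : Z ⟶ Red.Ga S),
      Contr (cochar D l) (z ≫ D.u d) 1 := fun d hd Z z => by
    obtain ⟨k, rfl⟩ := (hrange d).mpr hd
    exact C.pos.contr_u k z
  have hc : Contr (cochar D l)
      ((P₁ ≫ D.u b)⁻¹ * (P₀ ≫ D.u a) * (P₁ ≫ D.u b) * (P₀ ≫ D.u a)⁻¹) 1 := by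
    have := (((hcontr b hlb P₁).inv.mul (hcontr a hla P₀)).mul (hcontr b hlb P₁)).mul (hcontr a hla P₀).inv
    simpa using this
  obtain ⟨q, hq⟩ := C.exists_pos hν hc
  have hpt : ∀ {Z : Over S} (w : Z ⟶ RedSub.pow (Red.Ga S) 2), (w ≫ q) ≫ π =
      ((w ≫ P₁) ≫ D.u b)⁻¹ * ((w ≫ P₀) ≫ D.u a) * ((w ≫ P₁) ≫ D.u b) * ((w ≫ P₀) ≫ D.u a)⁻¹ := by
    intro Z w
    rw [Category.assoc, hq]
    simp only [MonObj.comp_mul, GrpObj.comp_inv, Category.assoc]
  refine ⟨inferInstance, q, hpt, fun k => ⟨fun Z t w w' hw => ?_, fun Z w j hj => ?_⟩⟩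
  · have hw0 : w' ≫ P₀ = gaPt (dsFn t (D.P.root a) * Red.gaFn (w ≫ P₀)) :=
      gaFn_injective (by rw [gaFn_gaPt]; exact hw 0)
    have hw1 : w' ≫ P₁ = gaPt (dsFn t (D.P.root b) * Red.gaFn (w ≫ P₁)) :=
      gaFn_injective (by rw [gaFn_gaPt]; exact hw 1)
    let w'' := powTuple fun k =>
      gaPt (dsFn t (D.P.root (ep k)) * Red.gaFn ((w ≫ q) ≫ powProj (Red.Ga S) _ k))
    have h1 : w'' ≫ π = (w' ≫ q) ≫ π := by
      have e : (t ≫ D.split.inv.hom.hom ≫ D.i) * ((w ≫ q) ≫ π) *
          (t ≫ D.split.inv.hom.hom ≫ D.i)⁻¹ = w'' ≫ π := by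
        simp only [π, prodMap_pt, conj_list_prod, w'', powTuple_proj, splitRed_conj]
      rw [← e, hpt, hpt, hw0, hw1, ← splitRed_conj D a t (w ≫ P₀), ← splitRed_conj D b t (w ≫ P₁)]
      group
    have h2 := congrArg (fun r => Red.gaFn (r ≫ powProj (Red.Ga S) _ k)) ((cancel_mono π).mp h1)
    simp only [w'', powTuple_proj, gaFn_gaPt, Category.assoc] at h2
    exact h2.symm
  · have hw : w ≫ powProj (Red.Ga S) 2 j = gaPt 0 := gaFn_injective (by rw [hj, gaFn_gaPt])
    have h1 : (w ≫ q) ≫ π = 1 := by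
      rw [hpt]
      fin_cases j
      · rw [show w ≫ P₀ = gaPt 0 from hw, rootHom_gaPt_zero]; group
      · rw [show w ≫ P₁ = gaPt 0 from hw, rootHom_gaPt_zero]; group
    have h2 : w ≫ q = powTuple fun _ => gaPt 0 := by
      refine (cancel_mono π).mp (h1.trans ?_)
      symm
      rw [prodMap_pt, List.prod_eq_one]
      intro g hg
      obtain ⟨k, rfl⟩ := (List.mem_ofFn' _ _).mp hg
      simp only [powTuple_proj, rootHom_gaPt_zero]
    rw [← Category.assoc, h2, powTuple_proj, gaFn_gaPt]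

/-- The commutator formula for two roots on the same side of a regular functional. -/
theorem comm_formula (l : D.M →+ ℤ) (hl : Function.Injective fun c => l (D.P.root c))
    (hne : ∀ c, l (D.P.root c) ≠ 0) {α β : D.idx} (hla : 0 < l (D.P.root α)) (hlb : 0 < l (D.P.root β))
    {n : ℕ} (e : Fin n → D.idx) (i j : Fin n → ℕ) (he : Function.Injective e)
    (hij : ∀ k, 1 ≤ i k ∧ 1 ≤ j k ∧
      D.P.root (e k) = (i k : ℤ) • D.P.root α + (j k : ℤ) • D.P.root β)
    (hall : ∀ (c : D.idx) (p q : ℕ), 1 ≤ p → 1 ≤ q →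
      D.P.root c = (p : ℤ) • D.P.root α + (q : ℤ) • D.P.root β → c ∈ Set.range e) :
    ∃! C : Fin n → Γ(S, ⊤), ∀ (X : Over S) (x y : X ⟶ Red.Ga S) (z : Fin n → (X ⟶ Red.Ga S)),
      (∀ k, Red.gaFn (z k) = X.hom.appTop (C k) * Red.gaFn x ^ (i k) * Red.gaFn y ^ (j k)) →
        (x ≫ D.u α) * (y ≫ D.u β) * (x ≫ D.u α)⁻¹ =
          (y ≫ D.u β) * (List.ofFn (fun k => z k ≫ D.u (e k))).prod := by
  classical
  let R := {c : D.idx // 0 < l (D.P.root c) ∧ c ∉ Set.range e}
  let rest : Fin (Fintype.card R) → D.idx := fun k => ((Fintype.equivFin R).symm k).1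
  let ep : Fin (n + Fintype.card R) → D.idx := Fin.append e rest
  have hepos : ∀ k, 0 < l (D.P.root (e k)) := fun k => by
    obtain ⟨h1, h2, h3⟩ := hij k
    rw [h3, map_add, map_zsmul, map_zsmul, smul_eq_mul, smul_eq_mul]
    have := mul_pos (show (0 : ℤ) < i k by omega) hla
    have := mul_pos (show (0 : ℤ) < j k by omega) hlb
    omega
  have hep : Function.Injective ep := by
    refine Fin.append_injective_iff.mpr ⟨he, Subtype.val_injective.comp (Equiv.injective _), fun a b hab => ?_⟩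
    exact ((Fintype.equivFin R).symm b).2.2 ⟨a, hab⟩
  have hrange : ∀ c, c ∈ Set.range ep ↔ 0 < l (D.P.root c) := fun c => by
    constructor
    · rintro ⟨k, rfl⟩
      refine Fin.addCases (fun a => ?_) (fun a => ?_) k
      · simp only [ep, Fin.append_left]; exact hepos a
      · simp only [ep, Fin.append_right]; exact ((Fintype.equivFin R).symm a).2.1
    · intro hc
      by_cases h : c ∈ Set.range e
      · obtain ⟨k, rfl⟩ := h
        exact ⟨Fin.castAdd _ k, Fin.append_left _ _ _⟩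
      · exact ⟨Fin.natAdd n (Fintype.equivFin R ⟨c, hc, h⟩), by simp [ep, rest]⟩
  obtain ⟨hmono, q, hq, hprop⟩ := exists_comm_coords D l hl hne hla hlb ep hep hrange
  have hw : ∀ f : Fin 2 →₀ ℕ, Finsupp.weight ![D.P.root α, D.P.root β] f =
      (f 0 : ℤ) • D.P.root α + (f 1 : ℤ) • D.P.root β := fun f => by
    rw [Finsupp.weight_apply, Finsupp.sum_fintype, Fin.sum_univ_two]
    · simp [natCast_zsmul]
    · simp
  have hrest : ∀ r, q ≫ powProj (Red.Ga S) _ (Fin.natAdd n r) = gaPt 0 := fun r => by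
    refine eq_zero_of_weights _ _ _ (hprop _).1 (hprop _).2 fun f hf heq => ?_
    rw [hw, show ep (Fin.natAdd n r) = rest r from Fin.append_right _ _ _] at heq
    exact ((Fintype.equivFin R).symm r).2.2 (hall _ _ _ (hf 0) (hf 1) heq.symm)
  have hcoef : ∀ k : Fin n, ∃ C : Γ(S, ⊤), ∀ (Z : Over S) (w : Z ⟶ RedSub.pow (Red.Ga S) 2),
      Red.gaFn (w ≫ q ≫ powProj (Red.Ga S) _ (Fin.castAdd _ k)) = Z.hom.appTop C *
        (Red.gaFn (w ≫ powProj (Red.Ga S) 2 0) ^ i k * Red.gaFn (w ≫ powProj (Red.Ga S) 2 1) ^ j k) := by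
    intro k
    obtain ⟨C, hC⟩ := exists_coeff_of_weights (q ≫ powProj (Red.Ga S) _ (Fin.castAdd _ k))
      ![D.P.root α, D.P.root β] _ (hprop _).1 (hprop _).2 (Finsupp.equivFunOnFinite.symm ![i k, j k])
      fun f hf heq => by
        rw [hw, show ep (Fin.castAdd _ k) = e k from Fin.append_left _ _ _] at heq
        obtain ⟨h1, h2, h3⟩ := hij k
        obtain ⟨r1, r2⟩ := exponents_unique D.P l hla hlb (hf 0) (hf 1) h1 h2 heq.symm h3
        ext x
        fin_cases x
        · simpa using r1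
        · simpa using r2
    refine ⟨C, fun Z w => (hC Z w).trans ?_⟩
    rw [Fin.prod_univ_two]
    simp
  choose C hC using hcoef
  have hsplit : ∀ {X : Over S} (v : X ⟶ RedSub.pow (Red.Ga S) (n + Fintype.card R)),
      v ≫ RedSub.prodMap (Red.Ga S) _ (fun k => D.u (ep k)) =
        (List.ofFn fun k => (v ≫ powProj (Red.Ga S) _ (Fin.castAdd _ k)) ≫ D.u (e k)).prod *
        (List.ofFn fun k => (v ≫ powProj (Red.Ga S) _ (Fin.natAdd n k)) ≫ D.u (rest k)).prod := fun v => by
    rw [prodMap_pt, ← List.prod_append, ← List.ofFn_fin_append]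
    congr 2
    funext k
    refine Fin.addCases (fun a => ?_) (fun a => ?_) k
    · simp [ep]
    · simp [ep]
  have hone : ∀ {X : Over S} (f : Fin (Fintype.card R) → (X ⟶ Red.Ga S)),
      (∀ r, f r = gaPt 0) → (List.ofFn fun r => f r ≫ D.u (rest r)).prod = 1 := fun f hf => by
    refine List.prod_eq_one fun g hg => ?_
    obtain ⟨r, rfl⟩ := (List.mem_ofFn' _ _).mp hg
    simp only [hf, rootHom_gaPt_zero]
  have hmain : ∀ (X : Over S) (x y : X ⟶ Red.Ga S),
      ((powTuple ![x, y]) ≫ q) ≫ RedSub.prodMap (Red.Ga S) _ (fun k => D.u (ep k)) =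
        (y ≫ D.u β)⁻¹ * (x ≫ D.u α) * (y ≫ D.u β) * (x ≫ D.u α)⁻¹ := fun X x y => by
    rw [hq]
    simp only [powTuple_proj, Matrix.cons_val_zero, Matrix.cons_val_one]
  refine ⟨C, fun X x y z hz => ?_, fun C' hC' => funext fun k => ?_⟩
  · have h := hmain X x y
    rw [hsplit, hone _ (fun r => by rw [Category.assoc, hrest, comp_gaPt, map_zero]), _root_.mul_one] at h
    have hzk : ∀ k, z k = (powTuple ![x, y] ≫ q) ≫ powProj (Red.Ga S) _ (Fin.castAdd _ k) := fun k =>
      gaFn_injective (by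
        rw [hz, Category.assoc, hC]
        simp only [powTuple_proj, Matrix.cons_val_zero, Matrix.cons_val_one]
        rw [_root_.mul_assoc])
    simp only [hzk]
    rw [h]
    group
  · let o : 𝟙_ (Over S) ⟶ Red.Ga S := gaPt 1
    have happ : ∀ c : Γ(S, ⊤), (𝟙_ (Over S)).hom.appTop c = c := fun c => by
      show (𝟙 S : S ⟶ S).appTop c = c
      simp
    have h1 := hC' (𝟙_ (Over S)) o o (fun k => gaPt (C' k)) fun k => by
      simp only [o, gaFn_gaPt, one_pow, _root_.mul_one]
      exact (happ _).symm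
    let v : 𝟙_ (Over S) ⟶ RedSub.pow (Red.Ga S) (n + Fintype.card R) :=
      powTuple (Fin.append (fun k => gaPt (C' k)) fun _ => gaPt 0)
    have h2 : v ≫ RedSub.prodMap (Red.Ga S) _ (fun k => D.u (ep k)) =
        ((powTuple ![o, o]) ≫ q) ≫ RedSub.prodMap (Red.Ga S) _ (fun k => D.u (ep k)) := by
      rw [hmain, hsplit, hone _ (fun r => by rw [powTuple_proj, Fin.append_right]), _root_.mul_one]
      simp only [v, powTuple_proj, Fin.append_left]
      calc _ = (o ≫ D.u β)⁻¹ * ((o ≫ D.u β) * _) := (inv_mul_cancel_left _ _).symm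
        _ = _ := by rw [← h1]; group
    have h3 := congrArg (fun r => Red.gaFn (r ≫ powProj (Red.Ga S) _ (Fin.castAdd _ k))) ((cancel_mono _).mp h2)
    simp only [v, powTuple_proj, Fin.append_left, gaFn_gaPt, Category.assoc, hC, Matrix.cons_val_zero,
      Matrix.cons_val_one, o, one_pow, _root_.mul_one] at h3
    exact h3.trans (happ _)

end Groth.Agent.RedPts82
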