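import Groth.Agent.RedPts82.CommRel

/-!
Second-order expansions of the decomposition of a product of points of opposite root groups.
-/

universe u

open CategoryTheory MonoidalCategory CartesianMonoidalCategory MonObj GrpObj AlgebraicGeometry
open CategoryTheory.Limits

namespace Groth.Agent.RedPts82

variable {S : Scheme.{u}} {G T : Over S} [GrpObj G] [GrpObj T]

/-- The coefficients of the expansions at an infinitesimal of order three. -/
def Expand (i : T ⟶ G) (pp pm : Red.Ga S ⟶ G) {Y : Over S} (e1 e2 x2 g2 : Γ(Y.left, ⊤)) : Prop :=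
  ∀ (Z : Over S) (k : Z ⟶ Y) (d : Γ(Z.left, ⊤)), d ^ 3 = 0 →
    (∃ t, Rel i pp pm d 1 (1 + k.left.appTop e1 * d + k.left.appTop e2 * d ^ 2) t
      (d + k.left.appTop x2 * d ^ 2)) ∧
    ∃ t x', Rel i pp pm 1 d (d + k.left.appTop g2 * d ^ 2) t x'

variable {i : T ⟶ G} {α : T ⟶ Red.Gm S} {pp pm : Red.Ga S ⟶ G}

omit [GrpObj T] in
theorem appTop_comp_apply {X Y Z : Over S} (l : X ⟶ Y) (k : Y ⟶ Z) (a : Γ(Z.left, ⊤)) :
    (l ≫ k).left.appTop a = l.left.appTop (k.left.appTop a) := by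
  rw [Over.comp_left, Scheme.Hom.comp_appTop]
  rfl

omit [GrpObj T] in
theorem appTop_id_apply {X : Over S} (a : Γ(X.left, ⊤)) : (𝟙 X : X ⟶ X).left.appTop a = a := by
  simp

omit [GrpObj T] in
theorem Expand.comp {Y Y' : Over S} {e1 e2 x2 g2 : Γ(Y.left, ⊤)} (h : Expand i pp pm e1 e2 x2 g2)
    (k : Y' ⟶ Y) : Expand i pp pm (k.left.appTop e1) (k.left.appTop e2) (k.left.appTop x2)
      (k.left.appTop g2) := by
  intro Z l d hd
  simp only [← appTop_comp_apply l k]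
  exact h Z (l ≫ k) d hd

omit [GrpObj T] in
theorem Expand.self {Y : Over S} {e1 e2 x2 g2 : Γ(Y.left, ⊤)} (h : Expand i pp pm e1 e2 x2 g2)
    (d : Γ(Y.left, ⊤)) (hd : d ^ 3 = 0) :
    (∃ t, Rel i pp pm d 1 (1 + e1 * d + e2 * d ^ 2) t (d + x2 * d ^ 2)) ∧
    ∃ t x', Rel i pp pm 1 d (d + g2 * d ^ 2) t x' := by
  have := h Y (𝟙 Y) d hd
  simpa only [appTop_id_apply] using this

variable (H : BC G T i α pp pm)
include H

theorem BC.left_at {X : Over S} {e1 e2 x1 x2 d : Γ(X.left, ⊤)} (y : Γ(X.left, ⊤)ˣ) {t : X ⟶ T}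
    (h : Rel i pp pm (d * (y : Γ(X.left, ⊤))) 1
      (1 + e1 * (d * y) + e2 * (d * y) ^ 2) t (x1 * (d * y) + x2 * (d * y) ^ 2)) :
    Rel i pp pm d (y : Γ(X.left, ⊤)) (y + e1 * y ^ 2 * d + e2 * y ^ 3 * d ^ 2) t
      (x1 * d + x2 * y * d ^ 2) := by
  have h' := H.rel_of_one y h
  convert h' using 1
  · ring
  · linear_combination (-(x1 * d) - x2 * d ^ 2 * (y : Γ(X.left, ⊤))) * y.inv_mul

theorem BC.right_at {X : Over S} {g1 g2 d : Γ(X.left, ⊤)} (x : Γ(X.left, ⊤)ˣ) {t : X ⟶ T}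
    {x' : Γ(X.left, ⊤)}
    (h : Rel i pp pm 1 ((x : Γ(X.left, ⊤)) * d) (g1 * (x * d) + g2 * (x * d) ^ 2) t x') :
    Rel i pp pm (x : Γ(X.left, ⊤)) d (g1 * d + g2 * x * d ^ 2) t ((x : Γ(X.left, ⊤)) * x') := by
  have h' := H.rel_scale h x
  rw [_root_.mul_one, Units.inv_mul_cancel_left] at h'
  convert h' using 1
  linear_combination (-(g1 * d) - g2 * d ^ 2 * (x : Γ(X.left, ⊤))) * x.inv_mul

/-- The relation satisfied by the first coefficient, from addition of two units. -/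
theorem BC.first_coeff {Y Y₀ : Over S} [IsAffine Y.left] (k : Y ⟶ Y₀) {g1 g2 : Γ(Y₀.left, ⊤)}
    (hg : ∀ (Z : Over S) (l : Z ⟶ Y₀) (d : Γ(Z.left, ⊤)), d ^ 3 = 0 →
      ∃ t x', Rel i pp pm 1 d (l.left.appTop g1 * d + l.left.appTop g2 * d ^ 2) t x')
    (r r' : Γ(Y.left, ⊤)ˣ) (c : Γ(Y.left, ⊤)) (v : Γ(Y.left, ⊤)ˣ)
    (hc : ((r : Γ(Y.left, ⊤)) + r' = 0 ∧ c = 1) ∨
      ((r : Γ(Y.left, ⊤)) + r' = v ∧ c = k.left.appTop g1)) :
    k.left.appTop g1 * k.left.appTop g1 = c := by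
  obtain ⟨N, l, _, ε, hε, -, huniq, -⟩ := exists_trunc Y
  let R : Γ(N.left, ⊤)ˣ := Units.map l.left.appTop.hom.toMonoidHom r
  let R' : Γ(N.left, ⊤)ˣ := Units.map l.left.appTop.hom.toMonoidHom r'
  let V : Γ(N.left, ⊤)ˣ := Units.map l.left.appTop.hom.toMonoidHom v
  set G1 := (l ≫ k).left.appTop g1 with hG1
  set G2 := (l ≫ k).left.appTop g2
  have hR : ((R : Γ(N.left, ⊤)) = l.left.appTop (r : Γ(Y.left, ⊤))) := rfl
  have hR' : ((R' : Γ(N.left, ⊤)) = l.left.appTop (r' : Γ(Y.left, ⊤))) := rfl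
  have hV : ((V : Γ(N.left, ⊤)) = l.left.appTop (v : Γ(Y.left, ⊤))) := rfl
  have at_unit : ∀ (x : Γ(N.left, ⊤)ˣ) (d : Γ(N.left, ⊤)), d ^ 3 = 0 →
      ∃ t x', Rel i pp pm (x : Γ(N.left, ⊤)) d (G1 * d + G2 * x * d ^ 2) t x' := by
    intro x d hd
    obtain ⟨t, x', h⟩ := hg N (l ≫ k) ((x : Γ(N.left, ⊤)) * d) (by rw [mul_pow, hd, mul_zero])
    exact ⟨t, _, H.right_at x h⟩
  obtain ⟨t, x', h⟩ := at_unit R ε hε
  obtain ⟨s, a, h₂⟩ := at_unit R' (G1 * ε + G2 * R * ε ^ 2)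
    (by linear_combination (G1 + G2 * R * ε) ^ 3 * hε)
  have h3 := H.rel_add_left h h₂
  have hr : ((R : Γ(N.left, ⊤)) + R' = l.left.appTop ((r : Γ(Y.left, ⊤)) + r')) := by
    rw [map_add]; rfl
  rcases hc with ⟨h0, rfl⟩ | ⟨h1, rfl⟩
  · rw [hr, h0, map_zero] at h3
    have e := (H.rel_inj h3 (H.rel_zero_left ε)).1
    have := huniq 0 (k.left.appTop g1 * k.left.appTop g1 - 1)
      (k.left.appTop g1 * k.left.appTop g2 * r + k.left.appTop g2 * r' * k.left.appTop g1 ^ 2) (by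
      simp only [map_zero, map_sub, map_mul, map_add, map_one, map_pow, ← appTop_comp_apply]
      rw [← hR, ← hR']
      try rw [← hV]
      linear_combination e -
        (G2 * (R' : Γ(N.left, ⊤)) * G2 * R * (2 * G1 + G2 * R * ε)) * hε)
    exact sub_eq_zero.mp this.2.1
  · rw [hr, h1] at h3
    obtain ⟨t', x'', h'⟩ := at_unit V ε hε
    have e := (H.rel_inj h3 h').1
    have := huniq 0 (k.left.appTop g1 * k.left.appTop g1 - k.left.appTop g1)
      (k.left.appTop g1 * k.left.appTop g2 * r + k.left.appTop g2 * r' * k.left.appTop g1 ^ 2 -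
        k.left.appTop g2 * v) (by
      simp only [map_zero, map_sub, map_mul, map_add, map_pow, ← appTop_comp_apply]
      rw [← hR, ← hR']
      try rw [← hV]
      linear_combination e -
        (G2 * (R' : Γ(N.left, ⊤)) * G2 * R * (2 * G1 + G2 * R * ε)) * hε)
    exact sub_eq_zero.mp this.2.1

theorem BC.first_coeff' {Y Y₀ : Over S} [IsAffine Y.left] (k : Y ⟶ Y₀) {x1 x2 : Γ(Y₀.left, ⊤)}
    (hx : ∀ (Z : Over S) (l : Z ⟶ Y₀) (d : Γ(Z.left, ⊤)), d ^ 3 = 0 →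
      ∃ t y', Rel i pp pm d 1 y' t (l.left.appTop x1 * d + l.left.appTop x2 * d ^ 2))
    (r r' : Γ(Y.left, ⊤)ˣ) (c : Γ(Y.left, ⊤)) (v : Γ(Y.left, ⊤)ˣ)
    (hc : ((r : Γ(Y.left, ⊤)) + r' = 0 ∧ c = 1) ∨
      ((r : Γ(Y.left, ⊤)) + r' = v ∧ c = k.left.appTop x1)) :
    k.left.appTop x1 * k.left.appTop x1 = c := by
  obtain ⟨N, l, _, ε, hε, -, huniq, -⟩ := exists_trunc Y
  let R : Γ(N.left, ⊤)ˣ := Units.map l.left.appTop.hom.toMonoidHom r
  let R' : Γ(N.left, ⊤)ˣ := Units.map l.left.appTop.hom.toMonoidHom r'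
  let V : Γ(N.left, ⊤)ˣ := Units.map l.left.appTop.hom.toMonoidHom v
  set X1 := (l ≫ k).left.appTop x1
  set X2 := (l ≫ k).left.appTop x2
  have hR : ((R : Γ(N.left, ⊤)) = l.left.appTop (r : Γ(Y.left, ⊤))) := rfl
  have hR' : ((R' : Γ(N.left, ⊤)) = l.left.appTop (r' : Γ(Y.left, ⊤))) := rfl
  have hV : ((V : Γ(N.left, ⊤)) = l.left.appTop (v : Γ(Y.left, ⊤))) := rfl
  have at_unit : ∀ (y : Γ(N.left, ⊤)ˣ) (d : Γ(N.left, ⊤)), d ^ 3 = 0 →
      ∃ t y', Rel i pp pm d (y : Γ(N.left, ⊤)) y' t (X1 * d + X2 * y * d ^ 2) := by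
    intro y d hd
    obtain ⟨t, y', h⟩ := hx N (l ≫ k) (d * (y : Γ(N.left, ⊤))) (by rw [mul_pow, hd, zero_mul])
    have h' := H.rel_of_one y h
    refine ⟨t, (y : Γ(N.left, ⊤)) * y', ?_⟩
    convert h' using 1
    linear_combination (-(X1 * d) - X2 * d ^ 2 * (y : Γ(N.left, ⊤))) * y.inv_mul
  obtain ⟨t, y', h⟩ := at_unit R ε hε
  obtain ⟨s, a, h₂⟩ := at_unit R' (X1 * ε + X2 * R * ε ^ 2)
    (by linear_combination (X1 + X2 * R * ε) ^ 3 * hε)
  have h3 := H.rel_add_right h h₂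
  have hr : ((R : Γ(N.left, ⊤)) + R' = l.left.appTop ((r : Γ(Y.left, ⊤)) + r')) := by
    rw [map_add]; rfl
  rcases hc with ⟨h0, rfl⟩ | ⟨h1, rfl⟩
  · rw [hr, h0, map_zero] at h3
    have e := (H.rel_inj h3 (H.rel_zero_right ε)).2.2
    have := huniq 0 (k.left.appTop x1 * k.left.appTop x1 - 1)
      (k.left.appTop x1 * k.left.appTop x2 * r + k.left.appTop x2 * r' * k.left.appTop x1 ^ 2) (by
      simp only [map_zero, map_sub, map_mul, map_add, map_one, map_pow, ← appTop_comp_apply]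
      rw [← hR, ← hR']
      try rw [← hV]
      linear_combination e -
        (X2 * (R' : Γ(N.left, ⊤)) * X2 * R * (2 * X1 + X2 * R * ε)) * hε)
    exact sub_eq_zero.mp this.2.1
  · rw [hr, h1] at h3
    obtain ⟨t', x'', h'⟩ := at_unit V ε hε
    have e := (H.rel_inj h3 h').2.2
    have := huniq 0 (k.left.appTop x1 * k.left.appTop x1 - k.left.appTop x1)
      (k.left.appTop x1 * k.left.appTop x2 * r + k.left.appTop x2 * r' * k.left.appTop x1 ^ 2 -
        k.left.appTop x2 * v) (by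
      simp only [map_zero, map_sub, map_mul, map_add, map_pow, ← appTop_comp_apply]
      rw [← hR, ← hR']
      try rw [← hV]
      linear_combination e -
        (X2 * (R' : Γ(N.left, ⊤)) * X2 * R * (2 * X1 + X2 * R * ε)) * hε)
    exact sub_eq_zero.mp this.2.1

omit H in
theorem eq_one_of_sq {A B : Type u} [CommRing A] [CommRing B] (φ : A →+* B)
    (hφ : Function.Injective φ) {g : A} (h1 : g * g = 1) (h2 : φ g * φ g = φ g) : g = 1 := by
  rw [← map_mul] at h2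
  rw [← hφ h2, h1]

theorem BC.exists_expand (Y : Over S) [IsAffine Y.left] :
    ∃ e1 e2 x2 g2 : Γ(Y.left, ⊤), Expand i pp pm e1 e2 x2 g2 := by
  classical
  obtain ⟨N, k, _, ε, hε, hbasis, huniq, huniv⟩ := exists_trunc Y
  obtain ⟨o, ho, ho'⟩ := huniv Y (𝟙 Y) 0 (by simp)
  have hok : ∀ a, o.left.appTop (k.left.appTop a) = a := fun a => by
    rw [← appTop_comp_apply, ho, appTop_id_apply]
  have hnil : IsNilpotent ε := ⟨3, hε⟩
  obtain ⟨E, t, X, hE⟩ := H.rel_exists (H.ic_nilpotent_left hnil 1)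
  obtain ⟨D, t', X', hD⟩ := H.rel_exists (H.ic_nilpotent_right hnil 1)
  obtain ⟨e0, e1, e2, hEe⟩ := hbasis E
  obtain ⟨x0, x1, x2, hXe⟩ := hbasis X
  obtain ⟨g0, g1, g2, hDe⟩ := hbasis D
  have hzero : e0 = 1 ∧ x0 = 0 ∧ g0 = 0 := by
    have h1 := hE.comp o
    have h2 := hD.comp o
    rw [hEe, hXe] at h1
    rw [hDe] at h2
    simp only [map_add, map_mul, map_pow, map_one, ho', hok, mul_zero, add_zero, ne_eq,
      OfNat.ofNat_ne_zero, not_false_eq_true, zero_pow] at h1 h2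
    obtain ⟨a, -, b⟩ := H.rel_inj h1 (H.rel_zero_left _)
    exact ⟨a, b, (H.rel_inj h2 (H.rel_zero_right _)).1⟩
  obtain ⟨rfl, rfl, rfl⟩ := hzero
  rw [hEe, hXe] at hE
  rw [hDe] at hD
  simp only [map_zero, map_one, zero_add] at hE hD
  have hgen : ∀ (Z : Over S) (z : Z ⟶ Y) (d : Γ(Z.left, ⊤)), d ^ 3 = 0 →
      (∃ t, Rel i pp pm d 1 (1 + z.left.appTop e1 * d + z.left.appTop e2 * d ^ 2) t
        (z.left.appTop x1 * d + z.left.appTop x2 * d ^ 2)) ∧
      ∃ t x', Rel i pp pm 1 d (z.left.appTop g1 * d + z.left.appTop g2 * d ^ 2) t x' := by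
    intro Z z d hd
    obtain ⟨l, hl, hl'⟩ := huniv Z z d hd
    have h1 := hE.comp l
    have h2 := hD.comp l
    simp only [map_add, map_mul, map_pow, map_one, hl', ← appTop_comp_apply, hl] at h1 h2
    exact ⟨⟨_, h1⟩, _, _, h2⟩
  have hx : ∀ (Z : Over S) (l : Z ⟶ Y) (d : Γ(Z.left, ⊤)), d ^ 3 = 0 →
      ∃ t y', Rel i pp pm d 1 y' t (l.left.appTop x1 * d + l.left.appTop x2 * d ^ 2) :=
    fun Z l d hd => ⟨(hgen Z l d hd).1.choose, _, (hgen Z l d hd).1.choose_spec⟩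
  have hg := fun Z l d hd => (hgen Z l d hd).2
  obtain ⟨Y', c, r, _, hf, hs, hr⟩ := exists_avoid Y (Polynomial.X * (1 - Polynomial.X))
    fun K _ _ W _ e y => by
      classical
      have : Infinite K := IsAlgClosed.instInfinite
      obtain ⟨b, hb⟩ := Infinite.exists_notMem_finset ({0, 1} : Finset K)
      simp only [Finset.mem_insert, Finset.mem_singleton, not_or] at hb
      refine ⟨e b, ?_⟩
      simp only [Polynomial.eval₂_mul, Polynomial.eval₂_sub, Polynomial.eval₂_X, Polynomial.eval₂_one]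
      rw [← map_one e, ← map_sub, ← map_mul]
      exact (mul_ne_zero hb.1 (sub_ne_zero.mpr (Ne.symm hb.2))).isUnit.map e
  simp only [Polynomial.eval₂_mul, Polynomial.eval₂_sub, Polynomial.eval₂_X, Polynomial.eval₂_one,
    IsUnit.mul_iff] at hr
  have hinj := appTop_injective_of_cover c
  have hg1 : g1 = 1 := by
    refine eq_one_of_sq c.left.appTop.hom hinj ?_ ?_
    · have := H.first_coeff (𝟙 Y) hg 1 (-1) 1 1 (Or.inl ⟨by simp, rfl⟩)
      simpa only [appTop_id_apply] using this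
    · exact H.first_coeff c hg hr.1.unit hr.2.unit _ 1 (Or.inr ⟨by simp, rfl⟩)
  have hx1 : x1 = 1 := by
    refine eq_one_of_sq c.left.appTop.hom hinj ?_ ?_
    · have := H.first_coeff' (𝟙 Y) hx 1 (-1) 1 1 (Or.inl ⟨by simp, rfl⟩)
      simpa only [appTop_id_apply] using this
    · exact H.first_coeff' c hx hr.1.unit hr.2.unit _ 1 (Or.inr ⟨by simp, rfl⟩)
  refine ⟨e1, e2, x2, g2, fun Z z d hd => ?_⟩
  have := hgen Z z d hd
  simpa only [hg1, hx1, map_one, _root_.one_mul] using this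

variable {Y : Over S} [IsAffine Y.left] {e1 e2 x2 g2 : Γ(Y.left, ⊤)}

omit [IsAffine Y.left] in
theorem BC.expand_left_at {X : Over S} {k : X ⟶ Y} (hY : Expand i pp pm e1 e2 x2 g2)
    (d : Γ(X.left, ⊤)) (hd : d ^ 3 = 0) (y : Γ(X.left, ⊤)ˣ) :
    ∃ t, Rel i pp pm d (y : Γ(X.left, ⊤))
      (y + k.left.appTop e1 * y ^ 2 * d + k.left.appTop e2 * y ^ 3 * d ^ 2) t
      (d + k.left.appTop x2 * y * d ^ 2) := by
  obtain ⟨⟨t, h⟩, -⟩ := hY X k (d * y) (by rw [mul_pow, hd, zero_mul])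
  refine ⟨t, ?_⟩
  have h' := H.left_at (d := d) (e1 := k.left.appTop e1) (e2 := k.left.appTop e2) (x1 := 1)
    (x2 := k.left.appTop x2) (t := t) y (by rw [_root_.one_mul]; exact h)
  rwa [_root_.one_mul] at h'

omit [IsAffine Y.left] in
theorem BC.expand_right_at {X : Over S} {k : X ⟶ Y} (hY : Expand i pp pm e1 e2 x2 g2)
    (d : Γ(X.left, ⊤)) (hd : d ^ 3 = 0) (x : Γ(X.left, ⊤)ˣ) :
    ∃ t x', Rel i pp pm (x : Γ(X.left, ⊤)) d (d + k.left.appTop g2 * x * d ^ 2) t x' := by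
  obtain ⟨-, t, x', h⟩ := hY X k ((x : Γ(X.left, ⊤)) * d) (by rw [mul_pow, hd, mul_zero])
  refine ⟨t, (x : Γ(X.left, ⊤)) * x', ?_⟩
  have h' := H.right_at (d := d) (g1 := 1) (g2 := k.left.appTop g2) (t := t) (x' := x') x
    (by rw [_root_.one_mul]; exact h)
  rwa [_root_.one_mul] at h'

/-- Symmetry of addition. -/
theorem BC.expand_sym (hY : Expand i pp pm e1 e2 x2 g2) : e1 * (e2 - e1 ^ 2) = 0 := by
  obtain ⟨N, k, _, ε, hε, -, huniq, -⟩ := exists_trunc Y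
  obtain ⟨N', k', _, δ, hδ, -, huniq', -⟩ := exists_trunc N
  set A := k'.left.appTop (k.left.appTop e1)
  set B := k'.left.appTop (k.left.appTop e2)
  set s := k'.left.appTop ε with hs'
  set d := δ ^ 2 with hd'
  have hs : s ^ 3 = 0 := by rw [hs', ← map_pow, hε, map_zero]
  have hd2 : d ^ 2 = 0 := by rw [hd']; linear_combination δ * hδ
  have hd : d ^ 3 = 0 := by linear_combination d * hd2
  have hexp := hY.comp (k' ≫ k)
  simp only [appTop_comp_apply] at hexp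
  obtain ⟨⟨t1, h1⟩, -⟩ := hexp.self s hs
  obtain ⟨⟨t2, h2⟩, -⟩ := hexp.self d hd
  have hu1 : IsUnit (1 + A * s + B * s ^ 2) :=
    H.isUnit_fst h1 isUnit_one
  have hu2 : IsUnit (1 + A * d + B * d ^ 2) := H.isUnit_fst h2 isUnit_one
  obtain ⟨t3, h3⟩ := H.expand_left_at (k := k' ≫ k) hY d hd hu1.unit
  obtain ⟨t4, h4⟩ := H.expand_left_at (k := k' ≫ k) hY s hs hu2.unit
  simp only [appTop_comp_apply, IsUnit.unit_spec] at h3 h4
  have e12 := H.rel_add_left h1 h3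
  have e21 := H.rel_add_left h2 h4
  rw [add_comm d s] at e21
  have e := (H.rel_inj e12 e21).1
  set a := k.left.appTop e1
  set b := k.left.appTop e2
  have := huniq' 0 0 (a * (1 + a * ε + b * ε ^ 2) ^ 2 - (a + 2 * a ^ 2 * ε + 3 * a * b * ε ^ 2)) (by
    simp only [map_zero, map_sub, map_mul, map_add, map_pow, map_one, map_ofNat, zero_mul,
      zero_add]
    linear_combination e + (B * (1 + A * d + B * d ^ 2) + A * s * (2 * B + A ^ 2 + 2 * A * B * d + B ^ 2 * d ^ 2) +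
      B * s ^ 2 * (3 * B + 3 * A ^ 2 + A ^ 3 * d + 6 * A * B * d + 3 * A ^ 2 * B * d ^ 2 + 3 * B ^ 2 * d ^ 2 +
        3 * A * B ^ 2 * d ^ 3 + B ^ 3 * d ^ 4) - B * (1 + A * s + B * s ^ 2) ^ 3 - A * B * d - B ^ 2 * d ^ 2) * hd2)
  have h5 := huniq 0 0 (e1 * (2 * e2 + e1 ^ 2) - 3 * e1 * e2) (by
    have h6 := this.2.2
    simp only [map_zero, map_sub, map_mul, map_add, map_pow, map_ofNat, zero_mul, zero_add]
    linear_combination h6 - (a * b * (2 * a + b * ε)) * hε)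
  linear_combination -h5.2.2

/-- The first two orders of scaling the second coordinate. -/
theorem BC.expand_h {u E X : Γ(Y.left, ⊤)} {t : Y ⟶ T} (hY : Expand i pp pm e1 e2 x2 g2)
    (h : Rel i pp pm u 1 E t X) (hu : IsUnit u) :
    (hv α t : Γ(Y.left, ⊤)) = E + e1 * u * E ^ 2 ∧
      e1 * u * E ^ 2 + e2 * u ^ 2 * E ^ 3 = (hv α t : Γ(Y.left, ⊤)) * (g2 * X) := by
  have hE := H.isUnit_fst h isUnit_one
  have hX := H.isUnit_snd h hu
  obtain ⟨N, k, _, ε, hε, -, huniq, -⟩ := exists_trunc Y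
  have hk := h.comp k
  rw [map_one] at hk
  set U := k.left.appTop u
  set E' := k.left.appTop E
  obtain ⟨s, h1⟩ := H.expand_left_at (k := k) hY (U * ε) (by rw [mul_pow, hε, mul_zero])
    (hE.map k.left.appTop.hom).unit
  have h2 := H.rel_add_left hk h1
  simp only [IsUnit.unit_spec] at h2
  obtain ⟨z, hz⟩ : IsUnit (1 + ε) := IsNilpotent.isUnit_one_add ⟨3, hε⟩
  have e0 : U + U * ε = U * (z : Γ(N.left, ⊤)) := by rw [hz]; ring
  rw [e0] at h2
  have h3 := H.rel_of_one z h2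
  rw [hz] at h3
  obtain ⟨s', a, h4⟩ := H.expand_right_at (k := k) hY ε hε (hX.map k.left.appTop.hom).unit
  have h5 := H.rel_add_right hk h4
  simp only [IsUnit.unit_spec] at h5
  have e := (H.rel_inj h3 h5).1
  rw [hv_comp] at e
  have := huniq 0 (E + e1 * u * E ^ 2 - (hv α t : Γ(Y.left, ⊤)))
    (e1 * u * E ^ 2 + e2 * u ^ 2 * E ^ 3 - (hv α t : Γ(Y.left, ⊤)) * (g2 * X)) (by
      simp only [map_zero, map_sub, map_mul, map_add, map_pow, zero_add]
      linear_combination e - (k.left.appTop e2 * U ^ 2 * E' ^ 3) * hε)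
  exact ⟨(sub_eq_zero.mp this.2.1).symm, sub_eq_zero.mp this.2.2⟩

omit [IsAffine Y.left] in
/-- The decomposition at a neighbouring point. -/
theorem BC.expand_shift [IsAffine Y.left] {u E X : Γ(Y.left, ⊤)} {t : Y ⟶ T}
    (hY : Expand i pp pm e1 e2 x2 g2) (h : Rel i pp pm u 1 E t X) {N : Over S} (k : N ⟶ Y)
    (d : Γ(N.left, ⊤)) (hd : d ^ 3 = 0) :
    ∃ t', Rel i pp pm (k.left.appTop u + d) 1
      (k.left.appTop E + k.left.appTop (e1 * E ^ 2) * d + k.left.appTop (e2 * E ^ 3) * d ^ 2) t'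
      (k.left.appTop X + k.left.appTop (hv α t : Γ(Y.left, ⊤)) * d +
        k.left.appTop ((hv α t : Γ(Y.left, ⊤)) * x2 * E) * d ^ 2) := by
  have hE := H.isUnit_fst h isUnit_one
  have hk := h.comp k
  rw [map_one] at hk
  obtain ⟨s, h1⟩ := H.expand_left_at (k := k) hY d hd (hE.map k.left.appTop.hom).unit
  have h2 := H.rel_add_left hk h1
  simp only [IsUnit.unit_spec, hv_comp] at h2
  refine ⟨s * (k ≫ t), ?_⟩
  convert h2 using 1
  · simp only [map_mul, map_pow]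
  · simp only [map_mul]; ring

end Groth.Agent.RedPts82
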