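import Groth.Agent.RedPts82.CommExpand
import Mathlib.AlgebraicGeometry.Morphisms.FiniteType

/-!
The commutation of opposite root groups over an algebraically closed field: either they commute or
the product of two points leaves the big cell along a hyperbola.
-/

universe u

open CategoryTheory MonoidalCategory CartesianMonoidalCategory MonObj GrpObj AlgebraicGeometry
open CategoryTheory.Limits

namespace Groth.Agent.RedPts82

variable {S : Scheme.{u}} {G T : Over S} [GrpObj G] [GrpObj T]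
  {i : T ⟶ G} {α : T ⟶ Red.Gm S} {pp pm : Red.Ga S ⟶ G} (H : BC G T i α pp pm)
include H

theorem BC.ic_shift_iff {X : Over S} {u v E Xc : Γ(X.left, ⊤)} {t : X ⟶ T}
    (h : Rel i pp pm u 1 E t Xc) : IC i pp pm (u + v) 1 ↔ IC i pp pm (v * E) 1 := by
  rw [H.ic_add_left h]
  exact H.ic_mul_iff v (H.isUnit_fst h isUnit_one).unit

theorem BC.rel_shift {X : Over S} {u v E Xc E' X' : Γ(X.left, ⊤)} {t t' : X ⟶ T}
    (hE : IsUnit E) (h : Rel i pp pm u 1 E t Xc) (h' : Rel i pp pm (v * E) 1 E' t' X') :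
    Rel i pp pm (u + v) 1 (E * E') (t' * t)
      ((hv α t : Γ(X.left, ⊤)) * (((hE.unit⁻¹ : Γ(X.left, ⊤)ˣ) : Γ(X.left, ⊤)) * X') + Xc) :=
  H.rel_add_left h (H.rel_of_one hE.unit h')

omit H in
/-- The key computation determining the decomposition. -/
theorem exact_aux {R : Type u} [CommRing R] {e1 u v w E E' h : R} (Ei : Rˣ) (hEi : (Ei : R) = E)
    (hu : IsUnit u) (hw : v * E = w) (hh : h = E + e1 * u * E ^ 2)
    (hX : (u + v) * (E * E') = h * (((Ei⁻¹ : Rˣ) : R) * (w * E')) + u * E) :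
    E' * (1 - e1 * w) = 1 := by
  have hinv : E * ((Ei⁻¹ : Rˣ) : R) = 1 := by rw [← hEi]; exact Ei.mul_inv
  have h1 : u * E * (E' * (1 - e1 * w)) = u * E * 1 := by
    linear_combination hX + (1 + e1 * u * E) * w * E' * hinv +
      ((Ei⁻¹ : Rˣ) : R) * w * E' * hh - E' * hw
  exact (hu.mul (hEi ▸ Ei.isUnit)).mul_left_cancel h1

section Field

variable {K : Type u} [Field K] [IsAlgClosed K] {W : Over S} [IsAffine W.left]
  (e : K ≃+* Γ(W.left, ⊤))
include e

omit [IsAlgClosed K] in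
theorem BC.finite_bad : {b : K | ¬ IC i pp pm (e b) 1}.Finite := by
  classical
  have := H.hΩ
  let φ : polyGa W ⟶ G :=
    (gaTu W ≫ pp) * (gaPt (1 : Γ((polyGa W).left, ⊤)) ≫ pm)
  let O : (polyGa W).left.Opens := φ.left ⁻¹ᵁ (cell i pp pm).left.opensRange
  have hpt : ∀ (b : Γ(W.left, ⊤)) (w : W ⟶ polyGa W), w ≫ gaTu W = gaPt b →
      w ≫ φ = (gaPt b ≫ pp) * (gaPt 1 ≫ pm) := by
    intro b w hw
    simp only [φ, MonObj.comp_mul, ← Category.assoc, hw, comp_gaPt, map_one]
  have : Nontrivial Γ(W.left, ⊤) := e.symm.nontrivial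
  obtain ⟨q⟩ : Nonempty W.left := by
    by_contra h
    rw [not_nonempty_iff] at h
    exact not_subsingleton Γ(W.left, ⊤) inferInstance
  obtain ⟨w₀, -, hw₀, hw₀'⟩ := exists_gaLift (𝟙 W) (gaPt (X := W) 0)
  have hq0 : w₀.left q ∈ O := by
    show φ.left (w₀.left q) ∈ Set.range (cell i pp pm).left.base
    refine (H.rel_zero_left (X := W) 1).ic ⟨q, ?_⟩
    rw [← hpt 0 w₀ hw₀]
    rfl
  obtain ⟨f, hfO, hfq⟩ :=
    (isAffineOpen_top (polyGa W).left).exists_basicOpen_le (V := O) ⟨_, hq0⟩ trivial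
  obtain ⟨g, rfl⟩ := (gaCoordHom_bijective W).2 f
  let gK : Polynomial K := g.map e.symm.toRingHom
  have heval : ∀ b : K, evalGa (𝟙 W) (gaPt (X := W) (e b)) g = e (gK.eval b) := by
    intro b
    show g.eval₂ _ (Red.gaFn (gaPt (e b))) = e (gK.eval b)
    rw [gaFn_gaPt, Polynomial.eval_map, ← RingEquiv.coe_toRingHom e, Polynomial.hom_eval₂]
    congr 1
    ext a
    exact (e.apply_symm_apply a).symm
  have hgK : gK ≠ 0 := by
    intro h
    have h1 : w₀.left ⁻¹ᵁ (polyGa W).left.basicOpen (gaCoordHom W g) = ⊥ := by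
      rw [Scheme.preimage_basicOpen_top, hw₀']
      have h0 := heval 0
      rw [map_zero, h, Polynomial.eval_zero, map_zero] at h0
      rw [h0, Scheme.basicOpen_zero]
    have h2 : q ∈ w₀.left ⁻¹ᵁ (polyGa W).left.basicOpen (gaCoordHom W g) := hfq
    rw [h1] at h2
    exact h2
  refine (gK.finite_setOfPred_isRoot hgK).subset fun b hb => ?_
  by_contra hroot
  apply hb
  obtain ⟨w, -, hw, hw'⟩ := exists_gaLift (𝟙 W) (gaPt (X := W) (e b))
  rintro _ ⟨p, rfl⟩
  rw [← hpt _ w hw]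
  exact hfO (mem_basicOpen_of_isUnit_appTop w _ (by
    rw [hw', heval]; exact (Ne.isUnit hroot).map e) p)

omit [IsAlgClosed K] [IsAffine W.left] H in
theorem isUnit_e {b : K} (hb : b ≠ 0) : IsUnit (e b) := (Ne.isUnit hb).map e

omit [IsAlgClosed K] [IsAffine W.left] in
/-- The values at good points. -/
theorem BC.bad_eq {b : K} (hb : IC i pp pm (e b) 1) :
    ∃ E : K, E ≠ 0 ∧ (∃ t X, Rel i pp pm (e b) 1 (e E) t X) ∧
      ∀ c, IC i pp pm (e c) 1 ↔ IC i pp pm (e ((c - b) * E)) 1 := by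
  obtain ⟨E, t, X, h⟩ := H.rel_exists hb
  obtain ⟨E, rfl⟩ := e.surjective E
  refine ⟨E, ?_, ⟨t, X, h⟩, fun c => ?_⟩
  · rintro rfl
    have : Nontrivial Γ(W.left, ⊤) := e.symm.nontrivial
    exact not_isUnit_zero (M₀ := Γ(W.left, ⊤)) (map_zero e ▸ H.isUnit_fst h isUnit_one)
  · have := H.ic_shift_iff (v := e (c - b)) h
    rwa [← map_add, add_sub_cancel, ← map_mul] at this

theorem BC.bad_unique {r r' : K} (hr : ¬ IC i pp pm (e r) 1) (hr' : ¬ IC i pp pm (e r') 1) :
    r = r' := by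
  classical
  by_contra hne
  have : Infinite K := IsAlgClosed.instInfinite
  let Z := {b : K | ¬ IC i pp pm (e b) 1}
  have hZ : Z.Finite := H.finite_bad e
  have hinf : Zᶜ.Infinite := hZ.infinite_compl
  have hgood : ∀ b : K, b ∈ Zᶜ → IC i pp pm (e b) 1 := fun b hb => not_not.mp hb
  choose E hE0 hErel hE using fun (b : K) (hb : b ∈ Zᶜ) => H.bad_eq e (hgood b hb)
  refine hinf (Set.Finite.subset ?_ (Set.Subset.refl Zᶜ))
  rw [← Set.finite_coe_iff]
  let f : (Zᶜ : Set K) → Z × Z := fun b =>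
    (⟨(r - b) * E b.1 b.2, fun h => hr ((hE b.1 b.2 r).mpr h)⟩,
      ⟨(r' - b) * E b.1 b.2, fun h => hr' ((hE b.1 b.2 r').mpr h)⟩)
  have : Finite Z := hZ.to_subtype
  refine Finite.of_injective f fun b b' h => Subtype.ext ?_
  simp only [f, Prod.mk.injEq, Subtype.mk.injEq] at h
  have e1 : (r - r') * E b.1 b.2 = (r - r') * E b'.1 b'.2 := by linear_combination h.1 - h.2
  have e2 := mul_left_cancel₀ (sub_ne_zero.mpr hne) e1
  have h1 := h.1
  rw [e2] at h1
  have e3 := mul_right_cancel₀ (hE0 b'.1 b'.2) h1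
  exact sub_right_injective e3

omit [IsAlgClosed K] [IsAffine W.left] in
theorem BC.bad_ne_zero {r : K} (hr : ¬ IC i pp pm (e r) 1) : r ≠ 0 := by
  rintro rfl
  rw [map_zero] at hr
  exact hr (H.rel_zero_left 1).ic

theorem BC.bad_val {r b E : K} (hr : ¬ IC i pp pm (e r) 1) {t : W ⟶ T} {X : Γ(W.left, ⊤)}
    (h : Rel i pp pm (e b) 1 (e E) t X) : E * (r - b) = r := by
  have h1 : ¬ IC i pp pm (e ((r - b) * E)) 1 := fun hic => hr (by
    have := (H.ic_shift_iff (v := e (r - b)) h).mpr (by rw [← map_mul]; exact hic)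
    rwa [← map_add, add_sub_cancel] at this)
  rw [mul_comm]
  exact H.bad_unique e h1 hr

theorem BC.bad_snd {r b E : K} (hr : ¬ IC i pp pm (e r) 1) (hb0 : b ≠ 0) (hb : b ≠ r)
    {t : W ⟶ T} {X : Γ(W.left, ⊤)} (h : Rel i pp pm (e b) 1 (e E) t X) : X = e (b * E) := by
  obtain ⟨X, rfl⟩ := e.surjective X
  have hs : r / b - 1 ≠ 0 := by
    rw [sub_ne_zero, ne_eq, div_eq_one_iff_eq hb0]
    exact Ne.symm hb
  have h1 : ¬ IC i pp pm (e b) (e (r / b)) := by
    intro hic
    have hu := isUnit_e e (div_ne_zero (H.bad_ne_zero e hr) hb0)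
    have := (H.ic_mul_iff (e b) hu.unit).mp hic
    rw [IsUnit.unit_spec, ← map_mul, mul_div_cancel₀ _ hb0] at this
    exact hr this
  have h2 : ¬ IC i pp pm (e X) (e (r / b - 1)) := fun hic => h1 (by
    have := (H.ic_add_right h).mpr hic
    rwa [← map_one e, ← map_add, add_sub_cancel] at this)
  have h3 : ¬ IC i pp pm (e (X * (r / b - 1))) 1 := fun hic => h2 (by
    have := (H.ic_mul_iff (e X) (isUnit_e e hs).unit).mpr (by
      rwa [IsUnit.unit_spec, ← map_mul])
    exact this)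
  have h4 := H.bad_unique e h3 hr
  have h5 := H.bad_val e hr h
  congr 1
  have h6 : X * (r - b) = b * r := by
    field_simp at h4
    linear_combination h4
  refine mul_right_cancel₀ (sub_ne_zero.mpr (Ne.symm hb)) ?_
  linear_combination h6 - b * h5

variable {e1 e2 x2 g2 : K}

theorem BC.bad_e1 (hY : Expand i pp pm (e e1) (e e2) (e x2) (e g2)) {r : K}
    (hr : ¬ IC i pp pm (e r) 1) : e1 * r = 1 := by
  classical
  have : Infinite K := IsAlgClosed.instInfinite
  obtain ⟨u, hu⟩ := Infinite.exists_notMem_finset ({0, r} : Finset K)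
  simp only [Finset.mem_insert, Finset.mem_singleton, not_or] at hu
  have huc : IC i pp pm (e u) 1 := not_not.mp fun h => hu.2 (H.bad_unique e h hr)
  obtain ⟨E, t, X, h⟩ := H.rel_exists huc
  obtain ⟨E, rfl⟩ := e.surjective E
  have hEv := H.bad_val e hr h
  have hE0 : E ≠ 0 := fun h0 => H.bad_ne_zero e hr (by rw [← hEv, h0, zero_mul])
  obtain ⟨w, hw⟩ := Infinite.exists_notMem_finset ({0, r, -(u * E)} : Finset K)
  simp only [Finset.mem_insert, Finset.mem_singleton, not_or] at hw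
  have hwc : IC i pp pm (e w) 1 := not_not.mp fun h => hw.2.1 (H.bad_unique e h hr)
  obtain ⟨E', t', X', h'⟩ := H.rel_exists hwc
  obtain ⟨E', rfl⟩ := e.surjective E'
  have hX := H.bad_snd e hr hu.1 hu.2 h
  have hX' := H.bad_snd e hr hw.1 hw.2.1 h'
  subst hX hX'
  let v := w / E
  have hvE : v * E = w := div_mul_cancel₀ _ hE0
  rw [← hvE, map_mul] at h'
  have h'' := H.rel_shift (isUnit_e e hE0) h h'
  rw [← map_add, ← map_mul e E E'] at h''
  have huv0 : u + v ≠ 0 := by
    intro h0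
    apply hw.2.2
    rw [← hvE]
    linear_combination E * h0
  have huvr : u + v ≠ r := fun h0 => by
    have := h''.ic
    rw [h0] at this
    exact hr this
  have hX'' := H.bad_snd e hr huv0 huvr h''
  have hh := (H.expand_h hY h (isUnit_e e hu.1)).1
  have key : e E' * (1 - e e1 * e w) = 1 := by
    refine exact_aux (u := e u) (v := e v) (E := e E) (h := (hv α t : Γ(W.left, ⊤)))
      (isUnit_e e hE0).unit rfl (isUnit_e e hu.1) (by rw [← map_mul, hvE]) hh ?_
    rw [← map_add, ← map_mul e E E', ← map_mul e (u + v), ← map_mul e u E, ← hX'']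
    rw [hvE, map_mul]
  rw [← map_mul, ← map_one e, ← map_sub, ← map_mul] at key
  have k1 := e.injective key
  have k2 := H.bad_val e hr (by rw [← map_mul, hvE] at h'; exact h')
  have k3 : w * (e1 * r - 1) = 0 := by linear_combination (1 - e1 * w) * k2 - (r - w) * k1
  exact sub_eq_zero.mp ((mul_eq_zero.mp k3).resolve_left hw.1)

omit [IsAffine W.left] H in
theorem exists_unit_poly {p : Polynomial Γ(W.left, ⊤)}
    (hp : ∀ b : K, b ≠ 0 → IsUnit (p.eval (e b))) :
    ∃ (c : Γ(W.left, ⊤)) (n : ℕ), IsUnit c ∧ p = Polynomial.C c * Polynomial.X ^ n := by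
  classical
  let q : Polynomial K := p.map e.symm.toRingHom
  have hpq : p = q.map e.toRingHom := by
    rw [Polynomial.map_map]
    simp
  have hne : ∀ b : K, b ≠ 0 → q.eval b ≠ 0 := by
    intro b hb h0
    have h1 := hp b hb
    rw [hpq, show e b = e.toRingHom b from rfl, Polynomial.eval_map_apply, h0, map_zero] at h1
    have : Nontrivial Γ(W.left, ⊤) := e.symm.nontrivial
    exact not_isUnit_zero h1
  have hq : q ≠ 0 := fun h => hne 1 one_ne_zero (by rw [h, Polynomial.eval_zero])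
  obtain ⟨g, hg, hdvd⟩ := Polynomial.exists_eq_pow_rootMultiplicity_mul_and_not_dvd q hq 0
  rw [Polynomial.dvd_iff_isRoot] at hdvd
  have hg0 : g.degree = 0 := by
    by_contra h
    obtain ⟨z, hz⟩ := IsAlgClosed.exists_root g h
    have hz0 : z ≠ 0 := fun h0 => hdvd (h0 ▸ hz)
    refine hne z hz0 ?_
    rw [hg, Polynomial.eval_mul, hz.eq_zero, mul_zero]
  rw [Polynomial.eq_C_of_degree_eq_zero hg0] at hg hdvd
  generalize q.rootMultiplicity 0 = n at hg
  refine ⟨e (g.coeff 0), n, isUnit_e e fun h => hdvd (by simp [h]), ?_⟩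
  rw [hpq, hg, Polynomial.map_mul, Polynomial.map_pow, Polynomial.map_sub, Polynomial.map_X,
    Polynomial.map_C, Polynomial.map_C, map_zero, Polynomial.C_0, sub_zero, mul_comm]
  rfl

omit H in
theorem isClosed_point_pt (O : (polyGa W).left.Opens)
    (h : ∀ (w : W ⟶ polyGa W) (q : W.left), w ≫ gaProj W = 𝟙 W → w.left q ∈ O) : O = ⊤ := by
  let ε : W.left ≅ Spec (CommRingCat.of K) :=
    W.left.isoSpec ≪≫ (asIso (Spec.map e.toCommRingCatIso.hom))
  let f : (polyGa W).left ⟶ Spec (CommRingCat.of K) := (gaProj W).left ≫ ε.hom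
  have : LocallyOfFiniteType (Spec.map (CommRingCat.ofHom
      (Polynomial.C : Gam W →+* Polynomial (Gam W)))) := by
    rw [HasRingHomProperty.Spec_iff (P := @LocallyOfFiniteType)]
    show RingHom.FiniteType (algebraMap (Gam W) (Polynomial (Gam W)))
    rw [RingHom.finiteType_algebraMap]
    infer_instance
  have : LocallyOfFiniteType (gaProj W).left :=
    inferInstanceAs (LocallyOfFiniteType (Spec.map _ ≫ W.left.isoSpec.inv))
  have : LocallyOfFiniteType f := inferInstanceAs (LocallyOfFiniteType ((gaProj W).left ≫ ε.hom))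
  have : JacobsonSpace (polyGa W).left := LocallyOfFiniteType.jacobsonSpace f
  by_contra hne
  obtain ⟨p, hp⟩ : ∃ p, p ∉ O := by
    by_contra h'
    push Not at h'
    exact hne (eq_top_iff.mpr fun p _ => h' p)
  obtain ⟨z, hzO, hz⟩ := nonempty_inter_closedPoints (Z := (O : Set (polyGa W).left)ᶜ) ⟨p, hp⟩
    O.isOpen.isClosed_compl.isLocallyClosed
  let l := ε.hom ≫ pointOfClosedPoint f z hz
  have hl : l ≫ (gaProj W).left = 𝟙 _ := by
    rw [← cancel_mono ε.hom, Category.assoc, Category.assoc, Category.id_comp]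
    exact (congrArg (ε.hom ≫ ·) (pointOfClosedPoint_comp f z hz)).trans (Category.comp_id _)
  have hmem := h (Over.homMk l (by rw [← Over.w (gaProj W), ← Category.assoc, hl, Category.id_comp]))
    (ε.inv (IsLocalRing.closedPoint K)) (Over.OverMorphism.ext hl)
  apply hzO
  have : l (ε.inv (IsLocalRing.closedPoint K)) = z := by
    show pointOfClosedPoint f z hz (ε.hom (ε.inv (IsLocalRing.closedPoint K))) = z
    rw [← Scheme.Hom.comp_apply ε.inv ε.hom, ε.inv_hom_id]
    exact pointOfClosedPoint_apply _ _ _ _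
  rw [← this]
  exact hmem

theorem BC.empty_case (hY : Expand i pp pm (e e1) (e e2) (e x2) (e g2))
    (hall : ∀ b : K, IC i pp pm (e b) 1) :
    e1 = 0 ∧ ∀ (Z : Over S) (_ : IsAffine Z.left) (_ : Z ⟶ W) (x y : Γ(Z.left, ⊤)),
      Commute ((gaPt x : Z ⟶ Red.Ga S) ≫ pp) ((gaPt y : Z ⟶ Red.Ga S) ≫ pm) := by
  classical
  have := H.hΩ
  have : Nontrivial Γ(W.left, ⊤) := e.symm.nontrivial
  let Xu := gaCoordHom W Polynomial.X
  have hic : IC i pp pm Xu 1 := by
    let O : (polyGa W).left.Opens := ((gaPt Xu ≫ pp) * (gaPt (X := polyGa W) 1 ≫ pm)).left ⁻¹ᵁ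
      (cell i pp pm).left.opensRange
    have hO : O = ⊤ := by
      refine isClosed_point_pt e O fun w q hw => ?_
      obtain ⟨b, hb⟩ := e.surjective (w.left.appTop Xu)
      have hb' := hall b
      rw [hb] at hb'
      refine hb' ⟨q, ?_⟩
      rw [← map_one w.left.appTop.hom, ← comp_gaPt (S := S) w Xu, ← comp_gaPt (S := S) w 1,
        Category.assoc, Category.assoc, ← MonObj.comp_mul]
      rfl
    rintro _ ⟨p, rfl⟩
    have : p ∈ O := by rw [hO]; trivial
    exact this
  obtain ⟨E, τ, X, hu⟩ := H.rel_exists hic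
  obtain ⟨pE, rfl⟩ := (gaCoordHom_bijective W).2 E
  obtain ⟨pX, rfl⟩ := (gaCoordHom_bijective W).2 X
  have hat : ∀ (Z : Over S) (z : Z ⟶ W) (r : Γ(Z.left, ⊤)), ∃ t : Z ⟶ T,
      Rel i pp pm r 1 (pE.eval₂ z.left.appTop.hom r) t (pX.eval₂ z.left.appTop.hom r) := by
    intro Z z r
    obtain ⟨w, -, -, hw⟩ := exists_gaLift z (gaPt r)
    have := hu.comp w
    simp only [map_one, Xu, hw, evalGa_X, gaFn_gaPt] at this
    refine ⟨w ≫ τ, ?_⟩
    have e' : ∀ p, evalGa z (gaPt r) p = p.eval₂ z.left.appTop.hom r := fun p => by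
      show p.eval₂ _ (Red.gaFn (gaPt r)) = _
      rw [gaFn_gaPt]
    rwa [e', e'] at this
  have hatW : ∀ r : Γ(W.left, ⊤), ∃ t : W ⟶ T, Rel i pp pm r 1 (pE.eval r) t (pX.eval r) := by
    intro r
    obtain ⟨t, ht⟩ := hat W (𝟙 W) r
    refine ⟨t, ?_⟩
    simpa [Polynomial.eval₂_id] using ht
  obtain ⟨cE, nE, -, hpE⟩ := exists_unit_poly e (p := pE) fun b _ => by
    obtain ⟨t, ht⟩ := hatW (e b)
    exact H.isUnit_fst ht isUnit_one
  obtain ⟨cX, nX, -, hpX⟩ := exists_unit_poly e (p := pX) fun b hb => by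
    obtain ⟨t, ht⟩ := hatW (e b)
    exact H.isUnit_snd ht (isUnit_e e hb)
  obtain ⟨t₀, ht₀⟩ := hatW 0
  obtain ⟨hE0, -, -⟩ := H.rel_inj ht₀ (H.rel_zero_left 1)
  obtain rfl : nE = 0 := by
    by_contra h
    rw [hpE] at hE0
    simp [h] at hE0
  obtain rfl : cE = 1 := by rw [hpE] at hE0; simpa using hE0
  obtain ⟨N, k, _, ε, hε, -, huniq, -⟩ := exists_trunc W
  obtain ⟨s, hs⟩ := hat N k ε
  obtain ⟨⟨s', hs'⟩, -⟩ := hY N k ε hε
  obtain ⟨ea, -, eb⟩ := H.rel_inj hs hs'
  have he1 : e e1 = 0 := by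
    refine (huniq 0 (e e1) (e e2) ?_).2.1
    rw [map_zero, zero_add]
    simp [hpE] at ea
    linear_combination -ea
  have hXu : pX = Polynomial.X := by
    rw [hpX]
    simp only [hpX, Polynomial.eval₂_mul, Polynomial.eval₂_C, Polynomial.eval₂_pow,
      Polynomial.eval₂_X] at eb
    rcases Nat.lt_or_ge nX 3 with hn | hn
    · interval_cases nX
      · have := huniq cX (-1) (-(e x2)) (by
          simp only [map_neg, map_one]; linear_combination eb)
        simpa using this.2.1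
      · have := huniq 0 (cX - 1) (-(e x2)) (by
          simp only [map_zero, map_neg, map_sub, map_one]; linear_combination eb)
        rw [sub_eq_zero.mp this.2.1, map_one, _root_.one_mul, pow_one]
      · have := huniq 0 (-1) (cX - e x2) (by
          simp only [map_zero, map_neg, map_sub, map_one]; linear_combination eb)
        simpa using this.2.1
    · rw [pow_eq_zero_of_le hn hε, mul_zero] at eb
      have := huniq 0 (-1) (-(e x2)) (by simp only [map_zero, map_neg, map_one]; linear_combination eb)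
      simpa using this.2.1
  obtain ⟨o, ho, -, ho'⟩ := exists_gaLift (𝟙 W) (gaPt (X := W) 0)
  have hτ : τ = 1 := by
    rw [torus_const H.hT W e τ o ho]
    have h0 := hu.comp o
    simp only [map_one, Xu, ho', evalGa_X, gaFn_gaPt] at h0
    rw [(H.rel_inj h0 (H.rel_zero_left 1)).2.1, MonObj.comp_one]
  refine ⟨by rw [← map_eq_zero_iff e e.injective]; exact he1, fun Z hZ z x y => ?_⟩
  have hone : ∀ r : Γ(Z.left, ⊤), Rel i pp pm r 1 1 1 r := by
    intro r
    obtain ⟨w, -, -, hw⟩ := exists_gaLift z (gaPt r)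
    have := hu.comp w
    simp only [map_one, Xu, hw, evalGa_X, gaFn_gaPt, hpE, hXu, pow_zero, _root_.mul_one, hτ,
      MonObj.comp_one] at this
    exact this
  have hcomm : ∀ (Z' : Over S) (l : Z' ⟶ Z) (y : Γ(Z'.left, ⊤)), IsUnit y →
      Commute ((gaPt (l.left.appTop x) : Z' ⟶ Red.Ga S) ≫ pp) ((gaPt y : Z' ⟶ Red.Ga S) ≫ pm) := by
    intro Z' l y hy
    obtain ⟨w, -, -, hw⟩ := exists_gaLift (l ≫ z) (gaPt (l.left.appTop x * y))
    have hr := hu.comp w
    simp only [map_one, Xu, hw, evalGa_X, gaFn_gaPt, hpE, hXu, pow_zero, _root_.mul_one, hτ,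
      MonObj.comp_one] at hr
    have hr' := H.rel_of_one hy.unit hr
    rw [IsUnit.unit_spec, _root_.mul_one] at hr'
    have hX' : ((hy.unit⁻¹ : Γ(Z'.left, ⊤)ˣ) : Γ(Z'.left, ⊤)) * (l.left.appTop x * y) = l.left.appTop x := by
      linear_combination (l.left.appTop x) * hy.val_inv_mul
    rw [hX', Rel] at hr'
    have := H.hi
    rw [MonObj.one_comp i, _root_.mul_one] at hr'
    exact hr'
  obtain ⟨Z', l, r, _, hf, hs2, hr⟩ := exists_avoid Z
    (Polynomial.X * (Polynomial.C y - Polynomial.X)) fun L _ _ V _ eV v => by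
      have : Infinite L := IsAlgClosed.instInfinite
      obtain ⟨b, hb⟩ := Infinite.exists_notMem_finset ({0, eV.symm (v.left.appTop y)} : Finset L)
      simp only [Finset.mem_insert, Finset.mem_singleton, not_or] at hb
      refine ⟨eV b, ?_⟩
      simp only [Polynomial.eval₂_mul, Polynomial.eval₂_sub, Polynomial.eval₂_X, Polynomial.eval₂_C]
      refine (isUnit_e eV hb.1).mul ?_
      have hy' : v.left.appTop.hom y = eV (eV.symm (v.left.appTop y)) := (eV.apply_symm_apply _).symm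
      rw [hy', ← map_sub]
      exact isUnit_e eV (sub_ne_zero.mpr (Ne.symm hb.2))
  simp only [Polynomial.eval₂_mul, Polynomial.eval₂_sub, Polynomial.eval₂_X, Polynomial.eval₂_C,
    IsUnit.mul_iff] at hr
  have := epi_of_flat_surjective_left l
  show _ = _
  rw [← cancel_epi l]
  simp only [MonObj.comp_mul, ← Category.assoc, comp_gaPt]
  have hsum : l.left.appTop y = r + (l.left.appTop y - r) := (add_sub_cancel _ _).symm
  rw [hsum, H.pm_add]
  exact ((hcomm Z' l r hr.1).mul_right (hcomm Z' l _ hr.2)).eq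

theorem BC.ic_iff (hY : Expand i pp pm (e e1) (e e2) (e x2) (e g2)) (h1 : e1 ≠ 0) (a : K) :
    IC i pp pm (e a) 1 ↔ 1 - e1 * a ≠ 0 := by
  obtain ⟨r, hr⟩ : ∃ r : K, ¬ IC i pp pm (e r) 1 := by
    by_contra h
    push Not at h
    exact h1 (H.empty_case e hY h).1
  have h := H.bad_e1 e hY hr
  constructor
  · intro hic h0
    refine hr ?_
    have : a = r := by
      refine mul_left_cancel₀ h1 ?_
      linear_combination -h0 - h
    rwa [← this]
  · intro h0
    by_contra hic
    exact h0 (by rw [H.bad_unique e hic hr, h]; ring)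

end Field

end Groth.Agent.RedPts82
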