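import Groth.Agent.RedPts82.CommField

/-!
The exact decomposition of a product of points of opposite root groups.
-/

universe u

open CategoryTheory MonoidalCategory CartesianMonoidalCategory MonObj GrpObj AlgebraicGeometry
open CategoryTheory.Limits

namespace Groth.Agent.RedPts82

variable {S : Scheme.{u}} {G T : Over S} [GrpObj G] [GrpObj T]
  {i : T ⟶ G} {α : T ⟶ Red.Gm S} {pp pm : Red.Ga S ⟶ G} (H : BC G T i α pp pm)
include H

theorem BC.expand_unique {Y : Over S} [IsAffine Y.left] {e1 e2 x2 g2 e1' e2' x2' g2' : Γ(Y.left, ⊤)}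
    (h : Expand i pp pm e1 e2 x2 g2) (h' : Expand i pp pm e1' e2' x2' g2') : e1 = e1' := by
  obtain ⟨N, k, _, ε, hε, -, huniq, -⟩ := exists_trunc Y
  obtain ⟨⟨t, ht⟩, -⟩ := h N k ε hε
  obtain ⟨⟨t', ht'⟩, -⟩ := h' N k ε hε
  have e := (H.rel_inj ht ht').1
  refine sub_eq_zero.mp (huniq 0 (e1 - e1') (e2 - e2') ?_).2.1
  simp only [map_zero, map_sub]
  linear_combination e

/-- A decomposition has the expected values and character if it does so after a cover. -/
theorem BC.full_of_cover {X X' : Over S} (k : X' ⟶ X) [Flat k.left] [Surjective k.left]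
    {x y a b h : Γ(X.left, ⊤)} (hic : IC i pp pm x y)
    (h' : ∃ t : X' ⟶ T, Rel i pp pm (k.left.appTop x) (k.left.appTop y) (k.left.appTop a) t
      (k.left.appTop b) ∧ (hv α t : Γ(X'.left, ⊤)) = k.left.appTop h) :
    ∃ t : X ⟶ T, Rel i pp pm x y a t b ∧ (hv α t : Γ(X.left, ⊤)) = h := by
  obtain ⟨a', t, b', hr⟩ := H.rel_exists hic
  obtain ⟨t', hr', ht'⟩ := h'
  obtain ⟨ea, et, eb⟩ := H.rel_inj (hr.comp k) hr'
  have hinj := appTop_injective_of_cover k
  refine ⟨t, ?_, hinj ?_⟩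
  · rwa [hinj ea, hinj eb] at hr
  · rw [← hv_comp, et, ht']

variable {Y : Over S} [IsAffine Y.left] {e1 e2 x2 g2 : Γ(Y.left, ⊤)}
  (hY : Expand i pp pm e1 e2 x2 g2) (hu1 : IsUnit e1)
include hY hu1

omit [IsAffine Y.left] in
theorem BC.field_expand {K : Type u} [Field K] {W : Over S} [IsAffine W.left]
    (e : K ≃+* Γ(W.left, ⊤)) (k : W ⟶ Y) :
    Expand i pp pm (e (e.symm (k.left.appTop e1))) (e (e.symm (k.left.appTop e2)))
      (e (e.symm (k.left.appTop x2))) (e (e.symm (k.left.appTop g2))) ∧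
      e.symm (k.left.appTop e1) ≠ 0 := by
  refine ⟨by simpa only [RingEquiv.apply_symm_apply] using hY.comp k, ?_⟩
  exact ((hu1.map k.left.appTop.hom).map e.symm).ne_zero

omit [IsAffine Y.left] in
theorem BC.field_ic {K : Type u} [Field K] [IsAlgClosed K] {W : Over S} [IsAffine W.left]
    (e : K ≃+* Γ(W.left, ⊤)) (k : W ⟶ Y) (a : Γ(W.left, ⊤)) :
    IC i pp pm a 1 ↔ 1 - k.left.appTop e1 * a ≠ 0 := by
  obtain ⟨hE, h0⟩ := H.field_expand hY hu1 e k
  have h := H.ic_iff e hE h0 (e.symm a)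
  rw [e.apply_symm_apply] at h
  have e' : 1 - e.symm (k.left.appTop e1) * e.symm a = e.symm (1 - k.left.appTop e1 * a) := by
    rw [map_sub, map_one, map_mul]
  rw [h, e', ne_eq, ne_eq, map_eq_zero_iff e.symm e.symm.injective]

omit [IsAffine Y.left] in
theorem BC.ic_iff_isUnit {X : Over S} (k : X ⟶ Y) (x y : Γ(X.left, ⊤)) :
    IC i pp pm x y ↔ IsUnit (1 - k.left.appTop e1 * x * y) := by
  refine ⟨fun h => isUnit_of_field_points _ fun K _ _ W _ e l h0 => ?_, fun h =>
    IC.of_field_points fun K _ _ W _ e l => ?_⟩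
  · have : Nontrivial Γ(W.left, ⊤) := e.symm.nontrivial
    have hl := h.comp l
    rw [map_sub, map_one, map_mul, map_mul, ← appTop_comp_apply] at h0
    rcases isUnit_of_field_points.isUnit_or_eq_zero_of_field e (l.left.appTop y) with hy | hy
    · refine (H.field_ic hY hu1 e (l ≫ k) _).mp ((H.ic_mul_iff _ hy.unit).mp hl) ?_
      rw [IsUnit.unit_spec, ← _root_.mul_assoc]
      exact h0
    · rw [hy, mul_zero, sub_zero] at h0
      exact one_ne_zero h0
  · have : Nontrivial Γ(W.left, ⊤) := e.symm.nontrivial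
    have hl := h.map l.left.appTop.hom
    rcases isUnit_of_field_points.isUnit_or_eq_zero_of_field e (l.left.appTop y) with hy | hy
    · refine (H.ic_mul_iff _ hy.unit).mpr ((H.field_ic hY hu1 e (l ≫ k) _).mpr ?_)
      rw [IsUnit.unit_spec, appTop_comp_apply, ← map_mul, ← map_mul, ← map_one l.left.appTop.hom,
        ← map_sub, ← _root_.mul_assoc]
      exact hl.ne_zero
    · rw [hy]
      exact (H.rel_zero_right _).ic

omit [IsAffine Y.left] in
/-- The value over a field of the first coordinate. -/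
theorem BC.field_fst {K : Type u} [Field K] [IsAlgClosed K] {W : Over S} [IsAffine W.left]
    (e : K ≃+* Γ(W.left, ⊤)) (k : W ⟶ Y) {u E X : Γ(W.left, ⊤)} {t : W ⟶ T}
    (h : Rel i pp pm u 1 E t X) : E * (1 - k.left.appTop e1 * u) = 1 := by
  obtain ⟨hE, h0⟩ := H.field_expand hY hu1 e k
  set c := e.symm (k.left.appTop e1)
  have hbad : ¬ IC i pp pm (e c⁻¹) 1 := by
    rw [H.ic_iff e hE h0, mul_inv_cancel₀ h0, sub_self]
    exact not_not.mpr rfl
  have h' : Rel i pp pm (e (e.symm u)) 1 (e (e.symm E)) t X := by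
    simpa only [RingEquiv.apply_symm_apply] using h
  have hv' := H.bad_val e hbad h'
  apply e.symm.injective
  rw [map_mul, map_sub, map_one, map_mul]
  show e.symm E * (1 - c * e.symm u) = 1
  have hc : c * c⁻¹ = 1 := mul_inv_cancel₀ h0
  linear_combination c * hv' - e.symm E * hc + hc

theorem BC.e2_eq : e2 = e1 ^ 2 :=
  sub_eq_zero.mp ((IsUnit.mul_right_eq_zero hu1).mp (H.expand_sym hY))

theorem BC.g2_mul {u E X : Γ(Y.left, ⊤)} {t : Y ⟶ T} (h : Rel i pp pm u 1 E t X) (hu : IsUnit u) :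
    g2 * X = e1 * u * E := by
  obtain ⟨hh, h2⟩ := H.expand_h hY h hu
  rw [H.e2_eq hY hu1] at h2
  refine (hv α t).isUnit.mul_left_cancel ?_
  linear_combination -h2 - (e1 * u * E) * hh

theorem BC.g2_eq : g2 = e1 := by
  classical
  obtain ⟨Z, c, r, _, hf, hs, hr⟩ := exists_avoid Y
    (Polynomial.X * (1 - Polynomial.C e1 * Polynomial.X)) fun K _ _ W _ e y => by
      have : Infinite K := IsAlgClosed.instInfinite
      obtain ⟨b, hb⟩ :=
        Infinite.exists_notMem_finset ({0, (e.symm (y.left.appTop e1))⁻¹} : Finset K)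
      simp only [Finset.mem_insert, Finset.mem_singleton, not_or] at hb
      refine ⟨e b, ?_⟩
      simp only [Polynomial.eval₂_mul, Polynomial.eval₂_sub, Polynomial.eval₂_X,
        Polynomial.eval₂_C, Polynomial.eval₂_one]
      refine (isUnit_e e hb.1).mul ?_
      have hne : 1 - e.symm (y.left.appTop e1) * b ≠ 0 := by
        intro h0
        apply hb.2
        exact eq_inv_of_mul_eq_one_right (by linear_combination -h0)
      have := isUnit_e e hne
      rwa [map_sub, map_one, map_mul, e.apply_symm_apply] at this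
  simp only [Polynomial.eval₂_mul, Polynomial.eval₂_sub, Polynomial.eval₂_X, Polynomial.eval₂_C,
    Polynomial.eval₂_one, IsUnit.mul_iff] at hr
  apply appTop_injective_of_cover c
  have hZ := hY.comp c
  have hu1' : IsUnit (c.left.appTop e1) := hu1.map c.left.appTop.hom
  have hic : IC i pp pm r 1 := (H.ic_iff_isUnit hY hu1 c r 1).mpr (by rw [_root_.mul_one]; exact hr.2)
  obtain ⟨E, t, X, h⟩ := H.rel_exists hic
  obtain ⟨N, k, _, ε, hε, -, huniq, -⟩ := exists_trunc Z
  obtain ⟨t', h'⟩ := H.expand_shift hZ h k ε hε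
  have hu' : IsUnit (k.left.appTop r + ε) :=
    IsNilpotent.isUnit_add_left_of_commute ⟨3, hε⟩ (hr.1.map k.left.appTop.hom) (Commute.all _ _)
  have e' := H.g2_mul (hZ.comp k) (hu1'.map k.left.appTop.hom) h' hu'
  have e0 := congrArg k.left.appTop (H.g2_mul hZ hu1' h hr.1)
  have hh := (H.expand_h hZ h hr.1).1
  set a := c.left.appTop e1
  set a2 := c.left.appTop e2
  set g := c.left.appTop g2
  set x := c.left.appTop x2
  have := (huniq 0 ((g - a) * (hv α t : Γ(Z.left, ⊤)))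
    (g * (hv α t : Γ(Z.left, ⊤)) * x * E - a * (r * a2 * E ^ 3 + a * E ^ 2)) ?_).2.1
  · exact sub_eq_zero.mp ((IsUnit.mul_left_eq_zero (hv α t).isUnit).mp this)
  · simp only [map_zero, map_sub, map_mul, map_add, map_pow, zero_add] at e' e0 ⊢
    have hh' := congrArg k.left.appTop hh
    simp only [map_add, map_mul, map_pow] at hh'
    linear_combination e' - e0 + (k.left.appTop a * k.left.appTop a2 * k.left.appTop E ^ 3) * hε -
      (k.left.appTop a * ε) * hh'

theorem BC.snd_eq {u E X : Γ(Y.left, ⊤)} {t : Y ⟶ T} (h : Rel i pp pm u 1 E t X) (hu : IsUnit u) :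
    X = u * E := by
  have e := H.g2_mul hY hu1 h hu
  rw [H.g2_eq hY hu1, _root_.mul_assoc] at e
  exact hu1.mul_left_cancel e

omit H hY hu1 [IsAffine Y.left] in
theorem map_unit_inv {A B : Type u} [CommRing A] [CommRing B] (φ : A →+* B) {z : A} {z' : B}
    (hz : IsUnit z) (hz' : IsUnit z') (h : φ z = z') :
    φ ((hz.unit⁻¹ : Aˣ) : A) = ((hz'.unit⁻¹ : Bˣ) : B) := by
  refine hz'.mul_left_cancel ?_
  rw [hz'.mul_val_inv, ← h, ← map_mul, hz.mul_val_inv, map_one]

theorem BC.formula_unit {w : Γ(Y.left, ⊤)} (hw : IsUnit w) (hz : IsUnit (1 - e1 * w)) :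
    ∃ t : Y ⟶ T, Rel i pp pm w 1 ((hz.unit⁻¹ : Γ(Y.left, ⊤)ˣ) : Γ(Y.left, ⊤)) t
        (((hz.unit⁻¹ : Γ(Y.left, ⊤)ˣ) : Γ(Y.left, ⊤)) * w) ∧
      (hv α t : Γ(Y.left, ⊤)) = ((hz.unit⁻¹ : Γ(Y.left, ⊤)ˣ) : Γ(Y.left, ⊤)) ^ 2 := by
  classical
  have hzi := hz.val_inv_mul
  obtain ⟨E', t', X', h'⟩ := H.rel_exists
    ((H.ic_iff_isUnit hY hu1 (𝟙 Y) w 1).mpr (by rw [appTop_id_apply, _root_.mul_one]; exact hz))
  have hX' := H.snd_eq hY hu1 h' hw
  suffices hE' : E' * (1 - e1 * w) = 1 by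
    have hE'' : E' = ((hz.unit⁻¹ : Γ(Y.left, ⊤)ˣ) : Γ(Y.left, ⊤)) := by
      linear_combination (((hz.unit⁻¹ : Γ(Y.left, ⊤)ˣ) : Γ(Y.left, ⊤))) * hE' - E' * hzi
    refine ⟨t', ?_, ?_⟩
    · rw [← hE'', mul_comm E', ← hX']; exact h'
    · have hh := (H.expand_h hY h' hw).1
      rw [hh, ← hE'']
      linear_combination -E' * hE'
  obtain ⟨Z, c, r, _, hf, hs, hr⟩ := exists_avoid Y
    (Polynomial.X * (1 - Polynomial.C e1 * Polynomial.X) *
      (Polynomial.X + Polynomial.C w * (1 - Polynomial.C e1 * Polynomial.X))) fun K _ _ W _ e y => by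
      have : Infinite K := IsAlgClosed.instInfinite
      set a := e.symm (y.left.appTop e1)
      set b₀ := e.symm (y.left.appTop w)
      have hb₀ : b₀ ≠ 0 := ((hw.map y.left.appTop.hom).map e.symm).ne_zero
      let p : Polynomial K := Polynomial.X * (1 - Polynomial.C a * Polynomial.X) *
        (Polynomial.X + Polynomial.C b₀ * (1 - Polynomial.C a * Polynomial.X))
      have hp : p ≠ 0 := by
        refine mul_ne_zero (mul_ne_zero Polynomial.X_ne_zero fun h0 => ?_) fun h0 => ?_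
        · simpa using congrArg (Polynomial.eval 0) h0
        · exact hb₀ (by simpa using congrArg (Polynomial.eval 0) h0)
      obtain ⟨b, hb⟩ := Infinite.exists_notMem_finset p.roots.toFinset
      simp only [Multiset.mem_toFinset, Polynomial.mem_roots hp, Polynomial.IsRoot.def] at hb
      refine ⟨e b, ?_⟩
      have := isUnit_e e hb
      simp only [p, Polynomial.eval_mul, Polynomial.eval_sub, Polynomial.eval_add, Polynomial.eval_X,
        Polynomial.eval_C, Polynomial.eval_one, map_mul, map_sub, map_add, map_one, a, b₀,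
        RingEquiv.apply_symm_apply] at this
      simp only [Polynomial.eval₂_mul, Polynomial.eval₂_sub, Polynomial.eval₂_add,
        Polynomial.eval₂_X, Polynomial.eval₂_C, Polynomial.eval₂_one]
      exact this
  simp only [Polynomial.eval₂_mul, Polynomial.eval₂_sub, Polynomial.eval₂_add, Polynomial.eval₂_X,
    Polynomial.eval₂_C, Polynomial.eval₂_one, IsUnit.mul_iff] at hr
  apply appTop_injective_of_cover c
  simp only [map_mul, map_sub, map_one]
  have hZ := hY.comp c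
  have hu1' : IsUnit (c.left.appTop e1) := hu1.map c.left.appTop.hom
  have hic : IC i pp pm r 1 :=
    (H.ic_iff_isUnit hY hu1 c r 1).mpr (by rw [_root_.mul_one]; exact hr.1.2)
  obtain ⟨E, t, X, h⟩ := H.rel_exists hic
  have hE := H.isUnit_fst h isUnit_one
  have hX := H.snd_eq hZ hu1' h hr.1.1
  set a := c.left.appTop e1
  set w' := c.left.appTop w
  have hsum : IsUnit (r * E + w') := by
    refine isUnit_of_field_points _ fun L _ _ V _ eV v h0 => ?_
    have : Nontrivial Γ(V.left, ⊤) := eV.symm.nontrivial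
    have hval := H.field_fst hY hu1 eV (v ≫ c) (by simpa only [map_one] using h.comp v)
    rw [appTop_comp_apply] at hval
    rw [map_add, map_mul] at h0
    refine (hr.2.map v.left.appTop.hom).ne_zero ?_
    show v.left.appTop (r + w' * (1 - a * r)) = 0
    simp only [map_add, map_mul, map_sub, map_one]
    linear_combination (1 - v.left.appTop a * v.left.appTop r) * h0 - (v.left.appTop r) * hval
  let v := ((hE.unit⁻¹ : Γ(Z.left, ⊤)ˣ) : Γ(Z.left, ⊤)) * w'
  have hvE : v * E = w' := by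
    rw [mul_comm, ← _root_.mul_assoc, hE.mul_val_inv, _root_.one_mul]
  have h'c := h'.comp c
  rw [map_one] at h'c
  change Rel i pp pm w' 1 _ _ _ at h'c
  rw [← hvE] at h'c
  have h'' := H.rel_shift hE h h'c
  have huv : IsUnit (r + v) := by
    refine isUnit_of_mul_isUnit_left (y := E) ?_
    rw [add_mul, hvE]
    exact hsum
  have hX'' := H.snd_eq hZ hu1' h'' huv
  refine exact_aux (u := r) (v := v) (E := E) hE.unit hE.unit_spec hr.1.1 hvE
    (H.expand_h hZ h hr.1.1).1 ?_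
  rw [← hX'', hX, hX', map_mul]

theorem BC.formula_one {w : Γ(Y.left, ⊤)} (hz : IsUnit (1 - e1 * w)) :
    ∃ t : Y ⟶ T, Rel i pp pm w 1 ((hz.unit⁻¹ : Γ(Y.left, ⊤)ˣ) : Γ(Y.left, ⊤)) t
        (((hz.unit⁻¹ : Γ(Y.left, ⊤)ˣ) : Γ(Y.left, ⊤)) * w) ∧
      (hv α t : Γ(Y.left, ⊤)) = ((hz.unit⁻¹ : Γ(Y.left, ⊤)ˣ) : Γ(Y.left, ⊤)) ^ 2 := by
  classical
  obtain ⟨Z, c, r, _, hf, hs, hr⟩ := exists_avoid Y
    (Polynomial.X * (1 - Polynomial.C e1 * Polynomial.X) * (Polynomial.C w - Polynomial.X))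
    fun K _ _ W _ e y => by
      have : Infinite K := IsAlgClosed.instInfinite
      set a := e.symm (y.left.appTop e1)
      set b₀ := e.symm (y.left.appTop w)
      let p : Polynomial K := Polynomial.X * (1 - Polynomial.C a * Polynomial.X) *
        (Polynomial.C b₀ - Polynomial.X)
      have hp : p ≠ 0 := by
        refine mul_ne_zero (mul_ne_zero Polynomial.X_ne_zero fun h0 => ?_) ?_
        · simpa using congrArg (Polynomial.eval 0) h0
        · rw [← neg_sub]
          exact neg_ne_zero.mpr (Polynomial.X_sub_C_ne_zero b₀)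
      obtain ⟨b, hb⟩ := Infinite.exists_notMem_finset p.roots.toFinset
      simp only [Multiset.mem_toFinset, Polynomial.mem_roots hp, Polynomial.IsRoot.def] at hb
      refine ⟨e b, ?_⟩
      have := isUnit_e e hb
      simp only [p, Polynomial.eval_mul, Polynomial.eval_sub, Polynomial.eval_X,
        Polynomial.eval_C, Polynomial.eval_one, map_mul, map_sub, map_one, a, b₀,
        RingEquiv.apply_symm_apply] at this
      simp only [Polynomial.eval₂_mul, Polynomial.eval₂_sub, Polynomial.eval₂_X, Polynomial.eval₂_C,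
        Polynomial.eval₂_one]
      exact this
  simp only [Polynomial.eval₂_mul, Polynomial.eval₂_sub, Polynomial.eval₂_X, Polynomial.eval₂_C,
    Polynomial.eval₂_one, IsUnit.mul_iff] at hr
  refine H.full_of_cover c
    ((H.ic_iff_isUnit hY hu1 (𝟙 Y) w 1).mpr (by rw [appTop_id_apply, _root_.mul_one]; exact hz)) ?_
  have hZ := hY.comp c
  have hu1' : IsUnit (c.left.appTop e1) := hu1.map c.left.appTop.hom
  have hzc : IsUnit (1 - c.left.appTop e1 * c.left.appTop w) := by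
    rw [← map_one c.left.appTop.hom, ← map_mul, ← map_sub]
    exact hz.map c.left.appTop.hom
  have hinv := map_unit_inv c.left.appTop.hom hz hzc (by rw [map_sub, map_one, map_mul])
  simp only [map_mul, map_pow, map_one, hinv]
  obtain ⟨⟨hr1, hr2⟩, hr3⟩ := hr
  change IsUnit (1 - c.left.appTop e1 * r) at hr2
  change IsUnit (c.left.appTop w - r) at hr3
  obtain ⟨t, h, ht⟩ := H.formula_unit hZ hu1' hr1 hr2
  set a := c.left.appTop e1
  set w' := c.left.appTop w
  set Zu : Γ(Z.left, ⊤) := ((hr2.unit⁻¹ : Γ(Z.left, ⊤)ˣ) : Γ(Z.left, ⊤)) with hZu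
  set Zi : Γ(Z.left, ⊤) := ((hzc.unit⁻¹ : Γ(Z.left, ⊤)ˣ) : Γ(Z.left, ⊤)) with hZi
  have hZu1 : Zu * (1 - a * r) = 1 := hr2.val_inv_mul
  have hZi1 : Zi * (1 - a * w') = 1 := hzc.val_inv_mul
  have hZuU : IsUnit Zu := Units.isUnit _
  have hmul : 1 - a * ((w' - r) * Zu) = (1 - a * w') * Zu := by linear_combination -hZu1
  have hzw : IsUnit (1 - a * ((w' - r) * Zu)) := by rw [hmul]; exact hzc.mul hZuU
  obtain ⟨t₂, h₂, ht₂⟩ := H.formula_unit hZ hu1' (hr3.mul hZuU) hzw
  set Zw : Γ(Z.left, ⊤) := ((hzw.unit⁻¹ : Γ(Z.left, ⊤)ˣ) : Γ(Z.left, ⊤))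
  have hZw1 : Zw * (1 - a * ((w' - r) * Zu)) = 1 := hzw.val_inv_mul
  have hprod : Zw * Zu = Zi := by
    linear_combination (Zi) * hZw1 - Zw * Zu * hZi1 + Zi * Zw * hmul * (-1)
  have h'' := H.rel_shift hZuU h h₂
  rw [add_sub_cancel] at h''
  refine ⟨t₂ * t, ?_, ?_⟩
  · convert h'' using 1
    · rw [← hprod, mul_comm]
    · rw [ht]
      linear_combination (- w') * hprod - (Zu * Zw * (w' - r)) * (Zu * hZuU.mul_val_inv) +
        (Zu * r) * (hZw1) - (Zu * Zw * (w' - r)) * hZu1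
  · rw [H.hv_mul, Units.val_mul, ht₂, ht, ← hprod, mul_pow]

theorem BC.formula {x y : Γ(Y.left, ⊤)} (hz : IsUnit (1 - e1 * x * y)) :
    ∃ t : Y ⟶ T, Rel i pp pm x y (((hz.unit⁻¹ : Γ(Y.left, ⊤)ˣ) : Γ(Y.left, ⊤)) * y) t
        (((hz.unit⁻¹ : Γ(Y.left, ⊤)ˣ) : Γ(Y.left, ⊤)) * x) ∧
      (hv α t : Γ(Y.left, ⊤)) = ((hz.unit⁻¹ : Γ(Y.left, ⊤)ˣ) : Γ(Y.left, ⊤)) ^ 2 := by
  classical
  have aux : ∀ (Z : Over S) [IsAffine Z.left] (a b c d : Γ(Z.left, ⊤))
      (_ : Expand i pp pm a b c d) (_ : IsUnit a) (x y : Γ(Z.left, ⊤)) (_ : IsUnit y)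
      (hz : IsUnit (1 - a * x * y)),
      ∃ t : Z ⟶ T, Rel i pp pm x y (((hz.unit⁻¹ : Γ(Z.left, ⊤)ˣ) : Γ(Z.left, ⊤)) * y) t
          (((hz.unit⁻¹ : Γ(Z.left, ⊤)ˣ) : Γ(Z.left, ⊤)) * x) ∧
        (hv α t : Γ(Z.left, ⊤)) = ((hz.unit⁻¹ : Γ(Z.left, ⊤)ˣ) : Γ(Z.left, ⊤)) ^ 2 := by
    intro Z _ a b c d hZ ha x y hy hz
    have hz' : IsUnit (1 - a * (x * y)) := by rwa [← _root_.mul_assoc]
    obtain ⟨t, h, ht⟩ := H.formula_one hZ ha hz'
    have hinv : hz'.unit = hz.unit := Units.ext (by simp [_root_.mul_assoc])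
    rw [hinv] at h ht
    refine ⟨t, ?_, ht⟩
    have h' := H.rel_of_one (x := x) hy.unit (by rw [IsUnit.unit_spec]; exact h)
    rw [IsUnit.unit_spec] at h'
    convert h' using 1
    · ring
    · linear_combination -(((hz.unit⁻¹ : Γ(Z.left, ⊤)ˣ) : Γ(Z.left, ⊤)) * x) * hy.val_inv_mul
  obtain ⟨Z, c, r, _, hf, hs, hr⟩ := exists_avoid Y
    (Polynomial.X * (Polynomial.C y - Polynomial.X) *
      (1 - Polynomial.C (e1 * x) * (Polynomial.C y - Polynomial.X))) fun K _ _ W _ e z => by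
      have : Infinite K := IsAlgClosed.instInfinite
      set a := e.symm (z.left.appTop (e1 * x))
      set b₀ := e.symm (z.left.appTop y)
      let p : Polynomial K := Polynomial.X * (Polynomial.C b₀ - Polynomial.X) *
        (1 - Polynomial.C a * (Polynomial.C b₀ - Polynomial.X))
      have hp : p ≠ 0 := by
        refine mul_ne_zero (mul_ne_zero Polynomial.X_ne_zero ?_) fun h0 => ?_
        · rw [← neg_sub]
          exact neg_ne_zero.mpr (Polynomial.X_sub_C_ne_zero b₀)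
        · simpa using congrArg (Polynomial.eval b₀) h0
      obtain ⟨b, hb⟩ := Infinite.exists_notMem_finset p.roots.toFinset
      simp only [Multiset.mem_toFinset, Polynomial.mem_roots hp, Polynomial.IsRoot.def] at hb
      refine ⟨e b, ?_⟩
      have := isUnit_e e hb
      simp only [p, Polynomial.eval_mul, Polynomial.eval_sub, Polynomial.eval_X,
        Polynomial.eval_C, Polynomial.eval_one, map_mul, map_sub, map_one, a, b₀,
        RingEquiv.apply_symm_apply] at this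
      simp only [Polynomial.eval₂_mul, Polynomial.eval₂_sub, Polynomial.eval₂_X, Polynomial.eval₂_C,
        Polynomial.eval₂_one, map_mul]
      exact this
  simp only [Polynomial.eval₂_mul, Polynomial.eval₂_sub, Polynomial.eval₂_X, Polynomial.eval₂_C,
    Polynomial.eval₂_one, map_mul, IsUnit.mul_iff] at hr
  refine H.full_of_cover c ((H.ic_iff_isUnit hY hu1 (𝟙 Y) x y).mpr (by rwa [appTop_id_apply])) ?_
  have hZ := hY.comp c
  have hu1' : IsUnit (c.left.appTop e1) := hu1.map c.left.appTop.hom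
  have hzc : IsUnit (1 - c.left.appTop e1 * c.left.appTop x * c.left.appTop y) := by
    rw [← map_one c.left.appTop.hom, ← map_mul, ← map_mul, ← map_sub]
    exact hz.map c.left.appTop.hom
  have hinv := map_unit_inv c.left.appTop.hom hz hzc (by rw [map_sub, map_one, map_mul, map_mul])
  simp only [map_mul, map_pow, hinv]
  obtain ⟨⟨hr1, hr2⟩, hr3⟩ := hr
  change IsUnit (c.left.appTop y - r) at hr2
  change IsUnit (1 - c.left.appTop e1 * c.left.appTop x * (c.left.appTop y - r)) at hr3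
  obtain ⟨t, h, ht⟩ := aux Z _ _ _ _ hZ hu1' _ _ hr2 hr3
  set a := c.left.appTop e1
  set x' := c.left.appTop x
  set y' := c.left.appTop y
  set Z1 : Γ(Z.left, ⊤) := ((hr3.unit⁻¹ : Γ(Z.left, ⊤)ˣ) : Γ(Z.left, ⊤))
  set Zi : Γ(Z.left, ⊤) := ((hzc.unit⁻¹ : Γ(Z.left, ⊤)ˣ) : Γ(Z.left, ⊤))
  have hZ11 : Z1 * (1 - a * x' * (y' - r)) = 1 := hr3.val_inv_mul
  have hZi1 : Zi * (1 - a * x' * y') = 1 := hzc.val_inv_mul
  have hmul : 1 - a * (Z1 * x') * r = (1 - a * x' * y') * Z1 := by linear_combination -hZ11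
  have hz2 : IsUnit (1 - a * (Z1 * x') * r) := by rw [hmul]; exact hzc.mul (Units.isUnit _)
  obtain ⟨t₂, h₂, ht₂⟩ := aux Z _ _ _ _ hZ hu1' _ _ hr1 hz2
  set Z2 : Γ(Z.left, ⊤) := ((hz2.unit⁻¹ : Γ(Z.left, ⊤)ˣ) : Γ(Z.left, ⊤))
  have hZ21 : Z2 * (1 - a * (Z1 * x') * r) = 1 := hz2.val_inv_mul
  have hprod : Z2 * Z1 = Zi := by
    linear_combination Zi * hZ21 - Z2 * Z1 * hZi1 - Zi * Z2 * hmul
  have h'' := H.rel_add_right h h₂
  rw [sub_add_cancel] at h''
  refine ⟨t * t₂, ?_, ?_⟩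
  · convert h'' using 1
    · rw [ht]
      linear_combination (-y') * hprod + (Z1 * (y' - r)) * hZ21 - (Z1 * Z2 * r) * hZ11
    · rw [← hprod, _root_.mul_assoc]
  · rw [H.hv_mul, Units.val_mul, ht₂, ht, ← hprod]; ring

end Groth.Agent.RedPts82
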