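import Groth.Agent.RedPts82.BigCell
import Groth.Agent.RedPts82.CommRel

/-!
Points contracted by a cocharacter, in an affine group over the base.
-/

universe u

open CategoryTheory MonoidalCategory CartesianMonoidalCategory MonObj GrpObj AlgebraicGeometry
open CategoryTheory.Limits

namespace Groth.Agent.RedPts82

variable {S : Scheme.{u}} {G : Over S} [GrpObj G] (ν : Red.Gm S ⟶ G)

/-- Conjugation by a cocharacter extends to the affine line, with the given value at zero. -/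
def Contr {X : Over S} (g l : X ⟶ G) : Prop :=
  ∃ w : X ⊗ Red.Ga S ⟶ G,
    (∀ (Z : Over S) (z : Z ⟶ X) (t : Z ⟶ Red.Gm S),
      lift z (gaPt (Red.gmFn t)) ≫ w = (t ≫ ν) * (z ≫ g) * (t ≫ ν)⁻¹) ∧
    ∀ (Z : Over S) (z : Z ⟶ X), lift z (gaPt 0) ≫ w = z ≫ l

variable {ν}

theorem Contr.comp {X X' : Over S} {g l : X ⟶ G} (h : Contr ν g l) (k : X' ⟶ X) :
    Contr ν (k ≫ g) (k ≫ l) := by
  obtain ⟨w, h1, h2⟩ := h
  refine ⟨(k ▷ Red.Ga S) ≫ w, fun Z z t => ?_, fun Z z => ?_⟩
  · rw [← Category.assoc, lift_whiskerRight, h1 Z (z ≫ k) t]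
    simp only [Category.assoc]
  · rw [← Category.assoc, lift_whiskerRight, h2 Z (z ≫ k), Category.assoc]

theorem Contr.mul {X : Over S} {g g' l l' : X ⟶ G} (h : Contr ν g l) (h' : Contr ν g' l') :
    Contr ν (g * g') (l * l') := by
  obtain ⟨w, h1, h2⟩ := h
  obtain ⟨w', h1', h2'⟩ := h'
  refine ⟨w * w', fun Z z t => ?_, fun Z z => ?_⟩
  · rw [MonObj.comp_mul, h1, h1', MonObj.comp_mul]; group
  · rw [MonObj.comp_mul, h2, h2', MonObj.comp_mul]

theorem Contr.inv {X : Over S} {g l : X ⟶ G} (h : Contr ν g l) : Contr ν g⁻¹ l⁻¹ := by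
  obtain ⟨w, h1, h2⟩ := h
  refine ⟨w⁻¹, fun Z z t => ?_, fun Z z => ?_⟩
  · rw [GrpObj.comp_inv, h1, GrpObj.comp_inv]; group
  · rw [GrpObj.comp_inv, h2, GrpObj.comp_inv]

theorem Contr.one {X : Over S} : Contr ν (1 : X ⟶ G) 1 :=
  ⟨1, fun Z z t => by rw [MonObj.comp_one, MonObj.comp_one]; group,
    fun Z z => by rw [MonObj.comp_one, MonObj.comp_one]⟩

/-- A point fixed by the cocharacter is contracted to itself. -/
theorem Contr.of_comm {X : Over S} {g : X ⟶ G}
    (h : ∀ (Z : Over S) (z : Z ⟶ X) (t : Z ⟶ Red.Gm S),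
      (t ≫ ν) * (z ≫ g) = (z ≫ g) * (t ≫ ν)) : Contr ν g g :=
  ⟨fst _ _ ≫ g, fun Z z t => by rw [lift_fst_assoc, h, mul_inv_cancel_right],
    fun Z z => by rw [lift_fst_assoc]⟩

theorem exists_unit_line (Y : Over S) [IsAffine Y.left] :
    ∃ j : polyDS Y ℤ ⟶ polyGa Y, j ≫ gaProj Y = polyProj Y ℤ ∧
      j ≫ gaTu Y = gaPt (Red.gmFn (polyTu Y ℤ)) ∧ Function.Injective j.left.appTop := by
  obtain ⟨j, h1, h2, h3⟩ := exists_gaLift (polyProj Y ℤ) (gaPt (Red.gmFn (polyTu Y ℤ)))
  refine ⟨j, h1, h2, (injective_iff_map_eq_zero j.left.appTop.hom).mpr fun r hr => ?_⟩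
  obtain ⟨p, rfl⟩ := (gaCoordHom_bijective Y).2 r
  change j.left.appTop (gaCoordHom Y p) = 0 at hr
  rw [h3] at hr
  have hev : evalGa (polyProj Y ℤ) (gaPt (Red.gmFn (polyTu Y ℤ))) p =
      polyCoord Y ℤ (p.eval₂ (MonoidAlgebra.singleOneRingHom.comp (RingHom.id _))
        (MonoidAlgebra.single (Multiplicative.ofAdd (1 : ℤ)) 1)) := by
    rw [Polynomial.hom_eval₂]
    show p.eval₂ _ (Red.gaFn (gaPt _)) = _
    rw [gaFn_gaPt, gmFn_eq, dsFn_polyTu]
    congr 1
    exact RingHom.ext (polyProj_appTop Y ℤ)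
  rw [hev, ← map_zero (polyCoord Y ℤ)] at hr
  have hp := (polyCoord_bijective Y ℤ).1 hr
  have : p = 0 := Polynomial.ext fun n => by
    have e := congrArg (fun r => r.coeff (Multiplicative.ofAdd (n : ℤ))) hp
    simp only [coeff_eval₂_single] at e
    simpa using e
  rw [this, map_zero]

/-- Morphisms from a product with the line which agree on invertible coordinates are equal. -/
theorem line_hom_ext {P : Over S} (hP : IsAffineHom P.hom) {X : Over S} {f f' : X ⊗ Red.Ga S ⟶ P}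
    (h : ∀ (Z : Over S) (z : Z ⟶ X) (t : Z ⟶ Red.Gm S),
      lift z (gaPt (Red.gmFn t)) ≫ f = lift z (gaPt (Red.gmFn t)) ≫ f') : f = f' := by
  refine hom_ext_affine fun Z hZ x => ?_
  obtain ⟨j, hj1, hj2, hj3⟩ := exists_unit_line Z
  obtain ⟨v, hv1, hv2, -⟩ := exists_gaLift (𝟙 Z) (x ≫ snd X (Red.Ga S))
  let L : polyGa Z ⟶ X ⊗ Red.Ga S := lift (gaProj Z ≫ x ≫ fst _ _) (gaTu Z)
  have hv : v ≫ L = x := by
    simp only [L]
    ext1
    · rw [Category.assoc, lift_fst, ← Category.assoc v, hv1, Category.id_comp]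
    · rw [Category.assoc, lift_snd, hv2]
  have hjL : j ≫ L = lift (polyProj Z ℤ ≫ x ≫ fst _ _) (gaPt (Red.gmFn (polyTu Z ℤ))) := by
    simp only [L]
    ext1
    · rw [Category.assoc, lift_fst, ← Category.assoc j, hj1, lift_fst]
    · rw [Category.assoc, lift_snd, hj2, lift_snd]
  have e : L ≫ f = L ≫ f' := by
    refine eq_of_appTop_injective hP (gaProj Z) j hj3 ?_
    rw [← Category.assoc, ← Category.assoc, hjL]
    exact h _ _ _
  rw [← hv, Category.assoc, Category.assoc, e]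

theorem Contr.limit_unique (hG : IsAffineHom G.hom) {X : Over S} {g l l' : X ⟶ G}
    (h : Contr ν g l) (h' : Contr ν g l') : l = l' := by
  obtain ⟨w, h1, h2⟩ := h
  obtain ⟨w', h1', h2'⟩ := h'
  have e : w = w' := line_hom_ext hG fun Z z t => (h1 Z z t).trans (h1' Z z t).symm
  rw [← Category.id_comp l, ← h2, e, h2', Category.id_comp]

/-- Two morphisms from the line to an affine object which agree after the substitutions of a unit and
of its inverse are constant. -/
theorem const_of_both (hG : IsAffineHom G.hom) (Y : Over S) [IsAffine Y.left]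
    (a b : polyGa Y ⟶ G) (j j' : polyDS Y ℤ ⟶ polyGa Y) (o : Y ⟶ polyGa Y)
    (hj1 : j ≫ gaProj Y = polyProj Y ℤ) (hj2 : j ≫ gaTu Y = gaPt (Red.gmFn (polyTu Y ℤ)))
    (hj1' : j' ≫ gaProj Y = polyProj Y ℤ)
    (hj2' : j' ≫ gaTu Y = gaPt (Red.gmFn ((polyTu Y ℤ)⁻¹)))
    (ho1 : o ≫ gaProj Y = 𝟙 Y) (ho2 : o ≫ gaTu Y = gaPt 0)
    (h : j ≫ a = j' ≫ b) : b = gaProj Y ≫ o ≫ b := by
  classical
  have : IsAffineHom (fst Y G).left := inferInstanceAs (IsAffineHom (pullback.fst Y.hom G.hom))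
  have : IsAffine (Y ⊗ G).left := isAffine_of_isAffineHom (fst Y G).left
  let A : polyGa Y ⟶ Y ⊗ G := lift (gaProj Y) a
  let B : polyGa Y ⟶ Y ⊗ G := lift (gaProj Y) b
  have hAB : j ≫ A = j' ≫ B := by
    simp only [A, B]
    ext1
    · rw [Category.assoc, lift_fst, Category.assoc, lift_fst, hj1, hj1']
    · rw [Category.assoc, lift_snd, Category.assoc, lift_snd, h]
  have hev : ∀ (k : polyDS Y ℤ ⟶ polyGa Y) (g : Multiplicative ℤ),
      k ≫ gaProj Y = polyProj Y ℤ →
      Red.gaFn (k ≫ gaTu Y) = polyCoord Y ℤ (MonoidAlgebra.single g 1) → ∀ p,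
      k.left.appTop (gaCoordHom Y p) = polyCoord Y ℤ
        (p.eval₂ (MonoidAlgebra.singleOneRingHom.comp (RingHom.id _)) (MonoidAlgebra.single g 1)) := by
    intro k g h1 h2 p
    obtain ⟨w, hw1, hw2, hw3⟩ := exists_gaLift (polyProj Y ℤ) (k ≫ gaTu Y)
    rw [show k = w from polyGa_hom_ext (h1.trans hw1.symm) hw2.symm, hw3]
    rw [Polynomial.hom_eval₂]
    show p.eval₂ _ (Red.gaFn (k ≫ gaTu Y)) = _
    rw [h2]
    congr 1
    exact RingHom.ext (polyProj_appTop Y ℤ)
  have hgj : Red.gaFn (j ≫ gaTu Y) =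
      polyCoord Y ℤ (MonoidAlgebra.single (Multiplicative.ofAdd (1 : ℤ)) 1) := by
    rw [hj2, gaFn_gaPt, gmFn_eq, dsFn_polyTu]
  have hgj' : Red.gaFn (j' ≫ gaTu Y) =
      polyCoord Y ℤ (MonoidAlgebra.single (Multiplicative.ofAdd (-1 : ℤ)) 1) := by
    rw [hj2', gaFn_gaPt]
    have h1 : Red.gmFn ((polyTu Y ℤ)⁻¹) * Red.gmFn (polyTu Y ℤ) = 1 := gmFn_inv_mul _
    have h2 : polyCoord Y ℤ (MonoidAlgebra.single (Multiplicative.ofAdd (-1 : ℤ)) 1) *
        Red.gmFn (polyTu Y ℤ) = 1 := by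
      rw [gmFn_eq, dsFn_polyTu, ← map_mul, MonoidAlgebra.single_mul_single, ← ofAdd_add,
        neg_add_cancel, _root_.mul_one, ofAdd_zero, ← MonoidAlgebra.one_def, map_one]
    exact (gmFn_isUnit _).mul_right_cancel (h1.trans h2.symm)
  have hB : B = gaProj Y ≫ o ≫ B := by
    apply Over.OverMorphism.ext
    apply ext_of_isAffine
    refine CommRingCat.hom_ext (RingHom.ext fun r => ?_)
    obtain ⟨p, hp⟩ := (gaCoordHom_bijective Y).2 (A.left.appTop r)
    obtain ⟨q, hq⟩ := (gaCoordHom_bijective Y).2 (B.left.appTop r)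
    have e0 := congrArg (fun k => k.left.appTop r) hAB
    change j.left.appTop (A.left.appTop r) = j'.left.appTop (B.left.appTop r) at e0
    rw [← hp, ← hq, hev j _ hj1 hgj, hev j' _ hj1' hgj'] at e0
    have e1 := (polyCoord_bijective Y ℤ).1 e0
    have hq0 : q = Polynomial.C (q.coeff 0) := Polynomial.ext fun n => by
      rw [Polynomial.coeff_C]
      rcases Nat.eq_zero_or_pos n with rfl | hn
      · simp
      rw [if_neg hn.ne']
      have hinj := pow_ofAdd_injective' (-1) (by norm_num)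
      have e2 := congrArg (fun r => r.coeff ((Multiplicative.ofAdd (-1 : ℤ)) ^ n)) e1
      rw [coeff_eval₂_single_pow (-1) hinj q n] at e2
      have hzero : (p.eval₂ (MonoidAlgebra.singleOneRingHom.comp (RingHom.id (Gam Y)))
          (MonoidAlgebra.single (Multiplicative.ofAdd (1 : ℤ)) 1)).coeff
            ((Multiplicative.ofAdd (-1 : ℤ)) ^ n) = 0 := by
        refine coeff_eval₂_single_eq_zero 1 p _ fun m hm => ?_
        rw [← ofAdd_nsmul, ← ofAdd_nsmul] at hm
        have := Multiplicative.ofAdd.injective hm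
        simp only [nsmul_eq_mul, _root_.mul_one, mul_neg] at this
        omega
      rw [hzero] at e2
      exact e2.symm
    change B.left.appTop r = (gaProj Y ≫ o ≫ B).left.appTop r
    change B.left.appTop r = (gaProj Y).left.appTop (o.left.appTop (B.left.appTop r))
    rw [← hq, hq0, ← gaProj_appTop]
    congr 1
    show _ = (o ≫ gaProj Y).left.appTop _
    rw [ho1]
    rfl
  have e := congrArg (· ≫ snd Y G) hB
  simp only [B, Category.assoc, lift_snd] at e
  exact e
where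
  pow_ofAdd_injective' (k : ℤ) (hk : k ≠ 0) :
      Function.Injective fun n : ℕ => (Multiplicative.ofAdd k) ^ n := by
    intro a b h
    simp only [← ofAdd_nsmul] at h
    have h' := Multiplicative.ofAdd.injective h
    simp only [nsmul_eq_mul] at h'
    exact_mod_cast mul_right_cancel₀ hk h'
  coeff_eval₂_single_pow {A : Type u} [CommRing A] (k : ℤ)
      (hk : Function.Injective fun n : ℕ => (Multiplicative.ofAdd k) ^ n) (p : Polynomial A) (n : ℕ) :
      (p.eval₂ (MonoidAlgebra.singleOneRingHom.comp (RingHom.id A))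
        (MonoidAlgebra.single (Multiplicative.ofAdd k) 1)).coeff ((Multiplicative.ofAdd k) ^ n) =
        p.coeff n := by
    classical
    induction p using Polynomial.induction_on' with
    | add p q hp hq =>
      simp only [Polynomial.eval₂_add, MonoidAlgebra.coeff_add, Finsupp.add_apply, hp, hq,
        Polynomial.coeff_add]
    | monomial m a =>
      rw [Polynomial.eval₂_monomial, MonoidAlgebra.single_pow]
      show (MonoidAlgebra.single (1 : Multiplicative ℤ) a * _).coeff _ = _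
      rw [MonoidAlgebra.single_mul_single, _root_.one_mul, one_pow, _root_.mul_one,
        MonoidAlgebra.coeff_single, Finsupp.single_apply, Polynomial.coeff_monomial]
      by_cases h : m = n
      · subst h; simp
      · rw [if_neg h, if_neg fun h' => h (hk h')]
  coeff_eval₂_single_eq_zero {A : Type u} [CommRing A] (k : ℤ) (p : Polynomial A)
      (g : Multiplicative ℤ) (hg : ∀ m : ℕ, (Multiplicative.ofAdd k) ^ m ≠ g) :
      (p.eval₂ (MonoidAlgebra.singleOneRingHom.comp (RingHom.id A))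
        (MonoidAlgebra.single (Multiplicative.ofAdd k) 1)).coeff g = 0 := by
    classical
    induction p using Polynomial.induction_on' with
    | add p q hp hq =>
      simp only [Polynomial.eval₂_add, MonoidAlgebra.coeff_add, Finsupp.add_apply, hp, hq, add_zero]
    | monomial m a =>
      rw [Polynomial.eval₂_monomial, MonoidAlgebra.single_pow]
      show (MonoidAlgebra.single (1 : Multiplicative ℤ) a * _).coeff _ = _
      rw [MonoidAlgebra.single_mul_single, _root_.one_mul, MonoidAlgebra.coeff_single,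
        Finsupp.single_apply, if_neg (hg m)]

variable (ν) in
/-- The inverse cocharacter. -/
noncomputable abbrev negCochar : Red.Gm S ⟶ G := (𝟙 (Red.Gm S))⁻¹ ≫ ν

/-- A point with limits for both directions, one of them trivial, is trivial. -/
theorem Contr.eq_one_of_neg (hG : IsAffineHom G.hom) {X : Over S} {g l : X ⟶ G}
    (h : Contr ν g l) (h' : Contr (negCochar ν) g 1) : g = 1 := by
  refine hom_ext_affine fun Y hY k => ?_
  rw [MonObj.comp_one]
  obtain ⟨w, h1, -⟩ := h.comp k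
  obtain ⟨w', h1', h2'⟩ := h'.comp k
  let L : polyGa Y ⟶ Y ⊗ Red.Ga S := lift (gaProj Y) (gaTu Y)
  obtain ⟨j, hj1, hj2, -⟩ := exists_gaLift (polyProj Y ℤ) (gaPt (Red.gmFn (polyTu Y ℤ)))
  obtain ⟨j', hj1', hj2', -⟩ := exists_gaLift (polyProj Y ℤ) (gaPt (Red.gmFn ((polyTu Y ℤ)⁻¹)))
  obtain ⟨o, ho1, ho2, -⟩ := exists_gaLift (𝟙 Y) (gaPt (X := Y) 0)
  have hL : ∀ {Z : Over S} (q : Z ⟶ polyGa Y) (z : Z ⟶ Y) (x : Z ⟶ Red.Ga S),
      q ≫ gaProj Y = z → q ≫ gaTu Y = x → q ≫ L = lift z x := by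
    intro Z q z x e1 e2
    simp only [L]
    ext1
    · rw [Category.assoc, lift_fst, lift_fst, e1]
    · rw [Category.assoc, lift_snd, lift_snd, e2]
  have e : j ≫ L ≫ w = j' ≫ L ≫ w' := by
    rw [← Category.assoc, ← Category.assoc, hL j _ _ hj1 hj2, hL j' _ _ hj1' hj2', h1, h1']
    have e0 : (polyTu Y ℤ)⁻¹ ≫ negCochar ν = polyTu Y ℤ ≫ ν := by
      show (polyTu Y ℤ)⁻¹ ≫ (𝟙 (Red.Gm S))⁻¹ ≫ ν = _
      rw [← Category.assoc, GrpObj.comp_inv, Category.comp_id,
        inv_eq_of_mul_eq_one_right (inv_mul_cancel (polyTu Y ℤ))]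
    rw [e0]
  have hc := const_of_both hG Y (L ≫ w) (L ≫ w') j j' o hj1 hj2 hj1' hj2' ho1 ho2 e
  have hoL : o ≫ L ≫ w' = 1 := by
    rw [← Category.assoc, hL o _ _ ho1 ho2, h2', MonObj.comp_one, MonObj.comp_one]
  rw [hoL, MonObj.comp_one] at hc
  obtain ⟨p, hp1, hp2, -⟩ := exists_gaLift (𝟙 Y) (gaPt (Red.gmFn (1 : Y ⟶ Red.Gm S)))
  have e2 := h1' Y (𝟙 Y) 1
  rw [← hL p _ _ hp1 hp2, Category.assoc, hc, MonObj.comp_one, Category.id_comp] at e2
  exact eq_one_of_conj e2.symm
where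
  eq_one_of_conj {Y : Over S} {a b : Y ⟶ G} (h : a * b * a⁻¹ = 1) : b = 1 := by
    calc b = a⁻¹ * (a * b * a⁻¹) * a := by group
      _ = 1 := by rw [h]; group

end Groth.Agent.RedPts82
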