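import Groth.Agent.RedPts82.DSHomLoc
import Groth.Agent.RedPts82.MonoMultClosed
import Groth.Agent.RedPts82.RankOneHom

/-!
Clopen loci of properties of homomorphisms between groups of multiplicative type.
-/

universe u

open CategoryTheory MonoidalCategory CartesianMonoidalCategory MonObj GrpObj AlgebraicGeometry
open CategoryTheory.Limits

namespace Groth.Agent.RedPts82

/-- Every affine open is the image of a quasi-compact open. -/
def IsQcCover {X Y : Scheme.{u}} (f : X ⟶ Y) : Prop :=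
  ∀ V : Y.Opens, IsAffineOpen V →
    ∃ W : X.Opens, IsCompact (W : Set X) ∧ f.base '' (W : Set X) = (V : Set Y)

theorem IsQcCover.comp {X Y Z : Scheme.{u}} {f : X ⟶ Y} {g : Y ⟶ Z} (hf : IsQcCover f)
    (hg : IsQcCover g) : IsQcCover (f ≫ g) := by
  classical
  intro V hV
  obtain ⟨W, hWc, hWV⟩ := hg V hV
  have hs : ∀ y : Y, y ∈ W → ∃ (A : Y.Opens) (B : X.Opens), y ∈ A ∧ (A : Set Y) ⊆ W ∧
      IsCompact (B : Set X) ∧ f.base '' (B : Set X) = (A : Set Y) := fun y hy => by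
    obtain ⟨A, hA, hyA, hAW⟩ := exists_isAffineOpen_mem_and_subset hy
    obtain ⟨B, hB, hBA⟩ := hf A hA
    exact ⟨A, B, hyA, hAW, hB, hBA⟩
  choose A B hyA hAW hB hBA using hs
  obtain ⟨F, hF⟩ := hWc.elim_finite_subcover (fun y : W => (A y.1 y.2 : Set Y))
    (fun y => (A y.1 y.2).2) fun y hy => Set.mem_iUnion.mpr ⟨⟨y, hy⟩, hyA y hy⟩
  refine ⟨⨆ y ∈ F, B y.1 y.2, ?_, ?_⟩
  · simp_rw [TopologicalSpace.Opens.coe_iSup]
    exact F.finite_toSet.isCompact_biUnion fun y _ => hB y.1 y.2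
  · have hcomp : ∀ T : Set X, (f ≫ g).base '' T = g.base '' (f.base '' T) := fun T => by
      rw [Scheme.Hom.comp_base, TopCat.coe_comp, Set.image_comp]
    rw [hcomp, ← hWV]
    refine congrArg _ ?_
    simp only [TopologicalSpace.Opens.coe_iSup, Set.image_iUnion, hBA]
    exact Set.Subset.antisymm (Set.iUnion₂_subset fun y _ => hAW y.1 y.2) hF

theorem IsQcCover.pullback_fst {X Y T : Scheme.{u}} {g : T ⟶ Y} {f : X ⟶ Y} (hf : IsQcCover f) :
    IsQcCover (pullback.fst g f) := by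
  classical
  intro V hV
  have hsub : ∀ x : T, x ∈ V → ∃ (W : (pullback g f).Opens) (O : T.Opens), x ∈ O ∧
      IsCompact (W : Set ↥(pullback g f)) ∧ (O : Set T) ⊆ (pullback.fst g f).base '' W ∧
      (pullback.fst g f).base '' W ⊆ (V : Set T) := by
    intro x hx
    obtain ⟨U, hU, hxU, -⟩ :=
      exists_isAffineOpen_mem_and_subset (x := g x) (U := (⊤ : Y.Opens)) trivial
    obtain ⟨O, hO, hxO, hOU⟩ :=
      exists_isAffineOpen_mem_and_subset (x := x) (U := g ⁻¹ᵁ U ⊓ V) ⟨hxU, hx⟩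
    obtain ⟨W, hW, hWU⟩ := hf U hU
    refine ⟨pullback.fst g f ⁻¹ᵁ O ⊓ pullback.snd g f ⁻¹ᵁ W, O, hxO, ?_, ?_, ?_⟩
    · have hr₁ : Set.range (W.ι ≫ f).base ⊆ Set.range U.ι.base := by
        rintro _ ⟨w, rfl⟩
        have : f w.1 ∈ (U : Set Y) := hWU ▸ ⟨w.1, w.2, rfl⟩
        exact ⟨⟨_, this⟩, rfl⟩
      have hr₂ : Set.range (O.ι ≫ g).base ⊆ Set.range U.ι.base := by
        rintro _ ⟨w, rfl⟩
        exact ⟨⟨_, (hOU w.2).1⟩, rfl⟩
      let k₁ := IsOpenImmersion.lift U.ι (W.ι ≫ f) hr₁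
      let k₂ := IsOpenImmersion.lift U.ι (O.ι ≫ g) hr₂
      let φ : pullback k₂ k₁ ⟶ pullback g f := pullback.map k₂ k₁ g f O.ι W.ι U.ι
        (IsOpenImmersion.lift_fac _ _ _) (IsOpenImmersion.lift_fac _ _ _)
      haveI : IsAffine (U : Scheme.{u}) := hU
      haveI : CompactSpace (W : Scheme.{u}) := isCompact_iff_compactSpace.mp hW
      haveI : CompactSpace (O : Scheme.{u}) := isCompact_iff_compactSpace.mp hO.isCompact
      haveI : QuasiCompact k₂ := (quasiCompact_iff_compactSpace k₂).mpr inferInstance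
      haveI : CompactSpace (pullback k₂ k₁ : Scheme.{u}) :=
        QuasiCompact.compactSpace_of_compactSpace (pullback.snd k₂ k₁)
      have := isCompact_range φ.continuous
      rw [Scheme.Pullback.range_map] at this
      simpa [Scheme.Opens.range_ι] using this
    · intro y hy
      obtain ⟨z, hz, hzy⟩ : g y ∈ f.base '' (W : Set X) := hWU ▸ (hOU hy).1
      obtain ⟨p, hp₁, hp₂⟩ :=
        Scheme.Pullback.exists_preimage_pullback (f := g) (g := f) y z hzy.symm
      refine ⟨p, ⟨?_, ?_⟩, hp₁⟩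
      · show pullback.fst g f p ∈ O
        rw [hp₁]; exact hy
      · show pullback.snd g f p ∈ W
        rw [hp₂]; exact hz
    · rintro _ ⟨p, ⟨hp, -⟩, rfl⟩
      exact (hOU hp).2
  choose W O hxO hWc hOW hWV using hsub
  obtain ⟨F, hF⟩ := hV.isCompact.elim_finite_subcover (fun x : V => (O x.1 x.2 : Set T))
    (fun x => (O x.1 x.2).2) fun x hx => Set.mem_iUnion.mpr ⟨⟨x, hx⟩, hxO x hx⟩
  refine ⟨⨆ x ∈ F, W x.1 x.2, ?_, ?_⟩
  · simp_rw [TopologicalSpace.Opens.coe_iSup]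
    exact F.finite_toSet.isCompact_biUnion fun x _ => hWc x.1 x.2
  · simp only [TopologicalSpace.Opens.coe_iSup, Set.image_iUnion]
    refine Set.Subset.antisymm (Set.iUnion₂_subset fun x _ => hWV x.1 x.2) fun x hx => ?_
    obtain ⟨i, hi, hxi⟩ := Set.mem_iUnion₂.mp (hF hx)
    exact Set.mem_iUnion₂.mpr ⟨i, hi, hOW i.1 i.2 hxi⟩

variable {S : Scheme.{u}}

/-- Over a suitable flat cover, a homomorphism from a group of multiplicative type to one of finite
type is locally given by a homomorphism of character groups. -/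
theorem exists_hom_charts {G H : Over S} [GrpObj G] [GrpObj H] (hG : IsMultType G)
    (hH : SGA3x.IsMultTypeFT H) (u : G ⟶ H) [IsMonHom u] :
    ∃ (S' : Scheme.{u}) (f : S' ⟶ S), Flat f ∧ Surjective f ∧ IsQcCover f ∧ ∀ p : S',
      ∃ V : S'.Opens, p ∈ V ∧ ∃ (M N : Type) (_ : AddCommGroup M) (_ : AddCommGroup N)
        (_ : AddGroup.FG N) (φ : N →+ M) (a : Red.DS (V : Scheme.{u}) M ⟶ Red.bc (V.ι ≫ f) G)
        (b : Red.DS (V : Scheme.{u}) N ⟶ Red.bc (V.ι ≫ f) H)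
        (D : (V : Scheme.{u}).Opens) (q : Red.DS (V : Scheme.{u}) M ⟶ Red.DS (V : Scheme.{u}) N),
        IsIso a ∧ IsIso b ∧ q ≫ b = a ≫ (Over.pullback (V.ι ≫ f)).map u ∧
        (∀ x : V, x.1 = p → x ∈ D) ∧ AgreeOn D q (Red.DSmap (V : Scheme.{u}) φ) := by
  obtain ⟨S₁, f₁, hf₁, hs₁, hq₁, hl₁⟩ := hG
  obtain ⟨S₂, f₂, hf₂, hs₂, hq₂, hl₂⟩ := hH
  refine ⟨pullback f₁ f₂, pullback.fst f₁ f₂ ≫ f₁, inferInstance, inferInstance,
    (IsQcCover.pullback_fst hq₂).comp hq₁, fun p => ?_⟩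
  obtain ⟨U₁, hU₁, M, hM, ⟨e₁⟩⟩ := hl₁ (pullback.fst f₁ f₂ p)
  obtain ⟨U₂, hU₂, N, hN, hFG, ⟨e₂⟩⟩ := hl₂ (pullback.snd f₁ f₂ p)
  obtain ⟨V, hV, hpV, hVU⟩ := exists_isAffineOpen_mem_and_subset (x := p)
    (U := pullback.fst f₁ f₂ ⁻¹ᵁ U₁ ⊓ pullback.snd f₁ f₂ ⁻¹ᵁ U₂) ⟨hU₁, hU₂⟩
  haveI : IsAffine (V : Scheme.{u}) := hV
  obtain ⟨a, ha, hma, hsa⟩ := exists_ds_cover_mono
    ((pullback.fst f₁ f₂).resLE U₁ V (fun x hx => (hVU hx).1)) (U₁.ι ≫ f₁)
    (V.ι ≫ pullback.fst f₁ f₂ ≫ f₁) (by rw [Scheme.Hom.resLE_comp_ι_assoc]) e₁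
  obtain ⟨b, hb, hmb, hsb⟩ := exists_ds_cover_mono
    ((pullback.snd f₁ f₂).resLE U₂ V (fun x hx => (hVU hx).2)) (U₂.ι ≫ f₂)
    (V.ι ≫ pullback.fst f₁ f₂ ≫ f₁)
    (by rw [Scheme.Hom.resLE_comp_ι_assoc, pullback.condition]) e₂
  haveI : IsIso a := by
    obtain ⟨r, hr⟩ := hsa _ (𝟙 _)
    exact ⟨r, by rw [← cancel_mono a, Category.assoc, hr, Category.comp_id, Category.id_comp], hr⟩
  haveI : IsIso b := by
    obtain ⟨r, hr⟩ := hsb _ (𝟙 _)
    exact ⟨r, by rw [← cancel_mono b, Category.assoc, hr, Category.comp_id, Category.id_comp], hr⟩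
  obtain ⟨q, hq⟩ : ∃ q, q ≫ b = a ≫ (Over.pullback (V.ι ≫ pullback.fst f₁ f₂ ≫ f₁)).map u :=
    ⟨_, IsIso.eq_comp_inv _ |>.mp (Eq.refl _)⟩
  haveI : IsMonHom q := isMonHom_of_points q fun X x y => by
    haveI := ha
    haveI := hb
    rw [← cancel_mono b, Category.assoc, hq, MonObj.mul_comp _ _ b, Category.assoc, hq,
      Category.assoc, hq]
    refine (Category.assoc _ _ _).symm.trans ((congrArg (· ≫ _) (MonObj.mul_comp x y a)).trans
      ((MonObj.mul_comp _ _ _).trans ?_))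
    rw [Category.assoc, Category.assoc]
  obtain ⟨D, φ, hpD, hD⟩ := exists_ds_hom_loc hFG q ⟨p, hpV⟩
  exact ⟨V, hpV, M, N, hM, hN, hFG, φ, a, b, D, q, inferInstance, inferInstance, hq,
    fun x hx => by rwa [show x = ⟨p, hpV⟩ from Subtype.ext hx], hD⟩

theorem prop_iff_of_isPullback_isIso (P : MorphismProperty Scheme.{u}) [P.RespectsIso]
    {A B C D : Scheme.{u}} {t : A ⟶ B} {l : A ⟶ C} {r : B ⟶ D} {b : C ⟶ D}
    (h : IsPullback t l r b) [IsIso b] : P l ↔ P r := by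
  haveI : IsIso t := h.isIso_fst_of_isIso
  rw [← P.cancel_left_of_respectsIso t r, h.w, P.cancel_right_of_respectsIso]

variable (P : MorphismProperty Scheme.{u}) [P.RespectsIso]

theorem prop_bc_comp {X Y : Over S} (u : X ⟶ Y) {W T : Scheme.{u}} (φ : W ⟶ S) (ψ : T ⟶ W) :
    P ((Over.pullback ψ).map ((Over.pullback φ).map u)).left ↔
      P ((Over.pullback (ψ ≫ φ)).map u).left := by
  let e := pullbackLeftPullbackSndIso Y.hom φ ψ
  have h1 := (isPullback_bc_map ((Over.pullback φ).map u) ψ).paste_horiz (isPullback_bc_map u φ)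
  have h2 := isPullback_bc_map u (ψ ≫ φ)
  have he : e.hom ≫ pullback.fst Y.hom (ψ ≫ φ) = pullback.fst _ ψ ≫ pullback.fst Y.hom φ :=
    pullbackLeftPullbackSndIso_hom_fst Y.hom φ ψ
  have hw : (pullback.fst _ ψ ≫ pullback.fst X.hom φ) ≫ u.left =
      (((Over.pullback ψ).map ((Over.pullback φ).map u)).left ≫ e.hom) ≫
        pullback.fst Y.hom (ψ ≫ φ) := by
    exact h1.w.trans (((congrArg (_ ≫ ·) he.symm)).trans (Category.assoc _ _ _).symm)
  exact prop_iff_of_isPullback_isIso P (b := e.hom)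
    (h := IsPullback.of_right (t := h2) (v₁₁ := ((Over.pullback ψ).map ((Over.pullback φ).map u)).left)
      (h₁₁ := h2.lift _ _ hw) (by rw [h2.lift_fst, he]; exact h1) (h2.lift_snd _ _ hw))

omit [P.RespectsIso] in
theorem pullback_map_eq_of_agree {V T : Scheme.{u}} {M N : Type} [AddCommGroup M] [AddCommGroup N]
    {D : V.Opens} {q q' : Red.DS V M ⟶ Red.DS V N} (hD : AgreeOn D q q') (ψ : T ⟶ V)
    (hψ : ∀ x, ψ x ∈ D) : (Over.pullback ψ).map q = (Over.pullback ψ).map q' := by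
  apply toBase_injective ψ
  rw [← Category.id_comp ((Over.pullback ψ).map q), ← Category.id_comp ((Over.pullback ψ).map q'),
    toBase_comp_map, toBase_comp_map]
  exact hD _ (fun x => hψ _) _

theorem prop_chart {V T : Scheme.{u}} {M N : Type} [AddCommGroup M] [AddCommGroup N]
    (g : V ⟶ S) {G H : Over S} (u : G ⟶ H) (a : Red.DS V M ⟶ Red.bc g G)
    (b : Red.DS V N ⟶ Red.bc g H) [IsIso a] [IsIso b] {D : V.Opens}
    (q : Red.DS V M ⟶ Red.DS V N) (hq : q ≫ b = a ≫ (Over.pullback g).map u)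
    {q' : Red.DS V M ⟶ Red.DS V N} (hD : AgreeOn D q q') (ψ : T ⟶ V) (hψ : ∀ x, ψ x ∈ D) :
    P ((Over.pullback (ψ ≫ g)).map u).left ↔ P ((Over.pullback ψ).map q').left := by
  rw [← pullback_map_eq_of_agree hD ψ hψ, ← prop_bc_comp P u g ψ]
  haveI : IsIso ((Over.pullback ψ).map a).left :=
    inferInstanceAs (IsIso ((Over.forget T).map ((Over.pullback ψ).map a)))
  haveI : IsIso ((Over.pullback ψ).map b).left :=
    inferInstanceAs (IsIso ((Over.forget T).map ((Over.pullback ψ).map b)))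
  have e : ((Over.pullback ψ).map q).left ≫ ((Over.pullback ψ).map b).left =
      ((Over.pullback ψ).map a).left ≫ ((Over.pullback ψ).map ((Over.pullback g).map u)).left := by
    rw [← Over.comp_left, ← Over.comp_left, ← Functor.map_comp, ← Functor.map_comp, hq]
  rw [← P.cancel_left_of_respectsIso ((Over.pullback ψ).map a).left, ← e,
    P.cancel_right_of_respectsIso]

theorem prop_residue_iff [P.IsStableUnderBaseChange] [P.DescendsAlong Unr55.fpqc.{u}]
    {V : Scheme.{u}} (g : V ⟶ S) (x : V) {G H : Over S} (u : G ⟶ H) :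
    P ((Over.pullback (S.fromSpecResidueField (g x))).map u).left ↔
      P ((Over.pullback (V.fromSpecResidueField x ≫ g)).map u).left := by
  let k := Spec.map (g.residueFieldMap x)
  have hk : k ≫ S.fromSpecResidueField (g x) = V.fromSpecResidueField x ≫ g :=
    Scheme.Hom.SpecMap_residueFieldMap_fromSpecResidueField g x
  refine ⟨fun h => MorphismProperty.of_isPullback (isPullback_bcTrans_map u _ k _ hk) h, fun h => ?_⟩
  obtain ⟨h1, h2⟩ := specMap_field_flat_surjective (L := V.residueField x)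
    (Field.toIsField (S.residueField (g x))) (g.residueFieldMap x)
  have hfpqc : Unr55.fpqc k := ⟨⟨h2, h1⟩, inferInstance⟩
  haveI : MorphismProperty.IsStableUnderBaseChange Unr55.fpqc.{u} := by
    unfold Unr55.fpqc; infer_instance
  exact MorphismProperty.of_isPullback_of_descendsAlong (P := P)
    (isPullback_bcTrans_map u _ k _ hk).flip
    (MorphismProperty.of_isPullback (isPullback_bcTrans H _ k _ hk).flip hfpqc) h

/-- A property of homomorphisms from groups of multiplicative type to groups of multiplicative type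
of finite type, which for diagonalisable groups holds everywhere as soon as it holds at a point,
has a clopen locus. -/
theorem exists_clopen_locus [IsZariskiLocalAtTarget P] [P.IsStableUnderBaseChange]
    [P.DescendsAlong Unr55.fpqc.{u}]
    (hP : ∀ (W : Scheme.{u}) (M N : Type) (_ : AddCommGroup M) (_ : AddCommGroup N) (φ : N →+ M)
      (w : W), P ((Over.pullback (W.fromSpecResidueField w)).map (Red.DSmap W φ)).left →
        P (Red.DSmap W φ).left)
    {G H : Over S} [GrpObj G] [GrpObj H] (hG : IsMultType G)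
    (hH : SGA3x.IsMultTypeFT H) (u : G ⟶ H) [IsMonHom u] :
    ∃ U : S.Opens, IsClosed (U : Set S) ∧
      (∀ s : S, s ∈ U ↔ P ((Over.pullback (S.fromSpecResidueField s)).map u).left) ∧
      P ((Over.pullback U.ι).map u).left := by
  obtain ⟨S', f, hf, hsf, hqc, hloc⟩ := exists_hom_charts hG hH u
  obtain ⟨L, hL⟩ : ∃ L : Set S, ∀ s : S,
      s ∈ L ↔ P ((Over.pullback (S.fromSpecResidueField s)).map u).left :=
    ⟨{s | P ((Over.pullback (S.fromSpecResidueField s)).map u).left}, fun s => Iff.rfl⟩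
  -- at each point of the cover
  have hpt : ∀ (p : S') , ∃ (V : S'.Opens) (O : (V : Scheme.{u}).Opens) (good : Prop),
      (∃ x : (V : Scheme.{u}), x.1 = p ∧ x ∈ O) ∧ (∀ x : (V : Scheme.{u}), x ∈ O → (f x.1 ∈ L ↔ good)) ∧
      (good → P ((Over.pullback (O.ι ≫ V.ι ≫ f)).map u).left) := by
    intro p
    obtain ⟨V, hpV, M, N, iM, iN, hFG, φ, a, b, D, q, ha, hb, hq, hpD, hD⟩ := hloc p
    have hres : ∀ x : (V : Scheme.{u}), x ∈ D → (f x.1 ∈ L ↔
        P ((Over.pullback ((V : Scheme.{u}).fromSpecResidueField x)).map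
          (Red.DSmap (V : Scheme.{u}) φ)).left) := by
      intro x hx
      have e : f x.1 = (V.ι ≫ f) x := rfl
      rw [e, hL]
      exact (prop_residue_iff P (V.ι ≫ f) x u).trans
        (prop_chart P (V.ι ≫ f) u a b q hq hD _ fun z => by
          rw [Scheme.fromSpecResidueField_apply]; exact hx)
    refine ⟨V, D, P (Red.DSmap (V : Scheme.{u}) φ).left, ⟨⟨p, hpV⟩, rfl, hpD _ rfl⟩,
      fun x hx => ?_, fun h => ?_⟩
    · rw [hres x hx]
      constructor
      · intro h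
        exact @hP (V : Scheme.{u}) M N iM iN φ x h
      · intro h
        exact MorphismProperty.of_isPullback (P := P)
          (isPullback_bc_map (Red.DSmap (V : Scheme.{u}) φ)
            ((V : Scheme.{u}).fromSpecResidueField x)) h
    · refine (prop_chart P (V.ι ≫ f) u a b q hq hD D.ι fun x => x.2).mpr ?_
      exact MorphismProperty.of_isPullback
        (isPullback_bc_map (Red.DSmap (V : Scheme.{u}) φ) D.ι) h
  choose V O good hmem hiff hgood using hpt
  have hopen : ∀ Q : Prop → Prop, IsOpen (f.base ⁻¹' {s | Q (s ∈ L)}) := by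
    intro Q
    refine isOpen_iff_forall_mem_open.mpr fun p hp => ?_
    obtain ⟨x, hxp, hxO⟩ := hmem p
    refine ⟨(V p).ι '' (O p : Set (V p : Scheme.{u})), ?_,
      (V p).ι.isOpenEmbedding.isOpenMap _ (O p).2, ⟨x, hxO, hxp⟩⟩
    rintro _ ⟨y, hy, rfl⟩
    show Q (f y.1 ∈ L)
    rw [propext (hiff p y hy), ← propext (hiff p x hxO), hxp]
    exact hp
  let U : S.Opens := ⟨L, isOpen_of_preimage f hqc (hopen id)⟩
  refine ⟨U, isOpen_compl_iff.mp (isOpen_of_preimage f hqc (hopen Not)), hL, ?_⟩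
  -- globally on the locus
  haveI : Surjective (f ∣_ U) := MorphismProperty.of_isPullback (P := @Surjective)
    (isPullback_morphismRestrict f U).flip hsf
  haveI : Flat (f ∣_ U) := MorphismProperty.of_isPullback (P := @Flat)
    (isPullback_morphismRestrict f U).flip hf
  refine map_prop_of_fpqc_cover P _ (f ∣_ U) ?_ fun t => ?_
  · intro A hA
    obtain ⟨W, hWc, hWA⟩ := hqc (U.ι ''ᵁ A) (hA.image_of_isOpenImmersion U.ι)
    have hWle : W ≤ f ⁻¹ᵁ U := fun w hw => by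
      obtain ⟨a, -, ha⟩ : f w ∈ (U.ι ''ᵁ A : Set S) := hWA ▸ ⟨w, hw, rfl⟩
      show f w ∈ U
      rw [← ha]; exact a.2
    refine ⟨(f ⁻¹ᵁ U).ι ⁻¹ᵁ W, ?_, ?_⟩
    · refine (f ⁻¹ᵁ U).ι.isOpenEmbedding.isEmbedding.isInducing.isCompact_preimage' hWc ?_
      exact fun w hw => ⟨⟨w, hWle hw⟩, rfl⟩
    · ext a
      constructor
      · rintro ⟨w, hw, rfl⟩
        obtain ⟨a', ha', e⟩ : f w.1 ∈ (U.ι ''ᵁ A : Set S) := hWA ▸ ⟨w.1, hw, rfl⟩
        have : a' = (f ∣_ U) w := U.ι.isOpenEmbedding.injective (e.trans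
          (congrArg (fun k : (f ⁻¹ᵁ U : Scheme.{u}) ⟶ S => k w) (morphismRestrict_ι f U)).symm)
        exact this ▸ ha'
      · intro ha
        obtain ⟨w, hw, e⟩ : U.ι a ∈ f.base '' (W : Set S') := hWA ▸ ⟨a, ha, rfl⟩
        refine ⟨⟨w, hWle hw⟩, hw, U.ι.isOpenEmbedding.injective ?_⟩
        exact (congrArg (fun k : (f ⁻¹ᵁ U : Scheme.{u}) ⟶ S => k ⟨w, hWle hw⟩)
          (morphismRestrict_ι f U)).trans e
  · obtain ⟨x, hxp, hxO⟩ := hmem t.1
    let Ω : (f ⁻¹ᵁ U : Scheme.{u}).Opens := (f ⁻¹ᵁ U).ι ⁻¹ᵁ ((V t.1).ι ''ᵁ (O t.1))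
    refine ⟨Ω, ⟨x, hxO, hxp⟩, (prop_bc_comp P u U.ι (Ω.ι ≫ f ∣_ U)).mpr ?_⟩
    have hg : good t.1 := (hiff t.1 x hxO).mp (by rw [hxp]; exact t.2)
    have hr : Set.range (Ω.ι ≫ (f ⁻¹ᵁ U).ι).base ⊆ Set.range ((O t.1).ι ≫ (V t.1).ι).base := by
      rintro _ ⟨z, rfl⟩
      obtain ⟨y, hy, e⟩ := z.2
      exact ⟨⟨y, hy⟩, e⟩
    exact MorphismProperty.of_isPullback
      (isPullback_bcTrans_map u _ (IsOpenImmersion.lift _ _ hr) _ (by
        rw [← Category.assoc ((O t.1).ι), IsOpenImmersion.lift_fac_assoc, Category.assoc,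
          Category.assoc, morphismRestrict_ι])) (hgood t.1 hg)

end Groth.Agent.RedPts82
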