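import Groth.Agent.RedPts82.Quot
import Mathlib.AlgebraicGeometry.Morphisms.FormallyUnramified
import Mathlib.AlgebraicGeometry.AlgClosed.Basic
import Mathlib.AlgebraicGeometry.Artinian
import Mathlib.AlgebraicGeometry.Morphisms.QuasiFinite

/-!
Maps from geometrically connected families to etale schemes are constant on fibres.
-/

universe u

open CategoryTheory AlgebraicGeometry CategoryTheory.Limits

namespace Groth.Agent.RedPts82

/-- Equality of maps to an unramified scheme may be checked on a jointly surjective family. -/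
theorem eq_of_formallyUnramified {P C S : Scheme.{u}} (c : C ⟶ S) [FormallyUnramified c]
    [LocallyOfFiniteType c] (f g : P ⟶ C) (h : f ≫ c = g ≫ c)
    (hp : ∀ p : P, ∃ (T : Scheme.{u}) (q : T ⟶ P), p ∈ Set.range q.base ∧ q ≫ f = q ≫ g) :
    f = g := by
  let d : P ⟶ pullback c c := pullback.lift f g h
  let e : pullback d (pullback.diagonal c) ⟶ P := pullback.fst d (pullback.diagonal c)
  have hsurj : Surjective e := ⟨fun p => by
    obtain ⟨T, q, ⟨t, ht⟩, hq⟩ := hp p
    have hl : q ≫ d = (q ≫ f) ≫ pullback.diagonal c := by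
      apply pullback.hom_ext <;> simp only [d, Category.assoc, pullback.lift_fst, pullback.lift_snd,
        pullback.diagonal_fst, pullback.diagonal_snd, Category.comp_id, hq]
    refine ⟨(pullback.lift q (q ≫ f) hl).base t, ?_⟩
    rw [← Scheme.Hom.comp_apply, pullback.lift_fst]
    exact ht⟩
  have : IsIso e := by
    apply AlgebraicGeometry.isIso_of_isOpenImmersion_of_opensRange_eq_top
    exact SetLike.coe_injective hsurj.1.range_eq
  have h1 := congrArg (· ≫ pullback.fst c c) (pullback.condition (f := d) (g := pullback.diagonal c))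
  have h2 := congrArg (· ≫ pullback.snd c c) (pullback.condition (f := d) (g := pullback.diagonal c))
  simp only [d, Category.assoc, pullback.lift_fst, pullback.lift_snd, pullback.diagonal_fst,
    pullback.diagonal_snd, Category.comp_id] at h1 h2
  exact (cancel_epi e).mp (h1.trans h2.symm)

/-- A connected scheme maps to a finite etale scheme over an algebraically closed field through
a section. -/
theorem exists_section_of_connected {K : Type u} [Field K] [IsAlgClosed K] {F D : Scheme.{u}}
    (d : D ⟶ Spec (CommRingCat.of K)) [IsFinite d] [Etale d] [ConnectedSpace F]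
    (φ : F ⟶ D) :
    ∃ s : Spec (CommRingCat.of K) ⟶ D, s ≫ d = 𝟙 _ ∧ φ = φ ≫ d ≫ s := by
  have hdisc : DiscreteTopology D := by
    rw [discreteTopology_iff_forall_isOpen]
    intro t
    have := (d.isDiscrete_preimage (s := Set.univ) (Set.subsingleton_of_subsingleton.isDiscrete))
    have h2 : DiscreteTopology (Set.univ : Set D) := this.to_subtype
    have h3 := (Homeomorph.Set.univ D).discreteTopology
    exact isOpen_discrete t
  obtain ⟨x⟩ := (inferInstance : Nonempty F)
  let p := φ.base x
  have hrange : ∀ y, φ.base y = p := fun y =>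
    (isPreconnected_range φ.base.hom.continuous).subsingleton ⟨y, rfl⟩ ⟨x, rfl⟩
  let U : D.Opens := ⟨{p}, isOpen_discrete _⟩
  have hp : IsClosed ({p} : Set D) := isClosed_discrete _
  let s0 := pointOfClosedPoint d p hp
  have hs0 : s0 ≫ d = 𝟙 _ := pointOfClosedPoint_comp d p hp
  have hsU : ∀ a, s0.base a ∈ Set.range U.ι.base := fun a => by
    rw [Scheme.Opens.range_ι]; exact pointOfClosedPoint_apply d p hp a
  obtain ⟨l, hl⟩ : ∃ l, l ≫ U.ι = s0 :=
    ⟨_, IsOpenImmersion.lift_fac U.ι s0 (by rintro _ ⟨a, rfl⟩; exact hsU a)⟩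
  have hUι : U.ι ≫ d ≫ s0 = U.ι := by
    refine eq_of_formallyUnramified d _ _ (by simp [hs0]) fun z => ?_
    refine ⟨_, l, ⟨(inferInstance : Nonempty (Spec (CommRingCat.of K))).some,
      U.ι.isOpenEmbedding.injective ?_⟩, ?_⟩
    · rw [← Scheme.Hom.comp_apply, hl]
      exact (pointOfClosedPoint_apply d p hp _).trans z.2.symm
    · rw [← Category.assoc, hl, ← Category.assoc, hs0, Category.id_comp]
  have hφ : Set.range φ.base ⊆ Set.range U.ι.base := by
    rw [Scheme.Opens.range_ι]
    rintro _ ⟨y, rfl⟩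
    exact hrange y
  obtain ⟨ψ, hψ⟩ : ∃ ψ, ψ ≫ U.ι = φ := ⟨_, IsOpenImmersion.lift_fac U.ι φ hφ⟩
  refine ⟨s0, hs0, ?_⟩
  calc φ = ψ ≫ U.ι := hψ.symm
    _ = ψ ≫ U.ι ≫ d ≫ s0 := by rw [hUι]
    _ = φ ≫ d ≫ s0 := by rw [← Category.assoc, hψ]

end Groth.Agent.RedPts82
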