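import Groth.Agent.RedPts82.MonoMultClosed
import Groth.Agent.RedPts82.RelHom

/-!
The graph of a free action of a group of multiplicative type on an affine scheme is closed.
-/

universe u

open CategoryTheory MonoidalCategory CartesianMonoidalCategory MonObj GrpObj AlgebraicGeometry
open CategoryTheory.Limits

namespace Groth.Agent.RedPts82

variable {S : Scheme.{u}}

/-- The degree part of a graded subring supported in a subgroup gives a homomorphism. -/
theorem exists_face_hom {R k : Type u} [CommRing R] [CommRing k] [IsDomain k] (π : R →+* k) {Gp : Type} [CommGroup Gp]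
    (B : Subring (MonoidAlgebra R Gp)) (hconst : ∀ a, MonoidAlgebra.single 1 a ∈ B)
    (hcomp : ∀ q ∈ B, ∀ g, MonoidAlgebra.single g (q.coeff g) ∈ B) :
    ∃ (H : Subgroup Gp) (ρ : B →+* MonoidAlgebra k Gp),
      (∀ (g : Gp) (a : R) (h : MonoidAlgebra.single g a ∈ B),
        (g ∈ H → ρ ⟨_, h⟩ = MonoidAlgebra.single g (π a)) ∧ (g ∉ H → ρ ⟨_, h⟩ = 0)) ∧
      ∀ g ∈ H, ∃ a, MonoidAlgebra.single g a ∈ B ∧ π a ≠ 0 := by
  classical
  let P : Gp → Prop := fun g => ∃ a, MonoidAlgebra.single g a ∈ B ∧ π a ≠ 0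
  have hP1 : P 1 := ⟨1, hconst 1, by simp⟩
  have hPmul : ∀ {g g'}, P g → P g' → P (g * g') := by
    rintro g g' ⟨a, ha, ha'⟩ ⟨b, hb, hb'⟩
    refine ⟨a * b, ?_, by rw [map_mul]; exact mul_ne_zero ha' hb'⟩
    rw [← MonoidAlgebra.single_mul_single]
    exact B.mul_mem ha hb
  let H : Subgroup Gp :=
    { carrier := {g | P g ∧ P g⁻¹}
      one_mem' := ⟨hP1, by rwa [inv_one]⟩
      mul_mem' := fun hg hg' => ⟨hPmul hg.1 hg'.1, by rw [_root_.mul_inv]; exact hPmul hg.2 hg'.2⟩
      inv_mem' := fun {g} hg => ⟨hg.2, show P (g⁻¹)⁻¹ by rw [_root_.inv_inv]; exact hg.1⟩ }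
  let F : MonoidAlgebra R Gp →+ MonoidAlgebra k Gp :=
    { toFun := fun q => q.coeff.sum fun g a => if g ∈ H then MonoidAlgebra.single g (π a) else 0
      map_zero' := by simp
      map_add' := fun x y => by
        rw [MonoidAlgebra.coeff_add, Finsupp.sum_add_index' (fun g => by simp) fun g a b => ?_]
        split_ifs <;> simp }
  have hF : ∀ g a, F (MonoidAlgebra.single g a) =
      if g ∈ H then MonoidAlgebra.single g (π a) else 0 := fun g a => by
    simp only [F, AddMonoidHom.coe_mk, ZeroHom.coe_mk]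
    rw [MonoidAlgebra.coeff_single, Finsupp.sum_single_index]
    simp
  have hmul1 : ∀ g a g' a', MonoidAlgebra.single g a ∈ B → MonoidAlgebra.single g' a' ∈ B →
      F (MonoidAlgebra.single g a * MonoidAlgebra.single g' a') =
        F (MonoidAlgebra.single g a) * F (MonoidAlgebra.single g' a') := by
    intro g a g' a' ha ha'
    rw [MonoidAlgebra.single_mul_single, hF, hF, hF, map_mul]
    by_cases h : g ∈ H
    · by_cases h' : g' ∈ H
      · rw [if_pos (H.mul_mem h h'), if_pos h, if_pos h', MonoidAlgebra.single_mul_single]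
      · rw [if_neg (fun hh => h' (by simpa using H.mul_mem (H.inv_mem h) hh)), if_neg h', mul_zero]
    · rw [if_neg h, zero_mul]
      by_cases hh : g * g' ∈ H
      · rw [if_pos hh]
        by_cases hz : π a = 0
        · simp [hz]
        by_cases hz' : π a' = 0
        · simp [hz']
        exfalso
        refine h ⟨⟨a, ha, hz⟩, ?_⟩
        have := hPmul ⟨a', ha', hz'⟩ hh.2
        rwa [_root_.mul_inv, mul_left_comm, mul_inv_cancel, _root_.mul_one] at this
      · rw [if_neg hh]
  have hsum : ∀ q : MonoidAlgebra R Gp, q = ∑ g ∈ q.coeff.support, MonoidAlgebra.single g (q.coeff g) :=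
    fun q => (MonoidAlgebra.sum_coeff_single q).symm
  let ρ : B →+* MonoidAlgebra k Gp :=
    { toFun := fun q => F q.1
      map_zero' := by simp
      map_one' := by
        show F (1 : MonoidAlgebra R Gp) = 1
        rw [MonoidAlgebra.one_def, hF, if_pos H.one_mem, map_one, ← MonoidAlgebra.one_def]
      map_add' := fun x y => by simp
      map_mul' := fun x y => by
        show F (x.1 * y.1) = F x.1 * F y.1
        rw [hsum x.1, hsum y.1]
        simp only [Finset.sum_mul, Finset.mul_sum, map_sum]
        exact Finset.sum_congr rfl fun g _ => Finset.sum_congr rfl fun g' _ =>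
          hmul1 _ _ _ _ (hcomp _ x.2 _) (hcomp _ y.2 _) }
  refine ⟨H, ρ, fun g a h => ⟨fun hg => ?_, fun hg => ?_⟩, fun g hg => hg.1⟩
  · exact (hF g a).trans (if_pos hg)
  · exact (hF g a).trans (if_neg hg)

variable [IsAffine S] {X : Over S} [IsAffine X.left] {M : Type} [AddCommGroup M]
  (act : Red.DS S M ⊗ X ⟶ X)
  (hact : ∀ (Z : Over S) (h h' : Z ⟶ Red.DS S M) (p : Z ⟶ X),
    CartesianMonoidalCategory.lift (h * h') p ≫ act =
      CartesianMonoidalCategory.lift h (CartesianMonoidalCategory.lift h' p ≫ act) ≫ act)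
  (hfree : ∀ (Z : Over S) (h : Z ⟶ Red.DS S M) (p : Z ⟶ X),
    CartesianMonoidalCategory.lift h p ≫ act = p → h = 1)

include hact hfree in
set_option maxHeartbeats 2000000 in
/-- The functions on the product surject onto those of the graph of a free action. -/
theorem surjective_graph : Function.Surjective (CartesianMonoidalCategory.lift
    (CartesianMonoidalCategory.lift (polyTu X M) (polyProj X M) ≫ act) (polyProj X M)).left.appTop := by
  classical
  let Q := X ⊗ X
  haveI : IsAffine Q.left := isAffine_tensor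
  let P := polyDS X M
  let h : P ⟶ Q := CartesianMonoidalCategory.lift
    (CartesianMonoidalCategory.lift (polyTu X M) (polyProj X M) ≫ act) (polyProj X M)
  let e : DSRing X M ≃+* Γ(P.left, ⊤) := RingEquiv.ofBijective _ (polyCoord_bijective X M)
  let ψ : Γ(Q.left, ⊤) →+* DSRing X M := e.symm.toRingHom.comp h.left.appTop.hom
  have hψ : ∀ f, polyCoord X M (ψ f) = h.left.appTop f := fun f => e.apply_symm_apply _
  suffices hB : ∀ q : DSRing X M, q ∈ ψ.range by
    intro r
    obtain ⟨q, rfl⟩ := (polyCoord_bijective X M).2 r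
    obtain ⟨f, rfl⟩ := hB q
    exact ⟨f, (hψ f).symm⟩
  let C : polyDS Q M ⟶ Q := CartesianMonoidalCategory.lift
    (CartesianMonoidalCategory.lift (polyTu Q M) (polyProj Q M ≫ fst X X) ≫ act)
    (polyProj Q M ≫ snd X X)
  have hcc : ∀ f, ∃ c, polyCoord Q M c = C.left.appTop f ∧
      ∀ g, ψ (c.coeff g) = MonoidAlgebra.single g ((ψ f).coeff g) := by
    intro f
    obtain ⟨c, hc⟩ := (polyCoord_bijective Q M).2 (C.left.appTop f)
    refine ⟨c, hc, fun g => ?_⟩
    obtain ⟨L, hL1, hL2, hL3⟩ := exists_polyLift (polyProj P M ≫ h) (polyTu P M)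
    obtain ⟨σ, hσ1, hσ2, hσ3⟩ := exists_polyLift (polyProj P M ≫ polyProj X M)
      (polyTu P M * (polyProj P M ≫ polyTu X M))
    have hLC : L ≫ C = σ ≫ h := by
      apply CartesianMonoidalCategory.hom_ext
      · simp only [C, h, Category.assoc, lift_fst, comp_lift_assoc]
        rw [hL2, reassoc_of% hL1, hσ2, hσ1]
        simp only [h, lift_fst]
        rw [hact, comp_lift_assoc]
      · simp only [C, h, Category.assoc, lift_snd]
        rw [reassoc_of% hL1, hσ1]
        simp only [h, lift_snd]
    have e0 := congrArg (fun k => k.left.appTop f) hLC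
    change L.left.appTop (C.left.appTop f) = σ.left.appTop (h.left.appTop f) at e0
    rw [← hc, hL3, ← hψ, hσ3] at e0
    have hl : evalDS (polyProj P M ≫ h) (polyTu P M) c =
        polyCoord P M (MonoidAlgebra.mapRingHom (Multiplicative M) h.left.appTop.hom c) := by
      rw [← RingHom.comp_apply]
      congr 1
      refine MonoidAlgebra.ringHom_ext (fun a => ?_) fun g => ?_
      · rw [RingHom.comp_apply, MonoidAlgebra.mapRingHom_single, ← polyProj_appTop,
          show (1 : Multiplicative M) = Multiplicative.ofAdd 0 from rfl, evalDS_single, dsFn_zero]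
        exact _root_.mul_one _
      · rw [RingHom.comp_apply, MonoidAlgebra.mapRingHom_single, map_one,
          show g = Multiplicative.ofAdd (Multiplicative.toAdd g) from rfl, evalDS_single, map_one,
          _root_.one_mul, dsFn_polyTu]
    have hr : ∀ q : DSRing X M, ∃ r, evalDS (polyProj P M ≫ polyProj X M)
        (polyTu P M * (polyProj P M ≫ polyTu X M)) q = polyCoord P M r ∧
        ∀ g, r.coeff g = polyCoord X M (MonoidAlgebra.single g (q.coeff g)) := by
      intro q
      induction q using MonoidAlgebra.induction_linear with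
      | zero => exact ⟨0, by simp, fun g => by simp⟩
      | add x y hx hy =>
        obtain ⟨r, hr, hrc⟩ := hx
        obtain ⟨r', hr', hrc'⟩ := hy
        refine ⟨r + r', by simp [hr, hr'], fun g => ?_⟩
        simp only [MonoidAlgebra.coeff_add, Finsupp.add_apply, hrc, hrc', MonoidAlgebra.single_add, map_add]
      | single g₀ a =>
        refine ⟨MonoidAlgebra.single g₀ (polyCoord X M (MonoidAlgebra.single g₀ a)), ?_, fun g => ?_⟩
        · obtain ⟨m, rfl⟩ := Multiplicative.ofAdd.surjective g₀
          rw [evalDS_single, dsFn_mul, dsFn_polyTu, dsFn_comp, dsFn_polyTu, polyProj_appTop,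
            Over.comp_left, Scheme.Hom.comp_appTop]
          show (polyProj P M).left.appTop ((polyProj X M).left.appTop a) * _ = _
          rw [polyProj_appTop, polyProj_appTop, ← map_mul, ← map_mul, MonoidAlgebra.single_mul_single,
            MonoidAlgebra.single_mul_single, _root_.one_mul, _root_.mul_one, _root_.one_mul, ← map_mul,
            MonoidAlgebra.single_mul_single, _root_.one_mul, _root_.mul_one]
        · rw [MonoidAlgebra.coeff_single, MonoidAlgebra.coeff_single]
          by_cases hg : g = g₀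
          · subst hg; rw [Finsupp.single_eq_same, Finsupp.single_eq_same]
          · rw [Finsupp.single_eq_of_ne hg, Finsupp.single_eq_of_ne hg,
              MonoidAlgebra.single_zero, map_zero]
    obtain ⟨r, hr1, hr2⟩ := hr (ψ f)
    rw [hl, hr1] at e0
    have e1 := congrArg (fun r => r.coeff g) ((polyCoord_bijective P M).1 e0)
    simp only [MonoidAlgebra.coeff_mapRingHom, hr2] at e1
    apply (polyCoord_bijective X M).1
    rw [hψ]
    exact e1
  have hcomp : ∀ q ∈ ψ.range, ∀ g, MonoidAlgebra.single g (q.coeff g) ∈ ψ.range := by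
    rintro _ ⟨f, rfl⟩ g
    obtain ⟨c, -, hc⟩ := hcc f
    exact ⟨c.coeff g, hc g⟩
  have hconst : ∀ a, MonoidAlgebra.single 1 a ∈ ψ.range := fun a => by
    refine ⟨(snd X X).left.appTop a, (polyCoord_bijective X M).1 ?_⟩
    rw [hψ, ← polyProj_appTop]
    exact congrArg (fun k => k.left.appTop a) (lift_snd
      (CartesianMonoidalCategory.lift (polyTu X M) (polyProj X M) ≫ act) (polyProj X M))
  intro q
  rw [← MonoidAlgebra.sum_coeff_single q]
  refine Subring.sum_mem _ fun g₀ _ => ?_
  -- the ideal of the coefficients in a degree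
  let I : Ideal (Gam X) :=
    { carrier := {a | MonoidAlgebra.single g₀ a ∈ ψ.range}
      zero_mem' := ⟨0, by simp⟩
      add_mem' := fun ha hb => by
        show MonoidAlgebra.single g₀ _ ∈ ψ.range
        rw [MonoidAlgebra.single_add]
        exact Subring.add_mem _ ha hb
      smul_mem' := fun c x hx => by
        show MonoidAlgebra.single g₀ (c * x) ∈ ψ.range
        rw [show (MonoidAlgebra.single g₀ (c * x) : DSRing X M) =
          MonoidAlgebra.single 1 c * MonoidAlgebra.single g₀ x by
            rw [MonoidAlgebra.single_mul_single, _root_.one_mul]]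
        exact Subring.mul_mem _ (hconst c) hx }
  suffices hI : I = ⊤ from (hI ▸ Submodule.mem_top : q.coeff g₀ ∈ I)
  by_contra hI
  obtain ⟨p, hp, hle⟩ := Ideal.exists_le_maximal _ hI
  haveI : p.IsPrime := hp.isPrime
  obtain ⟨H, ρ, hρ, hH⟩ := exists_face_hom (Ideal.Quotient.mk p) ψ.range hconst hcomp
  suffices hg : g₀ ∈ H by
    obtain ⟨a, ha, ha'⟩ := hH g₀ hg
    exact ha' (Ideal.Quotient.eq_zero_iff_mem.mpr (hle ha))
  -- a point fixed by the characters trivial on the face
  let A : Type u := MonoidAlgebra (Gam X ⧸ p) (Multiplicative M × (Multiplicative M ⧸ H))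
  let ιA : MonoidAlgebra (Gam X ⧸ p) (Multiplicative M) →+* A :=
    MonoidAlgebra.mapDomainRingHom _ (MonoidHom.inl _ _)
  let α : Gam X →+* A := (algebraMap (Gam X ⧸ p) A).comp (Ideal.Quotient.mk p)
  let ξ : Γ(Q.left, ⊤) →+* A := ιA.comp (ρ.comp ψ.rangeRestrict)
  have hξ : ∀ f g a (ha : MonoidAlgebra.single g a ∈ ψ.range), ψ f = MonoidAlgebra.single g a →
      ξ f = if g ∈ H then MonoidAlgebra.single (g, 1) (Ideal.Quotient.mk p a) else 0 := by
    intro f g a ha hf
    show ιA (ρ (ψ.rangeRestrict f)) = _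
    rw [show ψ.rangeRestrict f = ⟨_, ha⟩ from Subtype.ext hf]
    split_ifs with hg
    · rw [(hρ g a ha).1 hg]
      show MonoidAlgebra.mapDomain _ _ = _
      rw [MonoidAlgebra.mapDomain_single]
      rfl
    · rw [(hρ g a ha).2 hg, map_zero]
  have hξc : ∀ a, ξ ((snd X X).left.appTop a) = α a := fun a => by
    have e : ψ ((snd X X).left.appTop a) = MonoidAlgebra.single 1 a := by
      apply (polyCoord_bijective X M).1
      rw [hψ, ← polyProj_appTop]
      exact congrArg (fun k => k.left.appTop a) (lift_snd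
        (CartesianMonoidalCategory.lift (polyTu X M) (polyProj X M) ≫ act) (polyProj X M))
    rw [hξ _ 1 a (hconst a) e, if_pos H.one_mem]
    rfl
  let Z : Over S := Over.mk ((Spec.map (CommRingCat.ofHom α) ≫ X.left.isoSpec.inv) ≫ X.hom)
  haveI : IsAffine Z.left := inferInstanceAs (IsAffine (Spec (CommRingCat.of A)))
  let σA := (Scheme.ΓSpecIso (CommRingCat.of A)).inv
  have hZ : ∀ r, Z.hom.appTop r = σA (α (X.hom.appTop r)) := fun r => by
    show ((Spec.map (CommRingCat.ofHom α) ≫ X.left.isoSpec.inv) ≫ X.hom).appTop r = _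
    simp only [Scheme.Hom.comp_appTop, isoSpec_inv_appTop, CommRingCat.comp_apply]
    exact (congr($(Scheme.ΓSpecIso_inv_naturality (CommRingCat.ofHom α)) (X.hom.appTop r))).symm
  obtain ⟨x₀, hx₀⟩ := exists_hom_of_ring (Z := Z) (X := Q) (CommRingCat.ofHom ξ ≫ σA) (by
    refine CommRingCat.hom_ext (RingHom.ext fun r => ?_)
    show σA (ξ (Q.hom.appTop r)) = Z.hom.appTop r
    rw [hZ, ← Over.w (snd X X), Scheme.Hom.comp_appTop, CommRingCat.comp_apply, hξc])
  have hx₀' : ∀ f, x₀.left.appTop f = σA (ξ f) := fun f => congr($hx₀ f)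
  obtain ⟨t, ht⟩ : ∃ t : Z ⟶ Red.DS S M, ∀ m, dsFn t m =
      σA (MonoidAlgebra.single ((1 : Multiplicative M), QuotientGroup.mk' H (Multiplicative.ofAdd m)) 1) := by
    let χ : Multiplicative M →* Γ(Z.left, ⊤) := σA.hom.toMonoidHom.comp
      ((MonoidAlgebra.of (Gam X ⧸ p) _).comp ((MonoidHom.inr _ _).comp (QuotientGroup.mk' H)))
    obtain ⟨t, ht⟩ := dsFn_surjective (S := S) (M := M) (X := Z) χ
    exact ⟨t, fun m => ht m⟩
  have hfix : CartesianMonoidalCategory.lift t (x₀ ≫ fst X X) ≫ act = x₀ ≫ fst X X := by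
    obtain ⟨w, hw1, hw2, hw3⟩ := exists_polyLift (M := M) x₀ t
    have e : w ≫ C = x₀ := by
      refine hom_eq_of_appTop (CommRingCat.hom_ext (RingHom.ext fun f => ?_))
      obtain ⟨c, hc, hcg⟩ := hcc f
      show w.left.appTop (C.left.appTop f) = x₀.left.appTop f
      rw [← hc, hw3, evalDS_eq_sum, hx₀']
      have hf : ψ f = ∑ g ∈ c.coeff.support, MonoidAlgebra.single g ((ψ f).coeff g) := by
        conv_lhs => rw [← MonoidAlgebra.sum_coeff_single (ψ f)]
        refine Finset.sum_subset (fun g hg => ?_) fun g _ hg => ?_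
        · rw [Finsupp.mem_support_iff] at hg ⊢
          intro h0
          refine hg ?_
          have := hcg g
          rw [h0, map_zero] at this
          simpa using congrArg (fun v => v.coeff g) this.symm
        · rw [Finsupp.notMem_support_iff.mp hg, MonoidAlgebra.single_zero]
      have hf' : ψ f = ψ (∑ g ∈ c.coeff.support, c.coeff g) := by
        rw [map_sum]; simp only [hcg]; exact hf
      have hξf : ξ f = ∑ g ∈ c.coeff.support, ξ (c.coeff g) :=
        (congrArg (fun v => ιA (ρ v)) (Subtype.ext hf' : ψ.rangeRestrict f =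
          ψ.rangeRestrict (∑ g ∈ c.coeff.support, c.coeff g))).trans (map_sum ξ _ _)
      rw [hξf, map_sum]
      refine Finset.sum_congr rfl fun g _ => ?_
      beta_reduce
      rw [hx₀', ht, ← map_mul]
      congr 1
      rw [hξ _ g _ (hcomp _ ⟨f, rfl⟩ g) (hcg g)]
      split_ifs with hg
      · have h1 : QuotientGroup.mk' H g = 1 := (QuotientGroup.eq_one_iff g).mpr hg
        rw [MonoidAlgebra.single_mul_single, _root_.mul_one, ofAdd_toAdd, h1]
        simp
      · rw [zero_mul]
    have h1 := congrArg (fun k => k ≫ fst X X) e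
    simp only [C, Category.assoc, lift_fst] at h1
    rw [comp_lift_assoc, hw2, reassoc_of% hw1] at h1
    exact h1
  have h1 := congrArg (fun k => dsFn k (Multiplicative.toAdd g₀)) (hfree Z t _ hfix)
  simp only [ht, dsFn_one, ofAdd_toAdd] at h1
  rw [← map_one σA.hom] at h1
  have h2 := (Scheme.ΓSpecIso (CommRingCat.of A)).commRingCatIsoToRingEquiv.symm.injective h1
  have h3 := congrArg (fun v : A => v.coeff (1, 1)) h2
  simp only [MonoidAlgebra.one_def, MonoidAlgebra.coeff_single, Prod.mk_one_one,
    Finsupp.single_eq_same] at h3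
  by_contra hg
  rw [Finsupp.single_eq_of_ne fun hh => hg ((QuotientGroup.eq_one_iff g₀).mp
    (congrArg Prod.snd hh).symm)] at h3
  simp at h3


omit [IsAffine S] in
/-- Base change commutes with products. -/
theorem exists_bc_prodIso {W : Scheme.{u}} (φ : W ⟶ S) (A B : Over S) :
    ∃ ν : Red.bc φ (A ⊗ B) ≅ Red.bc φ A ⊗ Red.bc φ B,
      ν.hom = CartesianMonoidalCategory.lift ((Over.pullback φ).map (fst A B))
        ((Over.pullback φ).map (snd A B)) := by
  refine ⟨{ hom := CartesianMonoidalCategory.lift ((Over.pullback φ).map (fst A B))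
              ((Over.pullback φ).map (snd A B))
            inv := ofBase φ (CartesianMonoidalCategory.lift (toBase φ (fst _ _)) (toBase φ (snd _ _)))
            hom_inv_id := toBase_injective φ ?_
            inv_hom_id := ?_ }, rfl⟩
  · rw [toBase_comp, toBase_ofBase, comp_lift, ← toBase_comp, ← toBase_comp, lift_fst, lift_snd]
    have e : ∀ {C : Over S} (g : A ⊗ B ⟶ C),
        toBase φ ((Over.pullback φ).map g) = toBase φ (𝟙 (Red.bc φ (A ⊗ B))) ≫ g := fun g => by
      rw [← toBase_comp_map, Category.id_comp]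
    rw [e, e, ← comp_lift, lift_fst_snd, Category.comp_id]
  · apply CartesianMonoidalCategory.hom_ext <;>
      simp only [Category.assoc, lift_fst, lift_snd, Category.id_comp] <;>
      refine toBase_injective φ ?_ <;>
      simp only [toBase_comp_map, toBase_ofBase, lift_fst, lift_snd]

omit [IsAffine S] in
set_option maxHeartbeats 2000000 in
/-- The graph of a free action of a group of multiplicative type on an affine scheme is closed. -/
theorem isClosedImmersion_graph {G X : Over S} [GrpObj G] (hG : IsMultType G) [IsAffineHom X.hom]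
    (act : G ⊗ X ⟶ X)
    (hact : ∀ (Z : Over S) (h h' : Z ⟶ G) (p : Z ⟶ X),
      CartesianMonoidalCategory.lift (h * h') p ≫ act =
        CartesianMonoidalCategory.lift h (CartesianMonoidalCategory.lift h' p ≫ act) ≫ act)
    (hfree : ∀ (Z : Over S) (h : Z ⟶ G) (p : Z ⟶ X),
      CartesianMonoidalCategory.lift h p ≫ act = p → h = 1) :
    IsClosedImmersion (CartesianMonoidalCategory.lift act (snd G X)).left := by
  have := Unr55.isClosedImmersion.{u}
  obtain ⟨S', f, hf, hs, hqc, hloc⟩ := hG
  refine map_prop_of_fpqc_cover (@IsClosedImmersion) _ f hqc fun s' => ?_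
  obtain ⟨U₀, hU₀, M, hM, ⟨e⟩⟩ := hloc s'
  obtain ⟨W, hW, hsW, hWU⟩ := exists_isAffineOpen_mem_and_subset hU₀
  refine ⟨W, hsW, ?_⟩
  let φ : (W : Scheme.{u}) ⟶ S := W.ι ≫ f
  haveI : IsAffine (W : Scheme.{u}) := hW
  obtain ⟨a, ha, hmono, hsurj⟩ :=
    exists_ds_cover_mono (S'.homOfLE hWU) (U₀.ι ≫ f) φ (by simp [φ]) e
  haveI : IsIso a := by
    obtain ⟨r, hr⟩ := hsurj _ (𝟙 _)
    exact ⟨r, by rw [← cancel_mono a, Category.assoc, hr, Category.comp_id, Category.id_comp], hr⟩
  haveI : IsAffine (Red.bc φ X).left := by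
    haveI := isAffineHom_isStableUnderBaseChange.{u}
    haveI : IsAffineHom (pullback.snd X.hom φ) :=
      MorphismProperty.pullback_snd (P := @IsAffineHom) _ _ ‹_›
    exact isAffine_of_isAffineHom (pullback.snd X.hom φ)
  let actW : Red.DS (W : Scheme.{u}) M ⊗ Red.bc φ X ⟶ Red.bc φ X :=
    ofBase φ (CartesianMonoidalCategory.lift (toBase φ (fst _ _ ≫ a)) (toBase φ (snd _ _)) ≫ act)
  have hW' : ∀ {Z : Over (W : Scheme.{u})} (h : Z ⟶ Red.DS (W : Scheme.{u}) M) (p : Z ⟶ Red.bc φ X),
      toBase φ (CartesianMonoidalCategory.lift h p ≫ actW) =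
        CartesianMonoidalCategory.lift (toBase φ (h ≫ a)) (toBase φ p) ≫ act := by
    intro Z h p
    rw [toBase_comp, toBase_ofBase, comp_lift_assoc, ← toBase_comp, ← toBase_comp, lift_fst_assoc,
      lift_snd]
  have hsurjW := surjective_graph actW (fun Z h h' p => by
    apply toBase_injective φ
    rw [hW', hW', hW', MonObj.mul_comp _ _ a, toBase_mul]
    exact hact _ _ _ _) fun Z h p hp => by
    have h1 := congrArg (toBase φ) hp
    rw [hW'] at h1
    have h2 := hfree _ _ _ h1
    rw [← cancel_mono a, MonObj.one_comp]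
    exact toBase_injective φ (h2.trans (toBase_one φ).symm)
  let Y := Red.bc φ X
  haveI : IsAffine (Y ⊗ Y).left := isAffine_tensor
  let h : polyDS Y M ⟶ Y ⊗ Y := CartesianMonoidalCategory.lift
    (CartesianMonoidalCategory.lift (polyTu Y M) (polyProj Y M) ≫ actW) (polyProj Y M)
  haveI : IsClosedImmersion h.left := IsClosedImmersion.of_surjective_of_isAffine _ hsurjW
  obtain ⟨ν, hν⟩ := exists_bc_prodIso φ G X
  obtain ⟨ν', hν'⟩ := exists_bc_prodIso φ X X
  let κ : polyDS Y M ≅ Red.bc φ (G ⊗ X) :=
    polyIso Y M ≪≫ β_ Y (Red.DS (W : Scheme.{u}) M) ≪≫ whiskerRightIso (asIso a) Y ≪≫ ν.symm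
  have key : κ.hom ≫ (Over.pullback φ).map (CartesianMonoidalCategory.lift act (snd G X)) ≫ ν'.hom = h := by
    have hκ : κ.hom ≫ ν.hom = CartesianMonoidalCategory.lift (polyTu Y M ≫ a) (polyProj Y M) := by
      simp only [κ, Iso.trans_hom, Iso.symm_hom, Category.assoc, Iso.inv_hom_id, Category.comp_id,
        whiskerRightIso_hom, asIso_hom]
      show CartesianMonoidalCategory.lift (polyProj Y M) (polyTu Y M) ≫ (β_ _ _).hom ≫ a ▷ Y = _
      rw [lift_braiding_hom_assoc, lift_whiskerRight]
    have e₁ := congrArg (fun r => r ≫ fst _ _) hκ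
    have e₂ := congrArg (fun r => r ≫ snd _ _) hκ
    simp only [hν, Category.assoc, lift_fst, lift_snd] at e₁ e₂
    rw [hν']
    apply CartesianMonoidalCategory.hom_ext <;> apply toBase_injective φ
    · rw [show h ≫ fst _ _ = CartesianMonoidalCategory.lift (polyTu Y M) (polyProj Y M) ≫ actW
        from lift_fst _ _]
      simp only [Category.assoc, lift_fst, ← (Over.pullback φ).map_comp]
      have t₁ : toBase φ κ.hom ≫ fst G X = toBase φ (polyTu Y M ≫ a) := by
        rw [← toBase_comp_map]; exact congrArg (toBase φ) (e₁.trans (lift_fst _ _))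
      have t₂ : toBase φ κ.hom ≫ snd G X = toBase φ (polyProj Y M) := by
        rw [← toBase_comp_map]; exact congrArg (toBase φ) e₂
      rw [hW', toBase_comp_map, ← t₁, ← t₂, ← comp_lift_assoc, lift_fst_snd, Category.id_comp]
    · rw [show h ≫ snd _ _ = polyProj Y M from lift_snd _ _]
      simp only [Category.assoc, lift_snd, ← (Over.pullback φ).map_comp]
      rw [e₂]
  haveI : IsIso κ.hom.left := inferInstanceAs (IsIso ((Over.forget _).map κ.hom))
  haveI : IsIso ν'.hom.left := inferInstanceAs (IsIso ((Over.forget _).map ν'.hom))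
  have h3 : IsClosedImmersion h.left := ‹_›
  rw [← key, Over.comp_left, Over.comp_left] at h3
  exact (MorphismProperty.cancel_right_of_respectsIso (P := @IsClosedImmersion) _ _).mp
    ((MorphismProperty.cancel_left_of_respectsIso (P := @IsClosedImmersion) _ _).mp h3)

end Groth.Agent.RedPts82
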