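import Groth.Agent.RedPts82.DSCoord
import Groth.Agent.RedPts82.GaCoord

/-!
Averaging over a diagonalisable group: two homomorphisms from a diagonalisable group to an affine
group which are conjugate modulo an ideal of square zero are conjugate.

For an affine object `Y` the constant coefficient is a linear retraction
`Γ(Y × D(M)) → Γ(Y)`; applied to a point congruent to a constant one modulo an ideal of square zero
it produces a point ("the average"), compatibly with all morphisms of affine targets.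
-/

universe u

open CategoryTheory MonoidalCategory CartesianMonoidalCategory MonObj GrpObj AlgebraicGeometry
open CategoryTheory.Limits

namespace Groth.Agent.RedPts82

variable {S : Scheme.{u}}

section Coef

variable (Y : Over S) [IsAffine Y.left] (M : Type) [AddCommGroup M]

/-- The group algebra and the functions on `Y × D(M)`. -/
noncomputable def polyCoordEquiv : DSRing Y M ≃+* Γ((polyDS Y M).left, ⊤) :=
  RingEquiv.ofBijective (polyCoord Y M) (polyCoord_bijective Y M)

theorem polyCoordEquiv_apply (c : DSRing Y M) : polyCoordEquiv Y M c = polyCoord Y M c := rfl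

/-- The constant coefficient. -/
noncomputable def coef₀ : Γ((polyDS Y M).left, ⊤) →+ Gam Y where
  toFun w := MonoidAlgebra.coeff ((polyCoordEquiv Y M).symm w) 1
  map_zero' := by simp
  map_add' a b := by simp

theorem coef₀_polyCoord (c : DSRing Y M) : coef₀ Y M (polyCoord Y M c) = MonoidAlgebra.coeff c 1 := by
  show MonoidAlgebra.coeff ((polyCoordEquiv Y M).symm (polyCoord Y M c)) 1 = _
  rw [← polyCoordEquiv_apply, RingEquiv.symm_apply_apply]

theorem polyCoord_single (m : M) (a : Gam Y) :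
    polyCoord Y M (MonoidAlgebra.single (Multiplicative.ofAdd m) a) =
      (polyProj Y M).left.appTop a * dsFn (polyTu Y M) m := by
  rw [polyProj_appTop, dsFn_polyTu, ← map_mul, MonoidAlgebra.single_mul_single, _root_.one_mul,
    _root_.mul_one]

theorem coef₀_mul_dsFn [DecidableEq M] (m : M) (a : Gam Y) :
    coef₀ Y M ((polyProj Y M).left.appTop a * dsFn (polyTu Y M) m) = if m = 0 then a else 0 := by
  rw [← polyCoord_single, coef₀_polyCoord, MonoidAlgebra.coeff_single]
  by_cases h : m = 0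
  · subst h
    simp
  · rw [if_neg h, Finsupp.single_eq_of_ne]
    intro e
    exact h (congrArg Multiplicative.toAdd e).symm

theorem coef₀_proj (a : Gam Y) : coef₀ Y M ((polyProj Y M).left.appTop a) = a := by
  classical
  have h := coef₀_mul_dsFn Y M 0 a
  rwa [dsFn_zero, _root_.mul_one, if_pos rfl] at h

theorem coef₀_proj_mul (a : Gam Y) (w : Γ((polyDS Y M).left, ⊤)) :
    coef₀ Y M ((polyProj Y M).left.appTop a * w) = a * coef₀ Y M w := by
  obtain ⟨c, rfl⟩ := (polyCoord_bijective Y M).2 w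
  rw [polyProj_appTop, ← map_mul, coef₀_polyCoord, coef₀_polyCoord,
    MonoidAlgebra.single_one_mul_apply]

theorem polyDS_induction {P : Γ((polyDS Y M).left, ⊤) → Prop} (h0 : P 0)
    (hadd : ∀ a b, P a → P b → P (a + b))
    (hmon : ∀ (m : M) (a : Gam Y), P ((polyProj Y M).left.appTop a * dsFn (polyTu Y M) m))
    (w : Γ((polyDS Y M).left, ⊤)) : P w := by
  obtain ⟨c, rfl⟩ := (polyCoord_bijective Y M).2 w
  induction c using MonoidAlgebra.induction_linear with
  | zero => rw [map_zero]; exact h0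
  | add a b ha hb => rw [map_add]; exact hadd _ _ ha hb
  | single g a =>
    have e := polyCoord_single Y M (Multiplicative.toAdd g) a
    rw [ofAdd_toAdd] at e
    rw [e]
    exact hmon _ _

/-- The ideal on `Y × D(M)` defined by an ideal on `Y`. -/
noncomputable def upIdeal (J : Ideal (Gam Y)) : Ideal Γ((polyDS Y M).left, ⊤) :=
  J.map (polyProj Y M).left.appTop.hom

theorem upIdeal_sq {J : Ideal (Gam Y)} (hJ : J * J = ⊥) : upIdeal Y M J * upIdeal Y M J = ⊥ := by
  rw [upIdeal, ← Ideal.map_mul, hJ, Ideal.map_bot]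

theorem coef₀_mem {J : Ideal (Gam Y)} {δ : Γ((polyDS Y M).left, ⊤)} (h : δ ∈ upIdeal Y M J) :
    coef₀ Y M δ ∈ J := by
  unfold upIdeal Ideal.map at h
  suffices ∀ w, coef₀ Y M (w * δ) ∈ J by simpa using this 1
  refine Submodule.span_induction (p := fun δ _ => ∀ w, coef₀ Y M (w * δ) ∈ J) ?_ ?_ ?_ ?_ h
  · rintro _ ⟨a, ha, rfl⟩ w
    rw [_root_.mul_comm]
    exact (coef₀_proj_mul Y M a w).symm ▸ J.mul_mem_right _ ha
  · intro w; simp
  · intro x y _ _ hx hy w
    rw [_root_.mul_add, map_add]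
    exact J.add_mem (hx w) (hy w)
  · intro r x _ hx w
    rw [smul_eq_mul, ← _root_.mul_assoc]
    exact hx _

/-- The closed subobject defined by an ideal of functions. -/
noncomputable def redObj (J : Ideal (Gam Y)) : Over S :=
  Over.mk ((Spec.map (CommRingCat.ofHom (Ideal.Quotient.mk J)) ≫ Y.left.isoSpec.inv) ≫ Y.hom)

/-- Its inclusion. -/
noncomputable def redMap (J : Ideal (Gam Y)) : redObj Y J ⟶ Y :=
  Over.homMk (Spec.map (CommRingCat.ofHom (Ideal.Quotient.mk J)) ≫ Y.left.isoSpec.inv) rfl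

theorem redMap_appTop (J : Ideal (Gam Y)) (a : Gam Y) :
    (redMap Y J).left.appTop a =
      (Scheme.ΓSpecIso (CommRingCat.of (Gam Y ⧸ J))).inv (Ideal.Quotient.mk J a) := by
  show (Spec.map (CommRingCat.ofHom (Ideal.Quotient.mk J)) ≫ Y.left.isoSpec.inv).appTop a = _
  rw [Scheme.Hom.comp_appTop, isoSpec_inv_appTop, ← Scheme.ΓSpecIso_inv_naturality]
  rfl

theorem redMap_appTop_eq_iff (J : Ideal (Gam Y)) (a b : Gam Y) :
    (redMap Y J).left.appTop a = (redMap Y J).left.appTop b ↔ a - b ∈ J := by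
  rw [redMap_appTop, redMap_appTop, ← Ideal.Quotient.eq]
  exact (Scheme.ΓSpecIso (CommRingCat.of (Gam Y ⧸ J))).commRingCatIsoToRingEquiv.symm.injective.eq_iff

end Coef

section Mod

variable {Y : Over S} [IsAffine Y.left] {M : Type} [AddCommGroup M] {X : Over S}

/-- Congruence modulo an ideal of points with values in an affine scheme. -/
theorem redMap_comp_eq_iff [IsAffine X.left] (J : Ideal (Gam Y)) (φ ψ : Y ⟶ X) :
    redMap Y J ≫ φ = redMap Y J ≫ ψ ↔
      ∀ F, φ.left.appTop F - ψ.left.appTop F ∈ J := by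
  constructor
  · intro h F
    rw [← redMap_appTop_eq_iff Y J]
    have := congrArg (fun k => k.left.appTop F) h
    simp only [Over.comp_left, Scheme.Hom.comp_appTop] at this
    exact this
  · intro h
    apply Over.OverMorphism.ext
    apply ext_of_isAffine
    simp only [Over.comp_left, Scheme.Hom.comp_appTop]
    exact CommRingCat.hom_ext (RingHom.ext fun F => (redMap_appTop_eq_iff Y J _ _).mpr (h F))

/-- `v` is the average of `φ`. -/
def IsAv (φ : polyDS Y M ⟶ X) (v : Y ⟶ X) : Prop :=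
  ∀ F, v.left.appTop F = coef₀ Y M (φ.left.appTop F)

/-- Congruent to a constant point modulo `J`. -/
def Cong (J : Ideal (Gam Y)) (φ : polyDS Y M ⟶ X) : Prop :=
  ∃ z : Y ⟶ X, redMap (polyDS Y M) (upIdeal Y M J) ≫ φ =
    redMap (polyDS Y M) (upIdeal Y M J) ≫ polyProj Y M ≫ z

theorem IsAv.unique [IsAffine X.left] {φ : polyDS Y M ⟶ X} {v v' : Y ⟶ X} (h : IsAv φ v)
    (h' : IsAv φ v') : v = v' := by
  apply Over.OverMorphism.ext
  apply ext_of_isAffine
  exact CommRingCat.hom_ext (RingHom.ext fun F => (h F).trans (h' F).symm)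

theorem IsAv.comp {X' : Over S} {φ : polyDS Y M ⟶ X} {v : Y ⟶ X} (h : IsAv φ v) (f : X ⟶ X') :
    IsAv (φ ≫ f) (v ≫ f) := fun F => by
  simp only [Over.comp_left, Scheme.Hom.comp_appTop, CommRingCat.comp_apply]
  exact h _

theorem isAv_proj (v : Y ⟶ X) : IsAv (polyProj Y M ≫ v) v := fun F => by
  simp only [Over.comp_left, Scheme.Hom.comp_appTop, CommRingCat.comp_apply]
  exact (coef₀_proj Y M _).symm

theorem exists_av [IsAffine S] [IsAffine X.left] {J : Ideal (Gam Y)} (hJ : J * J = ⊥)
    (φ : polyDS Y M ⟶ X) (hφ : Cong J φ) :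
    ∃ v : Y ⟶ X, IsAv φ v ∧
      ∀ z : Y ⟶ X, redMap (polyDS Y M) (upIdeal Y M J) ≫ φ =
        redMap (polyDS Y M) (upIdeal Y M J) ≫ polyProj Y M ≫ z →
        redMap Y J ≫ v = redMap Y J ≫ z := by
  obtain ⟨z, hz⟩ := hφ
  have hδ : ∀ F, φ.left.appTop F - (polyProj Y M).left.appTop (z.left.appTop F) ∈ upIdeal Y M J := by
    have := (redMap_comp_eq_iff _ _ _).mp hz
    simpa only [Over.comp_left, Scheme.Hom.comp_appTop, CommRingCat.comp_apply] using this
  let ψ : Γ(X.left, ⊤) →+* Gam Y :=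
    { toFun := fun F => coef₀ Y M (φ.left.appTop F)
      map_zero' := by simp
      map_one' := by
        rw [map_one, ← map_one (polyProj Y M).left.appTop.hom]
        exact coef₀_proj Y M 1
      map_add' := fun a b => by rw [map_add, map_add]
      map_mul' := fun a b => by
        have hs : ∀ {x y : Gam Y}, x ∈ J → y ∈ J → x * y = 0 := fun hx hy =>
          (Submodule.mem_bot _).mp (hJ ▸ Ideal.mul_mem_mul hx hy)
        have hs' : ∀ {x y}, x ∈ upIdeal Y M J → y ∈ upIdeal Y M J → x * y = 0 := fun hx hy =>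
          (Submodule.mem_bot _).mp (upIdeal_sq Y M hJ ▸ Ideal.mul_mem_mul hx hy)
        obtain ⟨d, hd, ed⟩ : ∃ d ∈ upIdeal Y M J,
            φ.left.appTop a = (polyProj Y M).left.appTop (z.left.appTop a) + d :=
          ⟨_, hδ a, (add_sub_cancel _ _).symm⟩
        obtain ⟨d', hd', ed'⟩ : ∃ d' ∈ upIdeal Y M J,
            φ.left.appTop b = (polyProj Y M).left.appTop (z.left.appTop b) + d' :=
          ⟨_, hδ b, (add_sub_cancel _ _).symm⟩
        have e1 : φ.left.appTop (a * b) =
            (polyProj Y M).left.appTop (z.left.appTop a * z.left.appTop b) +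
              (polyProj Y M).left.appTop (z.left.appTop a) * d' +
              (polyProj Y M).left.appTop (z.left.appTop b) * d := by
          rw [map_mul, ed, ed', map_mul]
          linear_combination hs' hd hd'
        rw [e1, map_add, map_add, coef₀_proj, coef₀_proj_mul, coef₀_proj_mul, ed, ed', map_add,
          map_add, coef₀_proj, coef₀_proj]
        linear_combination -hs (coef₀_mem Y M hd) (coef₀_mem Y M hd') }
  let l : Y.left ⟶ X.left := Y.left.toSpecΓ ≫ Spec.map (CommRingCat.ofHom ψ) ≫ X.left.isoSpec.inv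
  have hl : l.appTop = CommRingCat.ofHom ψ := by
    simp only [l, Scheme.Hom.comp_appTop, isoSpec_inv_appTop]
    rw [← Scheme.ΓSpecIso_inv_naturality, Category.assoc, Scheme.toSpecΓ_appTop, Iso.inv_hom_id]
    exact Category.comp_id _
  have hw : l ≫ X.hom = Y.hom := by
    apply ext_of_isAffine
    rw [Scheme.Hom.comp_appTop, hl]
    refine CommRingCat.hom_ext (RingHom.ext fun r => ?_)
    show coef₀ Y M (φ.left.appTop (X.hom.appTop r)) = Y.hom.appTop r
    have := congrArg (fun k => k.appTop r) ((Over.w φ).trans (Over.w (polyProj Y M)).symm)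
    simp only [Scheme.Hom.comp_appTop, CommRingCat.comp_apply] at this
    rw [this, coef₀_proj]
  let v : Y ⟶ X := Over.homMk l hw
  have hv : IsAv φ v := fun F => congr($hl F)
  refine ⟨v, hv, fun z' hz' => ?_⟩
  rw [redMap_comp_eq_iff]
  intro F
  have h1 := (redMap_comp_eq_iff _ _ _).mp hz' F
  have h2 := coef₀_mem Y M h1
  simp only [Over.comp_left, Scheme.Hom.comp_appTop, CommRingCat.comp_apply, map_sub] at h2
  rwa [coef₀_proj, ← hv F] at h2

theorem isAffine_tensor [IsAffine S] {X X' : Over S} [IsAffine X.left] [IsAffine X'.left] :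
    IsAffine (X ⊗ X').left :=
  inferInstanceAs (IsAffine (pullback X.hom X'.hom))

theorem Cong.lift {J : Ideal (Gam Y)} {X' : Over S} {φ : polyDS Y M ⟶ X} {φ' : polyDS Y M ⟶ X'}
    (h : Cong J φ) (h' : Cong J φ') : Cong J (lift φ φ') := by
  obtain ⟨z, hz⟩ := h
  obtain ⟨z', hz'⟩ := h'
  exact ⟨CartesianMonoidalCategory.lift z z', by
    rw [comp_lift, comp_lift, comp_lift, hz, hz']⟩

theorem Cong.comp {J : Ideal (Gam Y)} {X' : Over S} {φ : polyDS Y M ⟶ X} (h : Cong J φ) (f : X ⟶ X') :
    Cong J (φ ≫ f) := by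
  obtain ⟨z, hz⟩ := h
  exact ⟨z ≫ f, by rw [← Category.assoc, hz, Category.assoc, Category.assoc]⟩

theorem cong_proj {J : Ideal (Gam Y)} (z : Y ⟶ X) : Cong J (polyProj Y M ≫ z) := ⟨z, rfl⟩

theorem IsAv.mul [IsAffine S] {G : Over S} [GrpObj G] [IsAffine G.left] {J : Ideal (Gam Y)}
    (hJ : J * J = ⊥) {φ ψ : polyDS Y M ⟶ G} {v w : Y ⟶ G} (cφ : Cong J φ) (cψ : Cong J ψ)
    (hv : IsAv φ v) (hw : IsAv ψ w) : IsAv (φ * ψ) (v * w) := by
  have := isAffine_tensor (X := G) (X' := G)
  obtain ⟨p, hp, -⟩ := exists_av hJ _ (cφ.lift cψ)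
  have e1 : p ≫ fst G G = v := by
    have h := hp.comp (fst G G)
    rw [lift_fst] at h
    exact h.unique hv
  have e2 : p ≫ snd G G = w := by
    have h := hp.comp (snd G G)
    rw [lift_snd] at h
    exact h.unique hw
  have e : p = CartesianMonoidalCategory.lift v w := by
    apply CartesianMonoidalCategory.hom_ext <;> simp [e1, e2]
  rw [Hom.mul_def, Hom.mul_def, ← e]
  exact hp.comp _

theorem Cong.mul {G : Over S} [GrpObj G] {J : Ideal (Gam Y)} {φ ψ : polyDS Y M ⟶ G}
    (cφ : Cong J φ) (cψ : Cong J ψ) : Cong J (φ * ψ) := by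
  rw [Hom.mul_def]; exact (cφ.lift cψ).comp _

theorem IsAv.inv {G : Over S} [GrpObj G] {φ : polyDS Y M ⟶ G} {v : Y ⟶ G} (hv : IsAv φ v) :
    IsAv φ⁻¹ v⁻¹ := by
  rw [Hom.inv_def, Hom.inv_def]; exact hv.comp _

theorem Cong.inv {G : Over S} [GrpObj G] {J : Ideal (Gam Y)} {φ : polyDS Y M ⟶ G}
    (cφ : Cong J φ) : Cong J φ⁻¹ := by
  rw [Hom.inv_def]; exact cφ.comp _

end Mod

section Main

variable [IsAffine S] {G : Over S} [GrpObj G] [IsAffine G.left] {M : Type} [AddCommGroup M]
  {T : Over S} [IsAffine T.left]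

omit [GrpObj G] in
/-- The two fundamental averages on `T × D(M) × D(M)`. -/
theorem isAv_pullback (c : polyDS T M ⟶ G) (k : T ⟶ G) (hk : IsAv c k)
    (w : polyDS (polyDS T M) M ⟶ polyDS T M)
    (hw₁ : w ≫ polyProj T M = polyProj (polyDS T M) M ≫ polyProj T M)
    (χ : M → Γ((polyDS T M).left, ⊤)) (hχ : χ 0 = 1)
    (hw₂ : ∀ m, dsFn (w ≫ polyTu T M) m =
      (polyProj (polyDS T M) M).left.appTop (χ m) * dsFn (polyTu (polyDS T M) M) m) :
    IsAv (w ≫ c) (polyProj T M ≫ k) := by
  classical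
  intro F
  have key : ∀ x, coef₀ (polyDS T M) M (w.left.appTop x) =
      (polyProj T M).left.appTop (coef₀ T M x) := by
    intro x
    induction x using polyDS_induction with
    | h0 => simp
    | hadd a b ha hb => rw [map_add, map_add, map_add, map_add, ha, hb]
    | hmon m a =>
      have e : w.left.appTop ((polyProj T M).left.appTop a) =
          (polyProj (polyDS T M) M).left.appTop ((polyProj T M).left.appTop a) :=
        congrArg (fun v => v.left.appTop a) hw₁
      rw [map_mul, e, ← dsFn_comp, hw₂, ← _root_.mul_assoc, ← map_mul, coef₀_mul_dsFn,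
        coef₀_mul_dsFn]
      by_cases h : m = 0
      · subst h
        rw [if_pos rfl, if_pos rfl, hχ, _root_.mul_one]
      · rw [if_neg h, if_neg h, map_zero]
  show (polyProj T M).left.appTop (k.left.appTop F) = _
  rw [hk F, ← key]
  rfl

set_option maxHeartbeats 1000000 in
/-- Two homomorphisms from a diagonalisable group conjugate modulo an ideal of square zero are
conjugate by a point with the same reduction. -/
theorem exists_conj_lift {J : Ideal (Gam T)} (hJ : J * J = ⊥) (u v : Red.DS S M ⟶ G) [IsMonHom u]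
    [IsMonHom v] (g : T ⟶ G)
    (hg : redMap (polyDS T M) (upIdeal T M J) ≫
        ((polyProj T M ≫ g) * (polyTu T M ≫ u) * (polyProj T M ≫ g)⁻¹) =
      redMap (polyDS T M) (upIdeal T M J) ≫ polyTu T M ≫ v) :
    ∃ g' : T ⟶ G, redMap T J ≫ g' = redMap T J ≫ g ∧
      ∀ (X : Over S) (x : X ⟶ T) (h : X ⟶ Red.DS S M),
        (x ≫ g') * (h ≫ u) * (x ≫ g')⁻¹ = h ≫ v := by
  classical
  let c : polyDS T M ⟶ G :=
    (polyProj T M ≫ g) * (polyTu T M ≫ u) * (polyProj T M ≫ g)⁻¹ * (polyTu T M ≫ v)⁻¹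
  have hc : Cong J c := by
    refine ⟨1, ?_⟩
    simp only [c, MonObj.comp_mul, GrpObj.comp_inv, MonObj.comp_one] at hg ⊢
    rw [hg, mul_inv_cancel]
  obtain ⟨k, hk, hkJ⟩ := exists_av hJ c hc
  have hk1 : redMap T J ≫ k = redMap T J ≫ 1 := by
    refine hkJ 1 ?_
    simp only [c, MonObj.comp_mul, GrpObj.comp_inv, MonObj.comp_one] at hg ⊢
    rw [hg, mul_inv_cancel]
  obtain ⟨mm, hm1, hm2, -⟩ := exists_polyLift (M := M)
    (polyProj (polyDS T M) M ≫ polyProj T M)
    ((polyProj (polyDS T M) M ≫ polyTu T M) * polyTu (polyDS T M) M)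
  obtain ⟨qq, hq1, hq2, -⟩ := exists_polyLift (M := M)
    (polyProj (polyDS T M) M ≫ polyProj T M) (polyTu (polyDS T M) M)
  have hm : IsAv (mm ≫ c) (polyProj T M ≫ k) := by
    refine isAv_pullback c k hk mm hm1 (fun m => dsFn (polyTu T M) m) (dsFn_zero _) fun m => ?_
    rw [hm2, dsFn_mul, dsFn_comp]
  have hq : IsAv (qq ≫ c) (polyProj T M ≫ k) := by
    refine isAv_pullback c k hk qq hq1 (fun _ => 1) rfl fun m => ?_
    rw [hq2, map_one, _root_.one_mul]
  have hJ1 := upIdeal_sq T M hJ
  have cpr : Cong (upIdeal T M J) (polyProj (polyDS T M) M ≫ c) := cong_proj c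
  have cw : Cong (upIdeal T M J) (polyProj (polyDS T M) M ≫ polyTu T M ≫ v) := cong_proj _
  have cqq : Cong (upIdeal T M J) (qq ≫ c) := by
    refine ⟨1, ?_⟩
    have hred : ∀ F, (qq ≫ c).left.appTop F - (polyProj (polyDS T M) M ≫ (1 : polyDS T M ⟶ G)).left.appTop F ∈
        upIdeal (polyDS T M) M (upIdeal T M J) := by
      intro F
      have h1 : c.left.appTop F - (polyProj T M ≫ (1 : T ⟶ G)).left.appTop F ∈ upIdeal T M J := by
        refine (redMap_comp_eq_iff _ _ _).mp ?_ F
        simp only [c, MonObj.comp_mul, GrpObj.comp_inv, MonObj.comp_one] at hg ⊢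
        rw [hg, mul_inv_cancel]
      have h2 : qq.left.appTop.hom '' (upIdeal T M J : Set _) ⊆
          upIdeal (polyDS T M) M (upIdeal T M J) := by
        rintro _ ⟨x, hx, rfl⟩
        unfold upIdeal Ideal.map at hx
        refine Submodule.span_induction (p := fun x _ => qq.left.appTop x ∈ upIdeal (polyDS T M) M (upIdeal T M J)) ?_ ?_ ?_ ?_ hx
        · rintro _ ⟨a, ha, rfl⟩
          have e : qq.left.appTop ((polyProj T M).left.appTop a) =
              (polyProj (polyDS T M) M).left.appTop ((polyProj T M).left.appTop a) :=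
            congrArg (fun v => v.left.appTop a) hq1
          show qq.left.appTop ((polyProj T M).left.appTop a) ∈ _
          rw [e]
          exact Ideal.mem_map_of_mem _ (Ideal.mem_map_of_mem _ ha)
        · rw [map_zero]; exact Ideal.zero_mem _
        · intro a b _ _ ha hb; rw [map_add]; exact Ideal.add_mem _ ha hb
        · intro r a _ ha; rw [smul_eq_mul, map_mul]; exact Ideal.mul_mem_left _ _ ha
      have h3 := h2 ⟨_, h1, rfl⟩
      have e1 : qq ≫ polyProj T M ≫ (1 : T ⟶ G) = polyProj (polyDS T M) M ≫ (1 : polyDS T M ⟶ G) := by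
        simp only [MonObj.comp_one]
      have e2 := congrArg (fun v => v.left.appTop F) e1
      simp only [Over.comp_left, Scheme.Hom.comp_appTop, CommRingCat.comp_apply] at e2 h3 ⊢
      rw [← e2, ← map_sub]
      exact h3
    exact (redMap_comp_eq_iff _ _ _).mpr hred
  -- the cocycle identity
  have hcoc : mm ≫ c = (polyProj (polyDS T M) M ≫ c) *
      ((polyProj (polyDS T M) M ≫ polyTu T M ≫ v) * (qq ≫ c) *
        (polyProj (polyDS T M) M ≫ polyTu T M ≫ v)⁻¹) := by
    simp only [c, MonObj.comp_mul, GrpObj.comp_inv, reassoc_of% hm1, reassoc_of% hm2,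
      reassoc_of% hq1, reassoc_of% hq2, Category.assoc]
    simp only [MonObj.mul_comp _ _ u, MonObj.mul_comp _ _ v, Category.assoc, _root_.mul_inv_rev]
    group
  have hav := (isAv_proj (M := M) c).mul hJ1 cpr ((cw.mul cqq).mul cw.inv)
    (((isAv_proj (M := M) (polyTu T M ≫ v)).mul hJ1 cw cqq hq).mul hJ1 (cw.mul cqq) cw.inv
      (isAv_proj (M := M) (polyTu T M ≫ v)).inv)
  rw [← hcoc] at hav
  have key := hm.unique hav
  refine ⟨k⁻¹ * g, ?_, fun X x h => ?_⟩
  · rw [MonObj.comp_mul, GrpObj.comp_inv, hk1, MonObj.comp_one, inv_one, _root_.one_mul]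
  · have huniv : (polyProj T M ≫ (k⁻¹ * g)) * (polyTu T M ≫ u) * (polyProj T M ≫ (k⁻¹ * g))⁻¹ =
        polyTu T M ≫ v := by
      simp only [c] at key
      simp only [MonObj.comp_mul, GrpObj.comp_inv]
      generalize polyProj T M ≫ k = K at key ⊢
      generalize polyProj T M ≫ g = gg at key ⊢
      generalize polyTu T M ≫ u = uu at key ⊢
      generalize polyTu T M ≫ v = vv at key ⊢
      have e : gg * uu * gg⁻¹ = K * vv * K⁻¹ := by
        calc gg * uu * gg⁻¹ =
            (gg * uu * gg⁻¹ * vv⁻¹ * (vv * K * vv⁻¹)) * (vv * K⁻¹) := by group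
          _ = K * (vv * K⁻¹) := by rw [← key]
          _ = K * vv * K⁻¹ := by group
      calc K⁻¹ * gg * uu * (K⁻¹ * gg)⁻¹ = K⁻¹ * (gg * uu * gg⁻¹) * K := by group
        _ = vv := by rw [e]; group
    obtain ⟨w, hw1, hw2, -⟩ := exists_polyLift (M := M) x h
    have := congrArg (fun q => w ≫ q) huniv
    simp only [MonObj.comp_mul, GrpObj.comp_inv, reassoc_of% hw1, reassoc_of% hw2] at this ⊢
    exact this

end Main

end Groth.Agent.RedPts82
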