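import Groth.Agent.RedPts82.PinnedMats

/-!
A word in the Weyl elements of a pinning carrying a simple root to a simple root does so with a sign.
-/

universe u

open CategoryTheory MonoidalCategory CartesianMonoidalCategory MonObj GrpObj AlgebraicGeometry
open CategoryTheory.Limits

namespace Groth.Agent.RedPts82

theorem reduced_prefix {κ R M N : Type*} [CommRing R] [AddCommGroup M] [Module R M] [AddCommGroup N]
    [Module R N] {P : RootPairing κ R M N} {Δ : Set κ} {p q : List κ}
    (h : Roots36.Reduced P Δ (p ++ q)) : Roots36.Reduced P Δ p := by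
  refine ⟨fun c hc => h.1 c (List.mem_append_left q hc), fun p' hp' he => ?_⟩
  have := h.2 (p' ++ q) (fun c hc => (List.mem_append.mp hc).elim (hp' c)
    (fun hc => h.1 c (List.mem_append_right p hc))) (by rw [Roots36.wprod_append, Roots36.wprod_append, he])
  simpa using this

variable {S : Scheme.{u}} {G : Over S} [GrpObj G] {D : Red.SplitRed G}
  (B : D.P.Base) (hd : ∀ a ∈ B.support, IsDual D a (D.u (negIdx D a)))

theorem sgnLift_sq (i : D.idx) : sgnLift B hd i * sgnLift B hd i = 1 := by
  refine Prod.ext (Roots36.reflection_sq i) (Equiv.ext fun e => ?_)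
  rw [Prod.snd_mul, Equiv.Perm.mul_apply, Prod.snd_one, Equiv.Perm.one_apply]
  exact (edgePerm B hd i).symm_apply_apply e

theorem sgnLift_pow_orderOf {i j : D.idx} (hi : i ∈ B.support) (hj : j ∈ B.support) :
    (sgnLift B hd i * sgnLift B hd j) ^
      orderOf (RootPairing.Equiv.reflection D.P i * RootPairing.Equiv.reflection D.P j) = 1 := by
  by_cases hij : i = j
  · subst hij
    rw [sgnLift_sq, one_pow]
  · refine eq_one_of_describes (((describes_sgnLift B hd hi).mul (describes_sgnLift B hd hj)).pow _) ?_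
      (sgnFix_pow_orderOf B hd hi hj hij)
    rw [Prod.pow_fst, Prod.fst_mul]
    exact pow_orderOf_eq_one _

theorem sgnLift_fst_prod {l : List D.idx} (hl : ∀ c ∈ l, c ∈ B.support) :
    (l.map (sgnLift B hd)).prod.1 = Roots36.wprod D.P l :=
  Roots36.map_prod_eq (P := D.P) (Δ := (B.support : Set D.idx)) (sgnLift B hd)
    (MonoidHom.fst _ _) (fun _ _ => rfl) hl

theorem prod_apply_fst {l : List D.idx} (hl : ∀ c ∈ l, c ∈ B.support) (c : D.idx) (u : Sgn S) :
    ((l.map (sgnLift B hd)).prod.2 (c, u)).1 = Roots36.wprod D.P l • c := by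
  obtain ⟨k, -, h⟩ := describes_word B hd hl c u
  rw [h, sgnLift_fst_prod B hd hl]

/-- A word in two simple roots keeping a simple root positive moves it inside a closed positive part. -/
theorem word_mem_posPart {a j : D.idx} (ha : a ∈ B.support) {L : Set (D.idx × Sgn S)}
    (hL : PosPart B hd a j L) {v : List D.idx} (hv : ∀ c ∈ v, c = a ∨ c = j)
    (hred : Roots36.Reduced D.P (B.support : Set D.idx) v)
    (hpos : Roots36.wprod D.P v • a ∈ RootD.posOf D.P (B.support : Set D.idx)) :
    (v.map (sgnLift B hd)).prod.2 (a, 1) ∈ L := by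
  have hΔ := Roots36.base_isSimpleSys B
  induction v with
  | nil => simpa using hL.1
  | cons x v ih =>
    have hred' := reduced_suffix hΔ (p := [x]) (q := v) hred
    have hvpos : Roots36.wprod D.P v • a ∈ RootD.posOf D.P (B.support : Set D.idx) :=
      suffix_posOf hΔ (p := [x]) (q := v) hred ha hpos
    have hmem := ih (fun c hc => hv c (List.mem_cons_of_mem x hc)) hred' hvpos
    rw [List.map_cons, List.prod_cons, Prod.snd_mul, Equiv.Perm.mul_apply]
    refine hL.2.2.2 _ hmem x (hv x (by simp)) fun hx => ?_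
    rw [prod_apply_fst B hd (fun c hc => hred'.1 c hc)] at hx
    rw [Roots36.wprod_cons, mul_smul, hx, Roots36.reflection_self_smul, Roots36.neg_posOf_iff hΔ] at hpos
    exact hpos (Roots36.simple_mem_posOf hΔ (hred.1 x (by simp)))

theorem word_simple (n : ℕ) (l : List D.idx) (hn : l.length = n)
    (hl : Roots36.Reduced D.P (B.support : Set D.idx) l) (a a₀ : D.idx) (ha : a ∈ B.support)
    (ha₀ : a₀ ∈ B.support) (h : Roots36.wprod D.P l • a = a₀) :
    (l.map (sgnLift B hd)).prod.2 (a, 1) = (a₀, 1) := by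
  have hΔ := Roots36.base_isSimpleSys B
  induction n using Nat.strongRecOn generalizing l a a₀ with
  | ind n ih =>
    rcases List.eq_nil_or_concat l with rfl | ⟨l₁, j, rfl⟩
    · rw [Roots36.wprod_nil, one_smul] at h
      subst h
      simp
    rw [List.concat_eq_append] at hl h hn ⊢
    have hj : j ∈ B.support := hl.1 j (by simp)
    have hne : a ≠ j := fun e => by
      subst e
      exact wprod_concat_ne hΔ hl (h.symm ▸ Roots36.simple_mem_posOf hΔ ha₀)
    obtain ⟨u, v, h1, h2, h3, h4, h5, h6, h7⟩ :=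
      exists_split hΔ a j ha hj l₁ [j] hl (fun c hc => Or.inr (List.mem_singleton.mp hc))
    have heq : ((l₁ ++ [j]).map (sgnLift B hd)).prod = ((u ++ v).map (sgnLift B hd)).prod :=
      Roots36.prod_eq_of_reduced hΔ (sgnLift B hd) (MonoidHom.fst _ _) (fun _ _ => rfl)
        (fun i _ => sgnLift_sq B hd i) (fun i hi k hk => sgnLift_pow_orderOf B hd hi hk) hl h1 h2.symm
    rw [← h2] at h
    have hβ := wprod_smul_mem_pair hΔ ha hj ha₀ hne h5 h6 h7 h
    have hvpos : Roots36.wprod D.P v • a ∈ RootD.posOf D.P (B.support : Set D.idx) :=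
      suffix_posOf hΔ h1 ha (h.symm ▸ Roots36.simple_mem_posOf hΔ ha₀)
    obtain ⟨L, hL⟩ := exists_posPart B hd ha hj hne
    have hmem := word_mem_posPart B hd ha hL h5 (reduced_suffix hΔ h1) hvpos
    have hfst := prod_apply_fst B hd (fun c hc => (reduced_suffix hΔ h1).1 c hc) a 1
    have hone := hL.2.2.1 _ hmem (by rw [hfst]; exact hβ)
    have hval : (v.map (sgnLift B hd)).prod.2 (a, 1) = (Roots36.wprod D.P v • a, 1) := Prod.ext hfst hone
    rw [heq, List.map_append, List.prod_append, Prod.snd_mul, Equiv.Perm.mul_apply, hval]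
    refine ih u.length ?_ u rfl (reduced_prefix h1) _ a₀ ?_ ha₀ ?_
    · have h8 := congrArg id h3
      simp at h8 h4
      simp at hn
      omega
    · rcases hβ with e | e <;> rw [e] <;> assumption
    · rw [← mul_smul, ← Roots36.wprod_append]; exact h

theorem wordPerm_eq {κ R M N : Type*} [CommRing R] [AddCommGroup M] [Module R M] [AddCommGroup N]
    [Module R N] [CharZero R] [IsDomain R] (P : RootPairing κ R M N) [P.IsCrystallographic]
    (l : List κ) (i : κ) : (l.map P.reflectionPerm).prod i = Roots36.wprod P l • i := by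
  induction l with
  | nil => simp
  | cons a t ih =>
    rw [List.map_cons, List.prod_cons, Equiv.Perm.mul_apply, ih, Roots36.wprod_cons, mul_smul,
      Roots36.reflection_smul_index]

include hd

/-- A word in the Weyl elements carrying a simple root to a simple root does so with a sign. -/
theorem exists_sign {l : List D.idx} (hl : ∀ c ∈ l, c ∈ B.support) {a a₀ : D.idx} (ha : a ∈ B.support)
    (ha₀ : a₀ ∈ B.support) (h : Roots36.wprod D.P l • a = a₀) :
    ∃ ε : ℤ, (ε = 1 ∨ ε = -1) ∧
      Moves D (l.map fun c => wpt D c (𝟙_ (Over S))).prod a a₀ (ε : Γ(S, ⊤)) := by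
  have hΔ := Roots36.base_isSimpleSys B
  obtain ⟨r, hr, hp, hw, -⟩ := Roots36.exists_reduced_prod_eq hΔ (sgnLift B hd) (MonoidHom.fst _ _)
    (fun _ _ => rfl) (fun i _ => sgnLift_sq B hd i) (fun i hi k hk => sgnLift_pow_orderOf B hd hi hk) hl
  have e := word_simple B hd r.length r rfl hr a a₀ ha ha₀ (by rw [hw]; exact h)
  rw [hp] at e
  obtain ⟨k, hk, hk'⟩ := describes_word B hd hl a 1
  rw [sgnLift_fst_prod B hd hl, h] at hk hk'
  rw [hk'] at e
  have hs : sgnMk k = 1 := (sgn_mul_one (sgnMk k)).symm.trans (congrArg Prod.snd e)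
  obtain ⟨z, hz⟩ := Subgroup.mem_zpowers_iff.mp ((QuotientGroup.eq_one_iff k).mp hs)
  rcases Int.even_or_odd z with hh | hh
  · refine ⟨1, Or.inl rfl, hk.congr ?_⟩
    rw [← hz, hh.neg_one_zpow, Units.val_one, Int.cast_one]
  · refine ⟨-1, Or.inr rfl, hk.congr ?_⟩
    rw [← hz, hh.neg_one_zpow, Units.val_neg, Units.val_one, Int.cast_neg, Int.cast_one]

end Groth.Agent.RedPts82
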