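import Groth.Agent.RedPts82.IsoEdge
import Groth.Agent.RedPts82.PinnedSign
import Groth.Agent.RedPts82.SplitCover

/-!
The ratios define, independently of any choice of word, a scalar for every root.
-/

universe u

open CategoryTheory MonoidalCategory CartesianMonoidalCategory MonObj GrpObj AlgebraicGeometry

namespace Groth.Agent.RedPts82

variable {S : Scheme.{u}} {G G' : Over S} [GrpObj G] [GrpObj G']
  {D : Red.SplitRed G} {D' : Red.SplitRed G'} {b : D.P.Base} {b' : D'.P.Base}

/-- The roots fixed by a simple reflection in type `B₂` and the signs of their factors. -/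
theorem loops_B2 (b : D.P.Base) (hd : Duals D b) {a c : D.idx} (ha : a ∈ b.support) (hc : c ∈ b.support) (hne : a ≠ c)
    (hca : D.P.pairing c a = -2) (hac : D.P.pairing a c = -1) :
    Carries D a (D.P.reflectionPerm c a) (D.P.reflectionPerm c a) (-1) ∧
      Carries D c (D.P.reflectionPerm a c) (D.P.reflectionPerm a c) 1 ∧
      D.P.reflectionPerm a (D.P.reflectionPerm c a) = D.P.reflectionPerm c a ∧
      D.P.reflectionPerm c (D.P.reflectionPerm a c) = D.P.reflectionPerm a c := by
  obtain ⟨c₁, c₂, k, k', ⟨r1, r2, r3, r4⟩, -, -, q4, -, q5, -⟩ :=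
    pinned_B2 b ha hc hne (hd a ha) (hd c hc) hca hac
  subst r1 r3
  exact ⟨q5, q4, r2, r4⟩

/-- The roots fixed by a simple reflection in type `G₂`. -/
theorem loops_G2 (b : D.P.Base) (hd : Duals D b) {a c : D.idx} (ha : a ∈ b.support) (hc : c ∈ b.support) (hne : a ≠ c)
    (hca : D.P.pairing c a = -3) (hac : D.P.pairing a c = -1) :
    Carries D c (D.P.reflectionPerm a (D.P.reflectionPerm c a)) (D.P.reflectionPerm a (D.P.reflectionPerm c a)) 1 ∧
      Carries D a (D.P.reflectionPerm c (D.P.reflectionPerm a c)) (D.P.reflectionPerm c (D.P.reflectionPerm a c)) 1 := by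
  obtain ⟨c₁, c₂, c₃, d, k, k', k'', s, ⟨r1, r2, r3, r4, r5, r6⟩, ⟨-, -, q3, -, -⟩, ⟨-, -, -, -, q10⟩, -⟩ :=
    pinned_G2 b ha hc hne (hd a ha) (hd c hc) hca hac
  subst r1 r4
  subst r2 r5
  exact ⟨q3, q10⟩

/-- The two forms of the Weyl element of a root with a dual agree. -/
theorem r1_w_eq_w' {a : D.idx} (hdual : IsDual D a (D.u (negIdx D a))) {X : Over S} (u : Γ(X.left, ⊤)ˣ) :
    (r1 hdual X).w u = (r1 hdual X).w' u := by
  obtain ⟨Y, g, hf, hs, t, ht⟩ := exists_split_cover X
  have := epi_of_flat_surjective_left g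
  let v : Γ(Y.left, ⊤)ˣ := Units.map g.left.appTop.hom.toMonoidHom u
  have hP : ∀ r, g ≫ (r1 hdual X).P r = (r1 hdual Y).P (g.left.appTop r) := fun r => by
    show g ≫ gaPt r ≫ D.u a = gaPt _ ≫ D.u a
    rw [← Category.assoc, comp_gaPt]
  have hM : ∀ r, g ≫ (r1 hdual X).M r = (r1 hdual Y).M (g.left.appTop r) := fun r => by
    show g ≫ gaPt r ≫ D.u (negIdx D a) = gaPt _ ≫ D.u (negIdx D a)
    rw [← Category.assoc, comp_gaPt]
  rw [← cancel_epi g]
  simp only [R1.w, R1.w', MonObj.comp_mul, hP, hM, map_neg]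
  exact (r1 hdual Y).w_eq_w'_of_split v ⟨t, 1 - t, ht, by rw [_root_.mul_comm]; exact ht⟩
    ⟨1 - t, t, by rw [_root_.mul_comm]; exact ht, ht⟩ rfl

/-- The Weyl element of `a` carries `a` to `-a` with the factor `-1`. -/
theorem wpt_moves_self {a : D.idx} (hdual : IsDual D a (D.u (negIdx D a))) (b : D.P.Base) :
    Moves D (wpt D a (𝟙_ (Over S))) a (negIdx D a) (-1) := by
  obtain ⟨k, hk⟩ := exists_wpt_conj_unit hdual b a
  have hn : D.P.reflectionPerm a a = negIdx D a := rfl
  rw [hn] at hk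
  have h := (r1 hdual (𝟙_ (Over S))).w_P 1 (r1_w_eq_w' hdual 1)
  rw [← wpt_eq hdual] at h
  have h1 := rootHom_gaPt_injective _ ((hk (𝟙_ (Over S)) 1).symm.trans (Eq.trans rfl h))
  simp only [_root_.mul_one, cst_one, inv_one, Units.val_one] at h1
  intro X r
  rw [comp_wpt, ← h1]
  exact hk X r

variable (F : PMor D D' b b') (hd : Duals D b) (hd' : Duals D' b')

namespace PMor

/-- A set of pairs closed under the two simple edges away from the simple root. -/
def PosSet (a c : D.idx) (L : Set (D.idx × Γ(S, ⊤)ˣ)) : Prop :=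
  (a, (1 : Γ(S, ⊤)ˣ)) ∈ L ∧ (c, (1 : Γ(S, ⊤)ˣ)) ∈ L ∧ (∀ e ∈ L, e.1 = a ∨ e.1 = c → e.2 = 1) ∧
    ∀ e ∈ L, ∀ x, x = a ∨ x = c → e.1 ≠ x → F.edgePerm hd hd' x e ∈ L

theorem edge_of_signs {x : D.idx} (hx : x ∈ b.support) {c : D.idx} (hc : D.P.reflectionPerm x c = c)
    {k k' : Γ(S, ⊤)ˣ} (h : Carries D x c c k) (h' : Carries D' (F.d x) (F.d c) (F.d c) k')
    (he : k' = k ^ F.q c) : F.edge hd hd' x c = 1 := by
  rw [F.edge_eq hd hd' hx hc h h', ratio, he, mul_inv_cancel]

variable {a c : D.idx} (ha : a ∈ b.support) (hc : c ∈ b.support) (hne : a ≠ c)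
include ha hc hne

theorem posSet_A1 (hca : D.P.pairing c a = 0) (hac : D.P.pairing a c = 0) :
    F.PosSet hd hd' a c {(a, 1), (c, 1)} := by
  have h := indep_of_simple b ha hc hne
  have hne' : F.d a ≠ F.d c := fun e => hne (F.d.injective e)
  have h' := indep_of_simple b' (F.simple' ha) (F.simple' hc) hne'
  have r1 : D.P.reflectionPerm c a = a := refl_root (k := 0) (by rw [hac, neg_zero]) (by simp)
  have r2 : D.P.reflectionPerm a c = c := refl_root (k := 0) (by rw [hca, neg_zero]) (by simp)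
  have e1 : F.edge hd hd' c a = 1 := F.edge_of_signs hd hd' hc r1 (k := 1) (k' := 1)
    (by rw [Units.val_one]; exact carries_orth (hd c hc) b h.symm (b.sub_notMem_range_root ha hc) hac)
    (by rw [Units.val_one]; exact carries_orth (hd' _ (F.simple' hc)) b' h'.symm
          (b'.sub_notMem_range_root (F.simple' ha) (F.simple' hc)) (F.image_zero hac))
    (one_pow _).symm
  have e2 : F.edge hd hd' a c = 1 := F.edge_of_signs hd hd' ha r2 (k := 1) (k' := 1)
    (by rw [Units.val_one]; exact carries_orth (hd a ha) b h (b.sub_notMem_range_root hc ha) hca)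
    (by rw [Units.val_one]; exact carries_orth (hd' _ (F.simple' ha)) b' h'
          (b'.sub_notMem_range_root (F.simple' hc) (F.simple' ha)) (F.image_zero hca))
    (one_pow _).symm
  refine ⟨by simp, by simp, fun e he _ => ?_, fun e he x hx hex => ?_⟩
  · rcases he with rfl | rfl <;> rfl
  · rcases he with rfl | rfl <;> rcases hx with rfl | rfl <;>
      first
      | exact absurd rfl hex
      | (simp [edgePerm_apply, e1, e2, r1, r2])

theorem posSet_A2 (hca : D.P.pairing c a = -1) (hac : D.P.pairing a c = -1) :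
    ∃ L, F.PosSet hd hd' a c L := by
  have hne' : F.d a ≠ F.d c := fun e => hne (F.d.injective e)
  obtain ⟨h1, h2, hq⟩ : D'.P.pairing (F.d c) (F.d a) = -1 ∧ D'.P.pairing (F.d a) (F.d c) = -1 ∧ F.q a = F.q c := by
    rcases F.simple_image (m := 1) (n := 1) one_pos one_pos (by exact_mod_cast hca) (by exact_mod_cast hac)
      (Or.inr rfl) rfl with ⟨p1, p2, p3⟩ | ⟨p1, p2, p3⟩
    · exact ⟨by exact_mod_cast p1, p2, p3⟩
    · exact ⟨p1, by exact_mod_cast p2, by rw [p3, Nat.one_mul]⟩
  obtain ⟨e, k, ⟨r1, r2⟩, q1, -, q3, -, -⟩ := pinned_A2 b ha hc hne (hd a ha) (hd c hc) hca hac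
  obtain ⟨e', k', ⟨r1', r2'⟩, q1', -, q3', -, -⟩ := pinned_A2 b' (F.simple' ha) (F.simple' hc) hne'
    (hd' _ (F.simple' ha)) (hd' _ (F.simple' hc)) h1 h2
  have de : F.d e = e' := by rw [← r1, F.d_refl, r1']
  rw [← de] at q1' q3'
  have e1 := F.edge_eq hd hd' hc r1 q1 q1'
  have e2 : F.edge hd hd' a c = F.ratio a k k' := by
    rw [F.edge_eq hd hd' ha r2 (k := -k) (k' := -k') (by rw [Units.val_neg]; exact q3)
      (by rw [Units.val_neg]; exact q3'), ratio, ratio, ← neg_one_mul k, mul_pow, F.neg_one_pow, hq,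
      neg_one_mul, inv_neg, neg_mul_neg]
  have hr : D.P.root e = (1 : ℤ) • D.P.root a + (1 : ℤ) • D.P.root c := by
    rw [← r1, RootPairing.root_reflectionPerm, RootPairing.reflection_apply_root, hac]; module
  obtain ⟨n1, n2⟩ := ne_of_comb b ha hc hne hr one_ne_zero one_ne_zero
  have i1 : F.edge hd hd' c e * F.ratio a k k' = 1 := by
    rw [← e1]; conv_lhs => arg 1; rw [← r1]
    exact F.edge_refl hd hd' c a
  have i2 : F.edge hd hd' a e * F.ratio a k k' = 1 := by
    rw [← e2]; conv_lhs => arg 1; rw [← r2]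
    exact F.edge_refl hd hd' a c
  have r1i : D.P.reflectionPerm c e = a := by rw [← r1, RootPairing.reflectionPerm_self]
  have r2i : D.P.reflectionPerm a e = c := by rw [← r2, RootPairing.reflectionPerm_self]
  refine ⟨{(a, 1), (c, 1), (e, F.ratio a k k')}, by simp, by simp, fun x hx hx' => ?_, fun x hx y hy hxy => ?_⟩
  · rcases hx with rfl | rfl | rfl
    · rfl
    · rfl
    · rcases hx' with h' | h' <;> [exact absurd h' n1; exact absurd h' n2]
  · rcases hx with rfl | rfl | rfl <;> rcases hy with rfl | rfl <;>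
      first
      | exact absurd rfl hxy
      | (simp [edgePerm_apply, e1, e2, r1, r2, r1i, r2i, i1, i2])

theorem posSet_B2 (hca : D.P.pairing c a = -2) (hac : D.P.pairing a c = -1) :
    ∃ L, F.PosSet hd hd' a c L := by
  obtain ⟨l1, l2, s1, s2⟩ := loops_B2 b hd ha hc hne hca hac
  have hne' : F.d a ≠ F.d c := fun e => hne (F.d.injective e)
  set c₁ := D.P.reflectionPerm c a with hc₁
  set c₂ := D.P.reflectionPerm a c with hc₂
  obtain ⟨e5, e4⟩ : F.edge hd hd' a c₁ = 1 ∧ F.edge hd hd' c c₂ = 1 := by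
    rcases F.simple_image (m := 2) (n := 1) two_pos one_pos (by exact_mod_cast hca) (by exact_mod_cast hac)
      (Or.inl Nat.prime_two) rfl with ⟨p1, p2, -⟩ | ⟨p1, p2, p3⟩
    · obtain ⟨m1, m2, -, -⟩ := loops_B2 b' hd' (F.simple' ha) (F.simple' hc) hne' (by exact_mod_cast p1) p2
      rw [← F.d_refl] at m1 m2
      exact ⟨F.edge_of_signs hd hd' ha s1 (k := -1) (k' := -1) (by simpa using l1) (by simpa using m1)
          (F.neg_one_pow c₁).symm,
        F.edge_of_signs hd hd' hc s2 (k := 1) (k' := 1) (by simpa using l2) (by simpa using m2) (one_pow _).symm⟩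
    · obtain ⟨m1, m2, -, -⟩ := loops_B2 b' hd' (F.simple' hc) (F.simple' ha) hne'.symm (by exact_mod_cast p2) p1
      rw [← F.d_refl] at m1 m2
      have h2 : (-1 : Γ(S, ⊤)ˣ) = 1 := Units.ext (by
        have := F.natCast_eq_zero le_rfl Nat.prime_two p3
        rw [Units.val_neg, Units.val_one]
        push_cast at this
        linear_combination (-1 : Γ(S, ⊤)) * this)
      exact ⟨F.edge_of_signs hd hd' ha s1 (k := -1) (k' := 1) (by simpa using l1) (by simpa using m2)
          (by rw [h2, one_pow]),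
        F.edge_of_signs hd hd' hc s2 (k := 1) (k' := -1) (by simpa using l2) (by simpa using m1)
          (by rw [h2, one_pow])⟩
  have hr₁ : D.P.root c₁ = (1 : ℤ) • D.P.root a + (1 : ℤ) • D.P.root c := by
    rw [hc₁, RootPairing.root_reflectionPerm, RootPairing.reflection_apply_root, hac]; module
  have hr₂ : D.P.root c₂ = (2 : ℤ) • D.P.root a + (1 : ℤ) • D.P.root c := by
    rw [hc₂, RootPairing.root_reflectionPerm, RootPairing.reflection_apply_root, hca]; module
  obtain ⟨n1, n2⟩ := ne_of_comb b ha hc hne hr₁ one_ne_zero one_ne_zero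
  obtain ⟨n3, n4⟩ := ne_of_comb b ha hc hne hr₂ one_ne_zero two_ne_zero
  have i1 : F.edge hd hd' c c₁ * F.edge hd hd' c a = 1 := F.edge_refl hd hd' c a
  have i2 : F.edge hd hd' a c₂ * F.edge hd hd' a c = 1 := F.edge_refl hd hd' a c
  have r1i : D.P.reflectionPerm c c₁ = a := by rw [hc₁, RootPairing.reflectionPerm_self]
  have r2i : D.P.reflectionPerm a c₂ = c := by rw [hc₂, RootPairing.reflectionPerm_self]
  refine ⟨{(a, 1), (c, 1), (c₁, F.edge hd hd' c a), (c₂, F.edge hd hd' a c)}, by simp, by simp,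
    fun x hx hx' => ?_, fun x hx y hy hxy => ?_⟩
  · rcases hx with rfl | rfl | rfl | rfl
    · rfl
    · rfl
    · rcases hx' with h' | h' <;> [exact absurd h' n1; exact absurd h' n2]
    · rcases hx' with h' | h' <;> [exact absurd h' n3; exact absurd h' n4]
  · rcases hx with rfl | rfl | rfl | rfl <;> rcases hy with rfl | rfl <;>
      first
      | exact absurd rfl hxy
      | (simp [edgePerm_apply, e4, e5, r1i, r2i, s1, s2, i1, i2, ← hc₁, ← hc₂])

theorem posSet_G2 (hca : D.P.pairing c a = -3) (hac : D.P.pairing a c = -1) :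
    ∃ L, F.PosSet hd hd' a c L := by
  have hne' : F.d a ≠ F.d c := fun e => hne (F.d.injective e)
  obtain ⟨l1, l2⟩ := loops_G2 b hd ha hc hne hca hac
  obtain ⟨c₁, c₂, c₃, d, k, k', k'', s, ⟨r1, r2, r3, r4, r5, r6⟩, -, -, -⟩ :=
    pinned_G2 b ha hc hne (hd a ha) (hd c hc) hca hac
  rw [r1, r2] at l1
  rw [r4, r5] at l2
  obtain ⟨e3, e10⟩ : F.edge hd hd' c c₂ = 1 ∧ F.edge hd hd' a d = 1 := by
    rcases F.simple_image (m := 3) (n := 1) three_pos one_pos (by exact_mod_cast hca) (by exact_mod_cast hac)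
      (Or.inl Nat.prime_three) rfl with ⟨p1, p2, -⟩ | ⟨p1, p2, -⟩
    · obtain ⟨m1, m2⟩ := loops_G2 b' hd' (F.simple' ha) (F.simple' hc) hne' (by exact_mod_cast p1) p2
      rw [← F.d_refl, ← F.d_refl, r1, r2] at m1
      rw [← F.d_refl, ← F.d_refl, r4, r5] at m2
      exact ⟨F.edge_of_signs hd hd' hc r3 (k := 1) (k' := 1) (by simpa using l1) (by simpa using m1) (one_pow _).symm,
        F.edge_of_signs hd hd' ha r6 (k := 1) (k' := 1) (by simpa using l2) (by simpa using m2) (one_pow _).symm⟩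
    · obtain ⟨m1, m2⟩ := loops_G2 b' hd' (F.simple' hc) (F.simple' ha) hne'.symm (by exact_mod_cast p2) p1
      rw [← F.d_refl, ← F.d_refl, r4, r5] at m1
      rw [← F.d_refl, ← F.d_refl, r1, r2] at m2
      exact ⟨F.edge_of_signs hd hd' hc r3 (k := 1) (k' := 1) (by simpa using l1) (by simpa using m2) (one_pow _).symm,
        F.edge_of_signs hd hd' ha r6 (k := 1) (k' := 1) (by simpa using l2) (by simpa using m1) (one_pow _).symm⟩
  have hc₁ : D.P.root c₁ = (1 : ℤ) • D.P.root a + (1 : ℤ) • D.P.root c := by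
    rw [← r1, RootPairing.root_reflectionPerm, RootPairing.reflection_apply_root, hac]; module
  have hc₃ : D.P.root c₃ = (3 : ℤ) • D.P.root a + (1 : ℤ) • D.P.root c := by
    rw [← r4, RootPairing.root_reflectionPerm, RootPairing.reflection_apply_root, hca]; module
  have hc₂ : D.P.root c₂ = (2 : ℤ) • D.P.root a + (1 : ℤ) • D.P.root c := by
    rw [← r2, RootPairing.root_reflectionPerm, RootPairing.reflection_apply_root,
      coroot_pairing_comb hc₁ a, hca, RootPairing.pairing_same, hc₁]; module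
  have hdd : D.P.root d = (3 : ℤ) • D.P.root a + (2 : ℤ) • D.P.root c := by
    rw [← r5, RootPairing.root_reflectionPerm, RootPairing.reflection_apply_root,
      coroot_pairing_comb hc₃ c, hac, RootPairing.pairing_same, hc₃]; module
  obtain ⟨n1, n2⟩ := ne_of_comb b ha hc hne hc₁ one_ne_zero one_ne_zero
  obtain ⟨n3, n4⟩ := ne_of_comb b ha hc hne hc₂ one_ne_zero two_ne_zero
  obtain ⟨n5, n6⟩ := ne_of_comb b ha hc hne hc₃ one_ne_zero three_ne_zero
  obtain ⟨n7, n8⟩ := ne_of_comb b ha hc hne hdd two_ne_zero three_ne_zero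
  have r1i : D.P.reflectionPerm c c₁ = a := by rw [← r1, RootPairing.reflectionPerm_self]
  have r2i : D.P.reflectionPerm a c₂ = c₁ := by rw [← r2, RootPairing.reflectionPerm_self]
  have r4i : D.P.reflectionPerm a c₃ = c := by rw [← r4, RootPairing.reflectionPerm_self]
  have r5i : D.P.reflectionPerm c d = c₃ := by rw [← r5, RootPairing.reflectionPerm_self]
  have i1 := F.edge_refl hd hd' c a
  have i2 := F.edge_refl hd hd' a c₁
  have i4 := F.edge_refl hd hd' a c
  have i5 := F.edge_refl hd hd' c c₃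
  rw [r1] at i1; rw [r2] at i2; rw [r4] at i4; rw [r5] at i5
  refine ⟨{(a, 1), (c, 1), (c₁, F.edge hd hd' c a), (c₂, F.edge hd hd' a c₁ * F.edge hd hd' c a),
    (c₃, F.edge hd hd' a c), (d, F.edge hd hd' c c₃ * F.edge hd hd' a c)},
    by simp, by simp, fun x hx hx' => ?_, fun x hx y hy hxy => ?_⟩
  · rcases hx with rfl | rfl | rfl | rfl | rfl | rfl
    · rfl
    · rfl
    · rcases hx' with h' | h' <;> [exact absurd h' n1; exact absurd h' n2]
    · rcases hx' with h' | h' <;> [exact absurd h' n3; exact absurd h' n4]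
    · rcases hx' with h' | h' <;> [exact absurd h' n5; exact absurd h' n6]
    · rcases hx' with h' | h' <;> [exact absurd h' n7; exact absurd h' n8]
  · rcases hx with rfl | rfl | rfl | rfl | rfl | rfl <;> rcases hy with rfl | rfl <;>
      first
      | exact absurd rfl hxy
      | (simp [edgePerm_apply, e3, e10, r1, r2, r3, r4, r5, r6, r1i, r2i, r4i, r5i, i1, i2, i4, i5,
          ← _root_.mul_assoc])

omit ha hc hne in
theorem PosSet.symm {L : Set (D.idx × Γ(S, ⊤)ˣ)} (h : F.PosSet hd hd' a c L) : F.PosSet hd hd' c a L :=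
  ⟨h.2.1, h.1, fun e he he' => h.2.2.1 e he he'.symm, fun e he x hx => h.2.2.2 e he x hx.symm⟩

theorem exists_posSet : ∃ L, F.PosSet hd hd' a c L := by
  rcases simple_cases b ha hc hne with ⟨p, q⟩ | ⟨p, q⟩ | ⟨p, q⟩ | ⟨p, q⟩ | ⟨p, q⟩ | ⟨p, q⟩
  · exact ⟨_, F.posSet_A1 hd hd' ha hc hne p q⟩
  · exact F.posSet_A2 hd hd' ha hc hne p q
  · exact F.posSet_B2 hd hd' ha hc hne p q
  · obtain ⟨L, hL⟩ := F.posSet_B2 hd hd' hc ha hne.symm q p; exact ⟨L, hL.symm F hd hd'⟩
  · exact F.posSet_G2 hd hd' ha hc hne p q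
  · obtain ⟨L, hL⟩ := F.posSet_G2 hd hd' hc ha hne.symm q p; exact ⟨L, hL.symm F hd hd'⟩

omit ha hc hne

theorem lift_sq (i : D.idx) : F.lift' hd hd' i * F.lift' hd hd' i = 1 := by
  refine Prod.ext (Roots36.reflection_sq i) (Equiv.ext fun e => ?_)
  rw [Prod.snd_mul, Equiv.Perm.mul_apply, Prod.snd_one, Equiv.Perm.one_apply]
  exact (F.edgePerm hd hd' i).symm_apply_apply e

include hd hd'

theorem triv_pow_orderOf {x y : D.idx} (hx : x ∈ b.support) (hy : y ∈ b.support) (hxy : x ≠ y) :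
    F.Triv ((wpt D x (𝟙_ (Over S)) * wpt D y (𝟙_ (Over S))) ^
        orderOf (RootPairing.Equiv.reflection D.P x * RootPairing.Equiv.reflection D.P y))
      ((wpt D' (F.d x) (𝟙_ (Over S)) * wpt D' (F.d y) (𝟙_ (Over S))) ^
        orderOf (RootPairing.Equiv.reflection D.P x * RootPairing.Equiv.reflection D.P y)) := by
  have hxy' : F.d x ≠ F.d y := fun e => hxy (F.d.injective e)
  have hA' := hd' _ (F.simple' hx)
  have hB' := hd' _ (F.simple' hy)
  have key : ∀ m, m ∣ orderOf (RootPairing.Equiv.reflection D.P x * RootPairing.Equiv.reflection D.P y) →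
      F.Triv ((wpt D x (𝟙_ (Over S)) * wpt D y (𝟙_ (Over S))) ^ m)
        ((wpt D' (F.d x) (𝟙_ (Over S)) * wpt D' (F.d y) (𝟙_ (Over S))) ^ m) →
      F.Triv ((wpt D x (𝟙_ (Over S)) * wpt D y (𝟙_ (Over S))) ^
          orderOf (RootPairing.Equiv.reflection D.P x * RootPairing.Equiv.reflection D.P y))
        ((wpt D' (F.d x) (𝟙_ (Over S)) * wpt D' (F.d y) (𝟙_ (Over S))) ^
          orderOf (RootPairing.Equiv.reflection D.P x * RootPairing.Equiv.reflection D.P y)) := by
    rintro m ⟨q, hq⟩ h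
    rw [hq, pow_mul, pow_mul]
    exact h.pow q
  rcases simple_cases b hx hy hxy with ⟨p, q⟩ | ⟨p, q⟩ | ⟨p, q⟩ | ⟨p, q⟩ | ⟨p, q⟩ | ⟨p, q⟩
  · refine key 2 (orderOf_dvd b hx hy hxy 2 two_pos (by rw [p, q]; decide) (by rw [p, q]; decide)) ?_
    rw [(coxeter_A1 b hx hy hxy (hd x hx) (hd y hy) p q).1,
      (coxeter_A1 b' (F.simple' hx) (F.simple' hy) hxy' hA' hB' (F.image_zero p) (F.image_zero q)).1]
    exact (F.triv_negOnePt x).mul (F.triv_negOnePt y)
  · refine key 3 (orderOf_dvd b hx hy hxy 3 three_pos (by rw [p, q]; decide) (by rw [p, q]; decide)) ?_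
    obtain ⟨h1, h2⟩ : D'.P.pairing (F.d y) (F.d x) = -1 ∧ D'.P.pairing (F.d x) (F.d y) = -1 := by
      rcases F.simple_image (m := 1) (n := 1) one_pos one_pos (by exact_mod_cast p) (by exact_mod_cast q)
        (Or.inr rfl) rfl with ⟨u, v, -⟩ | ⟨u, v, -⟩ <;> exact ⟨by exact_mod_cast u, by exact_mod_cast v⟩
    rw [(coxeter_A2 b hx hy hxy (hd x hx) (hd y hy) p q).1,
      (coxeter_A2 b' (F.simple' hx) (F.simple' hy) hxy' hA' hB' h1 h2).1]
    exact F.triv_one
  · refine key 4 (orderOf_dvd b hx hy hxy 4 (by norm_num) (by rw [p, q]; decide) (by rw [p, q]; decide)) ?_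
    rw [(coxeter_B2 b hx hy hxy (hd x hx) (hd y hy) p q).1]
    rcases F.simple_image (m := 2) (n := 1) two_pos one_pos (by exact_mod_cast p) (by exact_mod_cast q)
      (Or.inl Nat.prime_two) rfl with ⟨u, v, -⟩ | ⟨u, v, w⟩
    · rw [(coxeter_B2 b' (F.simple' hx) (F.simple' hy) hxy' hA' hB' (by exact_mod_cast u) v).1]
      exact F.triv_negOnePt x
    · rw [(coxeter_B2 b' (F.simple' hy) (F.simple' hx) hxy'.symm hB' hA' (by exact_mod_cast v) u).2]
      exact F.triv_of_char_two (F.natCast_eq_zero le_rfl Nat.prime_two w) x y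
  · refine key 4 (orderOf_dvd b hx hy hxy 4 (by norm_num) (by rw [p, q]; decide) (by rw [p, q]; decide)) ?_
    rw [(coxeter_B2 b hy hx hxy.symm (hd y hy) (hd x hx) q p).2]
    rcases F.simple_image (m := 2) (n := 1) two_pos one_pos (by exact_mod_cast q) (by exact_mod_cast p)
      (Or.inl Nat.prime_two) rfl with ⟨u, v, -⟩ | ⟨u, v, w⟩
    · rw [(coxeter_B2 b' (F.simple' hy) (F.simple' hx) hxy'.symm hB' hA' (by exact_mod_cast u) v).2]
      exact F.triv_negOnePt y
    · rw [(coxeter_B2 b' (F.simple' hx) (F.simple' hy) hxy' hA' hB' (by exact_mod_cast v) u).1]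
      exact F.triv_of_char_two (F.natCast_eq_zero le_rfl Nat.prime_two w) y x
  · refine key 6 (orderOf_dvd b hx hy hxy 6 (by norm_num) (by rw [p, q]; decide) (by rw [p, q]; decide)) ?_
    rw [(coxeter_G2 b hx hy hxy (hd x hx) (hd y hy) p q).1]
    rcases F.simple_image (m := 3) (n := 1) three_pos one_pos (by exact_mod_cast p) (by exact_mod_cast q)
      (Or.inl Nat.prime_three) rfl with ⟨u, v, -⟩ | ⟨u, v, -⟩
    · rw [(coxeter_G2 b' (F.simple' hx) (F.simple' hy) hxy' hA' hB' (by exact_mod_cast u) v).1]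
      exact F.triv_one
    · rw [(coxeter_G2 b' (F.simple' hy) (F.simple' hx) hxy'.symm hB' hA' (by exact_mod_cast v) u).2]
      exact F.triv_one
  · refine key 6 (orderOf_dvd b hx hy hxy 6 (by norm_num) (by rw [p, q]; decide) (by rw [p, q]; decide)) ?_
    rw [(coxeter_G2 b hy hx hxy.symm (hd y hy) (hd x hx) q p).2]
    rcases F.simple_image (m := 3) (n := 1) three_pos one_pos (by exact_mod_cast q) (by exact_mod_cast p)
      (Or.inl Nat.prime_three) rfl with ⟨u, v, -⟩ | ⟨u, v, -⟩
    · rw [(coxeter_G2 b' (F.simple' hy) (F.simple' hx) hxy'.symm hB' hA' (by exact_mod_cast u) v).2]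
      exact F.triv_one
    · rw [(coxeter_G2 b' (F.simple' hx) (F.simple' hy) hxy' hA' hB' (by exact_mod_cast v) u).1]
      exact F.triv_one

theorem lift_pow_orderOf {i j : D.idx} (hi : i ∈ b.support) (hj : j ∈ b.support) :
    (F.lift' hd hd' i * F.lift' hd hd' j) ^
      orderOf (RootPairing.Equiv.reflection D.P i * RootPairing.Equiv.reflection D.P j) = 1 := by
  by_cases hij : i = j
  · subst hij
    rw [F.lift_sq, one_pow]
  · refine F.eq_one_of_desc (((F.desc_lift hd hd' hi).mul (F.desc_lift hd hd' hj)).pow _) ?_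
      (F.triv_pow_orderOf hd hd' hi hj hij)
    rw [Prod.pow_fst, Prod.fst_mul]
    exact pow_orderOf_eq_one _

theorem prod_apply_fst' {w : List D.idx} (hw : ∀ x ∈ w, x ∈ b.support) (x : D.idx) (u : Γ(S, ⊤)ˣ) :
    ((w.map (F.lift' hd hd')).prod.2 (x, u)).1 = Roots36.wprod D.P w • x := by
  obtain ⟨-, k, k', -, -, h⟩ := F.desc_word hd hd' hw x u
  rw [h, show (w.map (F.lift' hd hd')).prod.1 = Roots36.wprod D.P w from
    Roots36.map_prod_eq (P := D.P) (Δ := (b.support : Set D.idx)) (F.lift' hd hd')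
      (MonoidHom.fst _ _) (fun _ _ => rfl) hw]

theorem word_mem_posSet {a j : D.idx} (ha : a ∈ b.support) {L : Set (D.idx × Γ(S, ⊤)ˣ)}
    (hL : F.PosSet hd hd' a j L) {v : List D.idx} (hv : ∀ c ∈ v, c = a ∨ c = j)
    (hred : Roots36.Reduced D.P (b.support : Set D.idx) v)
    (hpos : Roots36.wprod D.P v • a ∈ RootD.posOf D.P (b.support : Set D.idx)) :
    (v.map (F.lift' hd hd')).prod.2 (a, 1) ∈ L := by
  have hΔ := Roots36.base_isSimpleSys b
  induction v with
  | nil => simpa using hL.1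
  | cons x v ih =>
    have hred' := reduced_suffix hΔ (p := [x]) (q := v) hred
    have hvpos : Roots36.wprod D.P v • a ∈ RootD.posOf D.P (b.support : Set D.idx) :=
      suffix_posOf hΔ (p := [x]) (q := v) hred ha hpos
    have hmem := ih (fun c hc => hv c (List.mem_cons_of_mem x hc)) hred' hvpos
    rw [List.map_cons, List.prod_cons, Prod.snd_mul, Equiv.Perm.mul_apply]
    refine hL.2.2.2 _ hmem x (hv x (by simp)) fun hx => ?_
    rw [F.prod_apply_fst' hd hd' (fun c hc => hred'.1 c hc)] at hx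
    rw [Roots36.wprod_cons, mul_smul, hx, Roots36.reflection_self_smul, Roots36.neg_posOf_iff hΔ] at hpos
    exact hpos (Roots36.simple_mem_posOf hΔ (hred.1 x (by simp)))

theorem word_simple' (n : ℕ) (w : List D.idx) (hn : w.length = n)
    (hw : Roots36.Reduced D.P (b.support : Set D.idx) w) (a a₀ : D.idx) (ha : a ∈ b.support)
    (ha₀ : a₀ ∈ b.support) (h : Roots36.wprod D.P w • a = a₀) :
    (w.map (F.lift' hd hd')).prod.2 (a, 1) = (a₀, 1) := by
  have hΔ := Roots36.base_isSimpleSys b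
  induction n using Nat.strongRecOn generalizing w a a₀ with
  | ind n ih =>
    rcases List.eq_nil_or_concat w with rfl | ⟨l₁, j, rfl⟩
    · rw [Roots36.wprod_nil, one_smul] at h
      subst h
      simp
    rw [List.concat_eq_append] at hw h hn ⊢
    have hj : j ∈ b.support := hw.1 j (by simp)
    have hne : a ≠ j := fun e => by
      subst e
      exact wprod_concat_ne hΔ hw (h.symm ▸ Roots36.simple_mem_posOf hΔ ha₀)
    obtain ⟨u, v, h1, h2, h3, h4, h5, h6, h7⟩ :=
      exists_split hΔ a j ha hj l₁ [j] hw (fun c hc => Or.inr (List.mem_singleton.mp hc))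
    have heq : ((l₁ ++ [j]).map (F.lift' hd hd')).prod = ((u ++ v).map (F.lift' hd hd')).prod :=
      Roots36.prod_eq_of_reduced hΔ (F.lift' hd hd') (MonoidHom.fst _ _) (fun _ _ => rfl)
        (fun i _ => F.lift_sq hd hd' i) (fun i hi k hk => F.lift_pow_orderOf hd hd' hi hk) hw h1 h2.symm
    rw [← h2] at h
    have hβ := wprod_smul_mem_pair hΔ ha hj ha₀ hne h5 h6 h7 h
    have hvpos : Roots36.wprod D.P v • a ∈ RootD.posOf D.P (b.support : Set D.idx) :=
      suffix_posOf hΔ h1 ha (h.symm ▸ Roots36.simple_mem_posOf hΔ ha₀)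
    obtain ⟨L, hL⟩ := F.exists_posSet hd hd' ha hj hne
    have hmem := F.word_mem_posSet hd hd' ha hL h5 (reduced_suffix hΔ h1) hvpos
    have hfst := F.prod_apply_fst' hd hd' (fun c hc => (reduced_suffix hΔ h1).1 c hc) a 1
    have hone := hL.2.2.1 _ hmem (by rw [hfst]; exact hβ)
    have hval : (v.map (F.lift' hd hd')).prod.2 (a, 1) = (Roots36.wprod D.P v • a, 1) := Prod.ext hfst hone
    rw [heq, List.map_append, List.prod_append, Prod.snd_mul, Equiv.Perm.mul_apply, hval]
    refine ih u.length ?_ u rfl (reduced_prefix h1) _ a₀ ?_ ha₀ ?_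
    · have h8 := congrArg id h3
      simp at h8 h4
      simp at hn
      omega
    · rcases hβ with e | e <;> rw [e] <;> assumption
    · rw [← mul_smul, ← Roots36.wprod_append]; exact h

theorem word_class' {w w' : List D.idx} (hw : ∀ e ∈ w, e ∈ b.support) (hw' : ∀ e ∈ w', e ∈ b.support)
    {a a' : D.idx} (ha : a ∈ b.support) (ha' : a' ∈ b.support)
    (h : Roots36.wprod D.P w • a = Roots36.wprod D.P w' • a') :
    (w.map (F.lift' hd hd')).prod.2 (a, 1) = (w'.map (F.lift' hd hd')).prod.2 (a', 1) := by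
  have hΔ := Roots36.base_isSimpleSys b
  have hrev : (w'.map (F.lift' hd hd')).prod * (w'.reverse.map (F.lift' hd hd')).prod = 1 := by
    clear hw' h
    induction w' with
    | nil => simp
    | cons x t ih =>
      rw [List.reverse_cons, List.map_append, List.prod_append, List.map_cons, List.prod_cons,
        List.map_cons, List.map_nil, List.prod_cons, List.prod_nil, _root_.mul_one, _root_.mul_assoc,
        ← _root_.mul_assoc _ _ (F.lift' hd hd' x), ih, _root_.one_mul, F.lift_sq]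
  have hlist : ∀ e ∈ w'.reverse ++ w, e ∈ b.support := fun e he => by
    rcases List.mem_append.mp he with he | he
    · exact hw' e (List.mem_reverse.mp he)
    · exact hw e he
  obtain ⟨r, hr, hp, hwr, -⟩ := Roots36.exists_reduced_prod_eq hΔ (F.lift' hd hd') (MonoidHom.fst _ _)
    (fun _ _ => rfl) (fun i _ => F.lift_sq hd hd' i) (fun i hi k hk => F.lift_pow_orderOf hd hd' hi hk) hlist
  have e := F.word_simple' hd hd' r.length r rfl hr a a' ha ha' (by
    rw [hwr, Roots36.wprod_append, mul_smul, h, Roots36.wprod_reverse, inv_smul_smul])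
  rw [hp] at e
  conv_rhs => rw [← e, ← Equiv.Perm.mul_apply, ← Prod.snd_mul, List.map_append, List.prod_append,
    ← _root_.mul_assoc, hrev, _root_.one_mul]

/-- The scalars by which corresponding root homomorphisms are related. -/
theorem exists_scalars :
    ∃ κ : D.idx → Γ(S, ⊤)ˣ, (∀ a ∈ b.support, κ a = 1 ∧ κ (negIdx D a) = 1) ∧
      ∀ x ∈ b.support, ∀ c, F.edge hd hd' x c * κ c = κ (D.P.reflectionPerm x c) := by
  choose w a hw ha hwa hnil using exists_word_to b
  let κ : D.idx → Γ(S, ⊤)ˣ := fun c => ((w c).map (F.lift' hd hd')).prod.2 (a c, 1) |>.2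
  have hval : ∀ c, ((w c).map (F.lift' hd hd')).prod.2 (a c, 1) = (c, κ c) := fun c =>
    Prod.ext ((F.prod_apply_fst' hd hd' (hw c) (a c) 1).trans (hwa c)) rfl
  have hstep : ∀ x ∈ b.support, ∀ c, F.edge hd hd' x c * κ c = κ (D.P.reflectionPerm x c) := fun x hx c => by
    have e := F.word_class' hd hd' (w := x :: w c) (fun e he => by
      rcases List.mem_cons.mp he with rfl | he
      exacts [hx, hw c e he]) (hw (D.P.reflectionPerm x c)) (ha c) (ha _) (by
        rw [Roots36.wprod_cons, mul_smul, hwa, hwa, Roots36.reflection_smul_index])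
    rw [List.map_cons, List.prod_cons, Prod.snd_mul, Equiv.Perm.mul_apply, hval, hval] at e
    exact congrArg Prod.snd e
  have hone : ∀ x ∈ b.support, κ x = 1 := fun x hx => by
    have e := F.word_class' hd hd' (hw x) (w' := []) (by simp) (ha x) hx (by
      rw [hwa, Roots36.wprod_nil, one_smul])
    rw [hval, List.map_nil, List.prod_nil, Prod.snd_one, Equiv.Perm.one_apply] at e
    exact congrArg Prod.snd e
  refine ⟨κ, fun x hx => ⟨hone x hx, ?_⟩, hstep⟩
  have e := hstep x hx x
  rw [hone x hx, _root_.mul_one] at e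
  rw [show negIdx D x = D.P.reflectionPerm x x from rfl, ← e]
  obtain ⟨k, k', h1, h1', h2⟩ := F.edge_spec hd hd' hx x
  have c1 : k = -1 := Units.ext (by rw [Units.val_neg, Units.val_one]; exact h1.unique (wpt_moves_self (hd x hx) b))
  have c2 : k' = -1 := Units.ext (by
    rw [Units.val_neg, Units.val_one]
    refine h1'.unique ?_
    rw [show D.P.reflectionPerm x x = negIdx D x from rfl, F.d_negIdx]
    exact wpt_moves_self (hd' _ (F.simple' hx)) b')
  rw [h2, c1, c2, ratio, F.neg_one_pow, mul_inv_cancel]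

end PMor

end Groth.Agent.RedPts82
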