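import Groth.Agent.RedPts82.IsoRank2
import Groth.Agent.RedPts82.ChevLin
import Groth.Agent.Roots36.Functional

/-!
All commutation relations of the root pairs, by reduction to the span of two simple roots.
-/

universe u

open CategoryTheory MonoidalCategory CartesianMonoidalCategory MonObj GrpObj AlgebraicGeometry

namespace Groth.Agent.RedPts82

variable {S : Scheme.{u}} {G G' : Over S} [GrpObj G] [GrpObj G']
  {D : Red.SplitRed G} {D' : Red.SplitRed G'} {b : D.P.Base} {b' : D'.P.Base}

theorem indep_of_ne (b : D.P.Base) {c e : D.idx} (hne : c ≠ e) (hne' : e ≠ negIdx D c) :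
    Indep D.P c e := by
  have := isReduced_of_base b
  by_contra h
  rcases RootPairing.IsReduced.eq_or_eq_neg (P := D.P) c e h with h1 | h1
  · exact hne (D.P.root.injective h1)
  · exact hne' (D.P.root.injective (by rw [root_negIdx, h1, neg_neg]))

/-- A pair of independent roots is carried into the positive span of two simple roots by an element
of the Weyl group. -/
theorem exists_smul_span2 (b : D.P.Base) {c e : D.idx} (h : Indep D.P c e) (hne : c ≠ e) :
    ∃ w : List D.idx, (∀ x ∈ w, x ∈ b.support) ∧ ∃ a ∈ b.support, ∃ a' ∈ b.support, a ≠ a' ∧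
      ∃ c₀ ∈ span2 D a a', ∃ e₀ ∈ span2 D a a',
        Roots36.wprod D.P w • c₀ = c ∧ Roots36.wprod D.P w • e₀ = e := by
  classical
  obtain ⟨f, hf⟩ := Roots36.exists_functional_span (P := D.P) ({c, e} : Set D.idx)
  obtain ⟨l, hl, -, hlc, hle⟩ := exists_functional_indep (P := D.P) (a := c) (b := e) h.prod_lt
  have hmem : ∀ x ∈ ({c, e} : Set D.idx), f (D.P.root x) = 0 := fun x hx =>
    (hf x).mpr ⟨1, one_pos, by rw [one_smul]; exact Submodule.subset_span ⟨x, hx, rfl⟩⟩
  set Sp : Set D.idx := {k | 0 < f (D.P.root k) ∨ (f (D.P.root k) = 0 ∧ 0 < l (D.P.root k))} with hSp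
  have hneg : ∀ k, D.P.root (Roots36.neg D.P k) = -D.P.root k := fun k => Roots36.root_neg (P := D.P) k
  have hcl : RootD.IsClosedSub D.P Sp := by
    intro i j k hi hj hk
    simp only [hSp, Set.mem_setOf_eq, hk, map_add] at hi hj ⊢
    rcases hi with hi | ⟨hi, hi'⟩ <;> rcases hj with hj | ⟨hj, hj'⟩
    · exact Or.inl (by linarith)
    · exact Or.inl (by linarith)
    · exact Or.inl (by linarith)
    · exact Or.inr ⟨by linarith, by linarith⟩
  have hcov : ∀ i, i ∈ Sp ∨ Roots36.neg D.P i ∈ Sp := fun i => by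
    simp only [hSp, Set.mem_setOf_eq, hneg, map_neg]
    have := hl i
    rcases lt_trichotomy (f (D.P.root i)) 0 with h1 | h1 | h1
    · exact Or.inr (Or.inl (by linarith))
    · rcases lt_or_gt_of_ne this with h2 | h2
      · exact Or.inr (Or.inr ⟨by linarith, by omega⟩)
      · exact Or.inl (Or.inr ⟨h1, h2⟩)
    · exact Or.inl (Or.inl h1)
  have hdis : ∀ i ∈ Sp, Roots36.neg D.P i ∉ Sp := fun i hi hi' => by
    simp only [hSp, Set.mem_setOf_eq, hneg, map_neg] at hi hi'
    rcases hi with hi | ⟨hi, hj⟩ <;> rcases hi' with hi' | ⟨hi', hj'⟩ <;> first | linarith | omega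
  have := isReduced_of_base b
  have hΔ := Roots36.base_isSimpleSys b
  obtain ⟨g, hg, he⟩ := Roots36.exists_smul_posOf_eq hΔ hcl hcov hdis
  obtain ⟨w, hw, rfl⟩ := Roots36.exists_word hΔ hg
  rw [Roots36.posOf_smul] at he
  set g := Roots36.wprod D.P w
  have hnn : ∀ x ∈ b.support, 0 ≤ f (D.P.root (g • x)) := fun x hx => by
    have hxS : g • x ∈ Sp := he ▸ ⟨x, Roots36.simple_mem_posOf hΔ hx, rfl⟩
    rcases hxS with h1 | ⟨h1, -⟩
    · exact h1.le
    · exact h1.ge
  let Z : Finset D.idx := b.support.filter fun x => f (D.P.root (g • x)) = 0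
  have hpre : ∀ x ∈ ({c, e} : Set D.idx), 0 < l (D.P.root x) → ∃ x₀, g • x₀ = x ∧
      ∃ k : D.idx → ℕ, (∀ j ∉ Z, k j = 0) ∧ D.P.root x₀ = ∑ j, (k j : ℤ) • D.P.root j := by
    intro x hx hlx
    obtain ⟨x₀, hx₀, hgx⟩ : x ∈ (g • ·) '' RootD.posOf D.P (b.support : Set D.idx) :=
      he ▸ Or.inr ⟨hmem x hx, hlx⟩
    obtain ⟨k, hk, hk', hk''⟩ := Roots36.natSpan_iff.mp hx₀
    refine ⟨x₀, hgx, fun j => (k j).toNat, fun j hj => ?_, ?_⟩
    · by_cases hjb : j ∈ b.support
      · have hpos : 0 < f (D.P.root (g • j)) :=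
          (hnn j hjb).lt_of_ne fun h0 => hj (Finset.mem_filter.mpr ⟨hjb, h0.symm⟩)
        have h0 : ∑ i, k i • f (D.P.root (g • i)) = 0 := by
          simp only at hgx
          rw [← hmem x hx, ← hgx, Roots36.root_smul, hk'', Roots36.comb, Finset.smul_sum, map_sum]
          refine Finset.sum_congr rfl fun i _ => ?_
          rw [smul_comm g (k i) (D.P.root i), ← Roots36.root_smul, map_zsmul]
        have hterm := (Finset.sum_eq_zero_iff_of_nonneg fun i _ => ?_).mp h0 j (Finset.mem_univ _)
        · rw [zsmul_eq_mul, mul_eq_zero] at hterm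
          rcases hterm with h1 | h1
          · rw [Int.toNat_eq_zero]
            exact le_of_eq (by exact_mod_cast h1)
          · linarith
        · by_cases hib : i ∈ b.support
          · exact zsmul_nonneg (hnn i hib) (hk i)
          · simp [hk' i hib]
      · simp [hk' j hjb]
    · rw [hk'', Roots36.comb]
      exact Finset.sum_congr rfl fun i _ => by rw [Int.toNat_of_nonneg (hk i)]
  obtain ⟨c₀, hc₀, kc, kc0, hkc⟩ := hpre c (by simp) hlc
  obtain ⟨e₀, he₀, ke, ke0, hke⟩ := hpre e (by simp) hle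
  have hcard : Z.card ≤ 2 := by
    let W : Submodule ℤ D.M := Submodule.span ℤ (D.P.root '' ({c, e} : Set D.idx))
    have hWfin : Module.Finite ℤ W := Module.Finite.span_of_finite ℤ ((Set.toFinite _).image _)
    have hex : ∀ z : Z, ∃ n : ℕ, 0 < n ∧ n • D.P.root (g • (z : D.idx)) ∈ W := fun z =>
      (hf _).mp (Finset.mem_filter.mp z.2).2
    choose n hn hnW using hex
    let v : Z → W := fun z => ⟨n z • D.P.root (g • (z : D.idx)), hnW z⟩
    have hli : LinearIndependent ℤ v := by
      refine LinearIndependent.of_comp W.subtype ?_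
      rw [Fintype.linearIndependent_iff]
      intro x hx z
      have hsum : ∑ z : Z, (x z * n z) • D.P.root (z : D.idx) = 0 := by
        refine MulAction.injective g (?_ : g • _ = g • _)
        rw [smul_zero, Finset.smul_sum, ← hx]
        refine Finset.sum_congr rfl fun z _ => ?_
        rw [smul_comm g (x z * (n z : ℤ)), ← Roots36.root_smul, mul_smul, natCast_zsmul]
        rfl
      have hZ : LinearIndependent ℤ fun z : Z => D.P.root (z : D.idx) :=
        (b.linearIndepOn_root.linearIndependent).comp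
          (fun z : Z => (⟨z, (Finset.mem_filter.mp z.2).1⟩ : b.support))
          fun p q hpq => Subtype.ext (congrArg Subtype.val hpq :)
      have := Fintype.linearIndependent_iff.mp hZ _ hsum z
      exact (mul_eq_zero.mp this).resolve_right (by exact_mod_cast (hn z).ne')
    refine le_trans ?_ ((finrank_span_le_card (R := ℤ) (D.P.root '' ({c, e} : Set D.idx))).trans ?_)
    · have := hli.fintype_card_le_finrank
      rwa [Fintype.card_coe] at this
    · rw [Set.toFinset_image]
      refine Finset.card_image_le.trans ?_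
      simp only [Set.toFinset_insert, Set.toFinset_singleton]
      exact Finset.card_le_two
  have hone : ∀ a, Z ⊆ {a} → False := by
    intro a hZ
    have hroot : ∀ (x₀ : D.idx) (k : D.idx → ℕ), (∀ j ∉ Z, k j = 0) →
        D.P.root x₀ = ∑ j, (k j : ℤ) • D.P.root j → x₀ = a := by
      intro x₀ k hk hx
      rw [Finset.sum_eq_single a (fun j _ hja => by
        rw [hk j fun hjZ => hja (Finset.mem_singleton.mp (hZ hjZ)), Nat.cast_zero, zero_smul])
        (by simp)] at hx
      rcases Nat.eq_zero_or_pos (k a) with h0 | h0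
      · rw [h0, Nat.cast_zero, zero_smul] at hx
        exact absurd hx (D.P.ne_zero x₀)
      · exact PMor.root_pos_smul b one_pos h0 (by rw [Nat.cast_one, one_smul, hx])
    exact hne (by rw [← hc₀, ← he₀, hroot c₀ kc kc0 hkc, hroot e₀ ke ke0 hke])
  obtain ⟨a, a', haa, hZ⟩ : ∃ a a', a ≠ a' ∧ Z = {a, a'} := by
    have : Nonempty D.idx := ⟨c⟩
    rcases Nat.lt_or_ge Z.card 2 with h2 | h2
    · rcases Finset.card_le_one_iff_subset_singleton.mp (by omega : Z.card ≤ 1) with ⟨a, ha⟩
      exact absurd ha (hone a)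
    · exact Finset.card_eq_two.mp (le_antisymm hcard h2)
  have hspan : ∀ (x₀ : D.idx) (k : D.idx → ℕ), (∀ j ∉ Z, k j = 0) →
      D.P.root x₀ = ∑ j, (k j : ℤ) • D.P.root j → x₀ ∈ span2 D a a' := by
    intro x₀ k hk hx
    refine ⟨k a, k a', ?_⟩
    rw [hx, ← Finset.sum_pair (f := fun j => (k j : ℤ) • D.P.root j) haa, ← hZ]
    exact (Finset.sum_subset (Finset.subset_univ _) fun j _ hj => by
      rw [hk j hj, Nat.cast_zero, zero_smul]).symm
  have ha : a ∈ b.support := (Finset.mem_filter.mp (hZ ▸ (by simp) : a ∈ Z)).1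
  have ha' : a' ∈ b.support := (Finset.mem_filter.mp (hZ ▸ (by simp) : a' ∈ Z)).1
  exact ⟨w, hw, a, ha, a', ha', haa, c₀, hspan c₀ kc kc0 hkc, e₀, hspan e₀ ke ke0 hke, hc₀, he₀⟩

namespace IsoSetup

variable (E : IsoSetup D D' b b')

theorem Rel.word {c e : D.idx} (h : E.Rel c e) {w : List D.idx} (hw : ∀ x ∈ w, x ∈ b.support) :
    E.Rel (Roots36.wprod D.P w • c) (Roots36.wprod D.P w • e) := by
  induction w with
  | nil => simpa using h
  | cons x w ih =>
    rw [Roots36.wprod_cons, mul_smul, mul_smul, Roots36.reflection_smul_index,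
      Roots36.reflection_smul_index]
    exact Rel.refl E (ih fun y hy => hw y (List.mem_cons_of_mem x hy)) (hw x (by simp))

theorem allRel : E.AllRel := by
  intro c e hneg
  by_cases hne : c = e
  · subst hne
    exact E.rel_self c
  obtain ⟨w, hw, a, ha, a', ha', haa, c₀, hc₀, e₀, he₀, e1, e2⟩ :=
    exists_smul_span2 b (indep_of_ne b hne hneg) hne
  rw [← e1, ← e2]
  exact Rel.word E (E.rel_simple_span ha ha' haa c₀ hc₀ e₀ he₀) hw

end IsoSetup

end Groth.Agent.RedPts82
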