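import Groth.Agent.RedPts82.BruhatCover
import Groth.Agent.RedPts82.ChevString

/-!
Morphisms of pinned root data twisted by powers of an exponent `p` for which `x ↦ x ^ p` is additive.
-/

universe u

open CategoryTheory MonoidalCategory CartesianMonoidalCategory MonObj GrpObj AlgebraicGeometry

namespace Groth.Agent.RedPts82

variable {S : Scheme.{u}} {G G' : Over S} [GrpObj G] [GrpObj G']

/-- A `p`-morphism of based root data, from that of `D'` to that of `D`. -/
structure PMor (D : Red.SplitRed G) (D' : Red.SplitRed G') (b : D.P.Base) (b' : D'.P.Base) where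
  p : ℕ
  p_pos : 0 < p
  add : ∀ (X : Over S) (x y : Γ(X.left, ⊤)), (x + y) ^ p = x ^ p + y ^ p
  hM : D'.M →ₗ[ℤ] D.M
  d : D.idx ≃ D'.idx
  q : D.idx → ℕ
  q_pow : ∀ a, ∃ n : ℕ, q a = p ^ n
  root : ∀ a, hM (D'.P.root (d a)) = (q a : ℤ) • D.P.root a
  coroot : ∀ a, hM.dualMap (D.P.coroot a) = (q a : ℤ) • D'.P.coroot (d a)
  simple : ∀ a, a ∈ b.support ↔ d a ∈ b'.support

variable {D : Red.SplitRed G} {D' : Red.SplitRed G'} {b : D.P.Base} {b' : D'.P.Base} (F : PMor D D' b b')

namespace PMor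

theorem q_pos (a : D.idx) : 0 < F.q a := by
  obtain ⟨n, hn⟩ := F.q_pow a
  rw [hn]
  exact pow_pos F.p_pos n

theorem add_q (a : D.idx) {X : Over S} (x y : Γ(X.left, ⊤)) :
    (x + y) ^ F.q a = x ^ F.q a + y ^ F.q a := by
  obtain ⟨n, hn⟩ := F.q_pow a
  rw [hn]
  clear hn
  induction n generalizing x y with
  | zero => simp
  | succ n ih => rw [pow_succ', pow_mul, F.add, ih, ← pow_mul, ← pow_mul]

/-- The power map of a root. -/
noncomputable def pw (a : D.idx) (X : Over S) : Γ(X.left, ⊤) →+* Γ(X.left, ⊤) where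
  toFun x := x ^ F.q a
  map_one' := one_pow _
  map_mul' x y := mul_pow x y _
  map_zero' := zero_pow (F.q_pos a).ne'
  map_add' := F.add_q a

theorem pw_apply (a : D.idx) {X : Over S} (x : Γ(X.left, ⊤)) : F.pw a X x = x ^ F.q a := rfl

theorem intCast_pow (a : D.idx) {X : Over S} (k : ℤ) : ((k : Γ(X.left, ⊤))) ^ F.q a = k :=
  map_intCast (F.pw a X) k

theorem neg_one_pow (a : D.idx) : (-1 : Γ(S, ⊤)ˣ) ^ F.q a = -1 := by
  refine Units.ext ?_
  rw [Units.val_pow_eq_pow_val, Units.val_neg, Units.val_one]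
  have h := map_neg (F.pw a (𝟙_ (Over S))) 1
  rw [map_one] at h
  exact h

theorem neg_one_zpow_pairing {c a : D.idx} {k k' : ℤ} (h : (F.q a : ℤ) * k' = (F.q c : ℤ) * k) :
    (-1 : Γ(S, ⊤)ˣ) ^ k' = (-1 : Γ(S, ⊤)ˣ) ^ k := by
  have h1 := congrArg (fun e : ℤ => (-1 : Γ(S, ⊤)ˣ) ^ e) h
  simp only [zpow_mul, zpow_natCast, F.neg_one_pow] at h1
  exact h1

theorem pairing_apply {G₁ : Over S} [GrpObj G₁] (E : Red.SplitRed G₁) (a : E.idx) (m : E.M) :
    E.P.coroot' a m = E.P.coroot a m := by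
  have e := congrArg (fun f => f m (E.P.coroot a)) E.pairing_eq
  simp only [Module.Dual.eval_apply] at e
  simpa [RootPairing.coroot'] using e

theorem coroot_apply (a : D.idx) (m : D'.M) :
    D.P.coroot a (F.hM m) = (F.q a : ℤ) * D'.P.coroot (F.d a) m := by
  have h := LinearMap.congr_fun (F.coroot a) m
  simpa [LinearMap.dualMap_apply] using h

/-- The pairings of corresponding roots. -/
theorem pairing_eq (c a : D.idx) :
    (F.q a : ℤ) * D'.P.pairing (F.d c) (F.d a) = (F.q c : ℤ) * D.P.pairing c a := by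
  have h := F.coroot_apply a (D'.P.root (F.d c))
  rw [F.root, map_zsmul, smul_eq_mul] at h
  rw [← pairing_eq_coroot, ← pairing_eq_coroot]
  exact h.symm

theorem hM_reflection (a : D.idx) (m : D'.M) :
    F.hM (D'.P.reflection (F.d a) m) = D.P.reflection a (F.hM m) := by
  rw [RootPairing.reflection_apply, RootPairing.reflection_apply, map_sub, map_zsmul, F.root,
    pairing_apply, pairing_apply, F.coroot_apply, smul_smul, mul_comm]

theorem root_pos_smul (b : D.P.Base) {c e : D.idx} {i j : ℕ} (hi : 0 < i) (hj : 0 < j)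
    (h : (i : ℤ) • D.P.root c = (j : ℤ) • D.P.root e) : c = e := by
  have : IsAddTorsionFree D.M := Roots36.isAddTorsionFree_M D.P
  have := isReduced_of_base b
  by_contra hne
  have hli : ¬ LinearIndependent ℤ ![D.P.root c, D.P.root e] := fun hl => by
    have := (LinearIndependent.pair_iff.mp hl (i : ℤ) (-(j : ℤ)) (by rw [neg_smul, h, add_neg_cancel])).1
    omega
  rcases RootPairing.IsReduced.eq_or_eq_neg (P := D.P) c e hli with h1 | h1
  · exact hne (D.P.root.injective h1)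
  · rw [h1, smul_neg, ← neg_smul] at h
    have := smul_left_injective ℤ (D.P.ne_zero e) h
    omega

theorem root_pos_smul_q (b : D.P.Base) {c e : D.idx} {i j : ℕ} (hi : 0 < i) (hj : 0 < j)
    (h : (i : ℤ) • D.P.root c = (j : ℤ) • D.P.root e) : c = e ∧ i = j := by
  obtain rfl := root_pos_smul b hi hj h
  have : IsAddTorsionFree D.M := Roots36.isAddTorsionFree_M D.P
  exact ⟨rfl, by exact_mod_cast smul_left_injective ℤ (D.P.ne_zero c) h⟩

theorem d_refl_and_q (a c : D.idx) :
    F.d (D.P.reflectionPerm a c) = D'.P.reflectionPerm (F.d a) (F.d c) ∧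
      F.q (D.P.reflectionPerm a c) = F.q c := by
  let e := F.d.symm (D'.P.reflectionPerm (F.d a) (F.d c))
  have he : F.d e = D'.P.reflectionPerm (F.d a) (F.d c) := F.d.apply_symm_apply _
  have h := F.root e
  rw [he, RootPairing.root_reflectionPerm, F.hM_reflection, F.root, map_zsmul,
    ← RootPairing.root_reflectionPerm] at h
  obtain ⟨h1, h2⟩ := root_pos_smul_q b (F.q_pos c) (F.q_pos e) h
  exact ⟨by rw [h1, he], by rw [h1, h2]⟩

theorem d_refl (a c : D.idx) : F.d (D.P.reflectionPerm a c) = D'.P.reflectionPerm (F.d a) (F.d c) :=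
  (F.d_refl_and_q a c).1

theorem q_refl (a c : D.idx) : F.q (D.P.reflectionPerm a c) = F.q c := (F.d_refl_and_q a c).2

theorem d_negIdx (c : D.idx) : F.d (negIdx D c) = negIdx D' (F.d c) := F.d_refl c c

theorem q_negIdx (c : D.idx) : F.q (negIdx D c) = F.q c := F.q_refl c c

variable {l : D.M →+ ℤ} {l' : D'.M →+ ℤ}

theorem d_pos_of_isPos {c : D.idx} (hl : BaseChamber D b l) (hc : b'.IsPos (F.d c)) :
    0 < l (D.P.root c) := by
  classical
  obtain ⟨f, -, hf₁, hf₂⟩ := b'.exists_root_eq_sum_int (F.d c)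
  have hpos : 0 < f := by
    refine hf₁.resolve_right fun h => ?_
    rw [RootPairing.Base.isPos_iff, RootPairing.Base.height_eq_sum hf₂] at hc
    exact absurd hc (not_lt.mpr (Finset.sum_nonpos fun i _ => h.le i))
  have h := congrArg (fun m => l (F.hM m)) hf₂
  simp only [F.root, map_zsmul, map_sum, smul_eq_mul] at h
  have h0 : (0 : ℤ) ≤ ∑ x ∈ b'.support, f x * l (F.hM (D'.P.root x)) := by
    refine Finset.sum_nonneg fun x hx => mul_nonneg (hpos.le x) ?_
    obtain ⟨a, rfl⟩ := F.d.surjective x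
    rw [F.root, map_zsmul, smul_eq_mul]
    exact mul_nonneg (by positivity) ((hl.pos_iff a).mpr
      (RootPairing.Base.isPos_of_mem_support ((F.simple a).mpr hx))).le
  rw [← h] at h0
  have := hl.ne c
  have hq := F.q_pos c
  rcases lt_trichotomy (l (D.P.root c)) 0 with hneg | hz | hp
  · have : (F.q c : ℤ) * l (D.P.root c) < 0 := mul_neg_of_pos_of_neg (by exact_mod_cast hq) hneg
    omega
  · exact absurd hz this
  · exact hp

theorem pos_iff (hl : BaseChamber D b l) (hl' : BaseChamber D' b' l') (c : D.idx) :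
    0 < l' (D'.P.root (F.d c)) ↔ 0 < l (D.P.root c) := by
  rw [hl'.pos_iff]
  refine ⟨F.d_pos_of_isPos hl, fun h => ?_⟩
  by_contra hn
  have h1 : b'.IsPos (F.d (negIdx D c)) := by
    rw [F.d_negIdx]
    exact (RootPairing.Base.IsPos.or_neg b' (F.d c)).resolve_left hn
  have := F.d_pos_of_isPos hl h1
  rw [root_negIdx, map_neg] at this
  omega

theorem neg_iff (hl : BaseChamber D b l) (hl' : BaseChamber D' b' l') (c : D.idx) :
    0 < (-l') (D'.P.root (F.d c)) ↔ 0 < (-l) (D.P.root c) := by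
  simp only [AddMonoidHom.neg_apply]
  have h1 := F.pos_iff hl hl' c
  have := hl.ne c
  have := hl'.ne (F.d c)
  omega

/-- The map on the tori. -/
noncomputable def fT {X : Over S} (t : X ⟶ Red.DS S D.M) : X ⟶ Red.DS S D'.M :=
  t ≫ Red.DSmap S F.hM.toAddMonoidHom

theorem dsFn_fT {X : Over S} (t : X ⟶ Red.DS S D.M) (m : D'.M) :
    dsFn (F.fT t) m = dsFn t (F.hM m) := dsFn_DSmap _ _ _

theorem fT_root {X : Over S} (t : X ⟶ Red.DS S D.M) (c : D.idx) :
    dsFn (F.fT t) (D'.P.root (F.d c)) = dsFn t (D.P.root c) ^ F.q c := by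
  rw [dsFn_fT, F.root, dsFn_zsmul, zpow_natCast, Units.val_pow_eq_pow_val, IsUnit.unit_spec]

theorem comp_fT {X X' : Over S} (k : X' ⟶ X) (t : X ⟶ Red.DS S D.M) : k ≫ F.fT t = F.fT (k ≫ t) :=
  (Category.assoc _ _ _).symm

theorem fT_mul {X : Over S} (t t' : X ⟶ Red.DS S D.M) : F.fT (t * t') = F.fT t * F.fT t' :=
  dsFn_injective fun m => by rw [dsFn_fT, dsFn_mul, dsFn_mul, dsFn_fT, dsFn_fT]

theorem fT_one {X : Over S} : F.fT (1 : X ⟶ Red.DS S D.M) = 1 :=
  dsFn_injective fun m => by rw [dsFn_fT, dsFn_one, dsFn_one]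

theorem fT_tw (a : D.idx) {X : Over S} (t : X ⟶ Red.DS S D.M) :
    F.fT (tw (RootPairing.Equiv.reflection D.P a) t) =
      tw (RootPairing.Equiv.reflection D'.P (F.d a)) (F.fT t) :=
  dsFn_injective fun m => by
    rw [dsFn_fT, dsFn_tw, dsFn_tw, dsFn_fT, RootPairing.Equiv.reflection_inv,
      RootPairing.Equiv.reflection_inv, RootPairing.Equiv.reflection_smul,
      RootPairing.Equiv.reflection_smul, F.hM_reflection]

/-- The coroots correspond up to the exponent. -/
theorem fT_coroot (a : D.idx) {X : Over S} (z : Γ(X.left, ⊤)ˣ) :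
    F.fT (gmPt z ≫ Red.DSmap S (D.P.coroot a).toAddMonoidHom) =
      gmPt (z ^ F.q a) ≫ Red.DSmap S (D'.P.coroot (F.d a)).toAddMonoidHom :=
  dsFn_injective fun m => by
    rw [dsFn_fT, dsFn_DSmap, dsFn_DSmap, dsFn_int, dsFn_int,
      show gmU (gmPt z) = z from Units.ext (gmFn_gmPt z),
      show gmU (gmPt (z ^ F.q a)) = z ^ F.q a from Units.ext (gmFn_gmPt _), ← zpow_natCast z (F.q a),
      ← zpow_mul]
    congr 2
    exact F.coroot_apply a m

/-- An exponent which is a multiple of a positive exponent kills the ratio. -/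
theorem natCast_eq_zero {a c : D.idx} {k : ℕ} (hk : 2 ≤ k) (hk' : Nat.Prime k) (h : F.q a = k * F.q c) :
    (k : Γ(S, ⊤)) = 0 := by
  obtain ⟨n, hn⟩ := F.q_pow a
  obtain ⟨n', hn'⟩ := F.q_pow c
  have hkp : k ∣ F.p := by
    refine hk'.dvd_of_dvd_pow (n := n) ?_
    rw [← hn, h]
    exact Dvd.intro _ rfl
  have hp : F.p = k := by
    obtain ⟨j, hj⟩ : ∃ j, k = F.p ^ j := by
      have hp1 : 1 < F.p := lt_of_lt_of_le hk (Nat.le_of_dvd F.p_pos hkp)
      have hle : n' ≤ n := by
        refine (Nat.pow_le_pow_iff_right hp1).mp ?_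
        rw [← hn, ← hn', h]
        exact Nat.le_mul_of_pos_left _ (by omega)
      refine ⟨n - n', Nat.eq_of_mul_eq_mul_right (F.q_pos c) ?_⟩
      rw [← h, hn, hn', ← pow_add, Nat.sub_add_cancel hle]
    rcases Nat.eq_zero_or_pos j with rfl | hj0
    · simp at hj; omega
    · exact Nat.dvd_antisymm (hj ▸ dvd_pow_self _ hj0.ne') hkp
  refine eq_zero_of_delta _ fun X δ hδ => ?_
  have h2 : ∀ i : ℕ, (1 + δ) ^ i = 1 + (i : Γ(X.left, ⊤)) * δ := fun i => by
    induction i with
    | zero => simp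
    | succ i ih => rw [pow_succ, ih]; push_cast; linear_combination (i : Γ(X.left, ⊤)) * hδ
  have h3 := F.add X 1 δ
  rw [h2, one_pow, hp] at h3
  have h4 : δ ^ k = 0 := by
    rw [show k = 2 + (k - 2) by omega, pow_add, pow_two, hδ, zero_mul]
  rw [h4, add_zero] at h3
  rw [show cst X (k : Γ(S, ⊤)) = (k : Γ(X.left, ⊤)) by rw [cst, map_natCast]]
  linear_combination h3

end PMor

end Groth.Agent.RedPts82
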