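import Groth.Agent.RedPts82.IsoDatum
import Groth.Agent.RedPts82.PinnedChev

/-!
The ratios of the factors by which corresponding Weyl elements carry corresponding root groups form
an action of the Weyl group.
-/

universe u

open CategoryTheory MonoidalCategory CartesianMonoidalCategory MonObj GrpObj AlgebraicGeometry

namespace Groth.Agent.RedPts82

variable {S : Scheme.{u}} {G G' : Over S} [GrpObj G] [GrpObj G']
  {D : Red.SplitRed G} {D' : Red.SplitRed G'} {b : D.P.Base} {b' : D'.P.Base}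

/-- The simple roots of the two splittings have their opposites as duals. -/
def Duals (D : Red.SplitRed G) (b : D.P.Base) : Prop :=
  ∀ a ∈ b.support, IsDual D a (D.u (negIdx D a))

variable (F : PMor D D' b b') (hd : Duals D b) (hd' : Duals D' b')

namespace PMor

theorem simple' {a : D.idx} (ha : a ∈ b.support) : F.d a ∈ b'.support := (F.simple a).mp ha

/-- The ratio of two factors at a root. -/
noncomputable abbrev ratio (c : D.idx) (k k' : Γ(S, ⊤)ˣ) : Γ(S, ⊤)ˣ := k' * (k ^ F.q c)⁻¹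

open Classical in
/-- The ratio along the simple reflection of `x`. -/
noncomputable def edge (x c : D.idx) : Γ(S, ⊤)ˣ :=
  if hx : x ∈ b.support then
    F.ratio c (exists_wpt_conj_unit (hd x hx) b c).choose
      (exists_wpt_conj_unit (hd' (F.d x) (F.simple' hx)) b' (F.d c)).choose
  else 1

theorem edge_spec {x : D.idx} (hx : x ∈ b.support) (c : D.idx) :
    ∃ k k' : Γ(S, ⊤)ˣ, Moves D (wpt D x (𝟙_ (Over S))) c (D.P.reflectionPerm x c) k ∧
      Moves D' (wpt D' (F.d x) (𝟙_ (Over S))) (F.d c) (F.d (D.P.reflectionPerm x c)) k' ∧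
      F.edge hd hd' x c = F.ratio c k k' := by
  refine ⟨(exists_wpt_conj_unit (hd x hx) b c).choose,
    (exists_wpt_conj_unit (hd' (F.d x) (F.simple' hx)) b' (F.d c)).choose, fun X r => ?_, ?_, dif_pos hx⟩
  · rw [comp_wpt]
    exact (exists_wpt_conj_unit (hd x hx) b c).choose_spec X r
  · rw [F.d_refl]
    intro X r
    rw [comp_wpt]
    exact (exists_wpt_conj_unit (hd' (F.d x) (F.simple' hx)) b' (F.d c)).choose_spec X r

theorem edge_eq {x : D.idx} (hx : x ∈ b.support) {c c' : D.idx} (hc : D.P.reflectionPerm x c = c')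
    {k k' : Γ(S, ⊤)ˣ} (h : Carries D x c c' k) (h' : Carries D' (F.d x) (F.d c) (F.d c') k') :
    F.edge hd hd' x c = F.ratio c k k' := by
  obtain ⟨j, j', h1, h2, h3⟩ := F.edge_spec hd hd' hx c
  rw [hc] at h1 h2
  rw [h3, show j = k from Units.ext (h1.unique h.moves), show j' = k' from Units.ext (h2.unique h'.moves)]

theorem negOnePt_ratio (a c : D.idx) :
    F.ratio c ((-1 : Γ(S, ⊤)ˣ) ^ D.P.pairing c a) ((-1 : Γ(S, ⊤)ˣ) ^ D'.P.pairing (F.d c) (F.d a)) = 1 := by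
  rw [ratio, F.neg_one_zpow_pairing (F.pairing_eq c a), ← zpow_natCast ((-1 : Γ(S, ⊤)ˣ) ^ D.P.pairing c a),
    ← zpow_mul, mul_comm (D.P.pairing c a), zpow_mul, zpow_natCast, F.neg_one_pow, mul_inv_cancel]

theorem edge_refl (x c : D.idx) :
    F.edge hd hd' x (D.P.reflectionPerm x c) * F.edge hd hd' x c = 1 := by
  by_cases hx : x ∈ b.support
  · obtain ⟨k, k', h1, h1', h2⟩ := F.edge_spec hd hd' hx c
    obtain ⟨j, j', g1, g1', g2⟩ := F.edge_spec hd hd' hx (D.P.reflectionPerm x c)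
    rw [RootPairing.reflectionPerm_self] at g1 g1'
    have e := h1.mul g1
    rw [wpt_mul_self (hd x hx)] at e
    have e' := h1'.mul g1'
    rw [wpt_mul_self (hd' _ (F.simple' hx))] at e'
    have u1 : (j * k : Γ(S, ⊤)ˣ) = (-1 : Γ(S, ⊤)ˣ) ^ D.P.pairing c x :=
      Units.ext ((Units.val_mul _ _).trans ((moves_negOnePt x c).unique e).symm)
    have u2 : (j' * k' : Γ(S, ⊤)ˣ) = (-1 : Γ(S, ⊤)ˣ) ^ D'.P.pairing (F.d c) (F.d x) :=
      Units.ext ((Units.val_mul _ _).trans ((moves_negOnePt (F.d x) (F.d c)).unique e').symm)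
    rw [h2, g2, ratio, ratio, F.q_refl, _root_.mul_mul_mul_comm, ← _root_.mul_inv, ← mul_pow, u1, u2]
    exact F.negOnePt_ratio x c
  · rw [edge, edge, dif_neg hx, dif_neg hx, _root_.one_mul]

/-- The action of the Weyl element of `x` on the pairs of a root and a ratio. -/
noncomputable def edgePerm (x : D.idx) : Equiv.Perm (D.idx × Γ(S, ⊤)ˣ) :=
  Function.Involutive.toPerm (fun e => (D.P.reflectionPerm x e.1, F.edge hd hd' x e.1 * e.2)) fun e => by
    simp only [RootPairing.reflectionPerm_self, ← _root_.mul_assoc, edge_refl, _root_.one_mul]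

theorem edgePerm_apply (x c : D.idx) (u : Γ(S, ⊤)ˣ) :
    F.edgePerm hd hd' x (c, u) = (D.P.reflectionPerm x c, F.edge hd hd' x c * u) := rfl

/-- The lift of a simple reflection. -/
noncomputable def lift' (x : D.idx) : D.P.Aut × Equiv.Perm (D.idx × Γ(S, ⊤)ˣ) :=
  (RootPairing.Equiv.reflection D.P x, F.edgePerm hd hd' x)

/-- The element `g` describes the conjugation by the pair `p`, `p'`. -/
def Desc (g : D.P.Aut × Equiv.Perm (D.idx × Γ(S, ⊤)ˣ)) (p : 𝟙_ (Over S) ⟶ G) (p' : 𝟙_ (Over S) ⟶ G') :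
    Prop :=
  ∀ c u, F.q (g.1 • c) = F.q c ∧ ∃ k k' : Γ(S, ⊤)ˣ, Moves D p c (g.1 • c) k ∧
    Moves D' p' (F.d c) (F.d (g.1 • c)) k' ∧ g.2 (c, u) = (g.1 • c, F.ratio c k k' * u)

theorem desc_one : F.Desc 1 1 1 := fun c u =>
  ⟨by rw [Prod.fst_one, one_smul], 1, 1, by rw [Prod.fst_one, one_smul]; exact (moves_one c).congr Units.val_one.symm,
    by rw [Prod.fst_one, one_smul]; exact (moves_one (F.d c)).congr Units.val_one.symm,
    by simp only [Prod.fst_one, one_smul, Prod.snd_one, Equiv.Perm.one_apply, ratio, one_pow, inv_one,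
      _root_.one_mul]⟩

variable {F}

theorem Desc.mul {g g₁ : D.P.Aut × Equiv.Perm (D.idx × Γ(S, ⊤)ˣ)} {p p₁ : 𝟙_ (Over S) ⟶ G}
    {p' p₁' : 𝟙_ (Over S) ⟶ G'} (h : F.Desc g p p') (h₁ : F.Desc g₁ p₁ p₁') :
    F.Desc (g * g₁) (p * p₁) (p' * p₁') := by
  intro c u
  obtain ⟨hq₁, j, j', m₁, m₁', e₁⟩ := h₁ c u
  obtain ⟨hq, k, k', m, m', e⟩ := h (g₁.1 • c) (F.ratio c j j' * u)
  refine ⟨by rw [Prod.fst_mul, mul_smul, hq, hq₁], k * j, k' * j', ?_, ?_, ?_⟩
  · rw [Prod.fst_mul, mul_smul]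
    exact (m₁.mul m).congr (Units.val_mul _ _).symm
  · rw [Prod.fst_mul, mul_smul]
    exact (m₁'.mul m').congr (Units.val_mul _ _).symm
  · rw [Prod.snd_mul, Equiv.Perm.mul_apply, e₁, e, Prod.fst_mul, mul_smul, ratio, ratio, ratio, hq₁,
      mul_pow, _root_.mul_inv, ← _root_.mul_assoc, _root_.mul_mul_mul_comm]

theorem Desc.pow {g : D.P.Aut × Equiv.Perm (D.idx × Γ(S, ⊤)ˣ)} {p : 𝟙_ (Over S) ⟶ G}
    {p' : 𝟙_ (Over S) ⟶ G'} (h : F.Desc g p p') (n : ℕ) : F.Desc (g ^ n) (p ^ n) (p' ^ n) := by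
  induction n with
  | zero => rw [pow_zero, pow_zero, pow_zero]; exact F.desc_one
  | succ n ih => rw [pow_succ, pow_succ, pow_succ]; exact ih.mul h

variable (F)

theorem desc_lift {x : D.idx} (hx : x ∈ b.support) :
    F.Desc (F.lift' hd hd' x) (wpt D x (𝟙_ (Over S))) (wpt D' (F.d x) (𝟙_ (Over S))) := by
  intro c u
  obtain ⟨k, k', h1, h1', h2⟩ := F.edge_spec hd hd' hx c
  refine ⟨?_, k, k', ?_, ?_, ?_⟩
  · rw [lift', Roots36.reflection_smul_index, F.q_refl]
  · rw [lift', Roots36.reflection_smul_index]; exact h1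
  · rw [lift', Roots36.reflection_smul_index]; exact h1'
  · rw [lift', Roots36.reflection_smul_index, edgePerm_apply, h2]

theorem desc_word {w : List D.idx} (hw : ∀ c ∈ w, c ∈ b.support) :
    F.Desc (w.map (F.lift' hd hd')).prod (w.map fun c => wpt D c (𝟙_ (Over S))).prod
      (w.map fun c => wpt D' (F.d c) (𝟙_ (Over S))).prod := by
  induction w with
  | nil => exact F.desc_one
  | cons x w ih =>
    simp only [List.map_cons, List.prod_cons]
    exact (F.desc_lift hd hd' (hw x (by simp))).mul (ih fun c hc => hw c (by simp [hc]))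

/-- Pairs acting with trivial ratio. -/
def Triv (p : 𝟙_ (Over S) ⟶ G) (p' : 𝟙_ (Over S) ⟶ G') : Prop :=
  ∀ c, ∃ k k' : Γ(S, ⊤)ˣ, Moves D p c c k ∧ Moves D' p' (F.d c) (F.d c) k' ∧ F.ratio c k k' = 1

theorem triv_one : F.Triv 1 1 := fun c =>
  ⟨1, 1, (moves_one c).congr Units.val_one.symm, (moves_one (F.d c)).congr Units.val_one.symm, by simp⟩

theorem triv_negOnePt (a : D.idx) : F.Triv (negOnePt D a) (negOnePt D' (F.d a)) := fun c =>
  ⟨_, _, moves_negOnePt a c, moves_negOnePt (F.d a) (F.d c), F.negOnePt_ratio a c⟩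

theorem triv_of_char_two (h : ((2 : ℕ) : Γ(S, ⊤)) = 0) (a c : D.idx) :
    F.Triv (negOnePt D a) (negOnePt D' (F.d c)) := fun e => by
  have h2 : (-1 : Γ(S, ⊤)ˣ) = 1 := Units.ext (by
    rw [Units.val_neg, Units.val_one]
    push_cast at h
    linear_combination (-1 : Γ(S, ⊤)) * h)
  refine ⟨_, _, moves_negOnePt a e, moves_negOnePt (F.d c) (F.d e), ?_⟩
  simp only [ratio, h2, one_zpow, one_pow, inv_one, _root_.mul_one]

variable {F}

theorem Triv.mul {p q : 𝟙_ (Over S) ⟶ G} {p' q' : 𝟙_ (Over S) ⟶ G'} (hp : F.Triv p p')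
    (hq : F.Triv q q') : F.Triv (p * q) (p' * q') := fun c => by
  obtain ⟨k, k', m, m', e⟩ := hp c
  obtain ⟨j, j', n, n', e'⟩ := hq c
  refine ⟨k * j, k' * j', (n.mul m).congr (Units.val_mul _ _).symm, (n'.mul m').congr (Units.val_mul _ _).symm, ?_⟩
  rw [ratio, mul_pow, _root_.mul_inv, _root_.mul_mul_mul_comm]
  rw [ratio] at e e'
  rw [e, e', _root_.one_mul]

theorem Triv.pow {p : 𝟙_ (Over S) ⟶ G} {p' : 𝟙_ (Over S) ⟶ G'} (hp : F.Triv p p') (n : ℕ) :
    F.Triv (p ^ n) (p' ^ n) := by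
  induction n with
  | zero => rw [pow_zero, pow_zero]; exact F.triv_one
  | succ n ih => rw [pow_succ, pow_succ]; exact ih.mul hp

variable (F)

theorem eq_one_of_desc {g : D.P.Aut × Equiv.Perm (D.idx × Γ(S, ⊤)ˣ)} {p : 𝟙_ (Over S) ⟶ G}
    {p' : 𝟙_ (Over S) ⟶ G'} (h : F.Desc g p p') (h1 : g.1 = 1) (hp : F.Triv p p') : g = 1 := by
  refine Prod.ext h1 (Equiv.ext fun e => ?_)
  obtain ⟨-, k, k', m, m', he⟩ := h e.1 e.2
  obtain ⟨j, j', n, n', hj⟩ := hp e.1
  rw [h1, one_smul] at m m' he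
  rw [Prod.snd_one, Equiv.Perm.one_apply, he, show k = j from Units.ext (m.unique n),
    show k' = j' from Units.ext (m'.unique n'), hj, _root_.one_mul]

/-- The possible pairings of the images of two simple roots. -/
theorem simple_image {a c : D.idx} {m n : ℕ} (hm : 0 < m) (hn : 0 < n)
    (h1 : D.P.pairing c a = -(m : ℤ)) (h2 : D.P.pairing a c = -(n : ℤ)) (hmn : Nat.Prime m ∨ m = 1)
    (hn1 : n = 1) :
    (D'.P.pairing (F.d c) (F.d a) = -(m : ℤ) ∧ D'.P.pairing (F.d a) (F.d c) = -1 ∧ F.q a = F.q c) ∨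
      (D'.P.pairing (F.d c) (F.d a) = -1 ∧ D'.P.pairing (F.d a) (F.d c) = -(m : ℤ) ∧ F.q a = m * F.q c) := by
  subst hn1
  have e1 := F.pairing_eq c a
  have e2 := F.pairing_eq a c
  rw [h1] at e1
  rw [h2] at e2
  have hqa : (0 : ℤ) < F.q a := by exact_mod_cast F.q_pos a
  have hqc : (0 : ℤ) < F.q c := by exact_mod_cast F.q_pos c
  have hprod : D'.P.pairing (F.d c) (F.d a) * D'.P.pairing (F.d a) (F.d c) = (m : ℤ) := by
    refine mul_left_cancel₀ (mul_pos hqa hqc).ne' ?_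
    push_cast at e2
    linear_combination ((F.q c : ℤ) * D'.P.pairing (F.d a) (F.d c)) * e1 - ((m : ℤ) * (F.q c : ℤ)) * e2
  have hneg : D'.P.pairing (F.d c) (F.d a) < 0 := by
    by_contra hge
    have hm0 : (0 : ℤ) < m := by exact_mod_cast hm
    nlinarith [mul_nonneg hqa.le (not_lt.mp hge), mul_pos hqc hm0]
  obtain ⟨x, hx⟩ : ∃ x : ℕ, D'.P.pairing (F.d c) (F.d a) = -(x : ℤ) :=
    ⟨(-(D'.P.pairing (F.d c) (F.d a))).toNat, by omega⟩
  obtain ⟨y, hy⟩ : ∃ y : ℕ, D'.P.pairing (F.d a) (F.d c) = -(y : ℤ) := by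
    refine ⟨(-(D'.P.pairing (F.d a) (F.d c))).toNat, ?_⟩
    have : D'.P.pairing (F.d a) (F.d c) ≤ 0 := by
      by_contra hgt
      push_cast at e2
      nlinarith [mul_pos hqc (not_le.mp hgt)]
    omega
  rw [hx, hy] at hprod
  have hxy : x * y = m := by exact_mod_cast (show (x : ℤ) * y = m by linear_combination hprod)
  have hcase : (x = m ∧ y = 1) ∨ (x = 1 ∧ y = m) := by
    rcases hmn with hp | hp
    · rcases hp.eq_one_or_self_of_dvd x (Dvd.intro _ hxy) with rfl | rfl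
      · exact Or.inr ⟨rfl, by simpa using hxy⟩
      · exact Or.inl ⟨rfl, Nat.eq_of_mul_eq_mul_left hm (hxy.trans (Nat.mul_one _).symm)⟩
    · subst hp
      exact Or.inl ⟨Nat.eq_one_of_mul_eq_one_right hxy, Nat.eq_one_of_mul_eq_one_left hxy⟩
  rcases hcase with ⟨rfl, rfl⟩ | ⟨rfl, rfl⟩
  · refine Or.inl ⟨hx, by simpa using hy, ?_⟩
    rw [hy] at e2
    push_cast at e2
    exact_mod_cast (show (F.q a : ℤ) = F.q c by linarith)
  · refine Or.inr ⟨by simpa using hx, hy, ?_⟩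
    rw [hy] at e2
    push_cast at e2
    exact_mod_cast (show (F.q a : ℤ) = (y : ℤ) * F.q c by linarith)

theorem image_zero {a c : D.idx} (h1 : D.P.pairing c a = 0) :
    D'.P.pairing (F.d c) (F.d a) = 0 := by
  have e1 := F.pairing_eq c a
  rw [h1, mul_zero] at e1
  exact (mul_eq_zero.mp e1).resolve_left (by exact_mod_cast (F.q_pos a).ne')

end PMor

end Groth.Agent.RedPts82
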