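import Groth.Agent.RedPts82.IsoCompat
import Groth.Agent.RedPts82.BruhatTorusHom

/-!
The root pairs of the positive roots form the graph of a map, which gives a map on the big cell.
-/

universe u

open CategoryTheory MonoidalCategory CartesianMonoidalCategory MonObj GrpObj AlgebraicGeometry

namespace Groth.Agent.RedPts82

variable {S : Scheme.{u}} {G G' : Over S} [GrpObj G] [GrpObj G']
  {D : Red.SplitRed G} {D' : Red.SplitRed G'} {b : D.P.Base} {b' : D'.P.Base}

/-- The positive roots of a functional. -/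
def posSet (D : Red.SplitRed G) (l : D.M →+ ℤ) : Set D.idx := {c | 0 < l (D.P.root c)}

theorem Chamber.prod_injective {l : D.M →+ ℤ} (h : Chamber D l) {m : ℕ} {ep : Fin m → D.idx}
    (he : Function.Injective ep) (hr : Set.range ep = {c | 0 < l (D.P.root c)}) {X : Over S}
    {x : Fin m → Γ(X.left, ⊤)} (hx : (List.ofFn fun k => rp D (ep k) (x k)).prod = 1) (j : Fin m) :
    x j = 0 := by
  classical
  let en := posEnum D (-l)
  have hen : ∀ k, l (D.P.root (en k)) < 0 := fun k => by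
    have := posEnum_pos (D := D) (l := -l) k
    simp only [AddMonoidHom.neg_apply] at this
    show l (D.P.root (posEnum D (-l) k)) < 0
    omega
  have hep : ∀ k, 0 < l (D.P.root (ep k)) := fun k => (Set.ext_iff.mp hr (ep k)).mp ⟨k, rfl⟩
  have C := cellData_of_regular D l h.inj en ep posEnum_injective he hen hep
  have : Mono (RedSub.cellMap D en ep) := C.mono_cell
  have hcard : Fintype.card {c // 0 < (-l) (D.P.root c)} + m = Fintype.card D.idx := by
    rw [card_of_range he hr, Fintype.card_congr (Equiv.subtypeEquivRight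
      (p := fun c => 0 < (-l) (D.P.root c)) (q := fun c => ¬ 0 < l (D.P.root c))
      fun c => by have := h.ne c; simp only [AddMonoidHom.neg_apply]; omega),
      Fintype.card_subtype_compl, Nat.sub_add_cancel (Fintype.card_subtype_le _)]
  have : IsOpenImmersion (cellS D.i (fun k => D.u (en k)) fun k => D.u (ep k)).left :=
    cellMap_open_of_mono D en ep hcard
  let j' := cellS D.i (fun k => D.u (en k)) fun k => D.u (ep k)
  have : Mono j' := Over.mono_of_mono_left _
  let w : (Fin m → Γ(X.left, ⊤)) → (X ⟶ RedSub.pow (Red.Ga S) (Fintype.card {c // 0 < (-l) (D.P.root c)}) ⊗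
      (D.T ⊗ RedSub.pow (Red.Ga S) m)) := fun c =>
    lift (powTuple fun _ => gaPt (0 : Γ(X.left, ⊤))) (lift (1 : X ⟶ D.T) (powTuple fun i => gaPt (c i)))
  have hw : ∀ c, w c ≫ j' = (List.ofFn fun i => rp D (ep i) (c i)).prod := fun c => by
    have := D.maximalTorus.1
    simp only [w, j', cellS_lift, powTuple_prodMap, MonObj.one_comp, _root_.one_mul]
    rw [List.prod_eq_one (l := List.ofFn fun k => rp D (en k) 0) (fun f hf => by
      obtain ⟨k, rfl⟩ := (List.mem_ofFn' _ _).mp hf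
      exact rp_zero _ _), _root_.one_mul]
  have h0 : (List.ofFn fun i => rp D (ep i) ((fun _ => 0 : _ → Γ(X.left, ⊤)) i)).prod = 1 :=
    List.prod_eq_one fun f hf => by
      obtain ⟨k, rfl⟩ := (List.mem_ofFn' _ _).mp hf
      exact rp_zero _ _
  have e := (cancel_mono j').mp (((hw x).trans hx).trans ((hw fun _ => 0).trans h0).symm)
  have := congrArg (fun f => Red.gaFn ((f ≫ snd _ _ ≫ snd _ _) ≫ powProj (Red.Ga S) _ j)) e
  simpa [w, powTuple_proj, gaFn_gaPt] using this

namespace IsoSetup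

variable (E : IsoSetup D D' b b') {l : D.M →+ ℤ}

/-- An ordered product of root pairs. -/
noncomputable def prodP (L : List D.idx) {X : Over S} (x : D.idx → Γ(X.left, ⊤)) : (X ⟶ G) × (X ⟶ G') :=
  (L.map fun c => E.P c (x c)).prod

theorem exists_prodP (L : List D.idx) (hnd : L.Nodup)
    (hpos : ∀ c ∈ L, 0 < l (D.P.root c))
    (hord : L.Pairwise fun c e => l (D.P.root c) ≤ l (D.P.root e))
    (hup : ∀ c ∈ L, ∀ j, l (D.P.root c) < l (D.P.root j) → j ∈ L)
    {X : Over S} {g : (X ⟶ G) × (X ⟶ G')} (hg : g ∈ E.GR {c | c ∈ L} X) :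
    ∃ x, g = E.prodP L x := by
  induction L generalizing g with
  | nil =>
    refine ⟨0, ?_⟩
    have : g = 1 := by
      refine (Subgroup.closure_le (K := ⊥)).mpr ?_ hg
      rintro _ ⟨c, hc, -⟩
      simp at hc
    simp [prodP, this]
  | cons c L ih =>
    classical
    obtain ⟨hcL, hnd'⟩ := List.nodup_cons.mp hnd
    obtain ⟨hle, hord'⟩ := List.pairwise_cons.mp hord
    have hup' : ∀ e ∈ L, ∀ j, l (D.P.root e) < l (D.P.root j) → j ∈ L := fun e he j hj => by
      rcases List.mem_cons.mp (hup e (List.mem_cons_of_mem c he) j hj) with rfl | h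
      · have := hle e he
        omega
      · exact h
    have hconj : ∀ (r : Γ(X.left, ⊤)) {h : (X ⟶ G) × (X ⟶ G')}, h ∈ E.GR {e | e ∈ L} X →
        E.P c r * h * (E.P c r)⁻¹ ∈ E.GR {e | e ∈ L} X := fun r h hh => by
      refine E.P_conj_mem E.allRel (fun e he => ⟨?_, ?_⟩) r hh
      · rintro rfl
        have h1 := hpos _ (List.mem_cons_of_mem c he)
        rw [root_negIdx, map_neg] at h1
        have := hpos c (by simp)
        omega
      · rintro j ⟨i, k, hi, hk, hj⟩
        have hlj : l (D.P.root c) < l (D.P.root j) := by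
          rw [hj, map_add, map_zsmul, map_zsmul, smul_eq_mul, smul_eq_mul]
          have h1 := hpos c (by simp)
          have h2 := hpos e (List.mem_cons_of_mem c he)
          have h3 : (1 : ℤ) ≤ i := by exact_mod_cast hi
          have h4 : (1 : ℤ) ≤ k := by exact_mod_cast hk
          nlinarith
        rcases List.mem_cons.mp (hup c (by simp) j hlj) with rfl | h
        · exact absurd hlj (lt_irrefl _)
        · exact h
    have key : ∃ r, ∃ h ∈ E.GR {e | e ∈ L} X, g = E.P c r * h := by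
      induction hg using Subgroup.closure_induction with
      | mem y hy =>
        obtain ⟨e, he, r, rfl⟩ := hy
        rcases List.mem_cons.mp he with rfl | he
        · exact ⟨r, 1, one_mem _, (_root_.mul_one _).symm⟩
        · exact ⟨0, _, E.P_mem he r, by rw [E.P_zero, _root_.one_mul]⟩
      | one => exact ⟨0, 1, one_mem _, by rw [E.P_zero, _root_.one_mul]⟩
      | mul y z _ _ hy hz =>
        obtain ⟨r, h, hh, rfl⟩ := hy
        obtain ⟨s, h', hh', rfl⟩ := hz
        refine ⟨r + s, _, mul_mem (hconj (-s) hh) hh', ?_⟩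
        rw [E.P_add, E.P_neg]
        group
      | inv y _ hy =>
        obtain ⟨r, h, hh, rfl⟩ := hy
        refine ⟨-r, _, hconj r (inv_mem hh), ?_⟩
        rw [E.P_neg]
        group
    obtain ⟨r, h, hh, rfl⟩ := key
    obtain ⟨x, rfl⟩ := ih hnd' (fun e he => hpos e (List.mem_cons_of_mem c he)) hord' hup' hh
    refine ⟨Function.update x c r, ?_⟩
    simp only [prodP, List.map_cons, List.prod_cons, Function.update_self]
    congr 2
    exact List.map_congr_left fun e he => by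
      rw [Function.update_of_ne (fun (h : e = c) => hcL (h ▸ he))]

theorem eq_one_of_fst (hl : Chamber D l) {X : Over S} {g : (X ⟶ G) × (X ⟶ G')}
    (hg : g ∈ E.GR (posSet D l) X) (h1 : g.1 = 1) : g = 1 := by
  classical
  let e₀ := posEnum D l
  let σ := Tuple.sort fun k => l (D.P.root (e₀ k))
  let e := e₀ ∘ σ
  have he : Function.Injective e := posEnum_injective.comp σ.injective
  have hr : Set.range e = {c | 0 < l (D.P.root c)} := by
    rw [Set.range_comp, σ.range_eq_univ, Set.image_univ, posEnum_range]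
  have hmem : ∀ c, c ∈ List.ofFn e ↔ 0 < l (D.P.root c) := fun c => by
    rw [List.mem_ofFn']
    exact Set.ext_iff.mp hr c
  have hset : {c | c ∈ List.ofFn e} = posSet D l := Set.ext hmem
  rw [← hset] at hg
  obtain ⟨x, rfl⟩ := E.exists_prodP (List.ofFn e) (List.nodup_ofFn.mpr he) (fun c hc => (hmem c).mp hc)
    (List.pairwise_ofFn.mpr fun i j hij => Tuple.monotone_sort (fun k => l (D.P.root (e₀ k))) hij.le)
    (fun c hc j hj => (hmem j).mpr (((hmem c).mp hc).trans hj)) hg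
  have h2 : (List.ofFn fun k => rp D (e k) (x (e k))).prod = 1 := by
    rw [← h1, prodP, ← MonoidHom.coe_fst, map_list_prod, List.map_map, List.map_ofFn]
    rfl
  refine List.prod_eq_one fun y hy => ?_
  obtain ⟨c, hc, rfl⟩ := List.mem_map.mp hy
  obtain ⟨k, rfl⟩ := (List.mem_ofFn' _ _).mp hc
  rw [hl.prod_injective he hr h2 k, E.P_zero]

theorem fst_mem_up {X : Over S} {g : (X ⟶ G) × (X ⟶ G')} (hg : g ∈ E.GR (posSet D l) X) :
    g.1 ∈ Up D l X := by
  refine (Subgroup.closure_le (K := Subgroup.comap (MonoidHom.fst (X ⟶ G) (X ⟶ G')) (Up D l X))).mpr ?_ hg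
  rintro _ ⟨c, hc, r, rfl⟩
  exact rp_mem_up hc r

theorem exists_pair (hl : Chamber D l) {X : Over S} {g : X ⟶ G} (hg : g ∈ Up D l X) :
    ∃ p ∈ E.GR (posSet D l) X, p.1 = g := by
  classical
  obtain ⟨x, rfl⟩ := hl.exists_prod posEnum_injective posEnum_range hg
  refine ⟨(List.ofFn fun k => E.P (posEnum D l k) (x k)).prod,
    list_prod_mem' fun k => E.P_mem (posEnum_pos k) _, ?_⟩
  rw [← MonoidHom.coe_fst, map_list_prod, List.map_ofFn]
  rfl

theorem eq_of_fst (hl : Chamber D l) {X : Over S} {g g' : (X ⟶ G) × (X ⟶ G')}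
    (hg : g ∈ E.GR (posSet D l) X) (hg' : g' ∈ E.GR (posSet D l) X) (h : g.1 = g'.1) : g = g' :=
  inv_mul_eq_one.mp (E.eq_one_of_fst hl (mul_mem (inv_mem hg) hg') (by
    rw [Prod.fst_mul, Prod.fst_inv, h, inv_mul_cancel]))

/-- The graph of the map on the big cell. -/
def Tr (l : D.M →+ ℤ) {X : Over S} (p : (X ⟶ G) × (X ⟶ G')) : Prop :=
  ∃ U ∈ E.GR (posSet D (-l)) X, ∃ (t : X ⟶ Red.DS S D.M), ∃ V ∈ E.GR (posSet D l) X,
    p = U * E.T t * V

theorem tr_inBig {X : Over S} {p : (X ⟶ G) × (X ⟶ G')} (h : E.Tr l p) : InBig D l p.1 := by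
  obtain ⟨U, hU, t, V, hV, rfl⟩ := h
  exact ⟨_, E.fst_mem_up hU, t, _, E.fst_mem_up hV, rfl⟩

theorem tr_unique (hl : Chamber D l) {X : Over S} {p p' : (X ⟶ G) × (X ⟶ G')} (h : E.Tr l p)
    (h' : E.Tr l p') (e : p.1 = p'.1) : p.2 = p'.2 := by
  obtain ⟨U, hU, t, V, hV, rfl⟩ := h
  obtain ⟨U', hU', t', V', hV', rfl⟩ := h'
  obtain ⟨e1, e2, e3⟩ := split_unique (E.fst_mem_up hU) (E.fst_mem_up hU') (tpt_mem_fixed t)
    (tpt_mem_fixed t') (E.fst_mem_up hV) (E.fst_mem_up hV') e
  rw [E.eq_of_fst hl.neg hU hU' e1, tpt_injective e2, E.eq_of_fst hl hV hV' e3]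

theorem exists_tr (hl : Chamber D l) {X : Over S} {g : X ⟶ G} (h : InBig D l g) :
    ∃ p, E.Tr l p ∧ p.1 = g := by
  obtain ⟨u, hu, t, v, hv, rfl⟩ := h
  obtain ⟨U, hU, rfl⟩ := E.exists_pair hl.neg hu
  obtain ⟨V, hV, rfl⟩ := E.exists_pair hl hv
  exact ⟨_, ⟨U, hU, t, V, hV, rfl⟩, rfl⟩

theorem Tr.comp {X X' : Over S} {p : (X ⟶ G) × (X ⟶ G')} (h : E.Tr l p) (k : X' ⟶ X) :
    E.Tr l (E.pc k p) := by
  obtain ⟨U, hU, t, V, hV, rfl⟩ := h
  refine ⟨_, E.pc_mem k hU, k ≫ t, _, E.pc_mem k hV, ?_⟩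
  rw [map_mul, map_mul]
  have e : E.pc k (E.T t) = E.T (k ≫ t) := Prod.ext (comp_tpt k t) (by
    show k ≫ tpt D' _ = tpt D' _
    rw [comp_tpt, E.F.comp_fT])
  rw [e]

open Classical in
/-- The map on the big cell. -/
noncomputable def ext (l : D.M →+ ℤ) {X : Over S} (g : X ⟶ G) : X ⟶ G' :=
  if h : ∃ p, E.Tr l p ∧ p.1 = g then h.choose.2 else 1

theorem ext_eq (hl : Chamber D l) {X : Over S} {p : (X ⟶ G) × (X ⟶ G')} (h : E.Tr l p) :
    E.ext l p.1 = p.2 := by
  have h' : ∃ q, E.Tr l q ∧ q.1 = p.1 := ⟨p, h, rfl⟩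
  rw [ext, dif_pos h']
  exact E.tr_unique hl h'.choose_spec.1 h h'.choose_spec.2

theorem tr_ext (hl : Chamber D l) {X : Over S} {g : X ⟶ G} (h : InBig D l g) :
    E.Tr l (g, E.ext l g) := by
  obtain ⟨p, hp, rfl⟩ := E.exists_tr hl h
  rw [E.ext_eq hl hp]
  exact hp

theorem ext_comp (hl : Chamber D l) {X X' : Over S} {g : X ⟶ G} (h : InBig D l g) (k : X' ⟶ X) :
    k ≫ E.ext l g = E.ext l (k ≫ g) :=
  (E.ext_eq hl (Tr.comp E (E.tr_ext hl h) k)).symm

theorem Tr.up_mul {X : Over S} {U p : (X ⟶ G) × (X ⟶ G')} (hU : U ∈ E.GR (posSet D (-l)) X)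
    (h : E.Tr l p) : E.Tr l (U * p) := by
  obtain ⟨U', hU', t, V, hV, rfl⟩ := h
  exact ⟨_, mul_mem hU hU', t, V, hV, by group⟩

theorem Tr.mul_up {X : Over S} {V p : (X ⟶ G) × (X ⟶ G')} (hV : V ∈ E.GR (posSet D l) X)
    (h : E.Tr l p) : E.Tr l (p * V) := by
  obtain ⟨U, hU, t, V', hV', rfl⟩ := h
  exact ⟨U, hU, t, _, mul_mem hV' hV, by group⟩

theorem Tr.T_mul {X : Over S} (s : X ⟶ Red.DS S D.M) {p : (X ⟶ G) × (X ⟶ G')}
    (h : E.Tr l p) : E.Tr l (E.T s * p) := by
  obtain ⟨U, hU, t, V, hV, rfl⟩ := h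
  exact ⟨_, E.T_conj_mem s hU, s * t, V, hV, by rw [E.T_mul]; group⟩

end IsoSetup

end Groth.Agent.RedPts82
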