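import Groth.Agent.RedPts82.IsoHom
import Groth.Agent.RedPts82.PinnedGen

/-!
Morphisms of pinned root data give unique homomorphisms.
-/

universe u

open CategoryTheory MonoidalCategory CartesianMonoidalCategory MonObj GrpObj AlgebraicGeometry

namespace Groth.Agent.RedPts82

variable {S : Scheme.{u}} {G G' : Over S} [GrpObj G] [GrpObj G']
  {D : Red.SplitRed G} {D' : Red.SplitRed G'} {b : D.P.Base} {b' : D'.P.Base}

theorem tpt_eq_i (D : Red.SplitRed G) {X : Over S} (t : X ⟶ D.T) :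
    tpt D (t ≫ D.split.hom.hom.hom) = t ≫ D.i := (i_eq_tpt t).symm

/-- What it means for a homomorphism to induce a morphism of pinned root data. -/
structure Induces (F : PMor D D' b b') (f : G ⟶ G') : Prop where
  torus : D.i ≫ f = D.split.hom.hom.hom ≫ Red.DSmap S F.hM.toAddMonoidHom ≫ D'.split.inv.hom.hom ≫ D'.i
  simple : ∀ a ∈ b.support, ∀ (X : Over S) (r : Γ(X.left, ⊤)),
    rp D a r ≫ f = rp D' (F.d a) (r ^ F.q a)
  negSimple : ∀ a ∈ b.support, ∀ (X : Over S) (r : Γ(X.left, ⊤)),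
    rp D (negIdx D a) r ≫ f = rp D' (negIdx D' (F.d a)) (r ^ F.q a)

theorem exists_induces (F : PMor D D' b b') (hd : Duals D b) (hd' : Duals D' b') :
    ∃ f : G ⟶ G', IsMonHom f ∧ Induces F f := by
  obtain ⟨E, rfl⟩ := nonempty_isoSetup F hd hd'
  obtain ⟨f, hf, hT, hR⟩ := E.exists_hom'
  refine ⟨f, hf, ?_, fun a ha X r => ?_, fun a ha X r => ?_⟩
  · have h := hT (X := D.T) D.split.hom.hom.hom
    rw [show tpt D D.split.hom.hom.hom = D.i by
      simpa using tpt_eq_i D (𝟙 D.T)] at h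
    rw [h]
    exact Category.assoc _ _ _
  · rw [hR, E.rpF_simple ha]
  · rw [hR, E.rpF_negSimple ha]

theorem induces_unique (F : PMor D D' b b') (hd : Duals D b) {f g : G ⟶ G'} [IsMonHom f] [IsMonHom g]
    (hf : Induces F f) (hg : Induces F g) : f = g := by
  have hU : ∀ a ∈ b.support, D.u a ≫ f = D.u a ≫ g := fun a ha =>
    hom_ext_affine fun Z _ x => by
      have e1 := hf.simple a ha Z (Red.gaFn x)
      have e2 := hg.simple a ha Z (Red.gaFn x)
      simp only [rp, gaPt_gaFn, Category.assoc] at e1 e2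
      rw [e1, e2]
  refine hom_ext_of_roots f g (hf.torus.trans hg.torus.symm) (eq_on_roots b hd f g hU fun a ha => ?_)
  simp only [wpt, npt, MonObj.mul_comp, GrpObj.inv_comp]
  rw [show (gaPt 1 ≫ D.u a) ≫ f = (gaPt 1 ≫ D.u a) ≫ g by rw [Category.assoc, Category.assoc, hU a ha],
    show (gaPt 1 ≫ D.u (negIdx D a)) ≫ f = (gaPt 1 ≫ D.u (negIdx D a)) ≫ g from
      (hf.negSimple a ha _ 1).trans (hg.negSimple a ha _ 1).symm]

theorem existsUnique_induces (F : PMor D D' b b') (hd : Duals D b) (hd' : Duals D' b') :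
    ∃! f : G ⟶ G', IsMonHom f ∧ Induces F f := by
  obtain ⟨f, hf, hi⟩ := exists_induces F hd hd'
  exact ⟨f, ⟨hf, hi⟩, fun g ⟨hg, hgi⟩ => induces_unique F hd hgi hi⟩

end Groth.Agent.RedPts82
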