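import Groth.Agent.RedPts82.IsoGraph

/-!
The map on the big cell commutes with left multiplication by the root groups, and so extends to a
homomorphism.
-/

universe u

open CategoryTheory MonoidalCategory CartesianMonoidalCategory MonObj GrpObj AlgebraicGeometry
open CategoryTheory.Limits

namespace Groth.Agent.RedPts82

variable {S : Scheme.{u}} {G G' : Over S} [GrpObj G] [GrpObj G']
  {D : Red.SplitRed G} {D' : Red.SplitRed G'} {b : D.P.Base} {b' : D'.P.Base}

/-- The positive roots away from a wall. -/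
def wallSet (D : Red.SplitRed G) (l : D.M →+ ℤ) (a : D.idx) : Set D.idx :=
  {c | 0 < wallF l a (D.P.root c)}

namespace IsoSetup

variable (E : IsoSetup D D' b b') {l : D.M →+ ℤ}

/-- The torus point of a coroot. -/
noncomputable abbrev avPt (D : Red.SplitRed G) (a : D.idx) {X : Over S} (z : Γ(X.left, ⊤)ˣ) :
    X ⟶ Red.DS S D.M := gmPt z ≫ Red.DSmap S (D.P.coroot a).toAddMonoidHom

theorem P_dual {a : D.idx} (ha : a ∈ b.support) {X : Over S} (x y : Γ(X.left, ⊤)) (z : Γ(X.left, ⊤)ˣ)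
    (hz : (z : Γ(X.left, ⊤)) = 1 + x * y) :
    E.P a x * E.P (negIdx D a) y =
      E.P (negIdx D a) (y * ((z⁻¹ : Γ(X.left, ⊤)ˣ) : Γ(X.left, ⊤))) * E.T (avPt D a z) *
        E.P a (x * ((z⁻¹ : Γ(X.left, ⊤)ˣ) : Γ(X.left, ⊤))) := by
  refine Prod.ext ?_ ?_
  · have := (E.hd a ha).rel D x y z hz
    rw [hpt_eq_tpt] at this
    exact this
  · show E.rpF a x * E.rpF (negIdx D a) y = E.rpF (negIdx D a) _ * tpt D' (E.F.fT _) * E.rpF a _
    have := (E.hd' _ (E.F.simple' ha)).rel D' (x ^ E.F.q a) (y ^ E.F.q a) (z ^ E.F.q a) (by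
      rw [Units.val_pow_eq_pow_val, hz, E.F.add_q, one_pow, mul_pow])
    rw [hpt_eq_tpt, ← inv_pow, Units.val_pow_eq_pow_val, ← mul_pow, ← mul_pow] at this
    rw [E.rpF_simple ha, E.rpF_negSimple ha, E.rpF_simple ha, E.rpF_negSimple ha, E.F.fT_coroot]
    exact this

theorem dualRel_one {a : D.idx} (ha : a ∈ b.support) (E : IsoSetup D D' b b') :
    DualRel D a 1 := fun X x y z hz => by
  rw [Units.val_one, cst, map_one, _root_.one_mul] at hz
  exact (E.hd a ha).rel D x y z hz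

theorem mem_pos_of_wallSet {a c : D.idx} (hw : Wall D l a) (h : c ∈ wallSet D l a) :
    0 < l (D.P.root c) := by
  have hlc := hw.ne c
  by_contra hn
  have h' : 0 < wallF l a (D.P.root c) := h
  have hc : 0 < l (D.P.root (negIdx D c)) := by rw [root_negIdx, map_neg]; omega
  by_cases hca : negIdx D c = a
  · subst hca
    have e : D.P.root c = -D.P.root (negIdx D c) := by rw [root_negIdx, neg_neg]
    rw [e, map_neg, wallF_self] at h'
    omega
  · have := hw.wallF_pos hca hc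
    rw [root_negIdx, map_neg] at this
    omega

theorem wallSet_subset {a : D.idx} (hw : Wall D l a) : wallSet D l a ⊆ posSet D l :=
  fun _ hc => mem_pos_of_wallSet hw hc

theorem wallSet_neg (a : D.idx) : wallSet D (-l) (negIdx D a) = {c | 0 < (-wallF l a) (D.P.root c)} := by
  rw [wallSet, wallF_neg]

theorem conj_wallSet {c a : D.idx} (hc : wallF l a (D.P.root c) = 0) {X : Over S} (r : Γ(X.left, ⊤))
    {g : (X ⟶ G) × (X ⟶ G')} (hg : g ∈ E.GR (wallSet D l a) X) :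
    E.P c r * g * (E.P c r)⁻¹ ∈ E.GR (wallSet D l a) X := by
  refine E.P_conj_mem E.allRel (fun e he => ⟨?_, ?_⟩) r hg
  · rintro rfl
    have h' : 0 < wallF l a (D.P.root (negIdx D c)) := he
    rw [root_negIdx, map_neg, hc] at h'
    omega
  · rintro j ⟨i, k, hi, hk, hj⟩
    show 0 < wallF l a (D.P.root j)
    rw [hj, map_add, map_zsmul, map_zsmul, smul_eq_mul, smul_eq_mul, hc, mul_zero, zero_add]
    exact mul_pos (by exact_mod_cast hk) he

theorem W_conj_wallSet {a : D.idx} (ha : a ∈ b.support) {X : Over S} {g : (X ⟶ G) × (X ⟶ G')}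
    (hg : g ∈ E.GR (wallSet D l a) X) : E.W a X * g * (E.W a X)⁻¹ ∈ E.GR (wallSet D l a) X := by
  refine E.W_conj_mem ha (fun c hc => ?_) hg
  show 0 < wallF l a (D.P.root (D.P.reflectionPerm a c))
  rw [wallF_root, RootPairing.reflectionPerm_self, add_comm, ← wallF_root]
  exact hc

theorem exists_split_wall {a : D.idx} (hw : Wall D l a) {X : Over S} {g : (X ⟶ G) × (X ⟶ G')}
    (hg : g ∈ E.GR (posSet D l) X) : ∃ x, ∃ W ∈ E.GR (wallSet D l a) X, g = E.P a x * W := by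
  induction hg using Subgroup.closure_induction with
  | mem y hy =>
    obtain ⟨e, he, r, rfl⟩ := hy
    by_cases hea : e = a
    · subst hea
      exact ⟨r, 1, one_mem _, (_root_.mul_one _).symm⟩
    · exact ⟨0, _, E.P_mem (hw.wallF_pos hea he) r, by rw [E.P_zero, _root_.one_mul]⟩
  | one => exact ⟨0, 1, one_mem _, by rw [E.P_zero, _root_.one_mul]⟩
  | mul y z _ _ hy hz =>
    obtain ⟨r, h, hh, rfl⟩ := hy
    obtain ⟨s, h', hh', rfl⟩ := hz
    refine ⟨r + s, _, mul_mem (E.conj_wallSet (wallF_self l a) (-s) hh) hh', ?_⟩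
    rw [E.P_add, E.P_neg]
    group
  | inv y _ hy =>
    obtain ⟨r, h, hh, rfl⟩ := hy
    refine ⟨-r, _, E.conj_wallSet (wallF_self l a) r (inv_mem hh), ?_⟩
    rw [E.P_neg]
    group

theorem exists_split_neg {a : D.idx} (hw : Wall D l a) {X : Over S} {g : (X ⟶ G) × (X ⟶ G')}
    (hg : g ∈ E.GR (posSet D (-l)) X) :
    ∃ y, ∃ R ∈ E.GR (wallSet D (-l) (negIdx D a)) X, g = R * E.P (negIdx D a) y := by
  obtain ⟨y, W, hW, rfl⟩ := E.exists_split_wall hw.neg hg
  refine ⟨y, _, E.conj_wallSet (wallF_self (-l) (negIdx D a)) y hW, ?_⟩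
  group

theorem wall_self_pos_neg {a : D.idx} (hw : Wall D l a) : negIdx D a ∈ posSet D (-l) := by
  show 0 < (-l) (D.P.root (negIdx D a))
  rw [root_negIdx, AddMonoidHom.neg_apply, map_neg, _root_.neg_neg]
  exact hw.pos

/-- Left multiplication by the root group of a simple root. -/
theorem ext_simple_mul {a : D.idx} (ha : a ∈ b.support) (hl : Chamber D l) (hw : Wall D l a)
    {X : Over S} {x : Γ(X.left, ⊤)} {g : X ⟶ G} (hg : InBig D l g)
    (hxg : InBig D l (rp D a x * g)) : E.ext l (rp D a x * g) = E.rpF a x * E.ext l g := by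
  obtain ⟨U, hU, t, V, hV, hp⟩ := E.tr_ext hl hg
  obtain ⟨y, R, hR, rfl⟩ := E.exists_split_neg hw hU
  have hR' := E.conj_wallSet (c := a) (show wallF (-l) (negIdx D a) (D.P.root a) = 0 by
    rw [wallF_neg, AddMonoidHom.neg_apply, wallF_self, neg_zero]) x hR
  have hR'' := E.GR_mono (wallSet_subset hw.neg) X hR'
  have e0 : E.P a x * (g, E.ext l g) =
      (E.P a x * R * (E.P a x)⁻¹) * (E.P a x * E.P (negIdx D a) y) * E.T t * V := by rw [hp]; group
  have hPM : InBig D l (rp D a x * rp D (negIdx D a) y) := by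
    have e1 := congrArg Prod.fst e0
    have h1 := ((InBig.up_mul (inv_mem (E.fst_mem_up hR'')) (InBig.mul_up (inv_mem (E.fst_mem_up hV)) hxg))).mul_tpt t⁻¹
    rw [show rp D a x * g = _ from e1, tpt_inv] at h1
    simp only [Prod.fst_mul, Prod.fst_inv] at h1
    convert h1 using 1
    show _ = _
    simp only [IsoSetup.P, IsoSetup.T]
    group
  have hz := hw.isUnit_of_inBig (dualRel_one ha E) hPM
  rw [Units.val_one, cst, map_one, _root_.one_mul] at hz
  rw [E.P_dual ha x y hz.unit hz.unit_spec] at e0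
  have hT : E.Tr l (E.P a x * (g, E.ext l g)) := by
    refine ⟨_, mul_mem hR'' (E.P_mem (wall_self_pos_neg hw)
        (y * ((hz.unit⁻¹ : Γ(X.left, ⊤)ˣ) : Γ(X.left, ⊤)))), avPt D a hz.unit * t,
      _, mul_mem (E.T_conj_mem t⁻¹ (E.P_mem (show a ∈ posSet D l from hw.pos)
        (x * ((hz.unit⁻¹ : Γ(X.left, ⊤)ˣ) : Γ(X.left, ⊤))))) hV, ?_⟩
    rw [e0, E.T_mul, E.T_inv]
    group
  exact E.ext_eq hl hT

/-- Conjugation by the Weyl pair of a simple root, after a right perturbation. -/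
theorem exists_conj {a : D.idx} (ha : a ∈ b.support) (hl : Chamber D l) (hw : Wall D l a) :
    ∃ K : Γ(S, ⊤)ˣ, ∀ {X : Over S} {g : X ⟶ G}, InBig D l g → ∃ A B : Γ(X.left, ⊤),
      ∀ (X' : Over S) (k : X' ⟶ X) (σ : Γ(X'.left, ⊤)),
        IsUnit (1 + k.left.appTop A * (k.left.appTop B + cst X' (K : Γ(S, ⊤)) * σ)) →
        InBig D l (wpt D a X' * ((k ≫ g) * rp D a σ) * (wpt D a X')⁻¹) ∧
          E.ext l (wpt D a X' * ((k ≫ g) * rp D a σ) * (wpt D a X')⁻¹) =
            wpt D' (E.F.d a) X' * ((k ≫ E.ext l g) * E.rpF a σ) * (wpt D' (E.F.d a) X')⁻¹ := by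
  obtain ⟨k1, hk1⟩ := E.exists_W_conj_P ha a
  obtain ⟨k2, hk2⟩ := E.exists_W_conj_P ha (negIdx D a)
  rw [show D.P.reflectionPerm a a = negIdx D a from rfl] at hk1
  rw [show D.P.reflectionPerm a (negIdx D a) = a from D.P.reflectionPerm_self a a] at hk2
  refine ⟨k1, fun {X g} hg => ?_⟩
  obtain ⟨U, hU, t, V, hV, hp⟩ := E.tr_ext hl hg
  obtain ⟨y, R, hR, rfl⟩ := E.exists_split_neg hw hU
  obtain ⟨x, W₀, hW₀, rfl⟩ := E.exists_split_wall hw hV
  let t' := tw (RootPairing.Equiv.reflection D.P a) t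
  refine ⟨dsFn t'⁻¹ (D.P.root a) * (cst X (k2 : Γ(S, ⊤)) * y),
    cst X (k1 : Γ(S, ⊤)) * x, fun X' k σ hu => ?_⟩
  let N := E.W a X'
  have hsplit : E.pc k (g, E.ext l g) * E.P a σ =
      E.pc k R * E.P (negIdx D a) (k.left.appTop y) * E.T (k ≫ t) *
        E.P a (k.left.appTop x + σ) * ((E.P a σ)⁻¹ * E.pc k W₀ * E.P a σ) := by
    have eT : E.pc k (E.T t) = E.T (k ≫ t) := Prod.ext (comp_tpt k t) (by
      show k ≫ tpt D' _ = tpt D' _
      rw [comp_tpt, E.F.comp_fT])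
    rw [hp, map_mul, map_mul, map_mul, map_mul, E.pc_P, E.pc_P, eT, E.P_add]
    group
  have hA : (E.T (tw (RootPairing.Equiv.reflection D.P a) (k ≫ t)))⁻¹ *
      E.P a (cst X' (k2 : Γ(S, ⊤)) * k.left.appTop y) * E.T (tw (RootPairing.Equiv.reflection D.P a) (k ≫ t)) =
      E.P a (k.left.appTop (dsFn t'⁻¹ (D.P.root a) * (cst X (k2 : Γ(S, ⊤)) * y))) := by
    rw [show tw (RootPairing.Equiv.reflection D.P a) (k ≫ t) = k ≫ t' from Category.assoc _ _ _]
    have := E.T_conj_P (k ≫ t')⁻¹ a (cst X' (k2 : Γ(S, ⊤)) * k.left.appTop y)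
    rw [E.T_inv, _root_.inv_inv] at this
    rw [this, map_mul, map_mul, cst_appTop, ← GrpObj.comp_inv, dsFn_comp]
  generalize hA' : k.left.appTop (dsFn t'⁻¹ (D.P.root a) * (cst X (k2 : Γ(S, ⊤)) * y)) = A' at hA hu
  rw [map_mul, cst_appTop, ← mul_add] at hu
  have hcore : N * (E.pc k (g, E.ext l g) * E.P a σ) * N⁻¹ =
      (N * E.pc k R * N⁻¹) * E.T (tw (RootPairing.Equiv.reflection D.P a) (k ≫ t)) *
        (E.P a A' * E.P (negIdx D a) (cst X' (k1 : Γ(S, ⊤)) * (k.left.appTop x + σ))) *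
        (N * ((E.P a σ)⁻¹ * E.pc k W₀ * E.P a σ) * N⁻¹) := by
    rw [hsplit, ← hA, ← E.W_conj_T ha, ← hk1, ← hk2]
    simp only [N]
    group
  rw [E.P_dual ha A' _ hu.unit hu.unit_spec] at hcore
  have hl' : N * E.pc k R * N⁻¹ ∈ E.GR (posSet D (-l)) X' := by
    refine E.GR_mono (wallSet_subset hw.neg) X' (E.W_conj_mem ha (fun c hc => ?_) (E.pc_mem k hR))
    show 0 < wallF (-l) (negIdx D a) (D.P.root (D.P.reflectionPerm a c))
    have h' : 0 < wallF (-l) (negIdx D a) (D.P.root c) := hc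
    rw [wallF_neg, AddMonoidHom.neg_apply] at h' ⊢
    rw [wallF_root, RootPairing.reflectionPerm_self, add_comm, ← wallF_root]
    exact h'
  have hr' : N * ((E.P a σ)⁻¹ * E.pc k W₀ * E.P a σ) * N⁻¹ ∈ E.GR (posSet D l) X' := by
    refine E.GR_mono (wallSet_subset hw) X' (E.W_conj_wallSet ha ?_)
    have := E.conj_wallSet (wallF_self l a) (-σ) (E.pc_mem k hW₀)
    rwa [E.P_neg, _root_.inv_inv] at this
  set T' := tw (RootPairing.Equiv.reflection D.P a) (k ≫ t)
  have hT : E.Tr l (N * (E.pc k (g, E.ext l g) * E.P a σ) * N⁻¹) := by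
    refine ⟨_, mul_mem hl' (E.T_conj_mem T' (E.P_mem (wall_self_pos_neg hw)
        (cst X' (k1 : Γ(S, ⊤)) * (k.left.appTop x + σ) * ((hu.unit⁻¹ : Γ(X'.left, ⊤)ˣ) : Γ(X'.left, ⊤))))),
      T' * avPt D a hu.unit, _,
      mul_mem (E.P_mem (show a ∈ posSet D l from hw.pos)
        (A' * ((hu.unit⁻¹ : Γ(X'.left, ⊤)ˣ) : Γ(X'.left, ⊤)))) hr', ?_⟩
    rw [hcore, E.T_mul]
    group
  exact ⟨E.tr_inBig hT, E.ext_eq hl hT⟩

variable (hl : BaseChamber D b l)
include hl

/-- Left multiplication by any root group. -/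
theorem ext_rp_mul (c : D.idx) {X : Over S} {x : Γ(X.left, ⊤)} {g : X ⟶ G} (hg : InBig D l g)
    (hxg : InBig D l (rp D c x * g)) : E.ext l (rp D c x * g) = E.rpF c x * E.ext l g := by
  by_cases hc : b.IsPos c
  swap
  · exact E.ext_eq hl.toChamber
      (Tr.up_mul E (E.P_mem (show c ∈ posSet D (-l) from (hl.neg_iff c).mpr hc) x) (E.tr_ext hl.toChamber hg))
  have := isReduced_of_base b
  refine hc.induction_on_reflect (p := fun c => ∀ (X : Over S) (x : Γ(X.left, ⊤)) (g : X ⟶ G),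
    InBig D l g → InBig D l (rp D c x * g) → E.ext l (rp D c x * g) = E.rpF c x * E.ext l g) ?_ ?_
    X x g hg hxg
  · intro a ha X x g hg hxg
    exact E.ext_simple_mul ha hl.toChamber (hl.wall ha) hg hxg
  intro i a hi ha X x g hg hxg
  obtain ⟨K, hK⟩ := E.exists_conj ha hl.toChamber (hl.wall ha)
  obtain ⟨k', hk'⟩ := E.exists_W_conj_P ha (D.P.reflectionPerm a i)
  rw [RootPairing.reflectionPerm_self] at hk'
  refine hom_ext_affine fun Y hY k₀ => ?_
  rw [MonObj.comp_mul, E.comp_rpF, E.ext_comp hl.toChamber hxg, E.ext_comp hl.toChamber hg]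
  have hg₁ := hg.comp k₀
  have hxg₁ := hxg.comp k₀
  rw [MonObj.comp_mul, comp_rp] at hxg₁ ⊢
  generalize k₀ ≫ g = g₁ at hg₁ hxg₁ ⊢
  generalize k₀.left.appTop x = x₁ at hxg₁ ⊢
  obtain ⟨A₁, B₁, h₁⟩ := hK hg₁
  obtain ⟨A₂, B₂, h₂⟩ := hK hxg₁
  let K' := cst Y (K : Γ(S, ⊤))
  obtain ⟨Z, k, σ, -, hf, hs, hσ⟩ := exists_avoid Y
    ((Polynomial.C (A₁ * K') * Polynomial.X + Polynomial.C (1 + A₁ * B₁)) *
      (Polynomial.C (A₂ * K') * Polynomial.X + Polynomial.C (1 + A₂ * B₂))) fun F _ _ W _ eF y => by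
    have hu : ∀ A B : Γ(Y.left, ⊤), IsUnit (y.left.appTop (A * K')) ∨
        IsUnit (y.left.appTop (1 + A * B)) := fun A B => by
      rcases isUnit_or_eq_zero eF (y.left.appTop A) with hA | hA
      · refine Or.inl ?_
        rw [map_mul]
        exact hA.mul ((K.isUnit.map Y.hom.appTop.hom).map y.left.appTop.hom)
      · refine Or.inr ?_
        rw [map_add, map_mul, hA, zero_mul, map_one, add_zero]
        exact isUnit_one
    obtain ⟨r, hr⟩ := exists_unit_affine eF (hu A₁ B₁) (hu A₂ B₂)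
    refine ⟨r, ?_⟩
    simp only [Polynomial.eval₂_mul, Polynomial.eval₂_add, Polynomial.eval₂_C, Polynomial.eval₂_X]
    exact hr
  have := epi_of_flat_surjective k hf hs
  refine (cancel_epi k).mp ?_
  simp only [Polynomial.eval₂_mul, Polynomial.eval₂_add, Polynomial.eval₂_C, Polynomial.eval₂_X,
    IsUnit.mul_iff] at hσ
  have hK' : k.left.appTop.hom K' = cst Z (K : Γ(S, ⊤)) := cst_appTop k _
  obtain ⟨i1, t1⟩ := h₁ Z k σ (by
    convert hσ.1 using 1
    simp only [map_add, map_mul, map_one, hK']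
    ring)
  obtain ⟨i2, t2⟩ := h₂ Z k σ (by
    convert hσ.2 using 1
    simp only [map_add, map_mul, map_one, hK']
    ring)
  have ek := hk' Z (k.left.appTop x₁)
  have e1 : wpt D a Z * (k ≫ (rp D (D.P.reflectionPerm a i) x₁ * g₁) * rp D a σ) * (wpt D a Z)⁻¹ =
      rp D i (cst Z (k' : Γ(S, ⊤)) * k.left.appTop x₁) *
        (wpt D a Z * (k ≫ g₁ * rp D a σ) * (wpt D a Z)⁻¹) := by
    have := congrArg Prod.fst ek
    simp only [Prod.fst_mul, Prod.fst_inv, IsoSetup.P, IsoSetup.W] at this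
    rw [← this, MonObj.comp_mul, comp_rp]
    group
  have e2 : wpt D' (E.F.d a) Z * (E.rpF (D.P.reflectionPerm a i) (k.left.appTop x₁) * (k ≫ E.ext l g₁) * E.rpF a σ) *
        (wpt D' (E.F.d a) Z)⁻¹ =
      E.rpF i (cst Z (k' : Γ(S, ⊤)) * k.left.appTop x₁) *
        (wpt D' (E.F.d a) Z * (k ≫ E.ext l g₁ * E.rpF a σ) * (wpt D' (E.F.d a) Z)⁻¹) := by
    have := congrArg Prod.snd ek
    simp only [Prod.snd_mul, Prod.snd_inv, IsoSetup.P, IsoSetup.W] at this
    rw [← this]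
    group
  rw [e1] at i2 t2
  have e3 := hi Z _ _ i1 i2
  rw [t2, t1, ← e2] at e3
  rw [MonObj.comp_mul, E.comp_rpF]
  exact mul_right_cancel (mul_left_cancel (mul_right_cancel e3))

end IsoSetup

end Groth.Agent.RedPts82
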