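import Groth.Agent.RedPts82.PinnedPairs

/-!
Two simple roots of a pinning spanning a system of type G₂.
-/

universe u

open CategoryTheory MonoidalCategory CartesianMonoidalCategory MonObj GrpObj AlgebraicGeometry
open CategoryTheory.Limits

namespace Groth.Agent.RedPts82

variable {S : Scheme.{u}} {G : Over S} [GrpObj G] {D : Red.SplitRed G}

/-- A formula with one term, as a commutation rule. -/
theorem Formula.one {α β γ' : D.idx} {C : Fin 1 → Γ(S, ⊤)} (F : Formula D α β ![γ'] ![1] ![1] C)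
    (X : Over S) (x y : Γ(X.left, ⊤)) :
    (gaPt y ≫ D.u β) * (gaPt x ≫ D.u α) =
      (gaPt x ≫ D.u α) * (gaPt y ≫ D.u β) * (gaPt (-(cst X (C 0)) * x * y) ≫ D.u γ') := by
  have hF := F.2.2 X (-x) y
  rw [rootHom_gaPt_neg, _root_.inv_inv] at hF
  simp only [List.ofFn_succ, List.ofFn_zero, List.prod_cons, List.prod_nil, _root_.mul_one,
    Matrix.cons_val_zero, pow_one] at hF
  rw [_root_.mul_assoc, inv_mul_eq_iff_eq_mul] at hF
  rw [hF, ← _root_.mul_assoc, mul_neg, neg_mul, neg_mul, neg_mul]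

/-- Points of the five root groups of a system of type `G₂` containing `b` but not `a`. -/
noncomputable def five (D : Red.SplitRed G) (e : Fin 5 → D.idx) {X : Over S}
    (v₀ v₁ v₂ v₃ v₄ : Γ(X.left, ⊤)) : X ⟶ G :=
  (gaPt v₀ ≫ D.u (e 0)) * (gaPt v₁ ≫ D.u (e 1)) * (gaPt v₂ ≫ D.u (e 2)) * (gaPt v₃ ≫ D.u (e 3)) *
    (gaPt v₄ ≫ D.u (e 4))

theorem five_eq (e : Fin 5 → D.idx) {X : Over S} (v : Fin 5 → Γ(X.left, ⊤)) :
    five D e (v 0) (v 1) (v 2) (v 3) (v 4) = (List.ofFn fun q => gaPt (v q) ≫ D.u (e q)).prod := by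
  rw [prod_five]; rfl

theorem five_mul_aux {H : Type*} [Group H] {a₀ a₁ a₂ a₃ a₄ b₀ b₁ b₂ b₃ b₄ g₀ g₁ : H}
    (h40 : a₄ * b₀ = b₀ * a₄) (h30 : a₃ * b₀ = b₀ * a₃ * g₀) (h20 : a₂ * b₀ = b₀ * a₂)
    (h10 : a₁ * b₀ = b₀ * a₁) (hg₀1 : g₀ * b₁ = b₁ * g₀) (h41 : a₄ * b₁ = b₁ * a₄)
    (h31 : a₃ * b₁ = b₁ * a₃) (h21 : a₂ * b₁ = b₁ * a₂ * g₁) (hg₁2 : g₁ * b₂ = b₂ * g₁)
    (hg₁3 : g₁ * a₃ = a₃ * g₁) (h42 : a₄ * b₂ = b₂ * a₄) (hg₀2 : g₀ * b₂ = b₂ * g₀)
    (h32 : a₃ * b₂ = b₂ * a₃) (hg₁3' : g₁ * b₃ = b₃ * g₁) (hg₀3 : g₀ * b₃ = b₃ * g₀)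
    (h43 : a₄ * b₃ = b₃ * a₄) :
    a₀ * a₁ * a₂ * a₃ * a₄ * (b₀ * b₁ * b₂ * b₃ * b₄) =
      a₀ * b₀ * (a₁ * b₁) * (a₂ * b₂) * (a₃ * b₃) * (g₁ * g₀ * a₄ * b₄) :=
  calc a₀ * a₁ * a₂ * a₃ * a₄ * (b₀ * b₁ * b₂ * b₃ * b₄)
      = a₀ * a₁ * a₂ * a₃ * (a₄ * b₀) * b₁ * b₂ * b₃ * b₄ := by group
    _ = a₀ * a₁ * a₂ * (a₃ * b₀) * a₄ * b₁ * b₂ * b₃ * b₄ := by rw [h40]; group
    _ = a₀ * a₁ * (a₂ * b₀) * a₃ * g₀ * a₄ * b₁ * b₂ * b₃ * b₄ := by rw [h30]; group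
    _ = a₀ * (a₁ * b₀) * a₂ * a₃ * g₀ * a₄ * b₁ * b₂ * b₃ * b₄ := by rw [h20]; group
    _ = a₀ * b₀ * a₁ * a₂ * a₃ * g₀ * (a₄ * b₁) * b₂ * b₃ * b₄ := by rw [h10]; group
    _ = a₀ * b₀ * a₁ * a₂ * a₃ * (g₀ * b₁) * a₄ * b₂ * b₃ * b₄ := by rw [h41]; group
    _ = a₀ * b₀ * a₁ * a₂ * (a₃ * b₁) * g₀ * a₄ * b₂ * b₃ * b₄ := by rw [hg₀1]; group
    _ = a₀ * b₀ * a₁ * (a₂ * b₁) * a₃ * g₀ * a₄ * b₂ * b₃ * b₄ := by rw [h31]; group
    _ = a₀ * b₀ * (a₁ * b₁) * a₂ * (g₁ * a₃) * g₀ * (a₄ * b₂) * b₃ * b₄ := by rw [h21]; group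
    _ = a₀ * b₀ * (a₁ * b₁) * a₂ * a₃ * g₁ * (g₀ * b₂) * a₄ * b₃ * b₄ := by rw [hg₁3, h42]; group
    _ = a₀ * b₀ * (a₁ * b₁) * a₂ * a₃ * (g₁ * b₂) * g₀ * a₄ * b₃ * b₄ := by rw [hg₀2]; group
    _ = a₀ * b₀ * (a₁ * b₁) * a₂ * (a₃ * b₂) * g₁ * g₀ * (a₄ * b₃) * b₄ := by rw [hg₁2]; group
    _ = a₀ * b₀ * (a₁ * b₁) * (a₂ * b₂) * a₃ * g₁ * (g₀ * b₃) * a₄ * b₄ := by rw [h32, h43]; group
    _ = a₀ * b₀ * (a₁ * b₁) * (a₂ * b₂) * a₃ * (g₁ * b₃) * g₀ * a₄ * b₄ := by rw [hg₀3]; group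
    _ = _ := by rw [hg₁3']; group

variable (B : D.P.Base) {a b : D.idx} (ha : a ∈ B.support) (hb : b ∈ B.support) (hne : a ≠ b)
  (hA : IsDual D a (D.u (negIdx D a))) (hB : IsDual D b (D.u (negIdx D b)))
include B ha hb hne hA hB

/-- Type G₂, with `a` short. -/
theorem pinned_G2 (hba : D.P.pairing b a = -3) (hab : D.P.pairing a b = -1) :
    ∃ (c₁ c₂ c₃ d : D.idx) (k k' k'' s : Γ(S, ⊤)ˣ),
      (D.P.reflectionPerm b a = c₁ ∧ D.P.reflectionPerm a c₁ = c₂ ∧ D.P.reflectionPerm b c₂ = c₂ ∧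
        D.P.reflectionPerm a b = c₃ ∧ D.P.reflectionPerm b c₃ = d ∧ D.P.reflectionPerm a d = d) ∧
      (Carries D b a c₁ k ∧ Carries D b c₁ a (-((k⁻¹ : Γ(S, ⊤)ˣ) : Γ(S, ⊤))) ∧ Carries D b c₂ c₂ 1 ∧
        Carries D b c₃ d k'' ∧ Carries D b d c₃ (-((k''⁻¹ : Γ(S, ⊤)ˣ) : Γ(S, ⊤)))) ∧
      (Carries D a b c₃ k' ∧ Carries D a c₁ c₂ s ∧
        Carries D a c₂ c₁ (-((s⁻¹ : Γ(S, ⊤)ˣ) : Γ(S, ⊤))) ∧
        Carries D a c₃ b (-((k'⁻¹ : Γ(S, ⊤)ˣ) : Γ(S, ⊤))) ∧ Carries D a d d 1) ∧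
      ∀ (X : Over S) (x y : Γ(X.left, ⊤)),
        (gaPt y ≫ D.u b) * (gaPt x ≫ D.u a) =
          (gaPt x ≫ D.u a) * (gaPt y ≫ D.u b) * (gaPt (cst X k * (x * y)) ≫ D.u c₁) *
            (gaPt (cst X (s * k) * (x ^ 2 * y)) ≫ D.u c₂) * (gaPt (-cst X k' * (x ^ 3 * y)) ≫ D.u c₃) *
              (gaPt (-cst X (k'' * k') * (x ^ 3 * y ^ 2)) ≫ D.u d) ∧
        (gaPt (cst X k * y) ≫ D.u c₁) * (gaPt x ≫ D.u a) =
          (gaPt x ≫ D.u a) * (gaPt (cst X k * y) ≫ D.u c₁) *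
            (gaPt (cst X (s * k) * (2 * x * y)) ≫ D.u c₂) * (gaPt (-cst X k' * (3 * x ^ 2 * y)) ≫ D.u c₃) *
              (gaPt (-cst X (k'' * k') * (3 * x * y ^ 2)) ≫ D.u d) ∧
        (gaPt (cst X (s * k) * y) ≫ D.u c₂) * (gaPt x ≫ D.u a) =
          (gaPt x ≫ D.u a) * (gaPt (cst X (s * k) * y) ≫ D.u c₂) *
            (gaPt (-cst X k' * (3 * x * y)) ≫ D.u c₃) ∧
        (gaPt (-cst X k' * y) ≫ D.u c₃) * (gaPt x ≫ D.u b) =
          (gaPt x ≫ D.u b) * (gaPt (-cst X k' * y) ≫ D.u c₃) *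
            (gaPt (-cst X (k'' * k') * -(x * y)) ≫ D.u d) ∧
        (gaPt (cst X (s * k) * y) ≫ D.u c₂) * (gaPt (cst X k * x) ≫ D.u c₁) =
          (gaPt (cst X k * x) ≫ D.u c₁) * (gaPt (cst X (s * k) * y) ≫ D.u c₂) *
            (gaPt (-cst X (k'' * k') * (3 * x * y)) ≫ D.u d) := by
  have := isReduced_of_base B
  have h := indep_of_simple B ha hb hne
  have hhall := fun (e : D.idx) (p q : ℕ) (hp : 1 ≤ p) (hq : 1 ≤ q)
      (he : D.P.root e = (p : ℤ) • D.P.root a + (q : ℤ) • D.P.root b) => hall_G2 h hba hab e hp hq he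
  -- the roots
  have hc₁ : D.P.root (D.P.reflectionPerm b a) = D.P.root a + D.P.root b := by
    rw [RootPairing.root_reflectionPerm, RootPairing.reflection_apply_root, hab]; module
  set c₁ := D.P.reflectionPerm b a
  have hc₃ : D.P.root (D.P.reflectionPerm a b) = (3 : ℤ) • D.P.root a + D.P.root b := by
    rw [RootPairing.root_reflectionPerm, RootPairing.reflection_apply_root, hba]; module
  set c₃ := D.P.reflectionPerm a b
  have hp1 : D.P.pairing c₁ a = -1 := by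
    rw [coroot_pairing_comb (p := 1) (q := 1) (a := a) (b := b) (by rw [hc₁, one_smul, one_smul]) a,
      hba, RootPairing.pairing_same]; norm_num
  have hc₂ : D.P.root (D.P.reflectionPerm a c₁) = (2 : ℤ) • D.P.root a + D.P.root b := by
    rw [RootPairing.root_reflectionPerm, RootPairing.reflection_apply_root, hp1, hc₁]; module
  set c₂ := D.P.reflectionPerm a c₁
  have hp3 : D.P.pairing c₃ b = -1 := by
    rw [coroot_pairing_comb (p := 3) (q := 1) (a := a) (b := b) (by rw [hc₃, one_smul]) b,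
      hab, RootPairing.pairing_same]; norm_num
  have hd : D.P.root (D.P.reflectionPerm b c₃) = (3 : ℤ) • D.P.root a + (2 : ℤ) • D.P.root b := by
    rw [RootPairing.root_reflectionPerm, RootPairing.reflection_apply_root, hp3, hc₃]; module
  set d := D.P.reflectionPerm b c₃
  -- roots which do not occur
  have hnr : ∀ (p q : ℕ), 1 ≤ p → 1 ≤ q →
      ¬((p = 1 ∧ q = 1) ∨ (p = 2 ∧ q = 1) ∨ (p = 3 ∧ q = 1) ∨ (p = 3 ∧ q = 2)) →
      (p : ℤ) • D.P.root a + (q : ℤ) • D.P.root b ∉ Set.range D.P.root :=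
    fun p q hp hq hn ⟨e, he⟩ => hn (hhall e p q hp hq he)
  have hcm : ∀ (e e' : D.idx) (p q : ℕ), 1 ≤ p → 1 ≤ q →
      ¬((p = 1 ∧ q = 1) ∨ (p = 2 ∧ q = 1) ∨ (p = 3 ∧ q = 1) ∨ (p = 3 ∧ q = 2)) →
      D.P.root e + D.P.root e' = (p : ℤ) • D.P.root a + (q : ℤ) • D.P.root b →
      ∀ {X : Over S} (x y : Γ(X.left, ⊤)),
        (gaPt x ≫ D.u e) * (gaPt y ≫ D.u e') = (gaPt y ≫ D.u e') * (gaPt x ≫ D.u e) := by
    intro e e' p q hp hq hn he X x y
    refine root_comm D e e' (fun h0 => ?_) (he ▸ hnr p q hp hq hn) (gaPt x) (gaPt y)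
    have := h.coeff_eq (p := p) (q := q) (p' := 0) (q' := 0) (by rw [← he, h0, zero_smul, zero_smul, add_zero])
    omega
  -- strings
  obtain ⟨k', s, f, Cm, hf0, hf1, hf2, hf3, T, hCm, a1, a2, a3, a4, m03, m02, m12, m13, m23⟩ :=
    pinned_three hA B h (B.sub_notMem_range_root hb ha) hba (hc₁.trans (add_comm _ _))
      (hc₂.trans (add_comm _ _)) (hc₃.trans (add_comm _ _))
  obtain ⟨k, b1, b2, -, hfst⟩ := pinned_one hB B h.symm (B.sub_notMem_range_root ha hb) hab hc₁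
  have hbc₃ : Indep D.P b c₃ := comb_indep h.symm (p := 1) (q := 3) (by rw [hc₃]; module) (by norm_num)
  obtain ⟨k'', b4, b5, hsnd, -⟩ := pinned_one hB B hbc₃ (by
      rintro ⟨e, he⟩
      have hdvd := root_mult_dvd_two D.P (a := a) (c := e) 3 (by rw [he, hc₃]; module)
      norm_num at hdvd) hp3 (show D.P.root d = D.P.root c₃ + D.P.root b by rw [hd, hc₃]; module)
  have b3 : Carries D b c₂ c₂ 1 := carries_orth hB B
    (comb_indep h.symm (p := 1) (q := 2) (by rw [hc₂]; module) two_ne_zero) (by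
      rintro ⟨e, he⟩
      exact root_ne_two_smul B a e (by rw [he, hc₂]; module)) (by
      rw [coroot_pairing_comb (p := 2) (q := 1) (a := a) (b := b) (by rw [hc₂, one_smul]) b, hab,
        RootPairing.pairing_same]; norm_num)
  have a5 : Carries D a d d 1 := carries_orth hA B
    (comb_indep h (p := 3) (q := 2) (by rw [hd]) two_ne_zero) (by
      rw [hd]; convert hnr 2 2 (by norm_num) (by norm_num) (by omega) using 2; push_cast; module) (by
      rw [coroot_pairing_comb (p := 3) (q := 2) (a := a) (b := b) hd a, hba,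
        RootPairing.pairing_same]; norm_num)
  -- formulas
  have hroot : ∀ q : Fin 4, D.P.root (![c₁, c₂, c₃, d] q) =
      ((![1, 2, 3, 3] q : ℕ) : ℤ) • D.P.root a + ((![1, 1, 1, 2] q : ℕ) : ℤ) • D.P.root b := fun q => by
    fin_cases q <;> simp [hc₁, hc₂, hc₃, hd]
  obtain ⟨C, F⟩ := exists_formula (S := S) h ![c₁, c₂, c₃, d] ![1, 2, 3, 3] ![1, 1, 1, 2]
    (injective_of_comb h _ _ hroot (by decide))
    (fun q => ⟨by fin_cases q <;> simp, by fin_cases q <;> simp, hroot q⟩) (fun e p q hp hq he => by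
      refine range_of_comb hroot he ?_
      rcases hhall e p q hp hq he with ⟨rfl, rfl⟩ | ⟨rfl, rfl⟩ | ⟨rfl, rfl⟩ | ⟨rfl, rfl⟩
      exacts [⟨0, rfl, rfl⟩, ⟨1, rfl, rfl⟩, ⟨2, rfl, rfl⟩, ⟨3, rfl, rfl⟩])
  have hac₁ : Indep D.P a c₁ := comb_indep h (p := 1) (q := 1) (by rw [hc₁]; module) one_ne_zero
  have hroot' : ∀ q : Fin 3, D.P.root (![c₂, c₃, d] q) =
      ((![1, 2, 1] q : ℕ) : ℤ) • D.P.root a + ((![1, 1, 2] q : ℕ) : ℤ) • D.P.root c₁ := fun q => by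
    fin_cases q <;> simp [hc₁, hc₂, hc₃, hd] <;> module
  obtain ⟨C', F'⟩ := exists_formula (S := S) hac₁ ![c₂, c₃, d] ![1, 2, 1] ![1, 1, 2]
    (injective_of_comb hac₁ _ _ hroot' (by decide))
    (fun q => ⟨by fin_cases q <;> simp, by fin_cases q <;> simp, hroot' q⟩) (fun e p q hp hq he => by
      refine range_of_comb hroot' he ?_
      have := hhall e (p + q) q (by omega) hq (by rw [he, hc₁]; push_cast; module)
      rcases (show (p = 1 ∧ q = 1) ∨ (p = 2 ∧ q = 1) ∨ (p = 1 ∧ q = 2) by omega) with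
        ⟨rfl, rfl⟩ | ⟨rfl, rfl⟩ | ⟨rfl, rfl⟩
      exacts [⟨0, rfl, rfl⟩, ⟨1, rfl, rfl⟩, ⟨2, rfl, rfl⟩])
  have hac₂ : Indep D.P a c₂ := comb_indep h (p := 2) (q := 1) (by rw [hc₂]; module) one_ne_zero
  have hr₂ : ∀ q : Fin 1, D.P.root (![c₃] q) =
      ((![1] q : ℕ) : ℤ) • D.P.root a + ((![1] q : ℕ) : ℤ) • D.P.root c₂ := fun q => by
    fin_cases q; simp [hc₂, hc₃]; module
  obtain ⟨C₂, F₂⟩ := exists_formula (S := S) hac₂ ![c₃] ![1] ![1] (fun q q' _ => Subsingleton.elim q q')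
    (fun q => ⟨by fin_cases q; simp, by fin_cases q; simp, hr₂ q⟩) (fun e p q hp hq he => by
      refine range_of_comb hr₂ he ⟨0, ?_⟩
      have := hhall e (p + 2 * q) q (by omega) hq (by rw [he, hc₂]; push_cast; module)
      simp
      omega)
  have hr₃ : ∀ q : Fin 1, D.P.root (![d] q) =
      ((![1] q : ℕ) : ℤ) • D.P.root b + ((![1] q : ℕ) : ℤ) • D.P.root c₃ := fun q => by
    fin_cases q; simp [hc₃, hd]; module
  obtain ⟨C₃, F₃⟩ := exists_formula (S := S) hbc₃ ![d] ![1] ![1] (fun q q' _ => Subsingleton.elim q q')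
    (fun q => ⟨by fin_cases q; simp, by fin_cases q; simp, hr₃ q⟩) (fun e p q hp hq he => by
      refine range_of_comb hr₃ he ⟨0, ?_⟩
      have := hhall e (3 * q) (p + q) (by omega) (by omega) (by rw [he, hc₃]; push_cast; module)
      simp
      omega)
  have hc₁₂ : Indep D.P c₁ c₂ := indep_of_forall D.P fun r t hrt => by
    rw [hc₁, hc₂] at hrt
    have := h.coeff_eq (p := r + 2 * t) (q := r + t) (p' := 0) (q' := 0)
      (by rw [zero_smul, zero_smul, add_zero, ← hrt]; module)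
    omega
  have hr₄ : ∀ q : Fin 1, D.P.root (![d] q) =
      ((![1] q : ℕ) : ℤ) • D.P.root c₁ + ((![1] q : ℕ) : ℤ) • D.P.root c₂ := fun q => by
    fin_cases q; simp [hc₁, hc₂, hd]; module
  obtain ⟨C₄, F₄⟩ := exists_formula (S := S) hc₁₂ ![d] ![1] ![1] (fun q q' _ => Subsingleton.elim q q')
    (fun q => ⟨by fin_cases q; simp, by fin_cases q; simp, hr₄ q⟩) (fun e p q hp hq he => by
      refine range_of_comb hr₄ he ⟨0, ?_⟩
      have := hhall e (p + 2 * q) (p + q) (by omega) (by omega) (by rw [he, hc₁, hc₂]; push_cast; module)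
      simp
      omega)
  -- coefficients
  have F0 : Formula D a (f 0) ![c₁, c₂, c₃, d] ![1, 2, 3, 3] ![1, 1, 1, 2] C := by rw [hf0]; exact F
  have F1 : Formula D a (f 1) ![c₂, c₃, d] ![1, 2, 1] ![1, 1, 2] C' := by rw [hf1]; exact F'
  have ek : C 0 = -(k : Γ(S, ⊤)) := by
    have := hfst F 0 rfl rfl
    simp at this
    linear_combination -this
  have e01 : Cm 0 1 = -(k : Γ(S, ⊤)) := (T.coeff_snd hCm F0 0 rfl hf1.symm).symm.trans ek
  have e1 : C 1 = s * k := by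
    rw [T.coeff_snd hCm F0 1 rfl hf2.symm, m02, e01]; ring
  have e2 : C 2 = k' := (T.coeff_snd hCm F0 2 rfl hf3.symm).trans m03
  have e23 : (s : Γ(S, ⊤)) * k * Cm 2 3 = 3 * k' := by
    rw [m02, e01] at m23
    linear_combination m23
  have e3 : C' 0 = -2 * s := (T.coeff_snd hCm F1 0 rfl hf2.symm).trans m12
  have e4 : C' 1 = -(s * Cm 2 3) := (T.coeff_snd hCm F1 1 rfl hf3.symm).trans m13
  have e5 : C₂ 0 = Cm 2 3 := T.coeff_snd hCm (by rw [hf2]; exact F₂) 0 rfl hf3.symm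
  have e6 : C₃ 0 = k'' := hsnd F₃ 0 rfl rfl
  -- the last coefficient, by transport with the Weyl element of `b`
  have e7 : C₄ 0 * k = k'' * Cm 2 3 := by
    let O := 𝟙_ (Over S)
    have hF := F₂.2.2 O 1 1
    simp only [List.ofFn_succ, List.ofFn_zero, List.prod_cons, List.prod_nil, _root_.mul_one,
      Matrix.cons_val_zero, pow_one] at hF
    have hG := F₄.2.2 O (cst O k) 1
    simp only [List.ofFn_succ, List.ofFn_zero, List.prod_cons, List.prod_nil, _root_.mul_one,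
      Matrix.cons_val_zero, pow_one] at hG
    have e := congrArg (fun g => wpt D b O * g * (wpt D b O)⁻¹) hF
    have j1 := b1 O 1
    have j2 := b3 O 1
    have j3 := b4 O (cst O (C₂ 0))
    rw [_root_.mul_one] at j1 j2
    simp only [cst, map_one, _root_.one_mul] at j2
    generalize wpt D b O = W at e j1 j2 j3
    rw [show ∀ A P : O ⟶ G, W * (A * P * A⁻¹) * W⁻¹ = (W * A * W⁻¹) * (W * P * W⁻¹) * (W * A * W⁻¹)⁻¹ from
        fun A P => by group,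
      show ∀ A P : O ⟶ G, W * (A * P) * W⁻¹ = (W * A * W⁻¹) * (W * P * W⁻¹) from fun A P => by group,
      j1, j2, j3, hG] at e
    have := rootHom_gaPt_injective _ (mul_left_cancel e)
    simp only [O, cst_one, e5] at this
    exact this
  -- multiplication in the five root groups
  let e : Fin 5 → D.idx := ![b, c₁, c₂, c₃, d]
  have r30 := fun {X : Over S} (x y : Γ(X.left, ⊤)) => F₃.one X x y
  have r21 := fun {X : Over S} (x y : Γ(X.left, ⊤)) => F₄.one X x y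
  have hmul : ∀ {X : Over S} (v₀ v₁ v₂ v₃ v₄ w₀ w₁ w₂ w₃ w₄ : Γ(X.left, ⊤)),
      five D e v₀ v₁ v₂ v₃ v₄ * five D e w₀ w₁ w₂ w₃ w₄ =
        five D e (v₀ + w₀) (v₁ + w₁) (v₂ + w₂) (v₃ + w₃)
          (v₄ + w₄ + -cst X (C₄ 0) * w₁ * v₂ + -cst X (C₃ 0) * w₀ * v₃) := by
    intro X v₀ v₁ v₂ v₃ v₄ w₀ w₁ w₂ w₃ w₄
    simp only [five, e, Matrix.cons_val]
    rw [five_mul_aux (g₀ := gaPt (-cst X (C₃ 0) * w₀ * v₃) ≫ D.u d) (g₁ := gaPt (-cst X (C₄ 0) * w₁ * v₂) ≫ D.u d)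
        (hcm d b 3 3 (by norm_num) (by norm_num) (by omega) (by rw [hd]; module) _ _) (r30 _ _)
        (hcm c₂ b 2 2 (by norm_num) (by norm_num) (by omega) (by rw [hc₂]; module) _ _)
        (hcm c₁ b 1 2 (by norm_num) (by norm_num) (by omega) (by rw [hc₁]; module) _ _)
        (hcm d c₁ 4 3 (by norm_num) (by norm_num) (by omega) (by rw [hd, hc₁]; module) _ _)
        (hcm d c₁ 4 3 (by norm_num) (by norm_num) (by omega) (by rw [hd, hc₁]; module) _ _)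
        (hcm c₃ c₁ 4 2 (by norm_num) (by norm_num) (by omega) (by rw [hc₃, hc₁]; module) _ _) (r21 _ _)
        (hcm d c₂ 5 3 (by norm_num) (by norm_num) (by omega) (by rw [hd, hc₂]; module) _ _)
        (hcm d c₃ 6 3 (by norm_num) (by norm_num) (by omega) (by rw [hd, hc₃]; module) _ _)
        (hcm d c₂ 5 3 (by norm_num) (by norm_num) (by omega) (by rw [hd, hc₂]; module) _ _)
        (hcm d c₂ 5 3 (by norm_num) (by norm_num) (by omega) (by rw [hd, hc₂]; module) _ _)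
        (hcm c₃ c₂ 5 2 (by norm_num) (by norm_num) (by omega) (by rw [hc₃, hc₂]; module) _ _)
        (hcm d c₃ 6 3 (by norm_num) (by norm_num) (by omega) (by rw [hd, hc₃]; module) _ _)
        (hcm d c₃ 6 3 (by norm_num) (by norm_num) (by omega) (by rw [hd, hc₃]; module) _ _)
        (hcm d c₃ 6 3 (by norm_num) (by norm_num) (by omega) (by rw [hd, hc₃]; module) _ _)]
    rw [← rootHom_gaPt_add, ← rootHom_gaPt_add, ← rootHom_gaPt_add, ← rootHom_gaPt_add, ← rootHom_gaPt_add,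
      ← rootHom_gaPt_add, ← rootHom_gaPt_add]
    congr 3
    ring
  have hroot5 : ∀ q : Fin 5, D.P.root (e q) =
      ((![0, 1, 2, 3, 3] q : ℕ) : ℤ) • D.P.root a + ((![1, 1, 1, 1, 2] q : ℕ) : ℤ) • D.P.root b := fun q => by
    fin_cases q <;> simp [e, hc₁, hc₂, hc₃, hd]
  obtain ⟨l, H⟩ := posSys_of_comb h (injective_of_comb h _ _ hroot5 (by decide)) _ _ (by decide) hroot5
  have hinj : ∀ {X : Over S} {v₀ v₁ v₂ v₃ v₄ w₀ w₁ w₂ w₃ w₄ : Γ(X.left, ⊤)},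
      five D e v₀ v₁ v₂ v₃ v₄ = five D e w₀ w₁ w₂ w₃ w₄ → v₄ = w₄ := by
    intro X v₀ v₁ v₂ v₃ v₄ w₀ w₁ w₂ w₃ w₄ hvw
    exact H.prod_inj (z := ![v₀, v₁, v₂, v₃, v₄]) (z' := ![w₀, w₁, w₂, w₃, w₄])
      (by rw [← five_eq, ← five_eq]; exact hvw) 4
  -- conjugation by the root group of `a`
  have hconjb : ∀ {X : Over S} (x y : Γ(X.left, ⊤)),
      (gaPt x ≫ D.u a) * (gaPt y ≫ D.u b) * (gaPt x ≫ D.u a)⁻¹ =
        five D e y (-cst X k * x * y) (cst X (s * k) * x ^ 2 * y) (cst X k' * x ^ 3 * y)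
          (cst X (C 3) * x ^ 3 * y ^ 2) := by
    intro X x y
    rw [F.2.2 X x y, prod_four]
    simp only [Matrix.cons_val, pow_one, five, e, ek, e1, e2, cst, map_neg, _root_.mul_assoc]
  have hconj₁ : ∀ {X : Over S} (x y : Γ(X.left, ⊤)),
      (gaPt x ≫ D.u a) * (gaPt y ≫ D.u c₁) * (gaPt x ≫ D.u a)⁻¹ =
        five D e 0 y (cst X (C' 0) * x * y) (cst X (C' 1) * x ^ 2 * y) (cst X (C' 2) * x * y ^ 2) := by
    intro X x y
    rw [F'.2.2 X x y, prod_three]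
    simp only [Matrix.cons_val, pow_one, five, e, rootHom_gaPt_zero, _root_.one_mul, _root_.mul_assoc]
  have hfive0 : ∀ {X : Over S} (y : Γ(X.left, ⊤)), five D e y 0 0 0 0 = gaPt y ≫ D.u b := fun y => by
    simp [five, e, rootHom_gaPt_zero]
  have hfive1 : ∀ {X : Over S} (y : Γ(X.left, ⊤)), five D e 0 y 0 0 0 = gaPt y ≫ D.u c₁ := fun y => by
    simp [five, e, rootHom_gaPt_zero]
  have hconjA : ∀ {X : Over S} (x v₀ v₁ v₂ v₃ v₄ : Γ(X.left, ⊤)),
      (gaPt x ≫ D.u a) * five D e v₀ v₁ v₂ v₃ v₄ * (gaPt x ≫ D.u a)⁻¹ =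
        five D e v₀ (-cst X k * x * v₀) (cst X (s * k) * x ^ 2 * v₀) (cst X k' * x ^ 3 * v₀)
            (cst X (C 3) * x ^ 3 * v₀ ^ 2) *
          five D e 0 v₁ (cst X (C' 0) * x * v₁) (cst X (C' 1) * x ^ 2 * v₁) (cst X (C' 2) * x * v₁ ^ 2) *
          five D e 0 0 v₂ (cst X (C₂ 0) * x * v₂) 0 * five D e 0 0 0 v₃ v₄ := by
    intro X x v₀ v₁ v₂ v₃ v₄
    have hA2 := F₂.2.2 X x v₂
    simp only [List.ofFn_succ, List.ofFn_zero, List.prod_cons, List.prod_nil, _root_.mul_one,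
      Matrix.cons_val_zero, pow_one] at hA2
    have hA3 := hcm a c₃ 4 1 (by norm_num) (by norm_num) (by omega) (by rw [hc₃]; module) x v₃
    have hA4 := hcm a d 4 2 (by norm_num) (by norm_num) (by omega) (by rw [hd]; module) x v₄
    rw [← hconjb, ← hconj₁]
    simp only [five, e, Matrix.cons_val, rootHom_gaPt_zero, _root_.one_mul, _root_.mul_one]
    rw [← hA2]
    generalize gaPt x ≫ D.u a = A at hA3 hA4 ⊢
    generalize gaPt v₃ ≫ D.u c₃ = V₃ at hA3 ⊢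
    generalize gaPt v₄ ≫ D.u d = V₄ at hA4 ⊢
    calc A * ((gaPt v₀ ≫ D.u b) * (gaPt v₁ ≫ D.u c₁) * (gaPt v₂ ≫ D.u c₂) * V₃ * V₄) * A⁻¹
        = A * (gaPt v₀ ≫ D.u b) * A⁻¹ * (A * (gaPt v₁ ≫ D.u c₁) * A⁻¹) * (A * (gaPt v₂ ≫ D.u c₂) * A⁻¹) *
            ((A * V₃) * A⁻¹ * (A * V₄) * A⁻¹) := by group
      _ = _ := by rw [hA3, hA4]; group
  have h2C : 2 * C 3 = -(C₃ 0 * k') + C₄ 0 * k * (s * k) := by
    let O := 𝟙_ (Over S)
    have e := hconjb (X := O) 1 (1 + 1)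
    rw [rootHom_gaPt_add, ← conj_mul, hconjb, hmul] at e
    have := hinj e
    simp only [O, cst_one, one_pow, _root_.mul_one] at this
    linear_combination -this
  have h3C : ∀ (X : Over S) (δ : Γ(X.left, ⊤)), δ * δ = 0 →
      cst X (3 * C 3 - C₄ 0 * k * (s * k)) * δ = 0 ∧ cst X (3 * C 3 - C' 2 * k * k) * δ = 0 := by
    intro X δ hδ
    have hsplit : ∀ (u v : Γ(X.left, ⊤)), (gaPt (u + v) ≫ D.u a) * (gaPt 1 ≫ D.u b) * (gaPt (u + v) ≫ D.u a)⁻¹ =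
        (gaPt u ≫ D.u a) * ((gaPt v ≫ D.u a) * (gaPt 1 ≫ D.u b) * (gaPt v ≫ D.u a)⁻¹) * (gaPt u ≫ D.u a)⁻¹ :=
      fun u v => by rw [rootHom_gaPt_add]; group
    have hd2 : δ ^ 2 = 0 := by rw [pow_two, hδ]
    have hd3 : δ ^ 3 = 0 := by rw [pow_succ, hd2, zero_mul]
    refine ⟨?_, ?_⟩
    · have e := hsplit 1 δ
      rw [hconjb, hconjb, hconjA, hmul, hmul, hmul] at e
      have := hinj e
      simp only [cst, map_mul, map_sub, map_neg, map_ofNat, one_pow, _root_.mul_one, _root_.one_mul, mul_zero,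
        zero_mul, hd2, hd3, add_zero, zero_add] at this ⊢
      have hd' : (1 + δ) ^ 3 = 1 + 3 * δ := by linear_combination 3 * hd2 + hd3
      linear_combination this - X.hom.appTop (C 3) * hd' +
        X.hom.appTop (C' 2) * (X.hom.appTop (k : Γ(S, ⊤))) ^ 2 * hd2
    · have e := hsplit δ 1
      rw [hconjb, hconjb, hconjA, hmul, hmul, hmul] at e
      have := hinj e
      simp only [cst, map_mul, map_sub, map_neg, map_ofNat, one_pow, _root_.mul_one, _root_.one_mul, mul_zero,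
        zero_mul, hd2, hd3, add_zero, zero_add] at this ⊢
      have hd' : (δ + 1) ^ 3 = 1 + 3 * δ := by linear_combination 3 * hd2 + hd3
      linear_combination this - X.hom.appTop (C 3) * hd'
  have u1 := eq_zero_of_delta _ fun X δ hδ => (h3C X δ hδ).1
  have u2 := eq_zero_of_delta _ fun X δ hδ => (h3C X δ hδ).2
  have eC : C 3 = k'' * k' := by
    rw [e6] at h2C
    linear_combination u1 - h2C
  have eC' : C' 2 * k * k = 3 * (k'' * k') := by
    linear_combination -u2 + 3 * eC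
  refine ⟨c₁, c₂, c₃, d, k, k', k'', s, ⟨rfl, rfl, D.P.root.injective (by
    rw [RootPairing.root_reflectionPerm, RootPairing.reflection_apply_root,
      coroot_pairing_comb (p := 2) (q := 1) (a := a) (b := b) (by rw [hc₂, one_smul]) b, hab,
      RootPairing.pairing_same]; norm_num), rfl, rfl, D.P.root.injective (by
    rw [RootPairing.root_reflectionPerm, RootPairing.reflection_apply_root,
      coroot_pairing_comb (p := 3) (q := 2) (a := a) (b := b) hd a, hba,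
      RootPairing.pairing_same]; norm_num)⟩, ⟨b1, b2, b3, b4, b5⟩, ⟨a1, a2, a3, a4, a5⟩, fun X x y => ?_⟩
  have E23 := congrArg (cst X) e23
  have E7 := congrArg (cst X) e7
  have EC' := congrArg (cst X) eC'
  simp only [cst, map_mul, map_ofNat] at E23 E7 EC'
  refine ⟨?_, ?_, ?_, ?_, ?_⟩
  · have hF := F.2.2 X (-x) y
    rw [rootHom_gaPt_neg, _root_.inv_inv, prod_four] at hF
    simp only [Matrix.cons_val, pow_one, ek, e1, e2, eC] at hF
    rw [_root_.mul_assoc, inv_mul_eq_iff_eq_mul] at hF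
    rw [hF]
    simp only [cst, map_neg, map_mul, neg_mul, mul_neg, neg_neg, neg_sq, neg_pow x 3]
    simp only [show (-1 : Γ(X.left, ⊤)) ^ 3 = -1 by ring, neg_mul, mul_neg, _root_.one_mul, _root_.mul_assoc]
  · have hF := F'.2.2 X (-x) (cst X k * y)
    rw [rootHom_gaPt_neg, _root_.inv_inv, prod_three] at hF
    simp only [Matrix.cons_val, pow_one, e3, e4] at hF
    rw [_root_.mul_assoc, inv_mul_eq_iff_eq_mul] at hF
    rw [hF]
    simp only [← _root_.mul_assoc]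
    simp only [cst, map_neg, map_mul, map_ofNat]
    refine congr_arg₂ (· * ·) (congr_arg₂ (· * ·) (congrArg _ ?_) ?_) ?_ <;>
      refine congrArg (fun r => gaPt r ≫ _) ?_
    · ring
    · linear_combination (-(x ^ 2 * y)) * E23
    · linear_combination (-(x * y ^ 2)) * EC'
  · rw [F₂.one X x (cst X (s * k) * y), e5]
    congr 3
    simp only [cst, map_mul]
    linear_combination (-(x * y)) * E23
  · rw [F₃.one X x (-cst X k' * y), e6]
    congr 3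
    simp only [cst, map_mul]
    ring
  · rw [F₄.one X (cst X k * x) (cst X (s * k) * y)]
    congr 3
    simp only [cst, map_mul]
    linear_combination (-(x * y * X.hom.appTop (s : Γ(S, ⊤)) * X.hom.appTop (k : Γ(S, ⊤)))) * E7 -
      (x * y * X.hom.appTop (k'' : Γ(S, ⊤))) * E23

end Groth.Agent.RedPts82
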