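import Groth.Agent.RedPts82.IsoRoots
import Groth.Agent.RedPts82.PinnedG2

/-!
The commutation relations of the root pairs in the span of two simple roots.
-/

universe u

open CategoryTheory MonoidalCategory CartesianMonoidalCategory MonObj GrpObj AlgebraicGeometry

namespace Groth.Agent.RedPts82

variable {S : Scheme.{u}} {G G' : Over S} [GrpObj G] [GrpObj G']

/-- The roots in the positive span of two roots. -/
def span2 {G₁ : Over S} [GrpObj G₁] (D₁ : Red.SplitRed G₁) (a c : D₁.idx) : Set D₁.idx :=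
  {j | ∃ i k : ℕ, D₁.P.root j = (i : ℤ) • D₁.P.root a + (k : ℤ) • D₁.P.root c}

section Combs

variable {D : Red.SplitRed G} (b : D.P.Base) {a c : D.idx} (ha : a ∈ b.support) (hc : c ∈ b.support)
  (hne : a ≠ c)
include b ha hc hne

/-- The coefficients of the roots in the span of two simple roots. -/
def Combs (a c : D.idx) (L : List (ℕ × ℕ)) : Prop :=
  ∀ (j : D.idx) (i k : ℕ), D.P.root j = (i : ℤ) • D.P.root a + (k : ℤ) • D.P.root c → (i, k) ∈ L

theorem combs_of_hall {L : List (ℕ × ℕ)} (h10 : (1, 0) ∈ L) (h01 : (0, 1) ∈ L)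
    (h : ∀ (j : D.idx) (i k : ℕ), 1 ≤ i → 1 ≤ k →
      D.P.root j = (i : ℤ) • D.P.root a + (k : ℤ) • D.P.root c → (i, k) ∈ L) : Combs a c L := by
  intro j i k hj
  rcases Nat.eq_zero_or_pos i with rfl | hi <;> rcases Nat.eq_zero_or_pos k with rfl | hk
  · exact absurd (by simpa using hj) (D.P.ne_zero j)
  · obtain ⟨-, e⟩ := PMor.root_pos_smul_q b one_pos hk (c := j) (e := c)
      (by rw [Nat.cast_one, one_smul, hj]; simp)
    exact e ▸ h01
  · obtain ⟨-, e⟩ := PMor.root_pos_smul_q b one_pos hi (c := j) (e := a)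
      (by rw [Nat.cast_one, one_smul, hj]; simp)
    exact e ▸ h10
  · exact h j i k hi hk hj

theorem combs_A1 (hca : D.P.pairing c a = 0) (hac : D.P.pairing a c = 0) :
    Combs a c [(1, 0), (0, 1)] := by
  refine combs_of_hall b ha hc hne (by simp) (by simp) fun j i k hi hk hj => ?_
  have h := indep_of_simple b ha hc hne
  obtain ⟨s, t, -, h2, h3⟩ := h.string
  obtain ⟨s', t', -, h2', h3'⟩ := h.symm.string
  have hs : s = 0 := by
    by_contra hne'
    exact b.sub_notMem_range_root hc ha (by convert (h3 (-1)).mpr ⟨by omega, by omega⟩ using 1; module)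
  have hs' : s' = 0 := by
    by_contra hne'
    exact b.sub_notMem_range_root ha hc (by convert (h3' (-1)).mpr ⟨by omega, by omega⟩ using 1; module)
  obtain ⟨rfl, rfl⟩ := hall_sum h (fun hh => by have := (h3 2).mp hh; omega)
    (fun hh => by have := (h3' 2).mp hh; omega) j hi hk hj
  have := (h3 1).mp ⟨j, by rw [hj]; module⟩
  omega

theorem combs_A2 (hca : D.P.pairing c a = -1) (hac : D.P.pairing a c = -1) :
    Combs a c [(1, 0), (0, 1), (1, 1)] := by
  refine combs_of_hall b ha hc hne (by simp) (by simp) fun j i k hi hk hj => ?_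
  have h := indep_of_simple b ha hc hne
  obtain ⟨s, t, -, h2, h3⟩ := h.string
  obtain ⟨s', t', -, h2', h3'⟩ := h.symm.string
  have hs : s = 0 := by
    by_contra hne'
    exact b.sub_notMem_range_root hc ha (by convert (h3 (-1)).mpr ⟨by omega, by omega⟩ using 1; module)
  have hs' : s' = 0 := by
    by_contra hne'
    exact b.sub_notMem_range_root ha hc (by convert (h3' (-1)).mpr ⟨by omega, by omega⟩ using 1; module)
  obtain ⟨rfl, rfl⟩ := hall_sum h (fun hh => by have := (h3 2).mp hh; omega)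
    (fun hh => by have := (h3' 2).mp hh; omega) j hi hk hj
  simp

theorem combs_B2 (hca : D.P.pairing c a = -2) (hac : D.P.pairing a c = -1) :
    Combs a c [(1, 0), (0, 1), (1, 1), (2, 1)] := by
  refine combs_of_hall b ha hc hne (by simp) (by simp) fun j i k hi hk hj => ?_
  have h := indep_of_simple b ha hc hne
  rcases hall_B2 h hca hac j hi hk hj with ⟨rfl, rfl⟩ | ⟨rfl, rfl⟩ | ⟨rfl, rfl⟩
  · simp
  · simp
  · exfalso
    obtain ⟨-, e⟩ := PMor.root_pos_smul_q b one_pos two_pos (c := j) (e := D.P.reflectionPerm c a) (by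
      rw [hj, RootPairing.root_reflectionPerm, RootPairing.reflection_apply_root, hac]
      module)
    omega

theorem combs_G2 (hca : D.P.pairing c a = -3) (hac : D.P.pairing a c = -1) :
    Combs a c [(1, 0), (0, 1), (1, 1), (2, 1), (3, 1), (3, 2)] := by
  refine combs_of_hall b ha hc hne (by simp) (by simp) fun j i k hi hk hj => ?_
  have h := indep_of_simple b ha hc hne
  rcases hall_G2 h hca hac j hi hk hj with ⟨rfl, rfl⟩ | ⟨rfl, rfl⟩ | ⟨rfl, rfl⟩ | ⟨rfl, rfl⟩ <;> simp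

omit b ha hc hne in
theorem not_root_sum {L : List (ℕ × ℕ)} (hL : Combs a c L) {x y : D.idx} {p q p' q' : ℕ}
    (hx : D.P.root x = (p : ℤ) • D.P.root a + (q : ℤ) • D.P.root c)
    (hy : D.P.root y = (p' : ℤ) • D.P.root a + (q' : ℤ) • D.P.root c)
    (hn : (p + p', q + q') ∉ L) : D.P.root x + D.P.root y ∉ Set.range D.P.root := by
  rintro ⟨j, hj⟩
  exact hn (hL j (p + p') (q + q') (by rw [hj, hx, hy]; push_cast; module))

omit ha hc hne in
theorem ne_negIdx_of_span {a c x y : D.idx} (h : Indep D.P a c) (hx : x ∈ span2 D a c)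
    (hy : y ∈ span2 D a c) : y ≠ negIdx D x := by
  rintro rfl
  obtain ⟨i, k, hi⟩ := hx
  obtain ⟨i', k', hi'⟩ := hy
  rw [root_negIdx, hi] at hi'
  have := h.coeff_eq (p := (i : ℤ) + i') (q := (k : ℤ) + k') (p' := 0) (q' := 0) (by
    rw [add_smul, add_smul, add_add_add_comm, ← hi', add_neg_cancel, zero_smul, zero_smul, add_zero])
  refine D.P.ne_zero x ?_
  rw [hi, show (i : ℤ) = 0 by omega, show (k : ℤ) = 0 by omega, zero_smul, zero_smul, add_zero]

end Combs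

variable {D : Red.SplitRed G} {D' : Red.SplitRed G'} {b : D.P.Base} {b' : D'.P.Base}
  (E : IsoSetup D D' b b')

namespace IsoSetup

theorem rpF_cst (e : D.idx) {k k₀ : Γ(S, ⊤)} (h : (E.κ e : Γ(S, ⊤)) * k ^ E.F.q e = k₀)
    {X : Over S} (r : Γ(X.left, ⊤)) :
    E.rpF e (cst X k * r) = rp D' (E.F.d e) (cst X k₀ * r ^ E.F.q e) := by
  rw [rpF, mul_pow, ← _root_.mul_assoc, ← h, cst, cst, cst, map_mul, map_pow]

theorem κ_value {x e e' : D.idx} (hx : x ∈ b.support) (he : D.P.reflectionPerm x e = e')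
    {k k' : Γ(S, ⊤)ˣ} (h : Carries D x e e' k) (h' : Carries D' (E.F.d x) (E.F.d e) (E.F.d e') k') :
    (E.κ e' : Γ(S, ⊤)) * (k : Γ(S, ⊤)) ^ E.F.q e = k' * E.κ e := by
  rw [← Units.val_pow_eq_pow_val, ← Units.val_mul, ← Units.val_mul]
  congr 1
  rw [← he, ← E.κ_step x hx e, E.F.edge_eq E.hd E.hd' hx he h h', PMor.ratio, mul_right_comm,
    inv_mul_cancel_right]

theorem ofNat_pow_q (e : D.idx) {X : Over S} (n : ℕ) [n.AtLeastTwo] :
    (OfNat.ofNat n : Γ(X.left, ⊤)) ^ E.F.q e = OfNat.ofNat n :=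
  map_ofNat (E.F.pw e X) n

theorem neg_pow_q (e : D.idx) {X : Over S} (r : Γ(X.left, ⊤)) :
    (-r) ^ E.F.q e = -(r ^ E.F.q e) :=
  map_neg (E.F.pw e X) r

theorem natCast_zero_X {n : ℕ} (h : (n : Γ(S, ⊤)) = 0) (X : Over S) : (n : Γ(X.left, ⊤)) = 0 := by
  rw [← map_natCast X.hom.appTop.hom n, h, map_zero]

theorem rel_of_comm' {x y : D.idx}
    (h : ∀ (X : Over S) (r s : Γ(X.left, ⊤)), rp D y s * rp D x r = rp D x r * rp D y s)
    (h' : ∀ (X : Over S) (r s : Γ(X.left, ⊤)),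
      rp D' (E.F.d y) s * rp D' (E.F.d x) r = rp D' (E.F.d x) r * rp D' (E.F.d y) s) : E.Rel x y :=
  E.rel_of_formula fun X r s => ⟨1, one_mem _, by
    rw [_root_.mul_one]; exact Prod.ext (h X r s) (h' X _ _)⟩

theorem rel_of_scaled {x y : D.idx} (k : Γ(S, ⊤)ˣ)
    (h : ∀ (X : Over S) (r s : Γ(X.left, ⊤)), ∃ g ∈ E.GR (btw D x y) X,
      E.P y (cst X (k : Γ(S, ⊤)) * s) * E.P x r = E.P x r * E.P y (cst X (k : Γ(S, ⊤)) * s) * g) :
    E.Rel x y := E.rel_of_formula fun X r s => by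
  have e : s = cst X (k : Γ(S, ⊤)) * (cst X ((k⁻¹ : Γ(S, ⊤)ˣ) : Γ(S, ⊤)) * s) := by
    rw [← _root_.mul_assoc, cst, cst, ← map_mul, Units.mul_inv, map_one, _root_.one_mul]
  rw [e]
  exact h X r _

theorem swap_of {Gr : Type*} [Group Gr] {A B Z : Gr} (h : B * A = A * B * Z) : A * B = B * A * Z⁻¹ := by
  rw [h]; group

theorem scaled_comm {G₁ : Over S} [GrpObj G₁] {D₁ : Red.SplitRed G₁} {x y : D₁.idx} (k : Γ(S, ⊤)ˣ)
    (h : ∀ (X : Over S) (r s : Γ(X.left, ⊤)),
      rp D₁ y (cst X (k : Γ(S, ⊤)) * s) * rp D₁ x r = rp D₁ x r * rp D₁ y (cst X (k : Γ(S, ⊤)) * s))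
    (X : Over S) (r s : Γ(X.left, ⊤)) : rp D₁ y s * rp D₁ x r = rp D₁ x r * rp D₁ y s := by
  have e : s = cst X (k : Γ(S, ⊤)) * (cst X ((k⁻¹ : Γ(S, ⊤)ˣ) : Γ(S, ⊤)) * s) := by
    rw [← _root_.mul_assoc, cst, cst, ← map_mul, Units.mul_inv, map_one, _root_.one_mul]
  rw [e]
  exact h X r _

theorem comm_pt {G₁ : Over S} [GrpObj G₁] {D₁ : Red.SplitRed G₁} (b₁ : D₁.P.Base) {a₁ c₁ : D₁.idx}
    (ha₁ : a₁ ∈ b₁.support) (hc₁ : c₁ ∈ b₁.support) (hne₁ : a₁ ≠ c₁) {L : List (ℕ × ℕ)}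
    (hL : Combs a₁ c₁ L) {x y : D₁.idx} {p q p' q' : ℕ}
    (hx : D₁.P.root x = (p : ℤ) • D₁.P.root a₁ + (q : ℤ) • D₁.P.root c₁)
    (hy : D₁.P.root y = (p' : ℤ) • D₁.P.root a₁ + (q' : ℤ) • D₁.P.root c₁)
    (hn : (p + p', q + q') ∉ L) (X : Over S) (r s : Γ(X.left, ⊤)) :
    rp D₁ y s * rp D₁ x r = rp D₁ x r * rp D₁ y s := by
  refine (root_comm D₁ x y (fun h0 => ?_) (not_root_sum hL hx hy hn) (gaPt r) (gaPt s)).symm
  exact ne_negIdx_of_span b₁ (indep_of_simple b₁ ha₁ hc₁ hne₁) ⟨p, q, hx⟩ ⟨p', q', hy⟩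
    (D₁.P.root.injective (by rw [root_negIdx]; exact eq_neg_of_add_eq_zero_right h0))

variable {a c : D.idx} (ha : a ∈ b.support) (hc : c ∈ b.support) (hne : a ≠ c)
include ha hc hne

theorem rel_A1 (hca : D.P.pairing c a = 0) (hac : D.P.pairing a c = 0) :
    ∀ x ∈ span2 D a c, ∀ y ∈ span2 D a c, E.Rel x y := by
  have hne' : E.F.d a ≠ E.F.d c := fun e => hne (E.F.d.injective e)
  have h := combs_A1 b ha hc hne hca hac
  have h' := combs_A1 b' (E.F.simple' ha) (E.F.simple' hc) hne' (E.F.image_zero hca) (E.F.image_zero hac)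
  have hac' : E.Rel a c := E.rel_of_comm'
    (comm_pt b ha hc hne h (p := 1) (q := 0) (p' := 0) (q' := 1) (by simp) (by simp) (by simp))
    (comm_pt b' (E.F.simple' ha) (E.F.simple' hc) hne' h' (p := 1) (q := 0) (p' := 0) (q' := 1)
      (by simp) (by simp) (by simp))
  have key : ∀ x ∈ span2 D a c, x = a ∨ x = c := by
    rintro x ⟨i, k, hx⟩
    have := h x i k hx
    simp only [List.mem_cons, Prod.mk.injEq, List.not_mem_nil, or_false] at this
    rcases this with ⟨rfl, rfl⟩ | ⟨rfl, rfl⟩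
    · exact Or.inl (D.P.root.injective (by simpa using hx))
    · exact Or.inr (D.P.root.injective (by simpa using hx))
  intro x hx y hy
  rcases key x hx with rfl | rfl <;> rcases key y hy with rfl | rfl <;>
    first | exact E.rel_self _ | exact hac' | exact hac'.symm

theorem rel_A2 (hca : D.P.pairing c a = -1) (hac : D.P.pairing a c = -1) :
    ∀ x ∈ span2 D a c, ∀ y ∈ span2 D a c, E.Rel x y := by
  have hne' : E.F.d a ≠ E.F.d c := fun e => hne (E.F.d.injective e)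
  obtain ⟨h1, h2, hq⟩ : D'.P.pairing (E.F.d c) (E.F.d a) = -1 ∧ D'.P.pairing (E.F.d a) (E.F.d c) = -1 ∧
      E.F.q a = E.F.q c := by
    rcases E.F.simple_image (m := 1) (n := 1) one_pos one_pos (by exact_mod_cast hca)
      (by exact_mod_cast hac) (Or.inr rfl) rfl with ⟨p1, p2, p3⟩ | ⟨p1, p2, p3⟩
    · exact ⟨by exact_mod_cast p1, p2, p3⟩
    · exact ⟨p1, by exact_mod_cast p2, by rw [p3, Nat.one_mul]⟩
  obtain ⟨e, k, ⟨r1, r2⟩, q1, -, -, -, f1⟩ := pinned_A2 b ha hc hne (E.hd a ha) (E.hd c hc) hca hac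
  obtain ⟨e', k', ⟨r1', r2'⟩, q1', -, -, -, f1'⟩ := pinned_A2 b' (E.F.simple' ha) (E.F.simple' hc) hne'
    (E.hd' _ (E.F.simple' ha)) (E.hd' _ (E.F.simple' hc)) h1 h2
  have de : E.F.d e = e' := by rw [← r1, E.F.d_refl, r1']
  have qe : E.F.q e = E.F.q a := by rw [← r1, E.F.q_refl]
  have he : D.P.root e = ((1 : ℕ) : ℤ) • D.P.root a + ((1 : ℕ) : ℤ) • D.P.root c := by
    rw [← r1, RootPairing.root_reflectionPerm, RootPairing.reflection_apply_root, hac]; module
  have he' : D'.P.root (E.F.d e) =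
      ((1 : ℕ) : ℤ) • D'.P.root (E.F.d a) + ((1 : ℕ) : ℤ) • D'.P.root (E.F.d c) := by
    rw [de, ← r1', RootPairing.root_reflectionPerm, RootPairing.reflection_apply_root, h2]; module
  rw [← de] at q1' f1'
  have v1 : (E.κ e : Γ(S, ⊤)) * (k : Γ(S, ⊤)) ^ E.F.q e = k' := by
    rw [qe, E.κ_value hc r1 q1 q1', E.κ_simple a ha, Units.val_one, _root_.mul_one]
  have rac : E.Rel a c := E.rel_of_formula fun X x y =>
    ⟨_, E.P_mem (show e ∈ btw D a c from ⟨1, 1, le_rfl, le_rfl, he⟩) (cst X (k : Γ(S, ⊤)) * (x * y)), Prod.ext (f1 X x y) (by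
      show E.rpF c y * E.rpF a x = E.rpF a x * E.rpF c y * E.rpF e _
      rw [E.rpF_cst e v1, E.rpF_simple ha, E.rpF_simple hc, mul_pow, qe, ← hq]
      exact f1' X _ _)⟩
  have h := combs_A2 b ha hc hne hca hac
  have h' := combs_A2 b' (E.F.simple' ha) (E.F.simple' hc) hne' h1 h2
  have rae : E.Rel a e := E.rel_of_comm'
    (comm_pt b ha hc hne h (p := 1) (q := 0) (by simp) he (by simp))
    (comm_pt b' (E.F.simple' ha) (E.F.simple' hc) hne' h' (p := 1) (q := 0) (by simp) he' (by simp))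
  have rce : E.Rel c e := E.rel_of_comm'
    (comm_pt b ha hc hne h (p := 0) (q := 1) (by simp) he (by simp))
    (comm_pt b' (E.F.simple' ha) (E.F.simple' hc) hne' h' (p := 0) (q := 1) (by simp) he' (by simp))
  have key : ∀ x ∈ span2 D a c, x = a ∨ x = c ∨ x = e := by
    rintro x ⟨i, l, hx⟩
    have := h x i l hx
    simp only [List.mem_cons, Prod.mk.injEq, List.not_mem_nil, or_false] at this
    rcases this with ⟨rfl, rfl⟩ | ⟨rfl, rfl⟩ | ⟨rfl, rfl⟩
    · exact Or.inl (D.P.root.injective (by simpa using hx))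
    · exact Or.inr (Or.inl (D.P.root.injective (by simpa using hx)))
    · exact Or.inr (Or.inr (D.P.root.injective (hx.trans he.symm)))
  intro x hx y hy
  rcases key x hx with rfl | rfl | rfl <;> rcases key y hy with rfl | rfl | rfl <;>
    first
    | exact E.rel_self _
    | assumption
    | exact Rel.symm E (by assumption)

theorem rel_B2 (hca : D.P.pairing c a = -2) (hac : D.P.pairing a c = -1) :
    ∀ x ∈ span2 D a c, ∀ y ∈ span2 D a c, E.Rel x y := by
  have hne' : E.F.d a ≠ E.F.d c := fun e => hne (E.F.d.injective e)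
  have ha' := E.F.simple' ha
  have hc' := E.F.simple' hc
  obtain ⟨c₁, c₂, k, k', ⟨r1, r2, r3, r4⟩, q1, -, -, q3, -, -, f1, f2⟩ :=
    pinned_B2 b ha hc hne (E.hd a ha) (E.hd c hc) hca hac
  have h := combs_B2 b ha hc hne hca hac
  have he₁ : D.P.root c₁ = ((1 : ℕ) : ℤ) • D.P.root a + ((1 : ℕ) : ℤ) • D.P.root c := by
    rw [← r1, RootPairing.root_reflectionPerm, RootPairing.reflection_apply_root, hac]; module
  have he₂ : D.P.root c₂ = ((2 : ℕ) : ℤ) • D.P.root a + ((1 : ℕ) : ℤ) • D.P.root c := by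
    rw [← r3, RootPairing.root_reflectionPerm, RootPairing.reflection_apply_root, hca]; module
  have b11 : c₁ ∈ btw D a c := ⟨1, 1, le_rfl, le_rfl, he₁⟩
  have b21 : c₂ ∈ btw D a c := ⟨2, 1, by omega, le_rfl, he₂⟩
  have qc₁ : E.F.q c₁ = E.F.q a := by rw [← r1, E.F.q_refl]
  have qc₂ : E.F.q c₂ = E.F.q c := by rw [← r3, E.F.q_refl]
  obtain ⟨rac, rac1, raq, rcc1, rcc2, r12⟩ : E.Rel a c ∧ E.Rel a c₁ ∧ E.Rel a c₂ ∧ E.Rel c c₁ ∧
      E.Rel c c₂ ∧ E.Rel c₁ c₂ := by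
    rcases E.F.simple_image (m := 2) (n := 1) two_pos one_pos (by exact_mod_cast hca)
      (by exact_mod_cast hac) (Or.inl Nat.prime_two) rfl with ⟨p1, p2, hq⟩ | ⟨p1, p2, hq⟩
    · obtain ⟨C₁, C₂, m, m', ⟨s1, s2, s3, s4⟩, g1, -, -, g3, -, -, F1, F2⟩ :=
        pinned_B2 b' ha' hc' hne' (E.hd' _ ha') (E.hd' _ hc') (by exact_mod_cast p1) p2
      have d1 : E.F.d c₁ = C₁ := by rw [← r1, E.F.d_refl, s1]
      have d2 : E.F.d c₂ = C₂ := by rw [← r3, E.F.d_refl, s3]
      rw [← d1] at g1 F1 F2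
      rw [← d2] at g3 F1 F2
      have h' := combs_B2 b' ha' hc' hne' (by exact_mod_cast p1) p2
      have he₁' : D'.P.root (E.F.d c₁) =
          ((1 : ℕ) : ℤ) • D'.P.root (E.F.d a) + ((1 : ℕ) : ℤ) • D'.P.root (E.F.d c) := by
        rw [d1, ← s1, RootPairing.root_reflectionPerm, RootPairing.reflection_apply_root, p2]; module
      have he₂' : D'.P.root (E.F.d c₂) =
          ((2 : ℕ) : ℤ) • D'.P.root (E.F.d a) + ((1 : ℕ) : ℤ) • D'.P.root (E.F.d c) := by
        rw [d2, ← s3, RootPairing.root_reflectionPerm, RootPairing.reflection_apply_root, p1]; module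
      have v1 : (E.κ c₁ : Γ(S, ⊤)) * (k : Γ(S, ⊤)) ^ E.F.q c₁ = m := by
        rw [qc₁, E.κ_value hc r1 q1 g1, E.κ_simple a ha, Units.val_one, _root_.mul_one]
      have v2 : (E.κ c₂ : Γ(S, ⊤)) * (k' : Γ(S, ⊤)) ^ E.F.q c₂ = m' := by
        rw [qc₂, E.κ_value ha r3 q3 g3, E.κ_simple c hc, Units.val_one, _root_.mul_one]
      refine ⟨E.rel_of_formula fun X x y => ⟨_, mul_mem (E.P_mem b11 (cst X (k : Γ(S, ⊤)) * (x * y)))
          (E.P_mem b21 (cst X (k' : Γ(S, ⊤)) * (x ^ 2 * y))), Prod.ext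
            ((f1 X x y).trans (_root_.mul_assoc _ _ _)) ?_⟩,
        E.rel_of_scaled k fun X x y => ⟨_, E.P_mem (show c₂ ∈ btw D a c₁ from ⟨1, 1, le_rfl, le_rfl, by rw [he₂, he₁]; module⟩)
          (cst X (k' : Γ(S, ⊤)) * (2 * x * y)), Prod.ext (f2 X x y) ?_⟩,
        E.rel_of_comm' (comm_pt b ha hc hne h (p := 1) (q := 0) (by simp) he₂ (by simp))
          (comm_pt b' ha' hc' hne' h' (p := 1) (q := 0) (by simp) he₂' (by simp)),
        E.rel_of_comm' (comm_pt b ha hc hne h (p := 0) (q := 1) (by simp) he₁ (by simp))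
          (comm_pt b' ha' hc' hne' h' (p := 0) (q := 1) (by simp) he₁' (by simp)),
        E.rel_of_comm' (comm_pt b ha hc hne h (p := 0) (q := 1) (by simp) he₂ (by simp))
          (comm_pt b' ha' hc' hne' h' (p := 0) (q := 1) (by simp) he₂' (by simp)),
        E.rel_of_comm' (comm_pt b ha hc hne h he₁ he₂ (by simp))
          (comm_pt b' ha' hc' hne' h' he₁' he₂' (by simp))⟩
      · show E.rpF c y * E.rpF a x = E.rpF a x * E.rpF c y * (E.rpF c₁ _ * E.rpF c₂ _)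
        rw [E.rpF_cst c₁ v1, E.rpF_cst c₂ v2, E.rpF_simple ha, E.rpF_simple hc, qc₁, qc₂, ← hq,
          mul_pow, mul_pow, pow_right_comm]
        exact (F1 X _ _).trans (_root_.mul_assoc _ _ _)
      · show E.rpF c₁ _ * E.rpF a x = E.rpF a x * E.rpF c₁ _ * E.rpF c₂ _
        rw [E.rpF_cst c₁ v1, E.rpF_cst c₂ v2, E.rpF_simple ha, qc₁, qc₂, ← hq, mul_pow, mul_pow,
          E.ofNat_pow_q]
        exact F2 X _ _
    · -- the exceptional isogeny in characteristic two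
      obtain ⟨C₁, C₂, m, m', ⟨s1, s2, s3, s4⟩, g1, -, -, g3, -, -, F1, F2⟩ :=
        pinned_B2 b' hc' ha' hne'.symm (E.hd' _ hc') (E.hd' _ ha') (by exact_mod_cast p2) p1
      have d1 : E.F.d c₁ = C₂ := by rw [← r1, E.F.d_refl, s3]
      have d2 : E.F.d c₂ = C₁ := by rw [← r3, E.F.d_refl, s1]
      rw [← d2] at g1 F1 F2
      rw [← d1] at g3 F1 F2
      have h2 : ∀ X : Over S, (2 : Γ(X.left, ⊤)) = 0 := fun X => by
        have := natCast_zero_X (E.F.natCast_eq_zero le_rfl Nat.prime_two hq) X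
        push_cast at this
        exact this
      have h' := combs_B2 b' hc' ha' hne'.symm (by exact_mod_cast p2) p1
      have he₂' : D'.P.root (E.F.d c₂) =
          ((1 : ℕ) : ℤ) • D'.P.root (E.F.d c) + ((1 : ℕ) : ℤ) • D'.P.root (E.F.d a) := by
        rw [d2, ← s1, RootPairing.root_reflectionPerm, RootPairing.reflection_apply_root, p1]; module
      have he₁' : D'.P.root (E.F.d c₁) =
          ((2 : ℕ) : ℤ) • D'.P.root (E.F.d c) + ((1 : ℕ) : ℤ) • D'.P.root (E.F.d a) := by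
        rw [d1, ← s3, RootPairing.root_reflectionPerm, RootPairing.reflection_apply_root, p2]; module
      have v1 : (E.κ c₁ : Γ(S, ⊤)) * (k : Γ(S, ⊤)) ^ E.F.q c₁ = m' := by
        rw [qc₁, E.κ_value hc r1 q1 g3, E.κ_simple a ha, Units.val_one, _root_.mul_one]
      have v2 : (E.κ c₂ : Γ(S, ⊤)) * (k' : Γ(S, ⊤)) ^ E.F.q c₂ = m := by
        rw [qc₂, E.κ_value ha r3 q3 g1, E.κ_simple c hc, Units.val_one, _root_.mul_one]
      have hneg : ∀ (X : Over S) (r : Γ(X.left, ⊤)), -r = r := fun X r => by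
        linear_combination -r * h2 X
      refine ⟨E.rel_of_formula fun X x y => ⟨_, mul_mem (E.P_mem b11 (cst X (k : Γ(S, ⊤)) * (x * y)))
          (E.P_mem b21 (cst X (k' : Γ(S, ⊤)) * (x ^ 2 * y))), Prod.ext
            ((f1 X x y).trans (_root_.mul_assoc _ _ _)) ?_⟩,
        E.rel_of_comm' (scaled_comm k fun X x y => by
            have e := f2 X x y
            rw [h2, zero_mul, zero_mul, mul_zero, rootHom_gaPt_zero, _root_.mul_one] at e
            exact e)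
          (comm_pt b' hc' ha' hne'.symm h' (p := 0) (q := 1) (by simp) he₁' (by simp)),
        E.rel_of_comm' (comm_pt b ha hc hne h (p := 1) (q := 0) (by simp) he₂ (by simp))
          (comm_pt b' hc' ha' hne'.symm h' (p := 0) (q := 1) (by simp) he₂' (by simp)),
        E.rel_of_comm' (comm_pt b ha hc hne h (p := 0) (q := 1) (by simp) he₁ (by simp))
          (comm_pt b' hc' ha' hne'.symm h' (p := 1) (q := 0) (by simp) he₁' (by simp)),
        E.rel_of_comm' (comm_pt b ha hc hne h (p := 0) (q := 1) (by simp) he₂ (by simp))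
          (scaled_comm m fun X x y => by
            have e := F2 X x y
            rw [h2, zero_mul, zero_mul, mul_zero, rootHom_gaPt_zero, _root_.mul_one] at e
            exact e),
        E.rel_of_comm' (comm_pt b ha hc hne h he₁ he₂ (by simp))
          (comm_pt b' hc' ha' hne'.symm h' he₁' he₂' (by simp))⟩
      show E.rpF c y * E.rpF a x = E.rpF a x * E.rpF c y * (E.rpF c₁ _ * E.rpF c₂ _)
      rw [E.rpF_cst c₁ v1, E.rpF_cst c₂ v2, E.rpF_simple ha, E.rpF_simple hc, qc₁, qc₂]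
      have e := swap_of ((F1 X (y ^ E.F.q c) (x ^ E.F.q a)).trans (_root_.mul_assoc _ _ _))
      rw [_root_.mul_inv_rev, ← rp, ← rp, ← rp, ← rp, ← rp_neg, ← rp_neg, hneg, hneg] at e
      refine e.trans ?_
      congr 3 <;> rw [hq] <;> ring
  have key : ∀ x ∈ span2 D a c, x = a ∨ x = c ∨ x = c₁ ∨ x = c₂ := by
    rintro x ⟨i, l, hx⟩
    have := h x i l hx
    simp only [List.mem_cons, Prod.mk.injEq, List.not_mem_nil, or_false] at this
    rcases this with ⟨rfl, rfl⟩ | ⟨rfl, rfl⟩ | ⟨rfl, rfl⟩ | ⟨rfl, rfl⟩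
    · exact Or.inl (D.P.root.injective (by simpa using hx))
    · exact Or.inr (Or.inl (D.P.root.injective (by simpa using hx)))
    · exact Or.inr (Or.inr (Or.inl (D.P.root.injective (hx.trans he₁.symm))))
    · exact Or.inr (Or.inr (Or.inr (D.P.root.injective (hx.trans he₂.symm))))
  intro x hx y hy
  rcases key x hx with rfl | rfl | rfl | rfl <;> rcases key y hy with rfl | rfl | rfl | rfl <;>
    first
    | exact E.rel_self _
    | assumption
    | exact Rel.symm E (by assumption)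

theorem rel_G2 (hca : D.P.pairing c a = -3) (hac : D.P.pairing a c = -1) :
    ∀ x ∈ span2 D a c, ∀ y ∈ span2 D a c, E.Rel x y := by
  have hne' : E.F.d a ≠ E.F.d c := fun e => hne (E.F.d.injective e)
  have ha' := E.F.simple' ha
  have hc' := E.F.simple' hc
  obtain ⟨c₁, c₂, c₃, e₄, k, k', k'', s, ⟨r1, r2, r3, r4, r5, r6⟩, ⟨q1, -, -, q4, -⟩, ⟨q6, q7, -, -, -⟩, Φ⟩ :=
    pinned_G2 b ha hc hne (E.hd a ha) (E.hd c hc) hca hac
  have h := combs_G2 b ha hc hne hca hac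
  have he₁ : D.P.root c₁ = ((1 : ℕ) : ℤ) • D.P.root a + ((1 : ℕ) : ℤ) • D.P.root c := by
    rw [← r1, RootPairing.root_reflectionPerm, RootPairing.reflection_apply_root, hac]; module
  have he₃ : D.P.root c₃ = ((3 : ℕ) : ℤ) • D.P.root a + ((1 : ℕ) : ℤ) • D.P.root c := by
    rw [← r4, RootPairing.root_reflectionPerm, RootPairing.reflection_apply_root, hca]; module
  have he₂ : D.P.root c₂ = ((2 : ℕ) : ℤ) • D.P.root a + ((1 : ℕ) : ℤ) • D.P.root c := by
    rw [← r2, RootPairing.root_reflectionPerm, RootPairing.reflection_apply_root,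
      coroot_pairing_comb he₁ a, hca, RootPairing.pairing_same, he₁]; module
  have he₄ : D.P.root e₄ = ((3 : ℕ) : ℤ) • D.P.root a + ((2 : ℕ) : ℤ) • D.P.root c := by
    rw [← r5, RootPairing.root_reflectionPerm, RootPairing.reflection_apply_root,
      coroot_pairing_comb he₃ c, hac, RootPairing.pairing_same, he₃]; module
  have qc₁ : E.F.q c₁ = E.F.q a := by rw [← r1, E.F.q_refl]
  have qc₂ : E.F.q c₂ = E.F.q a := by rw [← r2, E.F.q_refl, qc₁]
  have qc₃ : E.F.q c₃ = E.F.q c := by rw [← r4, E.F.q_refl]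
  have qc₄ : E.F.q e₄ = E.F.q c := by rw [← r5, E.F.q_refl, qc₃]
  have n₁ : c₁ ∈ btw D a c := ⟨1, 1, le_rfl, le_rfl, he₁⟩
  have n₂ : c₂ ∈ btw D a c := ⟨2, 1, by omega, le_rfl, he₂⟩
  have n₃ : c₃ ∈ btw D a c := ⟨3, 1, by omega, le_rfl, he₃⟩
  have n₄ : e₄ ∈ btw D a c := ⟨3, 2, by omega, by omega, he₄⟩
  have a₁₂ : c₂ ∈ btw D a c₁ := ⟨1, 1, le_rfl, le_rfl, by rw [he₂, he₁]; module⟩
  have a₁₃ : c₃ ∈ btw D a c₁ := ⟨2, 1, by omega, le_rfl, by rw [he₃, he₁]; module⟩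
  have a₁₄ : e₄ ∈ btw D a c₁ := ⟨1, 2, le_rfl, by omega, by rw [he₄, he₁]; module⟩
  have a₂₃ : c₃ ∈ btw D a c₂ := ⟨1, 1, le_rfl, le_rfl, by rw [he₃, he₂]; module⟩
  have c₃₄ : e₄ ∈ btw D c c₃ := ⟨1, 1, le_rfl, le_rfl, by rw [he₄, he₃]; module⟩
  have c₁₂ : e₄ ∈ btw D c₁ c₂ := ⟨1, 1, le_rfl, le_rfl, by rw [he₄, he₁, he₂]; module⟩
  have na : ∀ (X : Over S) (w : Γ(S, ⊤)) (r : Γ(X.left, ⊤)), -cst X w * r = cst X (-w) * r :=
    fun X w r => by rw [cst, cst, map_neg]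
  obtain ⟨rac, ra1, ra2, rc3, r12, rce, r3e, ra3, rae, rc1, rc2, r13, r1e, r23, r2e⟩ :
      E.Rel a c ∧ E.Rel a c₁ ∧ E.Rel a c₂ ∧ E.Rel c c₃ ∧ E.Rel c₁ c₂ ∧ E.Rel c e₄ ∧ E.Rel c₃ e₄ ∧
        E.Rel a c₃ ∧ E.Rel a e₄ ∧ E.Rel c c₁ ∧ E.Rel c c₂ ∧ E.Rel c₁ c₃ ∧ E.Rel c₁ e₄ ∧ E.Rel c₂ c₃ ∧
          E.Rel c₂ e₄ := by
    rcases E.F.simple_image (m := 3) (n := 1) three_pos one_pos (by exact_mod_cast hca)
      (by exact_mod_cast hac) (Or.inl Nat.prime_three) rfl with ⟨p1, p2, hq⟩ | ⟨p1, p2, hq⟩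
    · obtain ⟨C₁, C₂, C₃, C₄, m, m', m'', n, ⟨s1, s2, s3, s4, s5, s6⟩, ⟨g1, -, -, g4, -⟩,
        ⟨g6, g7, -, -, -⟩, Ψ⟩ :=
        pinned_G2 b' ha' hc' hne' (E.hd' _ ha') (E.hd' _ hc') (by exact_mod_cast p1) p2
      have d1 : E.F.d c₁ = C₁ := by rw [← r1, E.F.d_refl, s1]
      have d2 : E.F.d c₂ = C₂ := by rw [← r2, E.F.d_refl, d1, s2]
      have d3 : E.F.d c₃ = C₃ := by rw [← r4, E.F.d_refl, s4]
      have d4 : E.F.d e₄ = C₄ := by rw [← r5, E.F.d_refl, d3, s5]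
      subst d1 d2 d3 d4
      have h' := combs_G2 b' ha' hc' hne' (by exact_mod_cast p1) p2
      have he₁' : D'.P.root (E.F.d c₁) =
          ((1 : ℕ) : ℤ) • D'.P.root (E.F.d a) + ((1 : ℕ) : ℤ) • D'.P.root (E.F.d c) := by
        rw [← s1, RootPairing.root_reflectionPerm, RootPairing.reflection_apply_root, p2]; module
      have he₃' : D'.P.root (E.F.d c₃) =
          ((3 : ℕ) : ℤ) • D'.P.root (E.F.d a) + ((1 : ℕ) : ℤ) • D'.P.root (E.F.d c) := by
        rw [← s4, RootPairing.root_reflectionPerm, RootPairing.reflection_apply_root, p1]; module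
      have he₂' : D'.P.root (E.F.d c₂) =
          ((2 : ℕ) : ℤ) • D'.P.root (E.F.d a) + ((1 : ℕ) : ℤ) • D'.P.root (E.F.d c) := by
        rw [← s2, RootPairing.root_reflectionPerm, RootPairing.reflection_apply_root,
          coroot_pairing_comb he₁' (E.F.d a), p1, RootPairing.pairing_same, he₁']; module
      have he₄' : D'.P.root (E.F.d e₄) =
          ((3 : ℕ) : ℤ) • D'.P.root (E.F.d a) + ((2 : ℕ) : ℤ) • D'.P.root (E.F.d c) := by
        rw [← s5, RootPairing.root_reflectionPerm, RootPairing.reflection_apply_root,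
          coroot_pairing_comb he₃' (E.F.d c), p2, RootPairing.pairing_same, he₃']; module
      have v1 : (E.κ c₁ : Γ(S, ⊤)) * (k : Γ(S, ⊤)) ^ E.F.q c₁ = m := by
        rw [qc₁, E.κ_value hc r1 q1 g1, E.κ_simple a ha, Units.val_one, _root_.mul_one]
      have v2 : (E.κ c₂ : Γ(S, ⊤)) * ((s : Γ(S, ⊤)) * k) ^ E.F.q c₂ = n * m := by
        have e := E.κ_value ha r2 q7 g7
        rw [qc₁] at e v1
        rw [qc₂, mul_pow, ← _root_.mul_assoc, e, _root_.mul_assoc, v1]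
      have v3 : (E.κ c₃ : Γ(S, ⊤)) * (k' : Γ(S, ⊤)) ^ E.F.q c₃ = m' := by
        rw [qc₃, E.κ_value ha r4 q6 g6, E.κ_simple c hc, Units.val_one, _root_.mul_one]
      have v4 : (E.κ e₄ : Γ(S, ⊤)) * ((k'' : Γ(S, ⊤)) * k') ^ E.F.q e₄ = m'' * m' := by
        have e := E.κ_value hc r5 q4 g4
        rw [qc₃] at e v3
        rw [qc₄, mul_pow, ← _root_.mul_assoc, e, _root_.mul_assoc, v3]
      have v3n : (E.κ c₃ : Γ(S, ⊤)) * (-(k' : Γ(S, ⊤))) ^ E.F.q c₃ = -(m' : Γ(S, ⊤)) := by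
        rw [show (-(k' : Γ(S, ⊤))) ^ E.F.q c₃ = -((k' : Γ(S, ⊤)) ^ E.F.q c₃) from
          map_neg (E.F.pw c₃ (𝟙_ (Over S))) _, mul_neg, v3]
      have v4n : (E.κ e₄ : Γ(S, ⊤)) * (-((k'' : Γ(S, ⊤)) * k')) ^ E.F.q e₄ =
          -((m'' : Γ(S, ⊤)) * m') := by
        rw [show (-((k'' : Γ(S, ⊤)) * k')) ^ E.F.q e₄ = -(((k'' : Γ(S, ⊤)) * k') ^ E.F.q e₄) from
          map_neg (E.F.pw e₄ (𝟙_ (Over S))) _, mul_neg, v4]
      refine ⟨E.rel_of_formula fun X x y =>
          ⟨_, mul_mem (E.P_mem n₁ (cst X (k : Γ(S, ⊤)) * (x * y))) (mul_mem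
            (E.P_mem n₂ (cst X ((s : Γ(S, ⊤)) * k) * (x ^ 2 * y))) (mul_mem
              (E.P_mem n₃ (-cst X (k' : Γ(S, ⊤)) * (x ^ 3 * y)))
              (E.P_mem n₄ (-cst X ((k'' : Γ(S, ⊤)) * k') * (x ^ 3 * y ^ 2))))),
            Prod.ext ((Φ X x y).1.trans (by simp only [_root_.mul_assoc]; rfl)) ?_⟩,
        E.rel_of_scaled k fun X x y =>
          ⟨_, mul_mem (E.P_mem a₁₂ (cst X ((s : Γ(S, ⊤)) * k) * (2 * x * y))) (mul_mem
              (E.P_mem a₁₃ (-cst X (k' : Γ(S, ⊤)) * (3 * x ^ 2 * y)))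
              (E.P_mem a₁₄ (-cst X ((k'' : Γ(S, ⊤)) * k') * (3 * x * y ^ 2)))),
            Prod.ext ((Φ X x y).2.1.trans (by simp only [_root_.mul_assoc]; rfl)) ?_⟩,
        E.rel_of_scaled (s * k) fun X x y =>
          ⟨_, E.P_mem a₂₃ (-cst X (k' : Γ(S, ⊤)) * (3 * x * y)),
            Prod.ext (by rw [Units.val_mul]; exact (Φ X x y).2.2.1) ?_⟩,
        E.rel_of_scaled (-k') fun X x y =>
          ⟨_, E.P_mem c₃₄ (-cst X ((k'' : Γ(S, ⊤)) * k') * -(x * y)),
            Prod.ext (by rw [Units.val_neg, ← na]; exact (Φ X x y).2.2.2.1) ?_⟩,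
        Rel.symm E (E.rel_of_scaled k fun X y x =>
          ⟨((E.P e₄ (-cst X ((k'' : Γ(S, ⊤)) * k') * (3 * x * (cst X ((s * k : Γ(S, ⊤)ˣ)⁻¹ : Γ(S, ⊤)ˣ).val * y))))⁻¹),
            Subgroup.inv_mem _ (E.P_mem (btw_symm (D := D) c₁ c₂ ▸ c₁₂) _), ?_⟩),
        E.rel_of_comm' (comm_pt b ha hc hne h (p := 0) (q := 1) (by simp) he₄ (by simp))
          (comm_pt b' ha' hc' hne' h' (p := 0) (q := 1) (by simp) he₄' (by simp)),
        E.rel_of_comm' (comm_pt b ha hc hne h he₃ he₄ (by simp))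
          (comm_pt b' ha' hc' hne' h' he₃' he₄' (by simp)),
        E.rel_of_comm' (comm_pt b ha hc hne h (p := 1) (q := 0) (by simp) he₃ (by simp))
          (comm_pt b' ha' hc' hne' h' (p := 1) (q := 0) (by simp) he₃' (by simp)),
        E.rel_of_comm' (comm_pt b ha hc hne h (p := 1) (q := 0) (by simp) he₄ (by simp))
          (comm_pt b' ha' hc' hne' h' (p := 1) (q := 0) (by simp) he₄' (by simp)),
        E.rel_of_comm' (comm_pt b ha hc hne h (p := 0) (q := 1) (by simp) he₁ (by simp))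
          (comm_pt b' ha' hc' hne' h' (p := 0) (q := 1) (by simp) he₁' (by simp)),
        E.rel_of_comm' (comm_pt b ha hc hne h (p := 0) (q := 1) (by simp) he₂ (by simp))
          (comm_pt b' ha' hc' hne' h' (p := 0) (q := 1) (by simp) he₂' (by simp)),
        E.rel_of_comm' (comm_pt b ha hc hne h he₁ he₃ (by simp))
          (comm_pt b' ha' hc' hne' h' he₁' he₃' (by simp)),
        E.rel_of_comm' (comm_pt b ha hc hne h he₁ he₄ (by simp))
          (comm_pt b' ha' hc' hne' h' he₁' he₄' (by simp)),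
        E.rel_of_comm' (comm_pt b ha hc hne h he₂ he₃ (by simp))
          (comm_pt b' ha' hc' hne' h' he₂' he₃' (by simp)),
        E.rel_of_comm' (comm_pt b ha hc hne h he₂ he₄ (by simp))
          (comm_pt b' ha' hc' hne' h' he₂' he₄' (by simp))⟩
      · show E.rpF c y * E.rpF a x = E.rpF a x * E.rpF c y * (E.rpF c₁ _ * (E.rpF c₂ _ * (E.rpF c₃ _ * E.rpF e₄ _)))
        rw [na, na, E.rpF_cst c₁ v1, E.rpF_cst c₂ v2, E.rpF_cst c₃ v3n, E.rpF_cst e₄ v4n,
          E.rpF_simple ha, E.rpF_simple hc, qc₁, qc₂, qc₃, qc₄, ← hq]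
        simp only [mul_pow, pow_right_comm _ (2 : ℕ), pow_right_comm _ (3 : ℕ), ← na]
        exact ((Ψ X _ _).1).trans (by simp only [_root_.mul_assoc])
      · show E.rpF c₁ _ * E.rpF a x = E.rpF a x * E.rpF c₁ _ * (E.rpF c₂ _ * (E.rpF c₃ _ * E.rpF e₄ _))
        rw [na, na, E.rpF_cst c₁ v1, E.rpF_cst c₂ v2, E.rpF_cst c₃ v3n, E.rpF_cst e₄ v4n,
          E.rpF_simple ha, qc₁, qc₂, qc₃, qc₄, ← hq]
        simp only [mul_pow, pow_right_comm _ (2 : ℕ), E.ofNat_pow_q, ← na]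
        exact ((Ψ X _ _).2.1).trans (by simp only [_root_.mul_assoc])
      · show E.rpF c₂ _ * E.rpF a x = E.rpF a x * E.rpF c₂ _ * E.rpF c₃ _
        rw [Units.val_mul, na, E.rpF_cst c₂ v2, E.rpF_cst c₃ v3n, E.rpF_simple ha, qc₂, qc₃, ← hq]
        simp only [mul_pow, E.ofNat_pow_q, ← na]
        exact (Ψ X _ _).2.2.1
      · show E.rpF c₃ _ * E.rpF c x = E.rpF c x * E.rpF c₃ _ * E.rpF e₄ _
        rw [Units.val_neg, na, E.rpF_cst c₃ v3n, E.rpF_cst e₄ v4n, E.rpF_simple hc, qc₃, qc₄]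
        simp only [E.neg_pow_q, mul_pow, ← na]
        exact (Ψ X _ _).2.2.2.1
      · -- the roots `c₁` and `c₂`
        have ey : y = cst X ((s * k : Γ(S, ⊤)ˣ) : Γ(S, ⊤)) * (cst X ((s * k : Γ(S, ⊤)ˣ)⁻¹ : Γ(S, ⊤)ˣ).val * y) := by
          rw [← _root_.mul_assoc, cst, cst, ← map_mul, Units.mul_inv, map_one, _root_.one_mul]
        generalize cst X ((s * k : Γ(S, ⊤)ˣ)⁻¹ : Γ(S, ⊤)ˣ).val * y = z at ey ⊢
        subst ey
        refine swap_of (Prod.ext (by rw [Units.val_mul]; exact (Φ X x z).2.2.2.2) ?_)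
        show E.rpF c₂ _ * E.rpF c₁ _ = E.rpF c₁ _ * E.rpF c₂ _ * E.rpF e₄ _
        rw [Units.val_mul, na, E.rpF_cst c₁ v1, E.rpF_cst c₂ v2, E.rpF_cst e₄ v4n, qc₁, qc₂, qc₄, ← hq]
        simp only [mul_pow, E.ofNat_pow_q, ← na]
        exact (Ψ X _ _).2.2.2.2
    · -- the exceptional isogeny in characteristic three
      obtain ⟨C₁, C₂, C₃, C₄, m, m', m'', n, ⟨s1, s2, s3, s4, s5, s6⟩, ⟨g1, -, -, g4, -⟩,
        ⟨g6, g7, -, -, -⟩, Ψ⟩ :=
        pinned_G2 b' hc' ha' hne'.symm (E.hd' _ hc') (E.hd' _ ha') (by exact_mod_cast p2) p1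
      have d1 : E.F.d c₁ = C₃ := by rw [← r1, E.F.d_refl, s4]
      have d2 : E.F.d c₂ = C₄ := by rw [← r2, E.F.d_refl, d1, s5]
      have d3 : E.F.d c₃ = C₁ := by rw [← r4, E.F.d_refl, s1]
      have d4 : E.F.d e₄ = C₂ := by rw [← r5, E.F.d_refl, d3, s2]
      subst d1 d2 d3 d4
      have h3 : ∀ X : Over S, (3 : Γ(X.left, ⊤)) = 0 := fun X => by
        have := natCast_zero_X (E.F.natCast_eq_zero (by omega) Nat.prime_three hq) X
        push_cast at this
        exact this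
      have h2 : ∀ X : Over S, (2 : Γ(X.left, ⊤)) = -1 := fun X => by linear_combination h3 X
      have h' := combs_G2 b' hc' ha' hne'.symm (by exact_mod_cast p2) p1
      have he₃' : D'.P.root (E.F.d c₃) =
          ((1 : ℕ) : ℤ) • D'.P.root (E.F.d c) + ((1 : ℕ) : ℤ) • D'.P.root (E.F.d a) := by
        rw [← s1, RootPairing.root_reflectionPerm, RootPairing.reflection_apply_root, p1]; module
      have he₁' : D'.P.root (E.F.d c₁) =
          ((3 : ℕ) : ℤ) • D'.P.root (E.F.d c) + ((1 : ℕ) : ℤ) • D'.P.root (E.F.d a) := by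
        rw [← s4, RootPairing.root_reflectionPerm, RootPairing.reflection_apply_root, p2]; module
      have he₄' : D'.P.root (E.F.d e₄) =
          ((2 : ℕ) : ℤ) • D'.P.root (E.F.d c) + ((1 : ℕ) : ℤ) • D'.P.root (E.F.d a) := by
        rw [← s2, RootPairing.root_reflectionPerm, RootPairing.reflection_apply_root,
          coroot_pairing_comb he₃' (E.F.d c), p2, RootPairing.pairing_same, he₃']; module
      have he₂' : D'.P.root (E.F.d c₂) =
          ((3 : ℕ) : ℤ) • D'.P.root (E.F.d c) + ((2 : ℕ) : ℤ) • D'.P.root (E.F.d a) := by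
        rw [← s5, RootPairing.root_reflectionPerm, RootPairing.reflection_apply_root,
          coroot_pairing_comb he₁' (E.F.d a), p1, RootPairing.pairing_same, he₁']; module
      have v1 : (E.κ c₁ : Γ(S, ⊤)) * (k : Γ(S, ⊤)) ^ E.F.q c₁ = m' := by
        rw [qc₁, E.κ_value hc r1 q1 g6, E.κ_simple a ha, Units.val_one, _root_.mul_one]
      have v2 : (E.κ c₂ : Γ(S, ⊤)) * ((s : Γ(S, ⊤)) * k) ^ E.F.q c₂ = m'' * m' := by
        have e := E.κ_value ha r2 q7 g4
        rw [qc₁] at e v1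
        rw [qc₂, mul_pow, ← _root_.mul_assoc, e, _root_.mul_assoc, v1]
      have v3 : (E.κ c₃ : Γ(S, ⊤)) * (k' : Γ(S, ⊤)) ^ E.F.q c₃ = m := by
        rw [qc₃, E.κ_value ha r4 q6 g1, E.κ_simple c hc, Units.val_one, _root_.mul_one]
      have v4 : (E.κ e₄ : Γ(S, ⊤)) * ((k'' : Γ(S, ⊤)) * k') ^ E.F.q e₄ = n * m := by
        have e := E.κ_value hc r5 q4 g7
        rw [qc₃] at e v3
        rw [qc₄, mul_pow, ← _root_.mul_assoc, e, _root_.mul_assoc, v3]
      have v3n : (E.κ c₃ : Γ(S, ⊤)) * (-(k' : Γ(S, ⊤))) ^ E.F.q c₃ = -(m : Γ(S, ⊤)) := by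
        rw [show (-(k' : Γ(S, ⊤))) ^ E.F.q c₃ = -((k' : Γ(S, ⊤)) ^ E.F.q c₃) from
          map_neg (E.F.pw c₃ (𝟙_ (Over S))) _, mul_neg, v3]
      have v4n : (E.κ e₄ : Γ(S, ⊤)) * (-((k'' : Γ(S, ⊤)) * k')) ^ E.F.q e₄ =
          -((n : Γ(S, ⊤)) * m) := by
        rw [show (-((k'' : Γ(S, ⊤)) * k')) ^ E.F.q e₄ = -(((k'' : Γ(S, ⊤)) * k') ^ E.F.q e₄) from
          map_neg (E.F.pw e₄ (𝟙_ (Over S))) _, mul_neg, v4]
      have cd : ∀ (X : Over S) (r t : Γ(X.left, ⊤)), rp D' (E.F.d e₄) t * rp D' (E.F.d c₃) r =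
          rp D' (E.F.d c₃) r * rp D' (E.F.d e₄) t := by
        have := fun (X : Over S) (r t : Γ(X.left, ⊤)) => (Ψ X r t).2.2.2.2
        refine scaled_comm (n * m) fun X r t => ?_
        refine (scaled_comm m (fun X t r => ?_) X _ _).symm
        have e := this X r (cst X ((n * m : Γ(S, ⊤)ˣ)⁻¹ : Γ(S, ⊤)ˣ).val * t)
        rw [← _root_.mul_assoc (cst X ((n : Γ(S, ⊤)) * m)), ← Units.val_mul, cst, cst, ← map_mul,
          Units.mul_inv, map_one, _root_.one_mul] at e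
        simp only [h3, zero_mul, mul_zero, rootHom_gaPt_zero, _root_.mul_one] at e
        exact e.symm
      refine ⟨E.rel_of_formula fun X x y =>
          ⟨_, mul_mem (E.P_mem n₁ (cst X (k : Γ(S, ⊤)) * (x * y))) (mul_mem
            (E.P_mem n₂ (cst X ((s : Γ(S, ⊤)) * k) * (x ^ 2 * y))) (mul_mem
              (E.P_mem n₃ (-cst X (k' : Γ(S, ⊤)) * (x ^ 3 * y)))
              (E.P_mem n₄ (-cst X ((k'' : Γ(S, ⊤)) * k') * (x ^ 3 * y ^ 2))))),
            Prod.ext ((Φ X x y).1.trans (by simp only [_root_.mul_assoc]; rfl)) ?_⟩,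
        E.rel_of_scaled k fun X x y =>
          ⟨_, E.P_mem a₁₂ (cst X ((s : Γ(S, ⊤)) * k) * (2 * x * y)), Prod.ext (by
            have e := (Φ X x y).2.1
            simp only [h3, zero_mul, mul_zero, rootHom_gaPt_zero, _root_.mul_one] at e
            exact e) ?_⟩,
        E.rel_of_comm' (scaled_comm (s * k) fun X x y => by
            have e := (Φ X x y).2.2.1
            simp only [h3, zero_mul, mul_zero, rootHom_gaPt_zero, _root_.mul_one] at e
            rw [Units.val_mul]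
            exact e)
          (comm_pt b' hc' ha' hne'.symm h' (p := 0) (q := 1) (by simp) he₂' (by simp)),
        E.rel_of_scaled (-k') fun X x y =>
          ⟨_, E.P_mem c₃₄ (-cst X ((k'' : Γ(S, ⊤)) * k') * -(x * y)),
            Prod.ext (by rw [Units.val_neg, ← na]; exact (Φ X x y).2.2.2.1) ?_⟩,
        E.rel_of_comm' (fun X r t => by
            refine scaled_comm (s * k) (fun X r t => ?_) X r t
            refine (scaled_comm k (fun X t r => ?_) X _ _).symm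
            have e := (Φ X r (cst X ((s * k : Γ(S, ⊤)ˣ)⁻¹ : Γ(S, ⊤)ˣ).val * t)).2.2.2.2
            rw [← _root_.mul_assoc (cst X ((s : Γ(S, ⊤)) * k)), ← Units.val_mul, cst, cst, ← map_mul,
              Units.mul_inv, map_one, _root_.one_mul] at e
            simp only [h3, zero_mul, mul_zero, rootHom_gaPt_zero, _root_.mul_one] at e
            exact e.symm)
          (comm_pt b' hc' ha' hne'.symm h' he₁' he₂' (by simp)),
        E.rel_of_comm' (comm_pt b ha hc hne h (p := 0) (q := 1) (by simp) he₄ (by simp))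
          (scaled_comm (n * m) fun X x y => by
            have e := (Ψ X x y).2.2.1
            simp only [h3, zero_mul, mul_zero, rootHom_gaPt_zero, _root_.mul_one] at e
            rw [Units.val_mul]
            exact e),
        E.rel_of_comm' (comm_pt b ha hc hne h he₃ he₄ (by simp)) cd,
        E.rel_of_comm' (comm_pt b ha hc hne h (p := 1) (q := 0) (by simp) he₃ (by simp))
          (comm_pt b' hc' ha' hne'.symm h' (p := 0) (q := 1) (by simp) he₃' (by simp)),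
        E.rel_of_comm' (comm_pt b ha hc hne h (p := 1) (q := 0) (by simp) he₄ (by simp))
          (comm_pt b' hc' ha' hne'.symm h' (p := 0) (q := 1) (by simp) he₄' (by simp)),
        E.rel_of_comm' (comm_pt b ha hc hne h (p := 0) (q := 1) (by simp) he₁ (by simp))
          (comm_pt b' hc' ha' hne'.symm h' (p := 1) (q := 0) (by simp) he₁' (by simp)),
        E.rel_of_comm' (comm_pt b ha hc hne h (p := 0) (q := 1) (by simp) he₂ (by simp))
          (comm_pt b' hc' ha' hne'.symm h' (p := 1) (q := 0) (by simp) he₂' (by simp)),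
        E.rel_of_comm' (comm_pt b ha hc hne h he₁ he₃ (by simp))
          (comm_pt b' hc' ha' hne'.symm h' he₁' he₃' (by simp)),
        E.rel_of_comm' (comm_pt b ha hc hne h he₁ he₄ (by simp))
          (comm_pt b' hc' ha' hne'.symm h' he₁' he₄' (by simp)),
        E.rel_of_comm' (comm_pt b ha hc hne h he₂ he₃ (by simp))
          (comm_pt b' hc' ha' hne'.symm h' he₂' he₃' (by simp)),
        E.rel_of_comm' (comm_pt b ha hc hne h he₂ he₄ (by simp))
          (comm_pt b' hc' ha' hne'.symm h' he₂' he₄' (by simp))⟩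
      · show E.rpF c y * E.rpF a x = E.rpF a x * E.rpF c y * (E.rpF c₁ _ * (E.rpF c₂ _ * (E.rpF c₃ _ * E.rpF e₄ _)))
        rw [na, na, E.rpF_cst c₁ v1, E.rpF_cst c₂ v2, E.rpF_cst c₃ v3n, E.rpF_cst e₄ v4n,
          E.rpF_simple ha, E.rpF_simple hc, qc₁, qc₂, qc₃, qc₄, hq]
        generalize E.F.q c = q
        rw [show (x * y) ^ (3 * q) = x ^ (3 * q) * (y ^ q) ^ 3 by ring,
          show (x ^ 2 * y) ^ (3 * q) = (x ^ (3 * q)) ^ 2 * (y ^ q) ^ 3 by ring,
          show (x ^ 3 * y) ^ q = x ^ (3 * q) * y ^ q by ring,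
          show (x ^ 3 * y ^ 2) ^ q = x ^ (3 * q) * (y ^ q) ^ 2 by ring]
        generalize x ^ (3 * q) = V
        generalize y ^ q = U
        have e := swap_of (((Ψ X U V).1).trans (by simp only [_root_.mul_assoc]; rfl))
        simp only [_root_.mul_inv_rev, ← rp_neg, ← _root_.mul_assoc] at e
        have cb := comm_pt b' hc' ha' hne'.symm h' he₁' he₂' (by simp)
        rw [e]
        simp only [_root_.mul_assoc]
        congr 2
        rw [← _root_.mul_assoc, cb, _root_.mul_assoc, cd]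
        simp only [cst, map_neg]
        congr 4 <;> ring
      · show E.rpF c₁ _ * E.rpF a x = E.rpF a x * E.rpF c₁ _ * E.rpF c₂ _
        rw [E.rpF_cst c₁ v1, E.rpF_cst c₂ v2, E.rpF_simple ha, qc₁, qc₂, mul_pow, mul_pow, E.ofNat_pow_q]
        have e := (Ψ X (x ^ E.F.q a) (-y ^ E.F.q a)).2.2.2.1
        simp only [neg_mul_neg] at e
        convert e using 3
        rw [h2]
        ring
      · show E.rpF c₃ _ * E.rpF c x = E.rpF c x * E.rpF c₃ _ * E.rpF e₄ _
        rw [Units.val_neg, na, E.rpF_cst c₃ v3n, E.rpF_cst e₄ v4n, E.rpF_simple hc, qc₃, qc₄]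
        simp only [E.neg_pow_q, mul_pow]
        have e := (Ψ X (x ^ E.F.q c) (-y ^ E.F.q c)).2.1
        rw [h3] at e
        simp only [zero_mul, mul_zero, rootHom_gaPt_zero, _root_.mul_one] at e
        simp only [cst, map_neg, neg_mul] at e ⊢
        convert e using 3
        · rw [mul_neg]
        · rw [mul_neg]
        · rw [h2]
          ring
  have key : ∀ x ∈ span2 D a c, x = a ∨ x = c ∨ x = c₁ ∨ x = c₂ ∨ x = c₃ ∨ x = e₄ := by
    rintro x ⟨i, l, hx⟩
    have := h x i l hx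
    simp only [List.mem_cons, Prod.mk.injEq, List.not_mem_nil, or_false] at this
    rcases this with ⟨rfl, rfl⟩ | ⟨rfl, rfl⟩ | ⟨rfl, rfl⟩ | ⟨rfl, rfl⟩ | ⟨rfl, rfl⟩ | ⟨rfl, rfl⟩
    · exact Or.inl (D.P.root.injective (by simpa using hx))
    · exact Or.inr (Or.inl (D.P.root.injective (by simpa using hx)))
    · exact Or.inr (Or.inr (Or.inl (D.P.root.injective (hx.trans he₁.symm))))
    · exact Or.inr (Or.inr (Or.inr (Or.inl (D.P.root.injective (hx.trans he₂.symm)))))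
    · exact Or.inr (Or.inr (Or.inr (Or.inr (Or.inl (D.P.root.injective (hx.trans he₃.symm))))))
    · exact Or.inr (Or.inr (Or.inr (Or.inr (Or.inr (D.P.root.injective (hx.trans he₄.symm))))))
  intro x hx y hy
  rcases key x hx with rfl | rfl | rfl | rfl | rfl | rfl <;>
    rcases key y hy with rfl | rfl | rfl | rfl | rfl | rfl <;>
    first
    | exact E.rel_self _
    | assumption
    | exact Rel.symm E (by assumption)

theorem rel_simple_span : ∀ x ∈ span2 D a c, ∀ y ∈ span2 D a c, E.Rel x y := by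
  have hsymm : ∀ x, x ∈ span2 D a c → x ∈ span2 D c a := fun x ⟨i, k, h⟩ =>
    ⟨k, i, h.trans (add_comm _ _)⟩
  rcases simple_cases b ha hc hne with ⟨p, q⟩ | ⟨p, q⟩ | ⟨p, q⟩ | ⟨p, q⟩ | ⟨p, q⟩ | ⟨p, q⟩
  · exact E.rel_A1 ha hc hne p q
  · exact E.rel_A2 ha hc hne p q
  · exact E.rel_B2 ha hc hne p q
  · exact fun x hx y hy => E.rel_B2 hc ha hne.symm q p x (hsymm x hx) y (hsymm y hy)
  · exact E.rel_G2 ha hc hne p q
  · exact fun x hx y hy => E.rel_G2 hc ha hne.symm q p x (hsymm x hx) y (hsymm y hy)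

end IsoSetup

end Groth.Agent.RedPts82
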