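import Groth.Agent.RedPts82.IsoClass
import Groth.Agent.RedPts82.BruhatCover
import Groth.Agent.RedPts82.BruhatDual

/-!
The pairs formed by corresponding root group points, torus points and Weyl elements.
-/

universe u

open CategoryTheory MonoidalCategory CartesianMonoidalCategory MonObj GrpObj AlgebraicGeometry

namespace Groth.Agent.RedPts82

variable {S : Scheme.{u}} {G G' : Over S} [GrpObj G] [GrpObj G']

/-- The data from which the homomorphism is constructed. -/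
structure IsoSetup (D : Red.SplitRed G) (D' : Red.SplitRed G') (b : D.P.Base) (b' : D'.P.Base) where
  F : PMor D D' b b'
  hd : Duals D b
  hd' : Duals D' b'
  κ : D.idx → Γ(S, ⊤)ˣ
  κ_simple : ∀ a ∈ b.support, κ a = 1
  κ_neg : ∀ a ∈ b.support, κ (negIdx D a) = 1
  κ_step : ∀ x ∈ b.support, ∀ c, F.edge hd hd' x c * κ c = κ (D.P.reflectionPerm x c)

variable {D : Red.SplitRed G} {D' : Red.SplitRed G'} {b : D.P.Base} {b' : D'.P.Base}

theorem nonempty_isoSetup (F : PMor D D' b b') (hd : Duals D b) (hd' : Duals D' b') :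
    ∃ E : IsoSetup D D' b b', E.F = F := by
  obtain ⟨κ, h1, h2⟩ := F.exists_scalars hd hd'
  exact ⟨⟨F, hd, hd', κ, fun a ha => (h1 a ha).1, fun a ha => (h1 a ha).2, h2⟩, rfl⟩

variable (E : IsoSetup D D' b b')

namespace IsoSetup

/-- The image of a point of a root group. -/
noncomputable def rpF (c : D.idx) {X : Over S} (r : Γ(X.left, ⊤)) : X ⟶ G' :=
  rp D' (E.F.d c) (cst X (E.κ c : Γ(S, ⊤)) * r ^ E.F.q c)

theorem rpF_add (c : D.idx) {X : Over S} (r s : Γ(X.left, ⊤)) :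
    E.rpF c (r + s) = E.rpF c r * E.rpF c s := by
  rw [rpF, E.F.add_q, mul_add, rp_add]
  rfl

theorem rpF_zero (c : D.idx) (X : Over S) : E.rpF c (0 : Γ(X.left, ⊤)) = 1 := by
  rw [rpF, zero_pow (E.F.q_pos c).ne', mul_zero, rp_zero]

theorem comp_rpF {X X' : Over S} (k : X' ⟶ X) (c : D.idx) (r : Γ(X.left, ⊤)) :
    k ≫ E.rpF c r = E.rpF c (k.left.appTop r) := by
  rw [rpF, comp_rp, map_mul, map_pow, cst_appTop]
  rfl

theorem rpF_simple {a : D.idx} (ha : a ∈ b.support) {X : Over S} (r : Γ(X.left, ⊤)) :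
    E.rpF a r = rp D' (E.F.d a) (r ^ E.F.q a) := by
  rw [rpF, E.κ_simple a ha, Units.val_one, cst, map_one, _root_.one_mul]

theorem rpF_negSimple {a : D.idx} (ha : a ∈ b.support) {X : Over S} (r : Γ(X.left, ⊤)) :
    E.rpF (negIdx D a) r = rp D' (negIdx D' (E.F.d a)) (r ^ E.F.q a) := by
  rw [rpF, E.κ_neg a ha, Units.val_one, cst, map_one, _root_.one_mul, E.F.d_negIdx, E.F.q_negIdx]

/-- The image of a point of the torus. -/
noncomputable def tptF {X : Over S} (t : X ⟶ Red.DS S D.M) : X ⟶ G' := tpt D' (E.F.fT t)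

theorem tptF_conj_rpF {X : Over S} (t : X ⟶ Red.DS S D.M) (c : D.idx) (r : Γ(X.left, ⊤)) :
    E.tptF t * E.rpF c r * (E.tptF t)⁻¹ = E.rpF c (dsFn t (D.P.root c) * r) := by
  rw [tptF, rpF, rpF, tpt_conj_rp, E.F.fT_root, mul_pow]
  congr 1
  ring

/-- A root pair. -/
noncomputable def P (c : D.idx) {X : Over S} (r : Γ(X.left, ⊤)) : (X ⟶ G) × (X ⟶ G') :=
  (rp D c r, E.rpF c r)

theorem P_add (c : D.idx) {X : Over S} (r s : Γ(X.left, ⊤)) : E.P c (r + s) = E.P c r * E.P c s :=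
  Prod.ext (rp_add c r s) (E.rpF_add c r s)

theorem P_zero (c : D.idx) (X : Over S) : E.P c (0 : Γ(X.left, ⊤)) = 1 :=
  Prod.ext (rp_zero c X) (E.rpF_zero c X)

theorem P_neg (c : D.idx) {X : Over S} (r : Γ(X.left, ⊤)) : E.P c (-r) = (E.P c r)⁻¹ :=
  eq_inv_of_mul_eq_one_left (by rw [← E.P_add, neg_add_cancel, E.P_zero])

/-- A torus pair. -/
noncomputable def T {X : Over S} (t : X ⟶ Red.DS S D.M) : (X ⟶ G) × (X ⟶ G') := (tpt D t, E.tptF t)

theorem T_mul {X : Over S} (t t' : X ⟶ Red.DS S D.M) : E.T (t * t') = E.T t * E.T t' :=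
  Prod.ext (tpt_mul t t') (by
    show tpt D' _ = tpt D' _ * tpt D' _
    rw [E.F.fT_mul, tpt_mul])

theorem T_one (X : Over S) : E.T (1 : X ⟶ Red.DS S D.M) = 1 :=
  Prod.ext tpt_one (by
    show tpt D' _ = 1
    rw [E.F.fT_one, tpt_one])

theorem T_inv {X : Over S} (t : X ⟶ Red.DS S D.M) : E.T t⁻¹ = (E.T t)⁻¹ :=
  eq_inv_of_mul_eq_one_left (by rw [← E.T_mul, inv_mul_cancel, E.T_one])

theorem T_conj_P {X : Over S} (t : X ⟶ Red.DS S D.M) (c : D.idx) (r : Γ(X.left, ⊤)) :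
    E.T t * E.P c r * (E.T t)⁻¹ = E.P c (dsFn t (D.P.root c) * r) :=
  Prod.ext (tpt_conj_rp t c r) (E.tptF_conj_rpF t c r)

/-- The pair of Weyl elements of a root. -/
noncomputable def W (x : D.idx) (X : Over S) : (X ⟶ G) × (X ⟶ G') :=
  (wpt D x X, wpt D' (E.F.d x) X)

theorem W_conj_T {x : D.idx} (hx : x ∈ b.support) {X : Over S} (t : X ⟶ Red.DS S D.M) :
    E.W x X * E.T t * (E.W x X)⁻¹ = E.T (tw (RootPairing.Equiv.reflection D.P x) t) := by
  have h : ∀ {G₁ : Over S} [GrpObj G₁] {D₁ : Red.SplitRed G₁} {a : D₁.idx},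
      IsDual D₁ a (D₁.u (negIdx D₁ a)) → ∀ t : X ⟶ Red.DS S D₁.M,
      wpt D₁ a X * tpt D₁ t * (wpt D₁ a X)⁻¹ = tpt D₁ (tw (RootPairing.Equiv.reflection D₁.P a) t) :=
    fun hA t => (wpt_conj_tpt hA t).trans (congrArg _ (dsFn_injective fun m => by
      rw [dsFn_tw, RootPairing.Equiv.reflection_inv, RootPairing.Equiv.reflection_smul, dsFn_DSmap]
      rfl))
  refine Prod.ext (h (E.hd x hx) t) ?_
  show _ * tpt D' _ * _ = tpt D' (E.F.fT _)
  rw [E.F.fT_tw]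
  exact h (E.hd' _ (E.F.simple' hx)) _

/-- The Weyl pairs permute the root pairs. -/
theorem exists_W_conj_P {x : D.idx} (hx : x ∈ b.support) (c : D.idx) :
    ∃ k : Γ(S, ⊤)ˣ, ∀ (X : Over S) (r : Γ(X.left, ⊤)),
      E.W x X * E.P c r * (E.W x X)⁻¹ = E.P (D.P.reflectionPerm x c) (cst X (k : Γ(S, ⊤)) * r) := by
  obtain ⟨k, k', h, h', he⟩ := E.F.edge_spec E.hd E.hd' hx c
  refine ⟨k, fun X r => Prod.ext ?_ ?_⟩
  · have := h X r
    rwa [comp_wpt] at this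
  · show wpt D' _ X * E.rpF c r * (wpt D' _ X)⁻¹ = E.rpF _ _
    have := h' X (cst X (E.κ c : Γ(S, ⊤)) * r ^ E.F.q c)
    rw [comp_wpt] at this
    rw [rpF, rpF, rp, this, rp, E.F.q_refl, ← E.κ_step x hx c, he, PMor.ratio, mul_pow, cst, cst,
      ← map_pow, cst, ← _root_.mul_assoc, ← _root_.mul_assoc, ← map_mul, ← map_mul]
    congr 3
    simp only [Units.val_mul, ← Units.val_pow_eq_pow_val]
    refine congrArg _ ?_
    linear_combination -((k' : Γ(S, ⊤)) * (E.κ c : Γ(S, ⊤))) * (k ^ E.F.q c).inv_mul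

/-- Composition of pairs with a morphism. -/
def pc (_E : IsoSetup D D' b b') {X X' : Over S} (k : X' ⟶ X) :
    (X ⟶ G) × (X ⟶ G') →* (X' ⟶ G) × (X' ⟶ G') where
  toFun g := (k ≫ g.1, k ≫ g.2)
  map_one' := Prod.ext (MonObj.comp_one k) (MonObj.comp_one k)
  map_mul' g g' := Prod.ext (MonObj.comp_mul ..) (MonObj.comp_mul ..)

theorem pc_P {X X' : Over S} (k : X' ⟶ X) (c : D.idx) (r : Γ(X.left, ⊤)) :
    E.pc k (E.P c r) = E.P c (k.left.appTop r) :=
  Prod.ext (comp_rp k c r) (E.comp_rpF k c r)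

/-- The subgroup generated by the root pairs of a set of roots. -/
noncomputable def GR (Ψ : Set D.idx) (X : Over S) : Subgroup ((X ⟶ G) × (X ⟶ G')) :=
  Subgroup.closure {g | ∃ c ∈ Ψ, ∃ r, g = E.P c r}

theorem P_mem {Ψ : Set D.idx} {c : D.idx} (hc : c ∈ Ψ) {X : Over S} (r : Γ(X.left, ⊤)) :
    E.P c r ∈ E.GR Ψ X :=
  Subgroup.subset_closure ⟨c, hc, r, rfl⟩

theorem GR_mono {Ψ Φ : Set D.idx} (h : Ψ ⊆ Φ) (X : Over S) : E.GR Ψ X ≤ E.GR Φ X :=
  Subgroup.closure_mono fun _ ⟨c, hc, r, e⟩ => ⟨c, h hc, r, e⟩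

theorem pc_mem {Ψ : Set D.idx} {X X' : Over S} (k : X' ⟶ X) {g : (X ⟶ G) × (X ⟶ G')}
    (hg : g ∈ E.GR Ψ X) : E.pc k g ∈ E.GR Ψ X' := by
  refine (Subgroup.closure_le (K := Subgroup.comap (E.pc k) (E.GR Ψ X'))).mpr ?_ hg
  rintro _ ⟨c, hc, r, rfl⟩
  show E.pc k (E.P c r) ∈ E.GR Ψ X'
  rw [E.pc_P]
  exact E.P_mem hc _

/-- Conjugation carries a generated subgroup into one containing the conjugates of the generators. -/
theorem conj_mem {Ψ Φ : Set D.idx} {X : Over S} (h : (X ⟶ G) × (X ⟶ G'))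
    (hh : ∀ c ∈ Ψ, ∀ r, h * E.P c r * h⁻¹ ∈ E.GR Φ X) {g : (X ⟶ G) × (X ⟶ G')}
    (hg : g ∈ E.GR Ψ X) : h * g * h⁻¹ ∈ E.GR Φ X := by
  refine (Subgroup.closure_le (K := (E.GR Φ X).comap (MulAut.conj h).toMonoidHom)).mpr ?_ hg
  rintro _ ⟨c, hc, r, rfl⟩
  exact hh c hc r

theorem T_conj_mem {Ψ : Set D.idx} {X : Over S} (t : X ⟶ Red.DS S D.M) {g : (X ⟶ G) × (X ⟶ G')}
    (hg : g ∈ E.GR Ψ X) : E.T t * g * (E.T t)⁻¹ ∈ E.GR Ψ X :=
  E.conj_mem _ (fun c hc r => by rw [E.T_conj_P]; exact E.P_mem hc _) hg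

theorem W_conj_mem {x : D.idx} (hx : x ∈ b.support) {Ψ Φ : Set D.idx}
    (h : ∀ c ∈ Ψ, D.P.reflectionPerm x c ∈ Φ) {X : Over S} {g : (X ⟶ G) × (X ⟶ G')}
    (hg : g ∈ E.GR Ψ X) : E.W x X * g * (E.W x X)⁻¹ ∈ E.GR Φ X :=
  E.conj_mem _ (fun c hc r => by
    obtain ⟨k, hk⟩ := E.exists_W_conj_P hx c
    rw [hk]
    exact E.P_mem (h c hc) _) hg

/-- The roots which are positive combinations of two roots. -/
def btw (D : Red.SplitRed G) (c e : D.idx) : Set D.idx :=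
  {j | ∃ i k : ℕ, 1 ≤ i ∧ 1 ≤ k ∧ D.P.root j = (i : ℤ) • D.P.root c + (k : ℤ) • D.P.root e}

theorem btw_symm (c e : D.idx) : btw D c e = btw D e c := by
  ext j
  constructor <;> rintro ⟨i, k, hi, hk, h⟩ <;> exact ⟨k, i, hk, hi, h.trans (add_comm _ _)⟩

/-- The commutators of two families of root pairs lie between. -/
structure Rel (c e : D.idx) : Prop where
  mem : ∀ (X : Over S) (r s : Γ(X.left, ⊤)),
    E.P c r * E.P e s * (E.P c r)⁻¹ * (E.P e s)⁻¹ ∈ E.GR (btw D c e) X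

theorem Rel.symm {c e : D.idx} (h : E.Rel c e) : E.Rel e c := ⟨fun X r s => by
  have := Subgroup.inv_mem _ (h.mem X s r)
  rw [btw_symm]
  convert this using 1
  group⟩

theorem rel_self (c : D.idx) : E.Rel c c := ⟨fun X r s => by
  rw [← E.P_neg, ← E.P_neg, ← E.P_add, ← E.P_add, ← E.P_add,
    show r + s + -r + -s = 0 by ring, E.P_zero]
  exact one_mem _⟩

theorem Rel.refl {c e : D.idx} (h : E.Rel c e) {x : D.idx} (hx : x ∈ b.support) :
    E.Rel (D.P.reflectionPerm x c) (D.P.reflectionPerm x e) := by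
  refine ⟨fun X r s => ?_⟩
  obtain ⟨k, hk⟩ := E.exists_W_conj_P hx c
  obtain ⟨k', hk'⟩ := E.exists_W_conj_P hx e
  have hsub : ∀ j ∈ btw D c e, D.P.reflectionPerm x j ∈
      btw D (D.P.reflectionPerm x c) (D.P.reflectionPerm x e) := by
    rintro j ⟨i, l, hi, hl, hj⟩
    refine ⟨i, l, hi, hl, ?_⟩
    rw [RootPairing.root_reflectionPerm, hj, map_add, map_zsmul, map_zsmul,
      ← RootPairing.root_reflectionPerm, ← RootPairing.root_reflectionPerm]
  have h1 : E.P (D.P.reflectionPerm x c) r =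
      E.W x X * E.P c (cst X ((k⁻¹ : Γ(S, ⊤)ˣ) : Γ(S, ⊤)) * r) * (E.W x X)⁻¹ := by
    rw [hk, ← _root_.mul_assoc, cst, cst, ← map_mul, Units.mul_inv, map_one, _root_.one_mul]
  have h2 : E.P (D.P.reflectionPerm x e) s =
      E.W x X * E.P e (cst X ((k'⁻¹ : Γ(S, ⊤)ˣ) : Γ(S, ⊤)) * s) * (E.W x X)⁻¹ := by
    rw [hk', ← _root_.mul_assoc, cst, cst, ← map_mul, Units.mul_inv, map_one, _root_.one_mul]
  rw [h1, h2]
  convert E.W_conj_mem hx hsub
    (h.mem X (cst X ((k⁻¹ : Γ(S, ⊤)ˣ) : Γ(S, ⊤)) * r) (cst X ((k'⁻¹ : Γ(S, ⊤)ˣ) : Γ(S, ⊤)) * s)) using 1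
  group

/-- A commutation rule in both groups gives the relation of the pairs. -/
theorem rel_of_formula {c e : D.idx}
    (h : ∀ (X : Over S) (r s : Γ(X.left, ⊤)), ∃ g ∈ E.GR (btw D c e) X,
      E.P e s * E.P c r = E.P c r * E.P e s * g) : E.Rel c e := ⟨fun X r s => by
  obtain ⟨g, hg, he⟩ := h X (-r) (-s)
  have e1 := congrArg (fun z => z⁻¹) he
  simp only [_root_.mul_inv_rev, E.P_neg, _root_.inv_inv] at e1
  rw [_root_.mul_assoc _ (E.P c r)⁻¹, ← _root_.mul_inv_rev,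
    show (E.P e s * E.P c r)⁻¹ = (E.P c r)⁻¹ * (E.P e s)⁻¹ from _root_.mul_inv_rev _ _, e1]
  convert Subgroup.inv_mem _ hg using 1
  group⟩

theorem rel_of_comm {c e : D.idx}
    (h1 : D.P.root c + D.P.root e ∉ Set.range D.P.root) (h0 : e ≠ negIdx D c)
    (h2 : D'.P.root (E.F.d c) + D'.P.root (E.F.d e) ∉ Set.range D'.P.root) : E.Rel c e := by
  have hne : D.P.root c + D.P.root e ≠ 0 := fun h => h0 (D.P.root.injective (by
    rw [root_negIdx]; exact eq_neg_of_add_eq_zero_right h))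
  have hne' : D'.P.root (E.F.d c) + D'.P.root (E.F.d e) ≠ 0 := fun h => h0 (E.F.d.injective (by
    rw [E.F.d_negIdx]
    exact D'.P.root.injective (by rw [root_negIdx]; exact eq_neg_of_add_eq_zero_right h)))
  refine E.rel_of_formula fun X r s => ⟨1, one_mem _, ?_⟩
  rw [_root_.mul_one]
  exact Prod.ext (root_comm D c e hne h1 (gaPt r) (gaPt s)).symm
    (root_comm D' (E.F.d c) (E.F.d e) hne' h2 (gaPt _) (gaPt _)).symm

/-- All the commutation relations. -/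
def AllRel : Prop := ∀ c e, e ≠ negIdx D c → E.Rel c e

/-- A root pair normalises the subgroup of a set of roots closed under combinations with it. -/
theorem P_conj_mem (hR : E.AllRel) {c : D.idx} {Ψ : Set D.idx}
    (h : ∀ e ∈ Ψ, e ≠ negIdx D c ∧ btw D c e ⊆ Ψ) {X : Over S} (r : Γ(X.left, ⊤))
    {g : (X ⟶ G) × (X ⟶ G')} (hg : g ∈ E.GR Ψ X) : E.P c r * g * (E.P c r)⁻¹ ∈ E.GR Ψ X :=
  E.conj_mem _ (fun e he s => by
    have h1 := Subgroup.mul_mem _ (E.GR_mono (h e he).2 X ((hR c e (h e he).1).mem X r s)) (E.P_mem he s)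
    convert h1 using 1
    group) hg

end IsoSetup

end Groth.Agent.RedPts82
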