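import Groth.Agent.RedPts82.IsoPinned
import Groth.Agent.RedPts82.SplitFibre

/-!
Two split reductive groups of isomorphic root data are isomorphic.
-/

set_option autoImplicit false
set_option linter.unusedSectionVars false
set_option linter.style.haveILetI false

universe u

open CategoryTheory MonoidalCategory CartesianMonoidalCategory MonObj GrpObj AlgebraicGeometry
open Groth.Agent.RedPts82

noncomputable section

namespace Groth.Agent.RedPts82

variable {S : Scheme.{u}} {G G' : Over S} [GrpObj G] [GrpObj G']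

/-- An equivalence of root data can be composed with a Weyl element so as to respect given bases. -/
theorem exists_equiv_base {ι₁ ι₂ M₁ N₁ M₂ N₂ : Type} [AddCommGroup M₁] [AddCommGroup N₁] [AddCommGroup M₂]
    [AddCommGroup N₂] [Fintype ι₁] [Fintype ι₂] {P : RootPairing ι₁ ℤ M₁ N₁} {P' : RootPairing ι₂ ℤ M₂ N₂}
    (b : P.Base) (b' : P'.Base) (h : RootPairing.Equiv P' P) :
    ∃ h' : RootPairing.Equiv P' P, ∀ a', a' ∈ b'.support ↔ h'.indexEquiv a' ∈ b.support := by
  classical
  let Δ : Set ι₁ := h.indexEquiv '' (b'.support : Set ι₂)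
  have hroot : ∀ i, P.root (h.indexEquiv i) = h.weightMap (P'.root i) := fun i =>
    (congrFun h.root_weightMap i).symm
  have hΔ : RootD.IsSimpleSys P Δ := by
    refine ⟨?_, fun i => ?_⟩
    · show LinearIndepOn ℤ P.root Δ
      refine LinearIndepOn.image_of_comp h.indexEquiv P.root ?_
      have := (Roots36.base_isSimpleSys b').linInd.map_injOn h.weightMap
        (fun x _ y _ e => (RootPairing.Equiv.weightEquiv P' P h).injective e)
      exact (linearIndepOn_congr fun i _ => (hroot i).symm).mp this
    · obtain ⟨j, rfl⟩ := h.indexEquiv.surjective i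
      have key : ∀ x, x ∈ RootD.natSpan P' (b'.support : Set ι₂) →
          h.weightMap x ∈ RootD.natSpan P Δ := fun x hx => by
        induction hx using AddSubmonoid.closure_induction with
        | mem y hy =>
          obtain ⟨k, hk, rfl⟩ := hy
          exact AddSubmonoid.subset_closure ⟨_, ⟨k, hk, rfl⟩, hroot k⟩
        | zero => rw [map_zero]; exact zero_mem _
        | add x y _ _ hx hy => rw [map_add]; exact add_mem hx hy
      rcases (Roots36.base_isSimpleSys b').mem_or_neg_mem j with hj | hj
      · left; rw [hroot]; exact key _ hj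
      · right; rw [hroot, ← map_neg]; exact key _ hj
  obtain ⟨g, -, hg⟩ := Roots36.exists_smul_simple_eq hΔ (Roots36.base_isSimpleSys b)
  refine ⟨RootPairing.Equiv.comp g h, fun a' => ?_⟩
  show _ ↔ g.indexEquiv (h.indexEquiv a') ∈ b.support
  rw [← Finset.mem_coe, ← Finset.mem_coe, ← hg]
  refine ⟨fun ha => ⟨_, ⟨a', ha, rfl⟩, rfl⟩, fun ⟨x, ⟨y, hy, hyx⟩, hx⟩ => ?_⟩
  have : x = h.indexEquiv a' := (Equiv.injective g.indexEquiv) hx
  rw [← hyx] at this
  rwa [← h.indexEquiv.injective this]

/-- Groups over the empty scheme are isomorphic. -/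
theorem nonempty_iso_of_isEmpty [IsEmpty S] : Nonempty (Grp.mk G ≅ Grp.mk G') := by
  haveI : IsEmpty G.left := Function.isEmpty G.hom.base
  haveI : IsEmpty G'.left := Function.isEmpty G'.hom.base
  have hsub : ∀ {X Y : Over S} [IsEmpty X.left] (f g : X ⟶ Y), f = g := fun f g =>
    Over.OverMorphism.ext ((isInitialOfIsEmpty (X := _)).hom_ext _ _)
  let e : G ≅ G' := Over.isoMk ((isInitialOfIsEmpty (X := G.left)).uniqueUpToIso
    (isInitialOfIsEmpty (X := G'.left))) ((isInitialOfIsEmpty (X := G.left)).hom_ext _ _)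
  haveI : IsEmpty (G ⊗ G).left := Function.isEmpty (G ⊗ G).hom.base
  haveI : IsEmpty (𝟙_ (Over S)).left := Function.isEmpty (𝟙_ (Over S)).hom.base
  haveI : IsMonHom e.hom := ⟨hsub _ _, hsub _ _⟩
  exact ⟨Grp.mkIso' e⟩

/-- Split reductive groups with isomorphic root data are isomorphic. -/
theorem nonempty_iso_of_equiv (D : Red.SplitRed G) (D' : Red.SplitRed G') (h : RootPairing.Equiv D'.P D.P) :
    Nonempty (Grp.mk G ≅ Grp.mk G') := by
  rcases isEmpty_or_nonempty S with hS | hS
  · exact nonempty_iso_of_isEmpty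
  · obtain ⟨b⟩ := exists_base D
    obtain ⟨b'⟩ := exists_base D'
    obtain ⟨h', hh'⟩ := exists_equiv_base b b' h
    obtain ⟨f, ⟨hf, -, -⟩, -⟩ := existsUnique_iso_of_equiv D D' b b' h' hh'
    haveI := hf
    exact ⟨Grp.mkIso' f⟩

end Groth.Agent.RedPts82
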