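import Groth.Agent.RedPts82.MonoMultClosed
import Groth.Agent.RedPts82.MultBc
import Groth.Agent.RedPts82.EqLocus
import Mathlib.RingTheory.Valuation.ValuationRing

/-!
A monomorphism from a group of multiplicative type and of finite type to a separated group of
finite type is a closed immersion.
-/

universe u

open CategoryTheory MonoidalCategory CartesianMonoidalCategory MonObj GrpObj AlgebraicGeometry
open CategoryTheory.Limits Polynomial

namespace Groth.Agent.RedPts82

section Gauss

variable (R : Type u) [CommRing R] [IsLocalRing R]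

/-- The prime of the polynomials with zero reduction. -/
noncomputable def gaussIdeal : Ideal R[X] := RingHom.ker (Polynomial.mapRingHom (IsLocalRing.residue R))

instance : (gaussIdeal R).IsPrime := RingHom.ker_isPrime _

/-- The local ring of the generic point of the special fibre of the affine line. -/
abbrev GaussRing : Type u := Localization.AtPrime (gaussIdeal R)

/-- The constants of the Gauss ring. -/
noncomputable def gaussC : R →+* GaussRing R :=
  (algebraMap R[X] (GaussRing R)).comp Polynomial.C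

/-- The reduction of the Gauss ring. -/
noncomputable def gaussRes : GaussRing R →+* FractionRing (IsLocalRing.ResidueField R)[X] :=
  IsLocalization.lift (M := (gaussIdeal R).primeCompl)
    (g := (algebraMap _ _).comp (Polynomial.mapRingHom (IsLocalRing.residue R))) fun y => by
    refine Ne.isUnit fun h => y.2 ?_
    exact IsFractionRing.injective (IsLocalRing.ResidueField R)[X] _ (h.trans (map_zero _).symm)

theorem gaussRes_map (p : R[X]) : gaussRes R (algebraMap R[X] (GaussRing R) p) =
    algebraMap _ _ (p.map (IsLocalRing.residue R)) :=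
  IsLocalization.lift_eq _ _

theorem gaussRes_C (r : R) : gaussRes R (gaussC R r) =
    algebraMap _ _ (C (IsLocalRing.residue R r)) := by
  rw [gaussC, RingHom.comp_apply, gaussRes_map, Polynomial.map_C]

variable (K : Type u) [Field K] [Algebra R K] [IsFractionRing R K]

/-- The generic point of the Gauss ring. -/
noncomputable def gaussGen : GaussRing R →+* FractionRing K[X] :=
  IsLocalization.lift (M := (gaussIdeal R).primeCompl)
    (g := (algebraMap _ _).comp (Polynomial.mapRingHom (algebraMap R K))) fun y => by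
    refine Ne.isUnit fun h0 => y.2 ?_
    have h1 := IsFractionRing.injective K[X] _ (h0.trans (map_zero _).symm)
    rw [Polynomial.coe_mapRingHom, Polynomial.map_eq_zero_iff (IsFractionRing.injective R K)] at h1
    rw [h1]
    exact (gaussIdeal R).zero_mem

theorem gaussGen_map (p : R[X]) : gaussGen R K (algebraMap R[X] (GaussRing R) p) =
    algebraMap _ _ (p.map (algebraMap R K)) :=
  IsLocalization.lift_eq _ _

theorem gaussGen_C (r : R) : gaussGen R K (gaussC R r) =
    algebraMap K[X] _ (C (algebraMap R K r)) := by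
  rw [gaussC, RingHom.comp_apply, gaussGen_map, Polynomial.map_C]

theorem gaussGen_injective [IsDomain R] : Function.Injective (gaussGen R K) := by
  rw [injective_iff_map_eq_zero]
  intro a ha
  obtain ⟨⟨p, s⟩, hp⟩ := IsLocalization.surj (gaussIdeal R).primeCompl a
  have h : gaussGen R K (algebraMap R[X] (GaussRing R) p) = 0 := by
    rw [← hp, map_mul, ha, zero_mul]
  rw [gaussGen_map, ← map_zero (algebraMap K[X] (FractionRing K[X]))] at h
  have h1 := IsFractionRing.injective K[X] _ h
  rw [Polynomial.map_eq_zero_iff (IsFractionRing.injective R K)] at h1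
  rw [h1, map_zero] at hp
  exact (IsLocalization.map_units (GaussRing R) s).mul_left_eq_zero.mp hp

theorem isUnit_gaussX : IsUnit (algebraMap R[X] (GaussRing R) X) :=
  IsLocalization.map_units (GaussRing R) (⟨X, fun h => by
    have h1 : (X : R[X]).map (IsLocalRing.residue R) = 0 := h
    rw [Polynomial.map_X] at h1
    exact X_ne_zero h1⟩ : (gaussIdeal R).primeCompl)

/-- The variable, as a unit of the Gauss ring. -/
noncomputable def gaussT : (GaussRing R)ˣ := (isUnit_gaussX R).unit

theorem gaussRes_T : gaussRes R (gaussT R : GaussRing R) =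
    algebraMap (IsLocalRing.ResidueField R)[X] _ X := by
  rw [gaussT, IsUnit.unit_spec, gaussRes_map, Polynomial.map_X]

theorem gaussGen_T : gaussGen R K (gaussT R : GaussRing R) = algebraMap K[X] _ X := by
  rw [gaussT, IsUnit.unit_spec, gaussGen_map, Polynomial.map_X]

variable [IsDomain R] [ValuationRing R]

set_option maxHeartbeats 1000000 in
/-- Along the points with values `τ(λ)ⁿ T^{χ λ}`, a rational function regular at the generic point
of the special fibre reduces to a constant, for all but finitely many `n`. -/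
theorem exists_finite_exception {F : Type} [AddCommGroup F] (τ : Multiplicative F →* K)
    (hτ : ∀ g, (ValuationRing.valuation R K) (τ g) = 1 → g = 1) (χ : F →+ ℤ)
    (φ : ℕ → MonoidAlgebra K (Multiplicative F) →+* FractionRing K[X])
    (hφ : ∀ n g c, φ n (MonoidAlgebra.single g c) = algebraMap K[X] _ (C (c * τ g ^ n)) *
      gaussGen R K ((gaussT R ^ χ (Multiplicative.toAdd g) : (GaussRing R)ˣ) : GaussRing R))
    (P Q : MonoidAlgebra K (Multiplicative F)) (hQ : Q ≠ 0) :
    ∃ E : Finset ℕ, ∀ n ∉ E, φ n Q ≠ 0 ∧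
      ∀ a : GaussRing R, gaussGen R K a * φ n Q = φ n P →
        gaussRes R a ∈ Set.range ((algebraMap (IsLocalRing.ResidueField R)[X] _).comp C) := by
  classical
  let v := ValuationRing.valuation R K
  let j := gaussGen R K
  let ρ := gaussRes R
  let ιK : K →+* FractionRing K[X] := (algebraMap K[X] _).comp C
  let mon : Multiplicative F → (GaussRing R)ˣ := fun g => gaussT R ^ χ (Multiplicative.toAdd g)
  let wt : MonoidAlgebra K (Multiplicative F) → ℕ → Multiplicative F → K :=
    fun P n g => P.coeff g * τ g ^ n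
  -- every `τ g` is a unit of the fraction field
  have hτ0 : ∀ g, v (τ g) ≠ 0 := fun g h => by
    have := congrArg v (congrArg τ (mul_inv_cancel g))
    rw [map_mul, map_mul, map_one, map_one, show v (τ g) = 0 from h, zero_mul] at this
    exact zero_ne_one this
  have hone : ∀ (P₁ P₂ : MonoidAlgebra K (Multiplicative F)) (g g' : Multiplicative F), g ≠ g' →
      P₂.coeff g' ≠ 0 →
      {n : ℕ | v (wt P₁ n g) = v (wt P₂ n g') ∧ v (P₁.coeff g) ≠ 0}.Subsingleton := by
    intro P₁ P₂ g g' hne hc' n hn m hm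
    by_contra hnm
    wlog hlt : m < n generalizing n m
    · exact this hm hn (Ne.symm hnm) (lt_of_le_of_ne (not_lt.mp hlt) hnm)
    obtain ⟨k, rfl⟩ := Nat.exists_eq_add_of_lt hlt
    obtain ⟨h₁, h₀⟩ := hn
    obtain ⟨h₂, -⟩ := hm
    simp only [wt, map_mul, map_pow, Nat.add_assoc m k 1] at h₁ h₂
    rw [pow_add _ m (k + 1), pow_add _ m (k + 1), ← _root_.mul_assoc, ← _root_.mul_assoc, ← h₂] at h₁
    have h₃ := h₁
    have h₄ := mul_left_cancel₀ (mul_ne_zero h₀ (pow_ne_zero _ (hτ0 g))) h₃
    have h₅ : v (τ g) = v (τ g') := (pow_left_inj₀ zero_le' zero_le' (Nat.succ_ne_zero k)).mp h₄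
    refine hne ?_
    have h₆ := hτ (g * g'⁻¹) (by
      rw [map_mul, map_mul, h₅, ← map_mul, ← map_mul, mul_inv_cancel, map_one, map_one])
    exact mul_inv_eq_one.mp h₆
  -- the exceptional integers
  let ex : MonoidAlgebra K (Multiplicative F) → MonoidAlgebra K (Multiplicative F) → Set ℕ :=
    fun P₁ P₂ => {n | ∃ g ∈ P₁.coeff.support, ∃ g' ∈ P₂.coeff.support, g ≠ g' ∧
      v (wt P₁ n g) = v (wt P₂ n g')}
  have hex : ∀ P₁ P₂, (ex P₁ P₂).Finite := by
    intro P₁ P₂
    refine ((P₁.coeff.support ×ˢ P₂.coeff.support).finite_toSet.biUnion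
      (t := fun q => {n : ℕ | q.1 ≠ q.2 ∧ v (wt P₁ n q.1) = v (wt P₂ n q.2)}) fun q hq => ?_).subset ?_
    · by_cases hne : q.1 = q.2
      · exact Set.Finite.subset Set.finite_empty fun n hn => absurd hne hn.1
      obtain ⟨hq₁, hq₂⟩ := Finset.mem_product.mp hq
      exact ((hone P₁ P₂ q.1 q.2 hne (Finsupp.mem_support_iff.mp hq₂)).finite).subset fun n hn =>
        ⟨hn.2, (map_ne_zero v).mpr (Finsupp.mem_support_iff.mp hq₁)⟩
    · rintro n ⟨g, hg, g', hg', hne, he⟩
      exact Set.mem_biUnion (x := (g, g')) (Finset.mem_product.mpr ⟨hg, hg'⟩) ⟨hne, he⟩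
  -- the dominant term
  have hdom : ∀ P : MonoidAlgebra K (Multiplicative F), P ≠ 0 → ∀ n ∉ ex P P,
      ∃ g ∈ P.coeff.support, wt P n g ≠ 0 ∧ ∃ a : GaussRing R,
        φ n P = ιK (wt P n g) * j a ∧ ρ a = ρ (mon g : GaussRing R) := by
    intro P hP n hn
    have hne : P.coeff.support.Nonempty := by
      rw [Finsupp.support_nonempty_iff]
      exact fun h => hP (MonoidAlgebra.coeff_injective (h.trans MonoidAlgebra.coeff_zero.symm))
    obtain ⟨g, hg, hmax⟩ := P.coeff.support.exists_max_image (fun g => v (wt P n g)) hne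
    have hw : wt P n g ≠ 0 := by
      simp only [wt]
      exact mul_ne_zero (Finsupp.mem_support_iff.mp hg) (pow_ne_zero _ fun h => hτ0 g (by
        rw [h, map_zero]))
    have hr : ∀ g' : P.coeff.support, ∃ r : R, algebraMap R K r = wt P n g' / wt P n g ∧
        (g'.1 ≠ g → IsLocalRing.residue R r = 0) := by
      rintro ⟨g', hg'⟩
      have hle : v (wt P n g' / wt P n g) ≤ 1 := by
        rw [map_div₀, div_le_one₀ (zero_lt_iff.mpr ((map_ne_zero v).mpr hw))]
        exact hmax g' hg'
      obtain ⟨r, hr⟩ := (ValuationRing.mem_integer_iff R K _).mp hle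
      refine ⟨r, hr, fun hne => (IsLocalRing.residue_eq_zero_iff _).mpr fun hu => ?_⟩
      obtain ⟨u, rfl⟩ := hu
      have h1 : v (algebraMap R K u) * v (algebraMap R K (u⁻¹ : Rˣ)) = 1 := by
        rw [← map_mul, ← map_mul, Units.mul_inv, map_one, map_one]
      have h2 : ∀ r : R, v (algebraMap R K r) ≤ 1 := fun r =>
        (ValuationRing.mem_integer_iff R K _).mpr ⟨r, rfl⟩
      have h3 : v (algebraMap R K u) = 1 := le_antisymm (h2 _) (by
        calc (1 : _) = v (algebraMap R K u) * v (algebraMap R K (u⁻¹ : Rˣ)) := h1.symm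
          _ ≤ v (algebraMap R K u) * 1 := by gcongr; exact h2 _
          _ = _ := _root_.mul_one _)
      rw [hr, map_div₀, div_eq_one_iff_eq ((map_ne_zero v).mpr hw)] at h3
      exact hn ⟨g', hg', g, hg, hne, h3⟩
    choose r hr hr0 using hr
    refine ⟨g, hg, hw, ∑ g' : P.coeff.support, gaussC R (r g') * mon g'.1, ?_, ?_⟩
    · conv_lhs => rw [← MonoidAlgebra.sum_coeff_single P]
      rw [Finsupp.sum, map_sum, map_sum, Finset.mul_sum, ← Finset.sum_coe_sort]
      refine Finset.sum_congr rfl fun g' _ => ?_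
      rw [hφ]
      show _ = ιK _ * gaussGen R K (gaussC R (r g') * _)
      rw [map_mul (gaussGen R K), gaussGen_C, ← _root_.mul_assoc, hr]
      show _ = ιK (wt P n g) * ιK (wt P n g' / wt P n g) * _
      rw [← map_mul, mul_div_cancel₀ _ hw]
      rfl
    · rw [map_sum, Finset.sum_eq_single ⟨g, hg⟩]
      · rw [map_mul]
        show gaussRes R (gaussC R (r _)) * _ = _
        rw [gaussRes_C]
        have h1 : r ⟨g, hg⟩ = 1 := IsFractionRing.injective R K (by
          rw [hr, div_self hw, map_one])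
        rw [h1, map_one, map_one, map_one, _root_.one_mul]
      · intro g' _ hne
        rw [map_mul]
        show gaussRes R (gaussC R (r _)) * _ = _
        rw [gaussRes_C, hr0 g' fun h => hne (Subtype.ext h), map_zero, map_zero, zero_mul]
      · intro h
        exact absurd (Finset.mem_univ _) h
  have hmon : ∀ g, ρ (mon g : GaussRing R) ≠ 0 := fun g => ((mon g).isUnit.map ρ).ne_zero
  refine ⟨((hex Q Q).union ((hex P P).union (hex P Q))).toFinset, fun n hn => ?_⟩
  simp only [Set.Finite.mem_toFinset, Set.mem_union, not_or] at hn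
  obtain ⟨hnQ, hnP, hnPQ⟩ := hn
  obtain ⟨mu, hμ, hwmu, aQ, heQ, hρQ⟩ := hdom Q hQ n hnQ
  have hQ0 : φ n Q ≠ 0 := by
    rw [heQ]
    refine mul_ne_zero ((map_ne_zero ιK).mpr hwmu) fun h => hmon mu ?_
    rw [← hρQ, gaussGen_injective R K (h.trans (map_zero j).symm), map_zero]
  refine ⟨hQ0, fun a ha => ?_⟩
  by_cases hP : P = 0
  · rw [hP, map_zero, mul_eq_zero, or_iff_left hQ0] at ha
    rw [gaussGen_injective R K (ha.trans (map_zero j).symm), map_zero]
    exact ⟨0, map_zero _⟩
  obtain ⟨l, hl, hwl, aP, heP, hρP⟩ := hdom P hP n hnP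
  let c : K := wt P n l / wt Q n mu
  have hc : j a * j aQ = ιK c * j aP := by
    rw [heQ, heP] at ha
    simp only [c]
    rw [map_div₀, div_mul_eq_mul_div, eq_div_iff ((map_ne_zero ιK).mpr hwmu), ← ha]
    ring
  have hdich : (∃ r : R, algebraMap R K r = c) ∨
      ∃ r : R, algebraMap R K r = c⁻¹ ∧ ¬ IsUnit r := by
    rcases ValuationRing.isInteger_or_isInteger R c with ⟨r, hr⟩ | ⟨r, hr⟩
    · exact .inl ⟨r, hr⟩
    by_cases hu : IsUnit r
    · refine .inl ⟨((hu.unit⁻¹ : Rˣ) : R), ?_⟩
      rw [← inv_inv c, ← hr]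
      refine eq_inv_of_mul_eq_one_left ?_
      rw [← map_mul, IsUnit.val_inv_mul, map_one]
    · exact .inr ⟨r, hr, hu⟩
  rcases hdich with ⟨r, hr⟩ | ⟨r, hr, hu⟩
  · have he : a * aQ = gaussC R r * aP := gaussGen_injective R K (by
      rw [map_mul, map_mul, gaussGen_C, hr]
      exact hc)
    have he' := congrArg ρ he
    rw [map_mul, map_mul, hρQ, hρP] at he'
    by_cases hu : IsUnit r
    · have hlmu : l = mu := by
        by_contra hne
        refine hnPQ ⟨l, hl, mu, hμ, hne, ?_⟩
        obtain ⟨u, rfl⟩ := hu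
        have h2 : ∀ r : R, v (algebraMap R K r) ≤ 1 := fun r =>
          (ValuationRing.mem_integer_iff R K _).mpr ⟨r, rfl⟩
        have h3 : v (algebraMap R K u) = 1 := le_antisymm (h2 _) (by
          calc (1 : _) = v (algebraMap R K u) * v (algebraMap R K (u⁻¹ : Rˣ)) := by
                rw [← map_mul, ← map_mul, Units.mul_inv, map_one, map_one]
            _ ≤ v (algebraMap R K u) * 1 := by gcongr; exact h2 _
            _ = _ := _root_.mul_one _)
        rw [hr, map_div₀, div_eq_one_iff_eq ((map_ne_zero v).mpr hwmu)] at h3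
        exact h3
      refine ⟨IsLocalRing.residue R r, ?_⟩
      rw [hlmu] at he'
      refine (mul_right_cancel₀ (hmon mu) (he'.trans ?_)).symm
      show gaussRes R (gaussC R r) * _ = _
      rw [gaussRes_C]
      rfl
    · have h0 : IsLocalRing.residue R r = 0 := (IsLocalRing.residue_eq_zero_iff _).mpr hu
      refine ⟨0, ?_⟩
      rw [map_zero]
      have h1 : ρ a * ρ (mon mu : GaussRing R) = 0 := by
        rw [he']
        show gaussRes R (gaussC R r) * _ = _
        rw [gaussRes_C, h0, map_zero, map_zero, zero_mul]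
      exact ((mul_eq_zero.mp h1).resolve_right (hmon mu)).symm
  · exfalso
    have hc0 : c ≠ 0 := div_ne_zero hwl hwmu
    have he : gaussC R r * (a * aQ) = aP := gaussGen_injective R K (by
      rw [map_mul, map_mul, gaussGen_C, hr, hc, ← _root_.mul_assoc]
      show ιK c⁻¹ * ιK c * _ = _
      rw [← map_mul, inv_mul_cancel₀ hc0, map_one, _root_.one_mul])
    have he' := congrArg ρ he
    rw [map_mul, hρP] at he'
    refine hmon l (he'.symm.trans ?_)
    show gaussRes R (gaussC R r) * _ = _
    rw [gaussRes_C, (IsLocalRing.residue_eq_zero_iff _).mpr hu, map_zero, map_zero, zero_mul]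

end Gauss

section Points

variable {W : Scheme.{u}} {R : CommRingCat.{u}} (g : Spec R ⟶ W)
  {M : Type} [AddCommGroup M]

/-- The test object of a ring over the base ring. -/
noncomputable abbrev zP {B : Type u} [CommRing B] (f : R →+* B) : Over W :=
  Over.mk (Spec.map (CommRingCat.ofHom f) ≫ g)

variable {B B' : Type u} [CommRing B] [CommRing B'] {f : R →+* B} {f' : R →+* B'}

/-- The morphism of test objects of a homomorphism of rings. -/
noncomputable def zMap (h : B →+* B') (hh : h.comp f = f') : zP g f' ⟶ zP g f :=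
  Over.homMk (Spec.map (CommRingCat.ofHom h)) (by
    show _ ≫ Spec.map _ ≫ g = Spec.map _ ≫ g
    rw [← Spec.map_comp_assoc, ← hh]
    rfl)

theorem zMap_left (h : B →+* B') (hh : h.comp f = f') :
    (zMap g h hh).left = Spec.map (CommRingCat.ofHom h) := rfl

theorem zMap_comp {B'' : Type u} [CommRing B''] {f'' : R →+* B''} (h : B →+* B') (hh : h.comp f = f')
    (h' : B' →+* B'') (hh' : h'.comp f' = f'') :
    zMap g h' hh' ≫ zMap g h hh =
      zMap g (h'.comp h) (by rw [RingHom.comp_assoc, hh, hh']) :=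
  Over.OverMorphism.ext (Spec.map_comp _ _).symm

theorem exists_dsPt (f : R →+* B) (ψ : Multiplicative M →* B) : ∃ t : zP g f ⟶ Red.DS W M,
    ∀ m, dsFn t m = (Scheme.ΓSpecIso (CommRingCat.of B)).inv (ψ (Multiplicative.ofAdd m)) :=
  dsFn_surjective (X := zP g f) ((Scheme.ΓSpecIso (CommRingCat.of B)).inv.hom.toMonoidHom.comp ψ)

/-- The point of a diagonalisable group given by values of the characters. -/
noncomputable def dsPt (f : R →+* B) (ψ : Multiplicative M →* B) : zP g f ⟶ Red.DS W M :=
  (exists_dsPt g f ψ).choose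

theorem dsFn_dsPt (f : R →+* B) (ψ : Multiplicative M →* B) (m : M) :
    dsFn (dsPt g f ψ) m =
      (Scheme.ΓSpecIso (CommRingCat.of B)).inv (ψ (Multiplicative.ofAdd m)) :=
  (exists_dsPt g f ψ).choose_spec m

theorem dsPt_surj (t : zP g f ⟶ Red.DS W M) : ∃ ψ, dsPt g f ψ = t :=
  ⟨{ toFun := fun m => (Scheme.ΓSpecIso (CommRingCat.of B)).hom (dsFn t (Multiplicative.toAdd m))
     map_one' := by rw [toAdd_one, dsFn_zero, map_one]
     map_mul' := fun a b => by rw [toAdd_mul, dsFn_add, map_mul] },
    dsFn_injective fun m => by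
      rw [dsFn_dsPt]
      exact ConcreteCategory.congr_hom (Scheme.ΓSpecIso (CommRingCat.of B)).hom_inv_id (dsFn t m)⟩

theorem dsPt_injective {ψ ψ' : Multiplicative M →* B} (h : dsPt g f ψ = dsPt g f ψ') : ψ = ψ' :=
  MonoidHom.ext fun m => (Scheme.ΓSpecIso (CommRingCat.of B)).commRingCatIsoToRingEquiv.symm.injective
    ((dsFn_dsPt g f ψ (Multiplicative.toAdd m)).symm.trans
      ((congrArg (dsFn · _) h).trans (dsFn_dsPt g f ψ' (Multiplicative.toAdd m))))

theorem dsPt_mul (ψ ψ' : Multiplicative M →* B) :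
    dsPt g f (ψ * ψ') = dsPt g f ψ * dsPt g f ψ' :=
  dsFn_injective fun m => by
    rw [dsFn_mul, dsFn_dsPt, dsFn_dsPt, dsFn_dsPt, ← map_mul]
    rfl

theorem dsPt_pow (ψ : Multiplicative M →* B) : ∀ n : ℕ, dsPt g f (ψ ^ n) = dsPt g f ψ ^ n
  | 0 => by
    rw [pow_zero, pow_zero]
    exact dsFn_injective fun m => by rw [dsFn_one, dsFn_dsPt, MonoidHom.one_apply, map_one]
  | n + 1 => by rw [pow_succ, pow_succ, dsPt_mul, dsPt_pow ψ n]

theorem zMap_dsPt (h : B →+* B') (hh : h.comp f = f') (ψ : Multiplicative M →* B) :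
    zMap g h hh ≫ dsPt g f ψ = dsPt g f' (h.toMonoidHom.comp ψ) :=
  dsFn_injective fun m => by
    rw [dsFn_comp, dsFn_dsPt, dsFn_dsPt]
    exact (congr($(Scheme.ΓSpecIso_inv_naturality (CommRingCat.ofHom h)) (ψ (Multiplicative.ofAdd m)))).symm

end Points

theorem comp_npow {S : Scheme.{u}} {X Y G : Over S} [GrpObj G] (p : X ⟶ Y) (y : Y ⟶ G) :
    ∀ n : ℕ, p ≫ y ^ n = (p ≫ y) ^ n
  | 0 => by rw [pow_zero, pow_zero, MonObj.comp_one]
  | n + 1 => by rw [pow_succ, pow_succ, MonObj.comp_mul, comp_npow p y n]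

theorem hom_npow {S : Scheme.{u}} {X H G : Over S} [GrpObj H] [GrpObj G] (q : H ⟶ G) [IsMonHom q]
    (t : X ⟶ H) : ∀ n : ℕ, (t ^ n) ≫ q = (t ≫ q) ^ n
  | 0 => by rw [pow_zero, pow_zero, MonObj.one_comp]
  | n + 1 => by rw [pow_succ, pow_succ, MonObj.mul_comp _ _ q, hom_npow q t n]

set_option maxHeartbeats 2000000 in
/-- The values of the characters at a point over the generic point of a valuation ring whose image
extends to the ring are integral. -/
theorem dsPt_integral {W : Scheme.{u}} [IsAffine W] {G : Over W} [GrpObj G] [QuasiCompact G.hom]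
    [LocallyOfFiniteType G.hom] {M : Type} [AddCommGroup M] (hM : AddGroup.FG M)
    (q : Red.DS W M ⟶ G) [IsMonHom q] [Mono q] {R : CommRingCat.{u}} [IsDomain R] [ValuationRing R]
    {K : Type u} [Field K] [Algebra R K] [IsFractionRing R K] (g : Spec R ⟶ W)
    (ψ : Multiplicative M →* K) (x : zP g (RingHom.id R) ⟶ G)
    (hx : zMap g (algebraMap R K) (RingHom.comp_id _) ≫ x = dsPt g (algebraMap R K) ψ ≫ q) :
    ∀ m, ∃ r : R, algebraMap R K r = ψ m := by
  classical
  let v := ValuationRing.valuation R K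
  let res : zP g (algebraMap R K) ⟶ zP g (RingHom.id R) :=
    zMap g (algebraMap R K) (RingHom.comp_id _)
  have hψ0 : ∀ m, ψ m ≠ 0 := fun m h => by
    have := congrArg ψ (mul_inv_cancel m)
    rw [map_mul, map_one, h, zero_mul] at this
    exact zero_ne_one this
  let N : AddSubgroup M :=
    { carrier := {m | v (ψ (Multiplicative.ofAdd m)) = 1}
      zero_mem' := by simp
      add_mem' := fun {a b} ha hb => by
        show v (ψ (Multiplicative.ofAdd a * Multiplicative.ofAdd b)) = 1
        rw [map_mul, map_mul, ha, hb, _root_.mul_one]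
      neg_mem' := fun {a} ha => by
        show v (ψ (Multiplicative.ofAdd a)⁻¹) = 1
        have h := congrArg v (congrArg ψ (inv_mul_cancel (Multiplicative.ofAdd a)))
        rwa [map_mul, map_mul, show v (ψ (Multiplicative.ofAdd a)) = 1 from ha, _root_.mul_one,
          map_one, map_one] at h }
  by_cases hN : ∀ m, m ∈ N
  · intro m
    exact (ValuationRing.mem_integer_iff R K _).mp (hN (Multiplicative.toAdd m) : v (ψ m) = 1).le
  exfalso
  push Not at hN
  obtain ⟨m₀, hm₀⟩ := hN
  -- the torsion-free quotient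
  let F := M ⧸ N
  let π : M →+ F := QuotientAddGroup.mk' N
  haveI : AddGroup.FG M := hM
  haveI : IsAddTorsionFree F := by
    refine ⟨fun n hn a b hab => ?_⟩
    obtain ⟨a, rfl⟩ := QuotientAddGroup.mk_surjective a
    obtain ⟨b, rfl⟩ := QuotientAddGroup.mk_surjective b
    have h0 : n • (a - b) ∈ N := by
      rw [← QuotientAddGroup.eq_zero_iff, smul_sub, QuotientAddGroup.mk_sub,
        QuotientAddGroup.mk_nsmul, QuotientAddGroup.mk_nsmul, sub_eq_zero]
      exact hab
    refine sub_eq_zero.mp ?_
    rw [← QuotientAddGroup.mk_sub, QuotientAddGroup.eq_zero_iff]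
    show v (ψ (Multiplicative.ofAdd (a - b))) = 1
    have h1 : v (ψ (Multiplicative.ofAdd (a - b))) ^ n = 1 := by
      rw [← map_pow, ← map_pow, ← ofAdd_nsmul]
      exact h0
    exact (pow_eq_one_iff_of_nonneg zero_le' hn).mp h1
  haveI : Module.Finite ℤ M := Module.Finite.iff_addGroup_fg.mpr hM
  haveI : Module.Finite ℤ F := Module.Finite.of_surjective π.toIntLinearMap QuotientAddGroup.mk_surjective
  haveI : Module.Free ℤ F := Module.free_of_finite_type_torsion_free'
  obtain ⟨sec, hsec⟩ := Module.projective_lifting_property π.toIntLinearMap LinearMap.id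
    QuotientAddGroup.mk_surjective
  have hπsec : ∀ f : F, π (sec f) = f := fun f => LinearMap.congr_fun hsec f
  let bF := Module.Free.chooseBasis ℤ F
  obtain ⟨i, hi⟩ : ∃ i, bF.repr (π m₀) i ≠ 0 := by
    by_contra h
    push Not at h
    apply hm₀
    rw [← QuotientAddGroup.eq_zero_iff]
    exact bF.repr.map_eq_zero_iff.mp (Finsupp.ext h)
  let χ : F →+ ℤ := (bF.coord i).toAddMonoidHom
  have hχ : χ (π m₀) ≠ 0 := hi
  -- splitting off an integral point
  let πM : Multiplicative M →* Multiplicative F := AddMonoidHom.toMultiplicative π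
  let τ : Multiplicative F →* K := ψ.comp (AddMonoidHom.toMultiplicative sec.toAddMonoidHom)
  have hτ : ∀ f, v (τ f) = 1 → f = 1 := by
    intro f hf
    have h : sec (Multiplicative.toAdd f) ∈ N := hf
    have h' := (QuotientAddGroup.eq_zero_iff _).mpr h
    rw [show ((sec (Multiplicative.toAdd f) : M) : F) = π (sec (Multiplicative.toAdd f)) from rfl,
      hπsec] at h'
    exact h'
  let ν : Multiplicative M →* Multiplicative M :=
    AddMonoidHom.toMultiplicative ((sec.toAddMonoidHom.comp π) - AddMonoidHom.id M)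
  have hνv : ∀ m, v (ψ (ν m)) = 1 := by
    intro m
    show sec (π (Multiplicative.toAdd m)) - Multiplicative.toAdd m ∈ N
    rw [← QuotientAddGroup.eq_zero_iff]
    show π (_ - _) = 0
    rw [map_sub, hπsec, sub_self]
  choose r hr using fun m => (ValuationRing.mem_integer_iff R K _).mp (hνv m).le
  let ψ₀ : Multiplicative M →* R :=
    { toFun := r
      map_one' := IsFractionRing.injective R K (by rw [hr, map_one, map_one, map_one])
      map_mul' := fun a b => IsFractionRing.injective R K (by
        rw [map_mul, hr, hr, hr, map_mul, map_mul]) }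
  let x₁ : zP g (RingHom.id R) ⟶ G := x * (dsPt g (RingHom.id R) ψ₀ ≫ q)
  have hx₁ : res ≫ x₁ = dsPt g (algebraMap R K) (τ.comp πM) ≫ q := by
    rw [MonObj.comp_mul, hx, ← Category.assoc, zMap_dsPt, ← MonObj.mul_comp _ _ q, ← dsPt_mul]
    congr 2
    refine MonoidHom.ext fun m => ?_
    show ψ m * algebraMap R K (r m) = ψ _
    rw [hr, ← map_mul]
    congr 1
    show Multiplicative.ofAdd (Multiplicative.toAdd m + (sec (π (Multiplicative.toAdd m)) -
      Multiplicative.toAdd m)) = Multiplicative.ofAdd _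
    rw [add_sub_cancel]
    rfl
  -- the rings
  let A := GaussRing R
  let fA : R →+* A := gaussC R
  let L := FractionRing K[X]
  let j : A →+* L := gaussGen R K
  let fL : R →+* L := j.comp fA
  let k := IsLocalRing.ResidueField R
  let L' := FractionRing k[X]
  let ρ : A →+* L' := gaussRes R
  let cst : k →+* L' := (algebraMap k[X] L').comp C
  let fL' : R →+* L' := ρ.comp fA
  have hjC : ∀ a : R, j (fA a) = algebraMap K[X] L (C (algebraMap R K a)) := gaussGen_C R K
  let tA : Multiplicative M →* A :=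
    { toFun := fun m => ((gaussT R ^ χ (π (Multiplicative.toAdd m)) : Aˣ) : A)
      map_one' := by rw [toAdd_one, map_zero, map_zero, zpow_zero, Units.val_one]
      map_mul' := fun a b => by rw [toAdd_mul, map_add, map_add, zpow_add, Units.val_mul] }
  let xA : zP g fA ⟶ G := zMap g fA (RingHom.comp_id _) ≫ x₁
  let P : ℕ → (zP g fA ⟶ G) := fun n => xA ^ n * (dsPt g fA tA ≫ q)
  -- the universal rational point
  let KF := MonoidAlgebra K (Multiplicative F)
  let fK : R →+* KF := MonoidAlgebra.singleOneRingHom.comp (algebraMap R K)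
  let univ : zP g fK ⟶ G := dsPt g fK ((MonoidAlgebra.of K _).comp πM) ≫ q
  let ιK : K →+* L := (algebraMap K[X] L).comp C
  let φ : ℕ → KF →+* L := fun n => MonoidAlgebra.liftNCRingHom ιK
    { toFun := fun f => ιK (τ f ^ n) *
        j ((gaussT R ^ χ (Multiplicative.toAdd f) : Aˣ) : A)
      map_one' := by
        rw [toAdd_one, map_zero, zpow_zero, Units.val_one, map_one, map_one, one_pow, map_one,
          _root_.one_mul]
      map_mul' := fun a b => by
        rw [toAdd_mul, map_add, zpow_add, Units.val_mul, map_mul j, map_mul τ, mul_pow, map_mul ιK,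
          _root_.mul_mul_mul_comm] } fun _ _ => mul_comm _ _
  have hφ : ∀ n f c, φ n (MonoidAlgebra.single f c) = ιK (c * τ f ^ n) *
      j ((gaussT R ^ χ (Multiplicative.toAdd f) : Aˣ) : A) := by
    intro n f c
    refine (MonoidAlgebra.liftNC_single _ _ _ _).trans ?_
    rw [map_mul, _root_.mul_assoc]
    rfl
  have hφK : ∀ n, (φ n).comp fK = fL := fun n => RingHom.ext fun a => by
    show φ n (MonoidAlgebra.single 1 (algebraMap R K a)) = j (fA a)
    rw [hφ, toAdd_one, map_zero, zpow_zero, Units.val_one, map_one, map_one, one_pow,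
      _root_.mul_one, _root_.mul_one, hjC]
    rfl
  have hgen : ∀ n, zMap g j rfl ≫ P n = zMap g (φ n) (hφK n) ≫ univ := by
    intro n
    have hcst : ∀ (f' : R →+* L) (h₁ : ιK.comp (algebraMap R K) = f') (h₂ : j.comp fA = f'),
        zMap g j h₂ ≫ xA = zMap g ιK h₁ ≫ res ≫ x₁ := by
      intro f' h₁ h₂
      simp only [xA, res, ← Category.assoc]
      refine congrArg (· ≫ x₁) (Over.OverMorphism.ext ?_)
      rw [Over.comp_left, Over.comp_left, zMap_left, zMap_left, zMap_left, zMap_left, ← Spec.map_comp,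
        ← Spec.map_comp]
      exact congrArg Spec.map (CommRingCat.hom_ext (RingHom.ext fun a => hjC a))
    rw [MonObj.comp_mul, comp_npow, hcst fL (RingHom.ext fun a => (hjC a).symm) rfl, hx₁]
    simp only [univ, ← Category.assoc, zMap_dsPt]
    rw [← hom_npow q, ← dsPt_pow, ← MonObj.mul_comp _ _ q, ← dsPt_mul]
    congr 2
    refine MonoidHom.ext fun m => ?_
    show (ιK (τ (πM m))) ^ n * j _ = φ n (MonoidAlgebra.single (πM m) 1)
    rw [hφ, _root_.one_mul, map_pow]
    rfl
  -- pigeonhole
  haveI : CompactSpace G.left := QuasiCompact.compactSpace_of_compactSpace G.hom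
  obtain ⟨J, -, hJ⟩ : ∃ J : Finset G.left.affineOpens, True ∧
      ∀ y : G.left, ∃ V ∈ J, y ∈ (V : G.left.Opens) := by
    obtain ⟨J, hJ⟩ := isCompact_univ.elim_finite_subcover
      (fun V : G.left.affineOpens => ((V : G.left.Opens) : Set G.left)) (fun V => V.1.2) fun y _ => by
        obtain ⟨V, hV, hyV, -⟩ := exists_isAffineOpen_mem_and_subset (x := y) (U := ⊤) trivial
        exact Set.mem_iUnion.mpr ⟨⟨V, hV⟩, hyV⟩
    exact ⟨J, trivial, fun y => by simpa using hJ (Set.mem_univ y)⟩
  have hbox : ∀ n, ∃ V : J, (P n).left (IsLocalRing.closedPoint A) ∈ ((V : G.left.affineOpens) : G.left.Opens) :=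
    fun n => (hJ _).elim fun V hV => ⟨⟨V, hV.1⟩, hV.2⟩
  choose Vn hVn using hbox
  obtain ⟨⟨⟨V, hVa⟩, hVJ⟩, hinf⟩ := Finite.exists_infinite_fiber Vn
  have hinf' : (Vn ⁻¹' {⟨⟨V, hVa⟩, hVJ⟩}).Infinite := Set.infinite_coe_iff.mp hinf
  haveI : IsAffine (V : Scheme.{u}) := hVa
  have hmemV : ∀ n ∈ Vn ⁻¹' {⟨⟨V, hVa⟩, hVJ⟩}, (P n).left ⁻¹ᵁ V = ⊤ := by
    intro n hn
    have h1 := hVn n
    rw [Set.mem_preimage, Set.mem_singleton_iff] at hn
    rw [hn] at h1
    ext y
    simp only [TopologicalSpace.Opens.coe_top, Set.mem_univ, iff_true]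
    exact (IsLocalRing.specializes_closedPoint y).mem_open ((P n).left ⁻¹ᵁ V).2 h1
  -- the open set where the universal point lands in the chart
  obtain ⟨n₁, hn₁⟩ := hinf'.nonempty
  let pt : ↥(Spec (CommRingCat.of L)) := IsLocalRing.closedPoint L
  have hU : (Spec.map (CommRingCat.ofHom (φ n₁))) pt ∈ univ.left ⁻¹ᵁ V := by
    have h1 := congrArg (fun a => a.left pt) (hgen n₁)
    simp only [Over.comp_left, Scheme.Hom.comp_apply, zMap_left] at h1
    show univ.left _ ∈ V
    rw [← h1]
    exact (hmemV n₁ hn₁).ge (Set.mem_univ _)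
  obtain ⟨_, ⟨_, ⟨Q, rfl⟩, rfl⟩, hQm, hQle⟩ :=
    PrimeSpectrum.isBasis_basic_opens.exists_subset_of_mem_open hU (univ.left ⁻¹ᵁ V).2
  have hQ : Q ≠ 0 := fun h => by
    rw [h] at hQm
    simp at hQm
  let iQ : Spec (CommRingCat.of (Localization.Away Q)) ⟶ Spec (CommRingCat.of KF) :=
    Spec.map (CommRingCat.ofHom (algebraMap KF (Localization.Away Q)))
  have hrQ : Set.range (iQ ≫ univ.left) ⊆ Set.range V.ι := by
    rw [Scheme.Opens.range_ι]
    rintro _ ⟨y, rfl⟩
    exact hQle ((PrimeSpectrum.localization_away_comap_range (Localization.Away Q) Q).le ⟨y, rfl⟩)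
  let e := Scheme.ΓSpecIso
  let uV : Spec (CommRingCat.of (Localization.Away Q)) ⟶ V :=
    IsOpenImmersion.lift V.ι (iQ ≫ univ.left) hrQ
  let hQhom : Γ(V, ⊤) →+* Localization.Away Q := (uV.appTop ≫ (e _).hom).hom
  have hlift : ∀ n ∈ Vn ⁻¹' {⟨⟨V, hVa⟩, hVJ⟩}, Set.range (P n).left ⊆ Set.range V.ι := by
    intro n hn
    rw [Scheme.Opens.range_ι]
    rintro _ ⟨y, rfl⟩
    exact (hmemV n hn).ge (Set.mem_univ y)
  -- generators
  haveI := hVa
  let GV : Γ(W, ⊤) →+* Γ(V, ⊤) := ((V.ι ≫ G.hom).appTop).hom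
  have hft : GV.FiniteType := by
    have : LocallyOfFiniteType (V.ι ≫ G.hom) := inferInstance
    exact (HasRingHomProperty.iff_of_isAffine (P := @LocallyOfFiniteType)).mp this
  obtain ⟨gens, hgens⟩ := hft
  choose num hnum using fun a : Γ(V, ⊤) =>
    IsLocalization.surj (Submonoid.powers Q) (hQhom a)
  choose E hE using fun a : Γ(V, ⊤) => exists_finite_exception R K τ hτ χ φ hφ (num a).1
    ((num a).2 : KF) (by
      obtain ⟨_, i, rfl⟩ := (num a).2
      intro h
      exact hQm (((Spec.map (CommRingCat.ofHom (φ n₁))) pt).2.mem_of_pow_mem i (by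
        change Q ^ i = 0 at h
        rw [h]; exact Ideal.zero_mem _)))
  obtain ⟨EQ, hEQ⟩ := exists_finite_exception R K τ hτ χ φ hφ 0 Q hQ
  obtain ⟨n, hn, hnE⟩ :=
    hinf'.exists_notMem_finset (EQ ∪ gens.biUnion E)
  rw [Finset.mem_union, not_or, Finset.mem_biUnion] at hnE
  let pV : Spec (CommRingCat.of A) ⟶ V := IsOpenImmersion.lift V.ι (P n).left (hlift n hn)
  have hpV : pV ≫ V.ι = (P n).left := IsOpenImmersion.lift_fac _ _ _
  let hn' : Γ(V, ⊤) →+* A := (pV.appTop ≫ (e _).hom).hom
  let φQ : Localization.Away Q →+* L :=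
    IsLocalization.Away.lift Q (g := φ n) (hEQ n hnE.1).1.isUnit
  have hagree : ∀ a, j (hn' a) = φQ (hQhom a) := by
    have h1 : Spec.map (CommRingCat.ofHom j) ≫ pV = Spec.map (CommRingCat.ofHom φQ) ≫ uV := by
      rw [← cancel_mono V.ι, Category.assoc, Category.assoc, hpV, IsOpenImmersion.lift_fac,
        ← Spec.map_comp_assoc, ← CommRingCat.ofHom_comp, IsLocalization.Away.lift_comp]
      exact congrArg CommaMorphism.left (hgen n)
    intro a
    have h2 := ConcreteCategory.congr_hom (congrArg (fun k => k.appTop ≫ (e _).hom) h1) a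
    simp only [Scheme.Hom.comp_appTop, Category.assoc, Scheme.ΓSpecIso_naturality, e] at h2
    exact h2
  let σ : L' →+* L' := IsFractionRing.lift (A := k[X])
    (g := (algebraMap k[X] L').comp (Polynomial.expand k 2).toRingHom)
    ((IsFractionRing.injective k[X] L').comp (Polynomial.expand_injective (Nat.succ_pos 1)))
  have hσC : ∀ a, σ (cst a) = cst a := fun a => by
    refine (IsFractionRing.lift_algebraMap _ _).trans ?_
    show algebraMap _ _ (Polynomial.expand k 2 (C a)) = _
    rw [Polynomial.expand_C]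
    rfl
  have hσR : σ.comp fL' = fL' := RingHom.ext fun a => by
    show σ (ρ (fA a)) = ρ (fA a)
    rw [show ρ (fA a) = cst (IsLocalRing.residue R a) from gaussRes_C R a, hσC]
  have hfix : (σ.comp ρ).comp hn' = ρ.comp hn' := by
    letI := GV.toAlgebra
    have hbase : ∀ w, hn' (GV w) ∈ Set.range fA := by
      intro w
      have h1 : pV ≫ V.ι ≫ G.hom = Spec.map (CommRingCat.ofHom fA) ≫ g := by
        rw [reassoc_of% hpV]
        exact Over.w (P n)
      refine ⟨((g.appTop ≫ (e _).hom).hom) w, ?_⟩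
      have h2 := ConcreteCategory.congr_hom (congrArg (fun k => k.appTop ≫ (e _).hom) h1) w
      simp only [Scheme.Hom.comp_appTop, Category.assoc, Scheme.ΓSpecIso_naturality, e] at h2
      exact h2.symm
    refine RingHom.ext fun a => ?_
    have ha : a ∈ Algebra.adjoin Γ(W, ⊤) (gens : Set Γ(V, ⊤)) := hgens ▸ Algebra.mem_top
    refine Algebra.adjoin_induction (fun a ha => ?_) (fun w => ?_)
      (fun a b _ _ ha hb => by rw [map_add, map_add, ha, hb])
      (fun a b _ _ ha hb => by rw [map_mul, map_mul, ha, hb]) ha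
    · have h1 := hE a n fun h => hnE.2 ⟨a, ha, h⟩
      obtain ⟨c, hc⟩ := h1.2 (hn' a) (by
        rw [show gaussGen R K (hn' a) = φQ (hQhom a) from hagree a]
        have h2 := congrArg φQ (hnum a)
        rw [map_mul, IsLocalization.Away.lift_eq, IsLocalization.Away.lift_eq] at h2
        exact h2)
      show σ (ρ (hn' a)) = ρ (hn' a)
      rw [show ρ (hn' a) = cst c from hc.symm, hσC]
    · obtain ⟨a, ha⟩ := hbase w
      show σ (ρ (hn' (GV w))) = ρ (hn' (GV w))
      rw [← ha]
      exact RingHom.congr_fun hσR a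
  have hbar : zMap g σ hσR ≫ zMap g ρ rfl ≫ P n = zMap g ρ rfl ≫ P n := by
    apply Over.OverMorphism.ext
    rw [Over.comp_left, Over.comp_left, zMap_left, zMap_left, ← hpV, ← Category.assoc, ← Category.assoc,
      ← Category.assoc, ← Spec.map_comp]
    refine congrArg (· ≫ V.ι) (ext_of_isAffine ?_)
    rw [← cancel_mono (e _).hom]
    simp only [Scheme.Hom.comp_appTop, Category.assoc, Scheme.ΓSpecIso_naturality, e]
    refine (congrArg (pV.appTop ≫ ·) (Scheme.ΓSpecIso_naturality _)).trans ?_
    refine Eq.trans ?_ (congrArg (pV.appTop ≫ ·) (Scheme.ΓSpecIso_naturality _)).symm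
    exact CommRingCat.hom_ext hfix
  -- contradiction
  have hxbar : zMap g σ hσR ≫ zMap g ρ rfl ≫ xA = zMap g ρ rfl ≫ xA := by
    simp only [xA, ← Category.assoc, zMap_comp]
    refine congrArg (· ≫ x₁) (Over.OverMorphism.ext ?_)
    exact congrArg (fun k => Spec.map (CommRingCat.ofHom k)) hσR
  simp only [P, MonObj.comp_mul, comp_npow, hxbar] at hbar
  have h2 := mul_left_cancel hbar
  simp only [← Category.assoc, zMap_dsPt, cancel_mono] at h2
  have h3 := DFunLike.congr_fun (dsPt_injective g h2) (Multiplicative.ofAdd m₀)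
  have hT : ∀ z : ℤ, ρ ((gaussT R ^ z : Aˣ) : A) = algebraMap k[X] L' X ^ z := fun z => by
    rw [← gaussRes_T]
    exact (Units.coe_map (ρ : A →* L') _).symm.trans (by
      rw [map_zpow, Units.val_zpow_eq_zpow_val]; rfl)
  change σ (ρ ((gaussT R ^ χ (π m₀) : Aˣ) : A)) = ρ ((gaussT R ^ χ (π m₀) : Aˣ) : A) at h3
  rw [hT, map_zpow₀, IsFractionRing.lift_algebraMap] at h3
  have hX : (algebraMap k[X] L' X) ≠ 0 := fun h =>
    X_ne_zero (IsFractionRing.injective k[X] L' (h.trans (map_zero _).symm))
  have h4 : algebraMap k[X] L' X ^ χ (π m₀) = 1 := by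
    have e : algebraMap k[X] L' (Polynomial.expand k 2 X) = algebraMap k[X] L' X * algebraMap k[X] L' X := by
      rw [Polynomial.expand_X, map_pow, sq]
    rw [RingHom.comp_apply, AlgHom.toRingHom_eq_coe, RingHom.coe_coe, e, mul_zpow] at h3
    exact mul_right_cancel₀ (zpow_ne_zero _ hX) (h3.trans (_root_.one_mul _).symm)
  obtain ⟨d, hd⟩ := Int.eq_nat_or_neg (χ (π m₀))
  have hd0 : d ≠ 0 := by
    rintro rfl
    simp at hd
    exact hχ hd
  have h5 : algebraMap k[X] L' X ^ d = 1 := by
    rcases hd with hd | hd <;> simpa [hd] using h4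
  rw [← map_pow, ← map_one (algebraMap k[X] L')] at h5
  have h6 := congrArg Polynomial.natDegree (IsFractionRing.injective k[X] L' h5)
  simp at h6
  exact hd0 h6

set_option maxHeartbeats 1000000 in
/-- A monomorphism from a diagonalisable group to a separated group of finite type is a closed
immersion. -/
theorem isClosedImmersion_dsMono_separated {W : Scheme.{u}} [IsAffine W] {G : Over W} [GrpObj G]
    [IsSeparated G.hom] [QuasiCompact G.hom] [LocallyOfFiniteType G.hom] {M : Type} [AddCommGroup M]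
    (hM : AddGroup.FG M) (q : Red.DS W M ⟶ G) [IsMonHom q] [Mono q] : IsClosedImmersion q.left := by
  haveI := isAffineHom_DS W M
  haveI := lfp_DS_of_fg W M hM
  haveI : Mono q.left := inferInstanceAs (Mono ((Over.forget W).map q))
  haveI : IsSeparated q.left := inferInstance
  haveI : LocallyOfFiniteType q.left := by
    haveI : LocallyOfFiniteType (q.left ≫ G.hom) := by rw [Over.w q]; infer_instance
    exact locallyOfFiniteType_of_comp q.left G.hom
  haveI : QuasiCompact q.left := by
    haveI : QuasiCompact (q.left ≫ G.hom) := by rw [Over.w q]; infer_instance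
    exact QuasiCompact.of_comp q.left G.hom
  haveI : UniversallyClosed q.left := by
    refine UniversallyClosed.of_valuativeCriterion _ fun sq => ?_
    let R : CommRingCat.{u} := CommRingCat.of sq.R
    let K := sq.K
    let g : Spec R ⟶ W := sq.i₂ ≫ G.hom
    have hw : sq.i₁ ≫ (Red.DS W M).hom = Spec.map (CommRingCat.ofHom (algebraMap R K)) ≫ g := by
      rw [← Over.w q, reassoc_of% sq.commSq.w]
    let t : zP g (algebraMap R K) ⟶ Red.DS W M := Over.homMk sq.i₁ hw
    let x : zP g (RingHom.id R) ⟶ G := Over.homMk sq.i₂ (by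
      show sq.i₂ ≫ G.hom = Spec.map (𝟙 R) ≫ g
      rw [Spec.map_id, Category.id_comp])
    obtain ⟨ψ, hψ⟩ := dsPt_surj g t
    have hx : zMap g (algebraMap R K) (RingHom.comp_id _) ≫ x = dsPt g (algebraMap R K) ψ ≫ q := by
      rw [hψ]
      exact Over.OverMorphism.ext sq.commSq.w.symm
    choose r hr using dsPt_integral hM q g ψ x hx
    let ψR : Multiplicative M →* R :=
      { toFun := r
        map_one' := IsFractionRing.injective R K (by rw [hr, map_one, map_one])
        map_mul' := fun a b => IsFractionRing.injective R K (by rw [map_mul, hr, hr, hr, map_mul]) }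
    let l := dsPt g (RingHom.id R) ψR
    have hl : zMap g (algebraMap R K) (RingHom.comp_id _) ≫ l = t := by
      rw [zMap_dsPt, ← hψ]
      exact congrArg _ (MonoidHom.ext hr)
    have hl₂ : l.left ≫ q.left = sq.i₂ := by
      haveI : IsDominant (Spec.map (CommRingCat.ofHom (algebraMap R K))) :=
        ⟨(PrimeSpectrum.denseRange_comap_iff_ker_le_nilRadical _).mpr (by
          show RingHom.ker (algebraMap R K) ≤ _
          rw [(RingHom.injective_iff_ker_eq_bot _).mp (IsFractionRing.injective R K)]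
          exact bot_le)⟩
      haveI : _root_.IsReduced R := inferInstance
      haveI : AlgebraicGeometry.IsReduced (zP g (RingHom.id R)).left :=
        inferInstanceAs (AlgebraicGeometry.IsReduced (Spec R))
      refine ext_of_isDominant_of_isSeparated G.hom ?_
        (Spec.map (CommRingCat.ofHom (algebraMap R K))) ?_
      · rw [Category.assoc, Over.w q, Over.w l]
        show Spec.map (𝟙 R) ≫ g = _
        rw [Spec.map_id, Category.id_comp]
      · rw [← Category.assoc]
        refine (congrArg (· ≫ q.left) (congrArg Over.Hom.left hl)).trans ?_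
        exact sq.commSq.w
    exact CommSq.HasLift.mk' ⟨l.left, congrArg Over.Hom.left hl, hl₂⟩
  haveI : IsProper q.left := {}
  exact (IsClosedImmersion.iff_isProper_and_mono _).mpr ⟨inferInstance, inferInstance⟩

/-- A monomorphism from a group of multiplicative type and of finite type to a separated group of
finite type is a closed immersion. -/
theorem isClosedImmersion_of_mono_separated {S : Scheme.{u}} {H G : Over S} [GrpObj H] [GrpObj G]
    [IsSeparated G.hom] [QuasiCompact G.hom] [LocallyOfFiniteType G.hom]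
    (hH : SGA3x.IsMultTypeFT H) (i : H ⟶ G) [IsMonHom i] [Mono i] : IsClosedImmersion i.left := by
  have := Unr55.isClosedImmersion.{u}
  obtain ⟨S', f, hf, hs, hqc, hloc⟩ := hH
  refine map_prop_of_fpqc_cover (@IsClosedImmersion) i f hqc fun s' => ?_
  obtain ⟨U₀, hU₀, M, hM, hFG, ⟨e⟩⟩ := hloc s'
  obtain ⟨W, hW, hsW, hWU⟩ := exists_isAffineOpen_mem_and_subset hU₀
  refine ⟨W, hsW, ?_⟩
  haveI : IsAffine (W : Scheme.{u}) := hW
  let φ : (W : Scheme.{u}) ⟶ S := W.ι ≫ f
  obtain ⟨a, ha, hmono, hsurj⟩ :=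
    exists_ds_cover_mono (S'.homOfLE hWU) (U₀.ι ≫ f) φ (by simp [φ]) e
  haveI : IsIso a := by
    obtain ⟨r, hr⟩ := hsurj _ (𝟙 _)
    exact ⟨r, by rw [← cancel_mono a, Category.assoc, hr, Category.comp_id, Category.id_comp], hr⟩
  haveI : IsIso a.left := inferInstanceAs (IsIso ((Over.forget _).map a))
  haveI : Mono ((Over.pullback φ).map i) := inferInstance
  haveI : IsSeparated (Red.bc φ G).hom := inferInstanceAs (IsSeparated (pullback.snd G.hom φ))
  haveI : QuasiCompact (Red.bc φ G).hom := inferInstanceAs (QuasiCompact (pullback.snd G.hom φ))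
  haveI : LocallyOfFiniteType (Red.bc φ G).hom :=
    MorphismProperty.pullback_snd (P := @LocallyOfFiniteType) _ _ ‹_›
  have h := isClosedImmersion_dsMono_separated hFG (a ≫ (Over.pullback φ).map i)
  rw [Over.comp_left] at h
  exact (MorphismProperty.cancel_left_of_respectsIso (P := @IsClosedImmersion) _ _).mp h

end Groth.Agent.RedPts82
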