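import Groth.Agent.RedPts82.MultHopf
import Groth.Agent.RedPts82.MultEssFree
import Groth.Agent.RedPts82.MultBc
import Groth.Agent.SGA3b53.GlobalMult
import Groth.Agent.SGA3b53.FieldQuot
import Groth.Agent.SGA3b53.TorsionKer
import Groth.Agent.SGA3b53.MultBC

/-!
Flat finitely presented closed subgroups of groups of multiplicative type.
-/

set_option autoImplicit false
set_option linter.style.haveILetI false

universe u

open CategoryTheory MonoidalCategory CartesianMonoidalCategory MonObj GrpObj AlgebraicGeometry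
open CategoryTheory.Limits
open scoped TensorProduct

noncomputable section

namespace Groth.Agent.RedPts82

open Groth.Agent.SGA3b53

variable {R : Type u} [CommRing R] {A A' : Type u} [CommRing A] [HopfAlgebra R A] [CommRing A']
  [HopfAlgebra R A']

/-- A closed subgroup of a group split over an extension field is split over it. -/
theorem isDiag_bc_of_surjective {k : Type u} [CommRing k] {K : Type u} [Field K] [Algebra k K]
    {C C' : Type u} [CommRing C] [HopfAlgebra k C] [CommRing C'] [HopfAlgebra k C'] (Φ : C' →ₐc[k] C)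
    (hΦ : Function.Surjective Φ) (h : SGA3b.IsDiag K (K ⊗[k] C')) : SGA3b.IsDiag K (K ⊗[k] C) := by
  obtain ⟨M, _, ⟨ρ⟩⟩ := h
  refine isDiag_of_surjective_field (B := K ⊗[k] C) (M := M)
    ((Bialgebra.TensorProduct.map (BialgHom.id K K) Φ).comp
      (ρ.symm : MonoidAlgebra K M →ₐc[K] K ⊗[k] C')) ?_
  refine Function.Surjective.comp (g := Bialgebra.TensorProduct.map (BialgHom.id K K) Φ) ?_
    (EquivLike.surjective ρ.symm)
  intro y
  induction y with
  | zero => exact ⟨0, by simp⟩
  | add a b ha hb =>
    obtain ⟨a', rfl⟩ := ha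
    obtain ⟨b', rfl⟩ := hb
    exact ⟨a' + b', map_add _ _ _⟩
  | tmul t a =>
    obtain ⟨a, rfl⟩ := hΦ a
    exact ⟨t ⊗ₜ a, by simp⟩

/-- Over a field, closed subgroups of groups of multiplicative type are of multiplicative type. -/
theorem isMultType_of_surjective_field {k : Type u} [Field k] {C C' : Type u} [CommRing C] [HopfAlgebra k C]
    [CommRing C'] [HopfAlgebra k C'] (Φ : C' →ₐc[k] C) (hΦ : Function.Surjective Φ)
    (h : SGA3b.IsMultType k C') : SGA3b.IsMultType k C := by
  obtain ⟨J, T, _, _, hT, hd⟩ := exists_cover h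
  obtain ⟨i, q, -⟩ := hT.exists_lift ⟨⊥, Ideal.isPrime_bot⟩
  haveI : Nontrivial (T i) := (PrimeSpectrum.nonempty_iff_nontrivial (R := T i)).mp ⟨q⟩
  obtain ⟨m, hm⟩ := Ideal.exists_maximal (T i)
  let K := T i ⧸ m
  letI : Field K := Ideal.Quotient.field m
  have hK := isDiag_bc_of_surjective (K := K) Φ hΦ (isDiag_tower (T i) K (hd i))
  refine isMultType_of_cover (T := fun (_ : PUnit.{u+1}) => K) ⟨fun _ => inferInstance, fun p' => ?_⟩
    fun _ => hK
  exact ⟨PUnit.unit, ⟨⊥, Ideal.isPrime_bot⟩, Subsingleton.elim _ _⟩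

/-- The fibres of a closed subgroup of a group of multiplicative type are of multiplicative type. -/
theorem isMultType_fibre_of_surjective (φ : A' →ₐc[R] A) (hφ : Function.Surjective φ)
    (h : SGA3b.IsMultType R A') (p : Ideal R) [p.IsPrime] :
    SGA3b.IsMultType p.ResidueField (p.ResidueField ⊗[R] A) := by
  refine isMultType_of_surjective_field
    (Bialgebra.TensorProduct.map (BialgHom.id p.ResidueField p.ResidueField) φ) (fun y => ?_)
    (isMultType_baseChange p.ResidueField h)
  induction y with
  | zero => exact ⟨0, map_zero _⟩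
  | add a b ha hb =>
    obtain ⟨a', rfl⟩ := ha
    obtain ⟨b', rfl⟩ := hb
    exact ⟨a' + b', map_add _ _ _⟩
  | tmul t a =>
    obtain ⟨a, rfl⟩ := hφ a
    exact ⟨t ⊗ₜ a, by simp⟩

/-- The torsion of a closed subgroup of a group of multiplicative type is finite. -/
theorem finite_torsion_of_surjective (φ : A' →ₐc[R] A) (hφ : Function.Surjective φ)
    (hft : Algebra.FiniteType R A') (h : SGA3b.IsMultType R A') (n : ℕ) (hn : 0 < n) :
    Module.Finite R (A ⧸ SGA3b.torsionIdeal R A n) := by
  haveI := isCocomm_of_isMultType h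
  haveI := isHopfIdeal_torsionIdeal (R := R) (A := A') n
  haveI := (torsion_isMultType_and_finite hft h n hn _ rfl).2
  have hle : SGA3b.torsionIdeal R A' n ≤ (SGA3b.torsionIdeal R A n).comap (φ : A' →ₐ[R] A) :=
    Ideal.map_le_iff_le_comap.mpr fun a ha => by
      rw [Ideal.mem_comap, Ideal.mem_comap]
      change φ (SGA3b.powConv R A' n a) ∈ _
      rw [powConv_naturality]
      exact Ideal.mem_map_of_mem _ (by
        rw [RingHom.mem_ker] at ha ⊢
        exact (CoalgHomClass.counit_comp_apply φ a).trans ha)
  refine Module.Finite.of_surjective (Ideal.quotientMapₐ _ (φ : A' →ₐ[R] A) hle).toLinearMap ?_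
  intro y
  obtain ⟨a, rfl⟩ := Ideal.Quotient.mk_surjective y
  obtain ⟨a', rfl⟩ := hφ a
  exact ⟨Ideal.Quotient.mk _ a', rfl⟩

/-- A flat finitely presented closed subgroup of a group of multiplicative type over an affine base
is of multiplicative type. -/
theorem isMultTypeFT_of_closed_affine {H H' : Over (Spec (CommRingCat.of R))} [GrpObj H] [GrpObj H']
    (hH' : SGA3x.IsMultTypeFT H') (i : H ⟶ H') [IsMonHom i] [IsClosedImmersion i.left] [Flat H.hom]
    [LocallyOfFinitePresentation H.hom] : SGA3x.IsMultTypeFT H := by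
  haveI := isMultTypeFT_isAffineHom hH'
  haveI : IsAffine H'.left := isAffine_of_isAffineHom H'.hom
  haveI : IsAffine H.left := isAffine_of_isAffineHom i.left
  haveI : LocallyOfFinitePresentation H'.hom := by
    haveI : MorphismProperty.DescendsAlong (@LocallyOfFinitePresentation : MorphismProperty Scheme.{u})
        Unr55.fpqc.{u} := by
      unfold Unr55.fpqc; infer_instance
    exact isMultTypeFT_prop (@LocallyOfFinitePresentation) hH' fun U M _ hM => lfp_DS_of_fg U M hM
  obtain ⟨B', _, _, ψ', _⟩ := Hopf.exists_coord H'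
  obtain ⟨B, _, _, ψ, _⟩ := Hopf.exists_coord H
  let φ := Hopf.pullBialg ψ' ψ i
  have hφ : Function.Surjective φ := Hopf.pull_surjective ψ' ψ i
  haveI : IsIso ψ.hom.left := ((Over.forget _).mapIso ψ).isIso_hom
  haveI : IsIso ψ'.hom.left := ((Over.forget _).mapIso ψ').isIso_hom
  have hw : Spec.map (CommRingCat.ofHom (algebraMap R B)) = ψ.hom.left ≫ H.hom := (Over.w ψ.hom).symm
  have hw' : Spec.map (CommRingCat.ofHom (algebraMap R B')) = ψ'.hom.left ≫ H'.hom := (Over.w ψ'.hom).symm
  have hfl : Flat (ψ.hom.left ≫ H.hom) := MorphismProperty.comp_mem (W := @Flat) _ _ inferInstance ‹_›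
  have hfp : LocallyOfFinitePresentation (ψ.hom.left ≫ H.hom) :=
    MorphismProperty.comp_mem (W := @LocallyOfFinitePresentation) _ _ inferInstance ‹_›
  have hfp' : LocallyOfFinitePresentation (ψ'.hom.left ≫ H'.hom) :=
    MorphismProperty.comp_mem (W := @LocallyOfFinitePresentation) _ _ inferInstance ‹_›
  haveI : Module.Flat R B := by
    have : Flat (Spec.map (CommRingCat.ofHom (algebraMap R B))) := hw ▸ hfl
    rw [HasRingHomProperty.Spec_iff (P := @Flat)] at this
    exact RingHom.flat_algebraMap_iff.mp this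
  haveI : Algebra.FinitePresentation R B := by
    have : LocallyOfFinitePresentation (Spec.map (CommRingCat.ofHom (algebraMap R B))) :=
      hw ▸ hfp
    rw [HasRingHomProperty.Spec_iff (P := @LocallyOfFinitePresentation)] at this
    exact RingHom.finitePresentation_algebraMap.mp this
  haveI : Algebra.FinitePresentation R B' := by
    have : LocallyOfFinitePresentation (Spec.map (CommRingCat.ofHom (algebraMap R B'))) :=
      hw' ▸ hfp'
    rw [HasRingHomProperty.Spec_iff (P := @LocallyOfFinitePresentation)] at this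
    exact RingHom.finitePresentation_algebraMap.mp this
  haveI : Mono i.left := inferInstance
  haveI : Mono i := (Over.forget _).mono_of_mono_map (f := i) ‹_›
  haveI : IsCommMonObj H := ⟨by
    have h := isMultTypeFT_points_comm hH' (snd H H ≫ i) (fst H H ≫ i)
    rw [← MonObj.mul_comp _ _ i, ← MonObj.mul_comp _ _ i, cancel_mono, Hom.mul_def, Hom.mul_def,
      lift_fst_snd, Category.id_comp] at h
    exact h⟩
  haveI := Hopf.isCocomm_of_comm ψ
  have hA' := isMultType_of_isMultTypeFT_affine ψ' hH'
  exact isMultTypeFT_of_isMultType ψ (SGA3b53.isMultType_of_isQuasiIsotrivial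
    (isQuasiIsotrivial_of_fibres_torsion (fun p _ => isMultType_fibre_of_surjective φ hφ hA' p)
      (fun n hn => finite_torsion_of_surjective φ hφ inferInstance hA' n hn)))

end Groth.Agent.RedPts82
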