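import Groth.Agent.RedPts82.OrdRoots

/-!
The group law on the ordered product of positive root groups, and homomorphisms out of it.
-/

universe u

open CategoryTheory MonoidalCategory CartesianMonoidalCategory MonObj GrpObj AlgebraicGeometry
open CategoryTheory.Limits

namespace Groth.Agent.RedPts82

variable {S : Scheme.{u}} {G : Over S} [GrpObj G] {D : Red.SplitRed G} [LinearOrder D.M]
  [IsOrderedAddMonoid D.M] {N : ℕ} {e : Fin N → D.idx}

/-- The group law in coordinates. -/
theorem OrdEnum.group_law (H : OrdEnum D e) :
    ∃! Q : Fin N → MvPolynomial (Fin N ⊕ Fin N) Γ(S, ⊤),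
      (∀ (X : Over S) (x y z : Fin N → (X ⟶ Red.Ga S)),
        uProd D e z = uProd D e x * uProd D e y ↔
          ∀ k, Red.gaFn (z k) = MvPolynomial.eval₂ X.hom.appTop.hom
            (Sum.elim (fun j => Red.gaFn (x j)) (fun j => Red.gaFn (y j))) (Q k)) ∧
      (∀ k : Fin N, ∀ v ∈ (Q k - MvPolynomial.X (Sum.inl k) - MvPolynomial.X (Sum.inr k)).vars,
        Sum.elim (fun j : Fin N => j < k) (fun j : Fin N => j < k) v) := by
  classical
  obtain ⟨q, hq, hwt⟩ := H.mul_coords
  let χ : Fin (N + N) → D.M := fun j => D.P.root (Fin.append e e j)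
  have hχ : ∀ j, 0 < χ j := fun j =>
    Fin.addCases (fun l => by simp only [χ, Fin.append_left]; exact H.pos l)
      (fun l => by simp only [χ, Fin.append_right]; exact H.pos l) j
  choose P hP hev using fun k => exists_globalPoly (q k) {f | Finsupp.weight χ f = D.P.root (e k)}
    (finite_weight_eq hχ _) fun Y _ p hp f hf => mvCoeff_eq_zero_of_weight (q k) χ _ (hwt k) Y p hp f hf
  let ρ : Fin (N + N) → Fin N ⊕ Fin N := finSumFinEquiv.symm
  let Q : Fin N → MvPolynomial (Fin N ⊕ Fin N) Γ(S, ⊤) := fun k => MvPolynomial.rename ρ (P k)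
  have hQ : ∀ (X : Over S) (x y : Fin N → (X ⟶ Red.Ga S)) k, MvPolynomial.eval₂ X.hom.appTop.hom
      (Sum.elim (fun j => Red.gaFn (x j)) (fun j => Red.gaFn (y j))) (Q k) =
        Red.gaFn (powTuple (Fin.append x y) ≫ q k) := fun X x y k => by
    rw [hev, MvPolynomial.eval₂_rename]
    congr 1
    funext j
    refine Fin.addCases (fun l => ?_) (fun l => ?_) j
    · simp [ρ, powFn, powTuple_proj]
    · simp only [ρ, powFn, powTuple_proj, Fin.append_right, finSumFinEquiv_symm_apply_natAdd, Sum.elim_inr, Function.comp_apply]
  have hiff : ∀ (X : Over S) (x y z : Fin N → (X ⟶ Red.Ga S)),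
      uProd D e z = uProd D e x * uProd D e y ↔
        ∀ k, Red.gaFn (z k) = MvPolynomial.eval₂ X.hom.appTop.hom
          (Sum.elim (fun j => Red.gaFn (x j)) (fun j => Red.gaFn (y j))) (Q k) := fun X x y z => by
    simp only [hQ, ← hq X x y]
    refine ⟨fun h k => ?_, fun h => ?_⟩
    · rw [congrFun (H.uProd_injective h) k]
    · congr 1
      funext k
      exact gaFn_injective (h k)
  -- the linear coefficient is one
  have hone : ∀ (k : Fin N) (b : Bool),
      MvPolynomial.coeff (Finsupp.single (bif b then Fin.castAdd N k else Fin.natAdd N k) 1) (P k) = 1 := by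
    intro k b
    let a : Fin (N + N) := bif b then Fin.castAdd N k else Fin.natAdd N k
    let z : Fin N → (𝟙_ (Over S) ⟶ Red.Ga S) := Function.update (fun _ => gaPt 0) k (gaPt 1)
    let o : Fin N → (𝟙_ (Over S) ⟶ Red.Ga S) := fun _ => gaPt 0
    have hz : ∀ x y : Fin N → (𝟙_ (Over S) ⟶ Red.Ga S),
        uProd D e z = uProd D e x * uProd D e y → Red.gaFn (powTuple (Fin.append x y) ≫ q k) = 1 := by
      intro x y hxy
      have := congrFun (H.uProd_injective ((hq _ x y).trans hxy.symm)) k
      rw [this]
      simp only [z, Function.update_self, gaFn_gaPt]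
    have hval : Red.gaFn (powTuple (Function.update (fun _ => gaPt 0) a (gaPt 1)) ≫ q k :
        𝟙_ (Over S) ⟶ Red.Ga S) = 1 := by
      cases b
      · have e1 : (Function.update (fun _ => gaPt 0) a (gaPt 1) : Fin (N + N) → (𝟙_ (Over S) ⟶ Red.Ga S)) =
            Fin.append o z := by
          funext j
          refine Fin.addCases (fun l => ?_) (fun l => ?_) j
          · have : Fin.castAdd N l ≠ a := by
              simp only [a, cond_false]; intro h; have := congrArg Fin.val h; simp at this; omega
            rw [Function.update_of_ne this, Fin.append_left]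
          · by_cases hl : l = k
            · subst hl; simp only [a, z, cond_false, Function.update_self, Fin.append_right]
            · have : Fin.natAdd N l ≠ a := by simp [a, hl]
              rw [Function.update_of_ne this, Fin.append_right]
              simp [z, hl]
        rw [e1]
        exact hz _ _ (by simp only [o, uProd_zero, _root_.one_mul])
      · have e1 : (Function.update (fun _ => gaPt 0) a (gaPt 1) : Fin (N + N) → (𝟙_ (Over S) ⟶ Red.Ga S)) =
            Fin.append z o := by
          funext j
          refine Fin.addCases (fun l => ?_) (fun l => ?_) j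
          · by_cases hl : l = k
            · subst hl; simp [a, z]
            · have : Fin.castAdd N l ≠ a := by simp [a, hl]
              rw [Function.update_of_ne this, Fin.append_left]
              simp [z, hl]
          · have : Fin.natAdd N l ≠ a := by
              simp only [a, cond_true]; intro h; have := congrArg Fin.val h; simp at this; omega
            rw [Function.update_of_ne this, Fin.append_right]
        rw [e1]
        exact hz _ _ (by simp only [o, uProd_zero, _root_.mul_one])
    rw [hev] at hval
    have hcoord : ∀ j, powFn (powTuple (Function.update (fun _ => gaPt 0) a (gaPt 1)) :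
        𝟙_ (Over S) ⟶ RedSub.pow (Red.Ga S) (N + N)) j = if j = a then 1 else 0 := fun j => by
      simp only [powFn, powTuple_proj]
      split_ifs with h
      · subst h; rw [Function.update_self, gaFn_gaPt]
      · rw [Function.update_of_ne h, gaFn_gaPt]
    rw [MvPolynomial.eval₂_eq, Finset.sum_eq_single (Finsupp.single a 1)] at hval
    · rw [Finset.prod_eq_one, _root_.mul_one] at hval
      · have happ : (𝟙_ (Over S)).hom.appTop (MvPolynomial.coeff (Finsupp.single a 1) (P k)) =
            MvPolynomial.coeff (Finsupp.single a 1) (P k) := by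
          show (𝟙 S : S ⟶ S).appTop _ = _
          simp
        exact happ.symm.trans hval
      · intro j hj
        rw [hcoord, if_pos (by simpa using hj), one_pow]
    · intro f hf hne
      have hwf := hP k f (MvPolynomial.mem_support_iff.mp hf)
      obtain ⟨j, hj, hja⟩ : ∃ j ∈ f.support, j ≠ a := by
        by_contra hcon
        push Not at hcon
        have hfa : f a ≠ 0 := by
          intro h0
          have : f = 0 := Finsupp.ext fun j => by
            by_contra hj
            exact hj (hcon j (Finsupp.mem_support_iff.mpr hj) ▸ h0)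
          rw [Set.mem_setOf_eq, this, map_zero] at hwf
          exact (H.pos k).ne hwf
        refine hne ((le_weight_of_pos hχ f hfa).2 ?_)
        rw [hwf]
        cases b <;> simp only [a, χ, cond_true, cond_false, Fin.append_left, Fin.append_right]
      rw [Finset.prod_eq_zero hj, mul_zero]
      rw [hcoord, if_neg hja, zero_pow (Finsupp.mem_support_iff.mp hj)]
    · intro h
      rw [MvPolynomial.notMem_support_iff.mp h, map_zero, zero_mul]
  refine ⟨Q, ⟨hiff, fun k v hv => ?_⟩, fun Q' hQ' => funext fun k => ?_⟩
  · let R : MvPolynomial (Fin (N + N)) Γ(S, ⊤) :=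
      P k - MvPolynomial.X (Fin.castAdd N k) - MvPolynomial.X (Fin.natAdd N k)
    have hR : Q k - MvPolynomial.X (Sum.inl k) - MvPolynomial.X (Sum.inr k) = MvPolynomial.rename ρ R := by
      simp only [R, Q, map_sub, MvPolynomial.rename_X, ρ, finSumFinEquiv_symm_apply_castAdd,
        finSumFinEquiv_symm_apply_natAdd]
    rw [hR] at hv
    obtain ⟨j, hj, rfl⟩ := Finset.mem_image.mp (MvPolynomial.vars_rename ρ R hv)
    obtain ⟨f, hf, hjf⟩ := MvPolynomial.mem_vars j |>.mp hj
    rw [MvPolynomial.mem_support_iff] at hf
    have hne : Fin.castAdd N k ≠ Fin.natAdd N k := fun h => by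
      have := congrArg Fin.val h; simp at this; omega
    have ha : f ≠ Finsupp.single (Fin.castAdd N k) 1 := by
      rintro rfl
      refine hf ?_
      have h1 := hone k true
      simp only [cond_true] at h1
      simp only [R, MvPolynomial.coeff_sub, MvPolynomial.coeff_X, if_pos, h1, sub_self, zero_sub, neg_eq_zero]
      exact if_neg fun h => hne ((Finsupp.single_left_injective one_ne_zero) h).symm
    have hb : f ≠ Finsupp.single (Fin.natAdd N k) 1 := by
      rintro rfl
      refine hf ?_
      have h1 := hone k false
      simp only [cond_false] at h1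
      simp only [R, MvPolynomial.coeff_sub, MvPolynomial.coeff_X, if_pos, h1]
      rw [if_neg fun h => hne ((Finsupp.single_left_injective one_ne_zero) h), sub_zero, sub_self]
    have hPf : MvPolynomial.coeff f (P k) ≠ 0 := by
      simp only [R, MvPolynomial.coeff_sub, MvPolynomial.coeff_X', if_neg (Ne.symm ha), if_neg (Ne.symm hb),
        sub_zero] at hf
      exact hf
    have hw : Finsupp.weight χ f = D.P.root (e k) := hP k f hPf
    obtain ⟨hle, heq⟩ := le_weight_of_pos hχ f (Finsupp.mem_support_iff.mp hjf)
    rw [hw] at hle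
    revert hle heq
    refine Fin.addCases (fun l => ?_) (fun l => ?_) j
    · intro hle heq
      simp only [χ, Fin.append_left] at hle heq
      simp only [ρ, finSumFinEquiv_symm_apply_castAdd, Sum.elim_inl]
      rcases (H.mono.le_iff_le.mp hle).lt_or_eq with h | h
      · exact h
      · subst h; exact absurd (heq hw) ha
    · intro hle heq
      simp only [χ, Fin.append_right] at hle heq
      simp only [ρ, finSumFinEquiv_symm_apply_natAdd, Sum.elim_inr]
      rcases (H.mono.le_iff_le.mp hle).lt_or_eq with h | h
      · exact h
      · subst h; exact absurd (heq hw) hb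
  · apply MvPolynomial.rename_injective finSumFinEquiv finSumFinEquiv.injective
    refine poly_ext fun Z hZ w => ?_
    rw [MvPolynomial.eval₂_rename, MvPolynomial.eval₂_rename]
    let x : Fin N → (Z ⟶ Red.Ga S) := fun l => w ≫ powProj (Red.Ga S) (N + N) (Fin.castAdd N l)
    let y : Fin N → (Z ⟶ Red.Ga S) := fun l => w ≫ powProj (Red.Ga S) (N + N) (Fin.natAdd N l)
    have hfn : powFn w ∘ finSumFinEquiv = Sum.elim (fun j => Red.gaFn (x j)) (fun j => Red.gaFn (y j)) := by
      funext v
      rcases v with l | l <;> simp [powFn, x, y]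
    rw [hfn]
    have h1 := (hQ'.1 Z x y (fun k => powTuple (Fin.append x y) ≫ q k)).mp (hq Z x y) k
    rw [← h1, hQ]

/-- The map out of the product of the root groups given by a family of homomorphisms is multiplicative
as soon as it respects the conjugation relations. -/
theorem OrdEnum.multiplicative_iff (H : OrdEnum D e) {P : Over S} [GrpObj P] (f : Fin N → (Red.Ga S ⟶ P))
    (hf : ∀ k, IsMonHom (f k)) :
    (∀ (X : Over S) (x y z : Fin N → (X ⟶ Red.Ga S)),
      uProd D e z = uProd D e x * uProd D e y →
        (List.ofFn (fun k => z k ≫ f k)).prod =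
          (List.ofFn (fun k => x k ≫ f k)).prod * (List.ofFn (fun k => y k ≫ f k)).prod) ↔
    (∀ (X : Over S) (i j : Fin N), i < j → ∀ (a c : X ⟶ Red.Ga S) (z : Fin N → (X ⟶ Red.Ga S)),
      uProd D e z = (c ≫ D.u (e j)) * (a ≫ D.u (e i)) * (c ≫ D.u (e j))⁻¹ →
        (List.ofFn (fun k => z k ≫ f k)).prod = (c ≫ f j) * (a ≫ f i) * (c ≫ f j)⁻¹) := by
  classical
  have hf0 : ∀ (X : Over S) k, gaPt (X := X) 0 ≫ f k = 1 := fun X k => by
    have := hf k
    rw [gaPt_zero]
    exact MonObj.one_comp _
  have hfsingle : ∀ (X : Over S) (k : Fin N) (c : X ⟶ Red.Ga S),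
      (List.ofFn fun l => Function.update (fun _ => gaPt 0) k c l ≫ f l).prod = c ≫ f k := fun X k c => by
    rw [list_prod_single _ k fun j hj => by simp only [Function.update_of_ne hj, hf0]]
    simp only [Function.update_self]
  constructor
  · intro hmul X i j _ a c z hz
    let δc := Function.update (fun _ => gaPt 0) j c
    let δa := Function.update (fun _ => gaPt 0) i a
    obtain ⟨w, -, hw⟩ := H.tail_mul 0 z δc (fun k hk => absurd hk (Nat.not_lt_zero _))
      (fun k hk => absurd hk (Nat.not_lt_zero _))
    have h1 := hmul X z δc w hw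
    have h2 := hmul X δc δa w (by rw [hw, hz, uProd_single, uProd_single, inv_mul_cancel_right])
    rw [hfsingle, hfsingle] at h2
    rw [hfsingle, h2] at h1
    exact eq_mul_inv_of_mul_eq h1.symm
  intro hrel X
  let F : (Fin N → (X ⟶ Red.Ga S)) → (X ⟶ P) := fun x => (List.ofFn fun k => x k ≫ f k).prod
  have hFsplit : ∀ (i : Fin N) (x : Fin N → (X ⟶ Red.Ga S)), IsTail i x →
      F x = (x i ≫ f i) * F (Function.update x i (gaPt 0)) := fun i x hx => by
    simp only [F]
    rw [list_prod_update _ i fun k hk => by simp only [hx k hk, hf0]]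
    congr 3
    funext k
    by_cases hk : k = i
    · subst hk; simp only [Function.update_self, hf0]
    · simp only [Function.update_of_ne hk]
  have htail : ∀ (i : Fin N) (x : Fin N → (X ⟶ Red.Ga S)), IsTail i x →
      IsTail (i + 1) (Function.update x i (gaPt 0)) := fun i x hx k hk => by
    by_cases h : k = i
    · subst h; rw [Function.update_self]
    · rw [Function.update_of_ne h]
      exact hx k (by
        have : (k : ℕ) ≠ i := fun hh => h (Fin.ext hh)
        omega)
  have key : ∀ d i, N ≤ i + d → ∀ v w z : Fin N → (X ⟶ Red.Ga S), IsTail i v → IsTail i w → IsTail i z →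
      uProd D e z = uProd D e v * uProd D e w → F z = F v * F w := by
    intro d
    induction d with
    | zero =>
      intro i hi v w z hv hw hz _
      have h0 : ∀ x : Fin N → (X ⟶ Red.Ga S), IsTail i x → F x = 1 := fun x hx => by
        refine List.prod_eq_one fun g hg => ?_
        obtain ⟨r, rfl⟩ := (List.mem_ofFn' _ _).mp hg
        simp only [hx r (by omega), hf0]
      rw [h0 v hv, h0 w hw, h0 z hz, _root_.one_mul]
    | succ d ih =>
      intro i hi v w z hv hw hz hzvw
      by_cases hiN : N ≤ i + d
      · exact ih i hiN v w z hv hw hz hzvw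
      let k : Fin N := ⟨i, by omega⟩
      have K := ih (i + 1) (by omega)
      -- moving a point of the first root group to the left
      have move : ∀ (v : Fin N → (X ⟶ Red.Ga S)), IsTail (i + 1) v → ∀ a : X ⟶ Red.Ga S,
          ∃ v', IsTail (i + 1) v' ∧ uProd D e v * (a ≫ D.u (e k)) = (a ≫ D.u (e k)) * uProd D e v' ∧
            F v * (a ≫ f k) = (a ≫ f k) * F v' := by
        have hmulclosed : ∀ v₁ v₂ v : Fin N → (X ⟶ Red.Ga S), IsTail (i + 1) v₁ → IsTail (i + 1) v₂ →
            IsTail (i + 1) v → uProd D e v = uProd D e v₁ * uProd D e v₂ →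
            (∀ a : X ⟶ Red.Ga S, ∃ v', IsTail (i + 1) v' ∧
              uProd D e v₁ * (a ≫ D.u (e k)) = (a ≫ D.u (e k)) * uProd D e v' ∧
              F v₁ * (a ≫ f k) = (a ≫ f k) * F v') →
            (∀ a : X ⟶ Red.Ga S, ∃ v', IsTail (i + 1) v' ∧
              uProd D e v₂ * (a ≫ D.u (e k)) = (a ≫ D.u (e k)) * uProd D e v' ∧
              F v₂ * (a ≫ f k) = (a ≫ f k) * F v') →
            ∀ a : X ⟶ Red.Ga S, ∃ v', IsTail (i + 1) v' ∧
              uProd D e v * (a ≫ D.u (e k)) = (a ≫ D.u (e k)) * uProd D e v' ∧
              F v * (a ≫ f k) = (a ≫ f k) * F v' := by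
          intro v₁ v₂ v h1 h2 h hv m1 m2 a
          obtain ⟨w2, hw2, e2, f2⟩ := m2 a
          obtain ⟨w1, hw1, e1, f1⟩ := m1 a
          obtain ⟨v', hv', e'⟩ := H.tail_mul (i + 1) w1 w2 hw1 hw2
          refine ⟨v', hv', ?_, ?_⟩
          · rw [hv, _root_.mul_assoc, e2, ← _root_.mul_assoc, e1, _root_.mul_assoc, e']
          · rw [K v₁ v₂ v h1 h2 h hv, _root_.mul_assoc, f2, ← _root_.mul_assoc, f1, _root_.mul_assoc,
              K w1 w2 v' hw1 hw2 hv' e']
        have gen : ∀ (j : Fin N), i + 1 ≤ (j : ℕ) → ∀ (c a : X ⟶ Red.Ga S), ∃ v', IsTail (i + 1) v' ∧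
            uProd D e (Function.update (fun _ => gaPt 0) j c) * (a ≫ D.u (e k)) =
              (a ≫ D.u (e k)) * uProd D e v' ∧
            F (Function.update (fun _ => gaPt 0) j c) * (a ≫ f k) = (a ≫ f k) * F v' := by
          intro j hj c a
          obtain ⟨z, hz, ez, ezk⟩ := H.tail_conj i (Function.update (fun _ => gaPt 0) j c)
            (Function.update (fun _ => gaPt 0) k a) (fun l hl => by
              rw [Function.update_of_ne fun h => by subst h; simp [k] at hl])
          rw [uProd_single, uProd_single] at ez
          have hzk : z k = a := (ezk k rfl).trans (Function.update_self ..)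
          have hF := hrel X k j (Fin.lt_def.mpr (by simp [k]; omega)) a c z ez
          let rest := Function.update z k (gaPt 0)
          have hrest : IsTail (i + 1) rest := htail k z hz
          have hδ : IsTail (i + 1) (Function.update (fun _ => gaPt 0) j c : Fin N → (X ⟶ Red.Ga S)) :=
            fun l hl => by rw [Function.update_of_ne fun h => by subst h; omega]
          obtain ⟨v', hv', e'⟩ := H.tail_mul (i + 1) rest _ hrest hδ
          rw [uProd_single] at e'
          have hFr : F z = (a ≫ f k) * F rest := by rw [hFsplit k z hz, hzk]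
          have hUr : uProd D e z = (a ≫ D.u (e k)) * uProd D e rest := by rw [uProd_split e k z hz, hzk]
          refine ⟨v', hv', ?_, ?_⟩
          · rw [uProd_single, e', ← _root_.mul_assoc, ← hUr, ez, inv_mul_cancel_right]
          · have : F v' = F rest * (c ≫ f j) := by
              rw [K rest _ v' hrest hδ hv' (by rw [uProd_single, e'])]
              congr 1
              exact hfsingle X j c
            rw [this, ← _root_.mul_assoc, ← hFr]
            show _ * _ = F z * _
            rw [show F z = (c ≫ f j) * (a ≫ f k) * (c ≫ f j)⁻¹ from hF, inv_mul_cancel_right]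
            congr 1
            exact hfsingle X j c
        -- by induction on the length of the support
        have step : ∀ (r j : ℕ), N ≤ j + r → i + 1 ≤ j → ∀ v : Fin N → (X ⟶ Red.Ga S), IsTail j v →
            ∀ a : X ⟶ Red.Ga S, ∃ v', IsTail (i + 1) v' ∧
              uProd D e v * (a ≫ D.u (e k)) = (a ≫ D.u (e k)) * uProd D e v' ∧
              F v * (a ≫ f k) = (a ≫ f k) * F v' := by
          intro r
          induction r with
          | zero =>
            intro j hj _ v hv a
            have hv0 : v = fun _ => gaPt 0 := funext fun l => hv l (by omega)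
            refine ⟨fun _ => gaPt 0, fun _ _ => rfl, ?_, ?_⟩
            · rw [hv0, uProd_zero, _root_.one_mul, _root_.mul_one]
            · have h1 : F (fun _ => gaPt 0) = 1 := by
                refine List.prod_eq_one fun g hg => ?_
                obtain ⟨r, rfl⟩ := (List.mem_ofFn' _ _).mp hg
                simp only [hf0]
              rw [hv0, h1, _root_.one_mul, _root_.mul_one]
          | succ r ihr =>
            intro j hj hij v hv
            by_cases hjN : N ≤ j + r
            · exact ihr j hjN hij v hv
            let jj : Fin N := ⟨j, by omega⟩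
            have hsub : ∀ {x : Fin N → (X ⟶ Red.Ga S)} {p q : ℕ}, p ≤ q → IsTail q x → IsTail p x :=
              fun hpq hx l hl => hx l (by omega)
            have hr := ihr (j + 1) (by omega) (by omega) _ (htail jj v hv)
            have hd : IsTail (i + 1) (Function.update (fun _ => gaPt 0) jj (v jj) :
                Fin N → (X ⟶ Red.Ga S)) :=
              fun l hl => by rw [Function.update_of_ne fun h => by have := congrArg Fin.val h; simp [jj] at this; omega]
            refine hmulclosed _ _ v hd (hsub (show i + 1 ≤ (jj : ℕ) + 1 from Nat.le_succ_of_le hij) (htail jj v hv)) (hsub hij hv) ?_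
              (gen jj hij (v jj)) hr
            rw [uProd_single]
            exact uProd_split e jj v hv
        exact fun v hv a => step N (i + 1) (by omega) le_rfl v hv a
      let v₁ := Function.update v k (gaPt 0)
      let w₁ := Function.update w k (gaPt 0)
      have hv₁ : IsTail (i + 1) v₁ := htail k v hv
      have hw₁ : IsTail (i + 1) w₁ := htail k w hw
      obtain ⟨v', hv', e', f'⟩ := move v₁ hv₁ (w k)
      obtain ⟨r, hr, er⟩ := H.tail_mul (i + 1) v' w₁ hv' hw₁
      let z₀ := Function.update r k (v k * w k)
      have hz₀ : IsTail i z₀ := fun l hl => by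
        rw [show z₀ l = r l from Function.update_of_ne (fun h => by subst h; simp [k] at hl) _ _]
        exact hr l (by omega)
      have hz₀r : Function.update z₀ k (gaPt 0) = r := by
        funext l
        by_cases h : l = k
        · subst h; rw [Function.update_self]; exact (hr k (by simp [k])).symm
        · rw [Function.update_of_ne h]; exact Function.update_of_ne h _ _
      have hz₀k : z₀ k = v k * w k := Function.update_self ..
      have hu : ∀ (g : Red.Ga S ⟶ G), IsMonHom g → (v k * w k) ≫ g = (v k ≫ g) * (w k ≫ g) :=
        fun g _ => MonObj.mul_comp _ _ g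
      have eU : uProd D e z₀ = uProd D e v * uProd D e w := by
        rw [uProd_split e k z₀ hz₀, hz₀r, hz₀k, hu _ (D.rootHom (e k)).1, er, uProd_split e k v hv,
          uProd_split e k w hw, _root_.mul_assoc, ← _root_.mul_assoc (w k ≫ D.u (e k)), ← e']
        simp only [_root_.mul_assoc, v₁, w₁]
      have hz_eq : z = z₀ := H.uProd_injective (hzvw.trans eU.symm)
      have := hf k
      rw [hz_eq, hFsplit k z₀ hz₀, hz₀r, hz₀k, MonObj.mul_comp, K v' w₁ r hv' hw₁ hr er, hFsplit k v hv,
        hFsplit k w hw, _root_.mul_assoc, ← _root_.mul_assoc (w k ≫ f k), ← f']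
      simp only [_root_.mul_assoc, v₁, w₁]
  exact fun x y z h => key N 0 (by omega) x y z (fun k hk => absurd hk (Nat.not_lt_zero _))
    (fun k hk => absurd hk (Nat.not_lt_zero _)) (fun k hk => absurd hk (Nat.not_lt_zero _)) h

end Groth.Agent.RedPts82
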