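import Groth.Agent.RedPts82.PinnedCox

/-!
The braid relations and the Coxeter relations of the Weyl elements of a pinning.
-/

universe u

open CategoryTheory MonoidalCategory CartesianMonoidalCategory MonObj GrpObj AlgebraicGeometry
open CategoryTheory.Limits

namespace Groth.Agent.RedPts82

variable {S : Scheme.{u}} {G : Over S} [GrpObj G] {D : Red.SplitRed G}

section GroupLemmas

variable {H : Type*} [Group H] {a b α β : H}

theorem cox_two (hab : a * b = b * a) (ha : a * a = α) (hb : b * b = β) :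
    (a * b) ^ 2 = α * β ∧ (b * a) ^ 2 = α * β := by
  subst ha hb
  have e : (a * b) ^ 2 = a * a * (b * b) := by
    rw [pow_two]
    calc _ = a * (b * a) * b := by group
      _ = _ := by rw [← hab]; group
  exact ⟨e, by rw [← hab]; exact e⟩

theorem pow_swap (n : ℕ) : (b * a) ^ n = a⁻¹ * (a * b) ^ n * a := by
  induction n with
  | zero => simp
  | succ n ih => rw [pow_succ, pow_succ, ih]; group

variable (ha : a * a = α) (hb : b * b = β)
include ha hb

theorem cox_three (hbr : b * a * b = a * b * a) (hα : α * α = 1) (hβ : β * β = 1)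
    (hba : b * α * b⁻¹ = α * β) : (a * b) ^ 3 = 1 ∧ (b * a) ^ 3 = 1 := by
  have h1 : b * α * b = α := by
    calc b * α * b = b * α * b⁻¹ * (b * b) := by group
      _ = _ := by rw [hba, hb, _root_.mul_assoc, hβ, _root_.mul_one]
  have e : (a * b) ^ 3 = 1 := by
    rw [pow_succ, pow_two]
    calc a * b * (a * b) * (a * b) = a * b * a * (b * a * b) := by group
      _ = a * b * (a * a) * b * a := by rw [hbr]; group
      _ = a * (b * α * b) * a := by rw [ha]; group
      _ = a * (a * a) * a := by rw [h1, ha]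
      _ = (a * a) * (a * a) := by group
      _ = 1 := by rw [ha, hα]
  exact ⟨e, by rw [pow_swap (a := a), e]; group⟩

theorem cox_four (hbr : b * a * b * a = a * b * a * b) (hα : α * α = 1) (hβ : β * β = 1)
    (hab : a * β * a⁻¹ = β * α) : (a * b) ^ 4 = α ∧ (b * a) ^ 4 = α := by
  have h1 : a * β * a = β := by
    calc a * β * a = a * β * a⁻¹ * (a * a) := by group
      _ = _ := by rw [hab, ha, _root_.mul_assoc, hα, _root_.mul_one]
  have h2 : b * β * b = 1 := by
    rw [← hb] at hβ ⊢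
    calc b * (b * b) * b = b * b * (b * b) := by group
      _ = 1 := hβ
  have e : (a * b) ^ 4 = α := by
    rw [pow_succ, pow_succ, pow_two]
    calc a * b * (a * b) * (a * b) * (a * b) = a * b * a * b * (a * b * a * b) := by group
      _ = a * b * a * b * (b * a * b * a) := congrArg (a * b * a * b * ·) hbr.symm
      _ = a * b * a * (b * b) * a * b * a := by group
      _ = a * b * (a * β * a) * b * a := by rw [hb]; group
      _ = a * (b * β * b) * a := by rw [h1]; group
      _ = α := by rw [h2, _root_.mul_one, ha]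
  exact ⟨e, by rw [pow_swap (a := a), e, ← ha]; group⟩

theorem cox_six (hbr : b * a * b * a * b * a = a * b * a * b * a * b) (hα : α * α = 1) (hβ : β * β = 1)
    (hab : a * β * a⁻¹ = β * α) (hba : b * α * b⁻¹ = α * β) : (a * b) ^ 6 = 1 ∧ (b * a) ^ 6 = 1 := by
  have h1 : a * β * a = β := by
    calc a * β * a = a * β * a⁻¹ * (a * a) := by group
      _ = _ := by rw [hab, ha, _root_.mul_assoc, hα, _root_.mul_one]
  have h2 : b * β * b = 1 := by
    rw [← hb] at hβ ⊢
    calc b * (b * b) * b = b * b * (b * b) := by group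
      _ = 1 := hβ
  have h3 : b * α * b = α := by
    calc b * α * b = b * α * b⁻¹ * (b * b) := by group
      _ = _ := by rw [hba, hb, _root_.mul_assoc, hβ, _root_.mul_one]
  have h4 : a * α * a = 1 := by
    rw [← ha] at hα ⊢
    calc a * (a * a) * a = a * a * (a * a) := by group
      _ = 1 := hα
  have e : (a * b) ^ 6 = 1 := by
    rw [pow_succ, pow_succ, pow_succ, pow_succ, pow_two]
    calc a * b * (a * b) * (a * b) * (a * b) * (a * b) * (a * b)
        = a * b * a * b * a * b * (a * b * a * b * a * b) := by group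
      _ = a * b * a * b * a * b * (b * a * b * a * b * a) := congrArg (a * b * a * b * a * b * ·) hbr.symm
      _ = a * b * a * b * a * (b * b) * a * b * a * b * a := by group
      _ = a * b * a * b * (a * β * a) * b * a * b * a := by rw [hb]; group
      _ = a * b * a * (b * β * b) * a * b * a := by rw [h1]; group
      _ = a * b * (a * a) * b * a := by rw [h2]; group
      _ = a * (b * α * b) * a := by rw [ha]; group
      _ = 1 := by rw [h3, h4]
  exact ⟨e, by rw [pow_swap (a := a), e]; group⟩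

end GroupLemmas

/-- The opposite root group is moved along with a root. -/
theorem moves_neg {j c c' : D.idx} (hj : IsDual D j (D.u (negIdx D j))) (B : D.P.Base)
    (hc : D.P.reflectionPerm j c = c') :
    ∃ m : Γ(S, ⊤)ˣ, Moves D (wpt D j (𝟙_ (Over S))) (negIdx D c) (negIdx D c') m := by
  obtain ⟨k, hk⟩ := exists_wpt_conj_unit hj B (negIdx D c)
  refine ⟨k, fun X r => ?_⟩
  rw [← hc, negIdx_reflectionPerm, comp_wpt]
  exact hk X r

variable (B : D.P.Base) {a b : D.idx} (ha : a ∈ B.support) (hb : b ∈ B.support) (hne : a ≠ b)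
  (hA : IsDual D a (D.u (negIdx D a))) (hB : IsDual D b (D.u (negIdx D b)))

/-- The coroot at `-1`. -/
noncomputable abbrev negOnePt (D : Red.SplitRed G) (c : D.idx) : 𝟙_ (Over S) ⟶ G := hpt D c (-1)

theorem hpt_neg_one_mul_self (c : D.idx) {X : Over S} :
    hpt D c (-1 : Γ(X.left, ⊤)ˣ) * hpt D c (-1) = 1 := by
  rw [← hpt_mul, show (-1 : Γ(X.left, ⊤)ˣ) * -1 = 1 by simp]
  have h := hpt_mul D c (1 : Γ(X.left, ⊤)ˣ) 1
  rw [_root_.one_mul] at h
  exact left_eq_mul.mp h

theorem wpt_conj_neg_one {a : D.idx} (hA : IsDual D a (D.u (negIdx D a))) (c : D.idx) {n : ℤ}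
    (hn : D.P.pairing a c = n) (ho : Odd n) {X : Over S} :
    wpt D a X * hpt D c (-1 : Γ(X.left, ⊤)ˣ) * (wpt D a X)⁻¹ = hpt D c (-1) * hpt D a (-1) := by
  rw [wpt_conj_hpt hA, hn, ho.neg.neg_one_zpow]

include B ha hb hne hA hB

theorem coxeter_A1 (hba : D.P.pairing b a = 0) (hab : D.P.pairing a b = 0) :
    (wpt D a (𝟙_ (Over S)) * wpt D b (𝟙_ (Over S))) ^ 2 = negOnePt D a * negOnePt D b ∧
      (wpt D b (𝟙_ (Over S)) * wpt D a (𝟙_ (Over S))) ^ 2 = negOnePt D a * negOnePt D b := by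
  have h := indep_of_simple B ha hb hne
  have hp := (carries_orth hB B h.symm (B.sub_notMem_range_root ha hb) hab).moves
  obtain ⟨m, hn⟩ := moves_neg hB B (c := a) (c' := a) (refl_root (k := 0) (by rw [hab, neg_zero]) (by simp))
  have e := conj_wpt hA hA hp hn (normT_wpt hB)
  exact cox_two (mul_inv_eq_iff_eq_mul.mp e).symm (wpt_mul_self hA _) (wpt_mul_self hB _)

theorem coxeter_A2 (hba : D.P.pairing b a = -1) (hab : D.P.pairing a b = -1) :
    (wpt D a (𝟙_ (Over S)) * wpt D b (𝟙_ (Over S))) ^ 3 = 1 ∧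
      (wpt D b (𝟙_ (Over S)) * wpt D a (𝟙_ (Over S))) ^ 3 = 1 := by
  obtain ⟨c, k, ⟨r1, r2⟩, -, q2, q1, -, -⟩ := pinned_A2 B ha hb hne hA hB hba hab
  have hp := (q1.moves.mul q2.moves).congr (k' := 1) (by rw [neg_mul_neg, Units.inv_mul])
  obtain ⟨m₁, n₁⟩ := moves_neg hA B r2
  obtain ⟨m₂, n₂⟩ := moves_neg hB B (c := c) (c' := a) (by rw [← r1, RootPairing.reflectionPerm_self])
  have e := conj_wpt hB hA hp (m := m₂ * m₁) ((n₁.mul n₂).congr (Units.val_mul _ _).symm)
    ((normT_wpt hA).mul (normT_wpt hB))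
  refine cox_three (wpt_mul_self hA _) (wpt_mul_self hB _) ?_ (hpt_neg_one_mul_self a)
    (hpt_neg_one_mul_self b) (wpt_conj_neg_one hB a hba (by decide))
  rw [mul_inv_eq_iff_eq_mul] at e
  rw [e, _root_.mul_assoc]

theorem coxeter_B2 (hba : D.P.pairing b a = -2) (hab : D.P.pairing a b = -1) :
    (wpt D a (𝟙_ (Over S)) * wpt D b (𝟙_ (Over S))) ^ 4 = negOnePt D a ∧
      (wpt D b (𝟙_ (Over S)) * wpt D a (𝟙_ (Over S))) ^ 4 = negOnePt D a := by
  obtain ⟨c₁, c₂, k, k', ⟨r1, r2, -, -⟩, q1, q3, -, -, q2, -, -, -⟩ := pinned_B2 B ha hb hne hA hB hba hab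
  have hp := ((q1.moves.mul q2.moves).mul q3.moves).congr (k' := 1)
    (by rw [neg_one_mul, neg_mul_neg, Units.inv_mul])
  obtain ⟨m₁, n₁⟩ := moves_neg hB B r1
  obtain ⟨m₂, n₂⟩ := moves_neg hA B r2
  obtain ⟨m₃, n₃⟩ := moves_neg hB B (c := c₁) (c' := a) (by rw [← r1, RootPairing.reflectionPerm_self])
  have e := conj_wpt hA hA hp (m := m₃ * (m₂ * m₁))
    (((n₁.mul n₂).mul n₃).congr (by rw [Units.val_mul, Units.val_mul]))
    (((normT_wpt hB).mul (normT_wpt hA)).mul (normT_wpt hB))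
  refine cox_four (wpt_mul_self hA _) (wpt_mul_self hB _) ?_ (hpt_neg_one_mul_self a)
    (hpt_neg_one_mul_self b) (wpt_conj_neg_one hA b hab (by decide))
  rw [mul_inv_eq_iff_eq_mul] at e
  simp only [← _root_.mul_assoc] at e ⊢
  exact e

theorem coxeter_G2 (hba : D.P.pairing b a = -3) (hab : D.P.pairing a b = -1) :
    (wpt D a (𝟙_ (Over S)) * wpt D b (𝟙_ (Over S))) ^ 6 = 1 ∧
      (wpt D b (𝟙_ (Over S)) * wpt D a (𝟙_ (Over S))) ^ 6 = 1 := by
  obtain ⟨c₁, c₂, c₃, d, k, k', k'', s, ⟨r1, r2, r3, -, -, -⟩, ⟨q1, q5, q3, -, -⟩, ⟨-, q2, q4, -, -⟩, -⟩ :=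
    pinned_G2 B ha hb hne hA hB hba hab
  have hp := ((((q1.moves.mul q2.moves).mul q3.moves).mul q4.moves).mul q5.moves).congr (k' := 1) (by
    linear_combination (((k⁻¹ : Γ(S, ⊤)ˣ) : Γ(S, ⊤)) * k) * s.inv_mul + k.inv_mul)
  obtain ⟨m₁, n₁⟩ := moves_neg hB B r1
  obtain ⟨m₂, n₂⟩ := moves_neg hA B r2
  obtain ⟨m₃, n₃⟩ := moves_neg hB B r3
  obtain ⟨m₄, n₄⟩ := moves_neg hA B (c := c₂) (c' := c₁) (by rw [← r2, RootPairing.reflectionPerm_self])
  obtain ⟨m₅, n₅⟩ := moves_neg hB B (c := c₁) (c' := a) (by rw [← r1, RootPairing.reflectionPerm_self])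
  have e := conj_wpt hA hA hp (m := m₅ * (m₄ * (m₃ * (m₂ * m₁))))
    (((((n₁.mul n₂).mul n₃).mul n₄).mul n₅).congr (by simp only [Units.val_mul]))
    (((((normT_wpt hB).mul (normT_wpt hA)).mul (normT_wpt hB)).mul (normT_wpt hA)).mul (normT_wpt hB))
  refine cox_six (wpt_mul_self hA _) (wpt_mul_self hB _) ?_ (hpt_neg_one_mul_self a)
    (hpt_neg_one_mul_self b) (wpt_conj_neg_one hA b hab (by decide)) (wpt_conj_neg_one hB a hba (by decide))
  rw [mul_inv_eq_iff_eq_mul] at e
  simp only [← _root_.mul_assoc] at e ⊢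
  exact e

end Groth.Agent.RedPts82
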