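import Groth.Agent.Roots36.Coxeter

/-!
Reduced words carrying a simple root to a simple root: reduction to pairs of simple roots.
-/

open Set Function RootPairing

namespace Groth.Agent.RedPts82

open Roots36

variable {ι R M N : Type*} [CommRing R] [AddCommGroup M] [Module R M] [AddCommGroup N] [Module R N]
  {P : RootPairing ι R M N} [CharZero R] [IsDomain R] [P.IsCrystallographic] [Fintype ι]
  {Δ : Set ι} (hΔ : RootD.IsSimpleSys P Δ)
include hΔ

theorem wprod_concat_ne {l : List ι} {i : ι} (h : Reduced P Δ (l ++ [i])) :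
    wprod P (l ++ [i]) • i ∉ RootD.posOf P Δ :=
  reduced_last_not_posOf hΔ h.of_append.1 (h.1 i (by simp)) h.2

/-- A simple root which stays positive under a reduced word stays positive under every final segment. -/
theorem suffix_posOf {p q : List ι} {a : ι} (h : Reduced P Δ (p ++ q)) (ha : a ∈ Δ)
    (hpos : wprod P (p ++ q) • a ∈ RootD.posOf P Δ) : wprod P q • a ∈ RootD.posOf P Δ := by
  by_contra hneg
  have hq : ∀ c ∈ q, c ∈ Δ := fun c hc => h.1 c (List.mem_append_right p hc)
  obtain ⟨m, hm, he⟩ := exchange hΔ hq ha hneg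
  have hmem : ∀ c ∈ p ++ q.eraseIdx m ++ [a], c ∈ Δ := fun c hc => by
    simp only [List.mem_append, List.mem_singleton] at hc
    rcases hc with (hc | hc) | rfl
    · exact h.1 c (List.mem_append_left q hc)
    · exact hq c (List.mem_of_mem_eraseIdx hc)
    · exact ha
  have hw : wprod P (p ++ q.eraseIdx m ++ [a]) = wprod P (p ++ q) := by
    rw [wprod_append, wprod_append, ← he, wprod_append, wprod_cons, wprod_nil, mul_one, mul_assoc,
      mul_assoc, Roots36.reflection_sq, mul_one]
  have hl : (p ++ q.eraseIdx m ++ [a]).length ≤ (p ++ q).length := by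
    simp [List.length_eraseIdx, if_pos hm]; omega
  exact wprod_concat_ne hΔ (h.of_eq hmem hw hl) (by rw [hw]; exact hpos)

theorem reduced_suffix {p q : List ι} (h : Reduced P Δ (p ++ q)) : Reduced P Δ q := by
  refine ⟨fun c hc => h.1 c (List.mem_append_right p hc), fun q' hq' he => ?_⟩
  have := h.2 (p ++ q') (fun c hc => (List.mem_append.mp hc).elim
    (fun hc => h.1 c (List.mem_append_left q hc)) (hq' c)) (by rw [wprod_append, wprod_append, he])
  simpa using this

/-- Splitting off the longest final segment in two letters. -/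
theorem exists_split (a j : ι) (ha : a ∈ Δ) (hj : j ∈ Δ) (u v : List ι) (h : Reduced P Δ (u ++ v))
    (hv : ∀ c ∈ v, c = a ∨ c = j) :
    ∃ u' v', Reduced P Δ (u' ++ v') ∧ wprod P (u' ++ v') = wprod P (u ++ v) ∧
      (u' ++ v').length = (u ++ v).length ∧ v.length ≤ v'.length ∧ (∀ c ∈ v', c = a ∨ c = j) ∧
      wprod P u' • a ∈ RootD.posOf P Δ ∧ wprod P u' • j ∈ RootD.posOf P Δ := by
  induction hn : u.length using Nat.strongRecOn generalizing u v with
  | ind n ih =>
    have step : ∀ c, (c = a ∨ c = j) → wprod P u • c ∉ RootD.posOf P Δ →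
        ∃ u' v', Reduced P Δ (u' ++ v') ∧ wprod P (u' ++ v') = wprod P (u ++ v) ∧
          (u' ++ v').length = (u ++ v).length ∧ v.length ≤ v'.length ∧ (∀ c ∈ v', c = a ∨ c = j) ∧
          wprod P u' • a ∈ RootD.posOf P Δ ∧ wprod P u' • j ∈ RootD.posOf P Δ := by
      intro c hc hneg
      have hcΔ : c ∈ Δ := by rcases hc with rfl | rfl <;> assumption
      have hu : ∀ e ∈ u, e ∈ Δ := fun e he => h.1 e (List.mem_append_left v he)
      obtain ⟨m, hm, he⟩ := exchange hΔ hu hcΔ hneg
      have hw : wprod P (u.eraseIdx m ++ c :: v) = wprod P (u ++ v) := by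
        rw [wprod_append, wprod_cons, ← mul_assoc, ← he, mul_assoc (wprod P u), Roots36.reflection_sq, mul_one,
          wprod_append]
      have hmem : ∀ e ∈ u.eraseIdx m ++ c :: v, e ∈ Δ := fun e he => by
        simp only [List.mem_append, List.mem_cons] at he
        rcases he with he | rfl | he
        · exact hu e (List.mem_of_mem_eraseIdx he)
        · exact hcΔ
        · exact h.1 e (List.mem_append_right u he)
      have hl : (u.eraseIdx m ++ c :: v).length = (u ++ v).length := by
        simp [List.length_eraseIdx, if_pos hm]; omega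
      obtain ⟨u', v', h1, h2, h3, h4, h5⟩ := ih (u.eraseIdx m).length
        (by rw [List.length_eraseIdx, if_pos hm]; omega) (u.eraseIdx m) (c :: v) (h.of_eq hmem hw hl.le)
        (fun e he => by rcases List.mem_cons.mp he with rfl | he; exacts [hc, hv e he]) rfl
      exact ⟨u', v', h1, h2.trans hw, h3.trans hl, by simp at h4; omega, h5⟩
    by_cases h1 : wprod P u • a ∈ RootD.posOf P Δ
    · by_cases h2 : wprod P u • j ∈ RootD.posOf P Δ
      · exact ⟨u, v, h, rfl, rfl, le_rfl, hv, h1, h2⟩
      · exact step j (Or.inr rfl) h2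
    · exact step a (Or.inl rfl) h1

theorem coef_wprod_supported {a j : ι} (ha : a ∈ Δ) (hj : j ∈ Δ) {v : List ι}
    (hv : ∀ c ∈ v, c = a ∨ c = j) (i : ι) (hia : i ≠ a) (hij : i ≠ j) :
    coef hΔ (wprod P v • a) i = 0 := by
  induction v with
  | nil => simp [coef_simple hΔ ha, hia]
  | cons c v ih =>
    have hc : c ∈ Δ := by rcases hv c (by simp) with rfl | rfl <;> assumption
    rw [wprod_cons, mul_smul, reflection_smul_index, coef_reflect hΔ hc, Pi.sub_apply,
      ih fun e he => hv e (by simp [he])]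
    rcases hv c (by simp) with rfl | rfl <;> simp [hia, hij]

theorem coef_wprod_comb {i₁ i₂ k : ι} {p q : ℤ} (g : P.Aut)
    (h : P.root k = p • P.root i₁ + q • P.root i₂) :
    coef hΔ (g • k) = p • coef hΔ (g • i₁) + q • coef hΔ (g • i₂) := by
  refine coef_eq hΔ (fun l hl => by simp [coef_eq_zero hΔ hl]) ?_
  rw [comb_add, comb_smul, comb_smul, ← root_eq_comb hΔ, ← root_eq_comb hΔ, root_smul, root_smul,
    root_smul, h, smul_add, smul_comm g p, smul_comm g q]

/-- If a word in two simple roots, prolonged by a word positive on both, carries a simple root to a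
simple root, it carries it to one of the two. -/
theorem wprod_smul_mem_pair {a j a₀ : ι} (ha : a ∈ Δ) (hj : j ∈ Δ) (ha₀ : a₀ ∈ Δ) (hne : a ≠ j)
    {u v : List ι} (hv : ∀ c ∈ v, c = a ∨ c = j) (hua : wprod P u • a ∈ RootD.posOf P Δ)
    (huj : wprod P u • j ∈ RootD.posOf P Δ) (h : wprod P (u ++ v) • a = a₀) :
    wprod P v • a = a ∨ wprod P v • a = j := by
  classical
  set β := wprod P v • a
  have hsupp : coef hΔ β = coef hΔ β a • Pi.single a (1 : ℤ) + coef hΔ β j • Pi.single j (1 : ℤ) := by
    funext i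
    by_cases hia : i = a
    · subst hia; simp [hne]
    · by_cases hij : i = j
      · subst hij; simp [hne.symm]
      · simp [coef_wprod_supported hΔ ha hj hv i hia hij, β, hia, hij]
  have hroot : P.root β = coef hΔ β a • P.root a + coef hΔ β j • P.root j := by
    conv_lhs => rw [root_eq_comb hΔ β, hsupp, comb_add, comb_smul, comb_smul, comb_single, comb_single,
      one_smul, one_smul]
  have e := coef_wprod_comb hΔ (wprod P u) hroot
  rw [← mul_smul, ← wprod_append, h, coef_simple hΔ ha₀] at e
  have e1 := congrArg (fun c : ι → ℤ => ∑ i, c i) e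
  simp only [Pi.add_apply, Pi.smul_apply, smul_eq_mul, Finset.sum_add_distrib, ← Finset.mul_sum,
    Finset.sum_pi_single', Finset.mem_univ, if_true] at e1
  have k1 : 0 < ht hΔ (wprod P u • a) := ht_pos hΔ hua
  have k2 : 0 < ht hΔ (wprod P u • j) := ht_pos hΔ huj
  simp only [ht] at k1 k2
  rcases coef_sign hΔ β with hs | hs
  · have s1 := hs a
    have s2 := hs j
    obtain ⟨x1, x2⟩ | ⟨x1, x2⟩ : (coef hΔ β a = 1 ∧ coef hΔ β j = 0) ∨ (coef hΔ β a = 0 ∧ coef hΔ β j = 1) := by
      have t1 : coef hΔ β a * 1 ≤ coef hΔ β a * ∑ i, coef hΔ (wprod P u • a) i :=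
        mul_le_mul_of_nonneg_left k1 s1
      have t2 : coef hΔ β j * 1 ≤ coef hΔ β j * ∑ i, coef hΔ (wprod P u • j) i :=
        mul_le_mul_of_nonneg_left k2 s2
      rcases (show coef hΔ β a = 0 ∨ 1 ≤ coef hΔ β a by omega) with h0 | h0
      · refine Or.inr ⟨h0, ?_⟩
        have : coef hΔ β j ≠ 0 := fun h1 => by rw [h0, h1] at e1; simp at e1
        omega
      · exact Or.inl ⟨by omega, by omega⟩
    · exact Or.inl (P.root.injective (by rw [hroot, x1, x2]; simp))
    · exact Or.inr (P.root.injective (by rw [hroot, x1, x2]; simp))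
  · nlinarith [mul_nonpos_of_nonpos_of_nonneg (hs a) k1.le, mul_nonpos_of_nonpos_of_nonneg (hs j) k2.le]

end Groth.Agent.RedPts82
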