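import Groth.Agent.RedPts82.PinnedG2

/-!
Conjugation of Weyl elements by words, and the braid relations of two simple roots of a pinning.
-/

universe u

open CategoryTheory MonoidalCategory CartesianMonoidalCategory MonObj GrpObj AlgebraicGeometry
open CategoryTheory.Limits

namespace Groth.Agent.RedPts82

variable {S : Scheme.{u}} {G : Over S} [GrpObj G]

/-- Conjugation by the section `p` carries the root group of `c` to that of `c'` with factor `k`. -/
def Moves (D : Red.SplitRed G) (p : 𝟙_ (Over S) ⟶ G) (c c' : D.idx) (k : Γ(S, ⊤)) : Prop :=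
  ∀ (X : Over S) (r : Γ(X.left, ⊤)),
    (toUnit X ≫ p) * (gaPt r ≫ D.u c) * (toUnit X ≫ p)⁻¹ = gaPt (cst X k * r) ≫ D.u c'

/-- Conjugation by the section `p` preserves the torus. -/
def NormT (D : Red.SplitRed G) (p : 𝟙_ (Over S) ⟶ G) : Prop :=
  ∀ (X : Over S) (t : X ⟶ Red.DS S D.M), ∃ t' : X ⟶ Red.DS S D.M,
    (toUnit X ≫ p) * tpt D t * (toUnit X ≫ p)⁻¹ = tpt D t'

variable {D : Red.SplitRed G}

theorem Moves.mul {p q : 𝟙_ (Over S) ⟶ G} {c c' c'' : D.idx} {k k' : Γ(S, ⊤)} (hp : Moves D p c c' k)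
    (hq : Moves D q c' c'' k') : Moves D (q * p) c c'' (k' * k) := by
  intro X r
  rw [MonObj.comp_mul]
  calc _ = (toUnit X ≫ q) * ((toUnit X ≫ p) * (gaPt r ≫ D.u c) * (toUnit X ≫ p)⁻¹) * (toUnit X ≫ q)⁻¹ := by group
    _ = _ := by rw [hp, hq, ← _root_.mul_assoc, cst, cst, cst, map_mul]

theorem moves_one (c : D.idx) : Moves D 1 c c 1 := by
  intro X r
  rw [MonObj.comp_one, inv_one, _root_.mul_one, _root_.one_mul, cst, map_one, _root_.one_mul]

theorem Moves.congr {p : 𝟙_ (Over S) ⟶ G} {c c' : D.idx} {k k' : Γ(S, ⊤)} (hp : Moves D p c c' k)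
    (h : k = k') : Moves D p c c' k' := h ▸ hp

theorem NormT.mul {p q : 𝟙_ (Over S) ⟶ G} (hp : NormT D p) (hq : NormT D q) : NormT D (q * p) := by
  intro X t
  obtain ⟨t', ht'⟩ := hp X t
  obtain ⟨t'', ht''⟩ := hq X t'
  exact ⟨t'', by rw [MonObj.comp_mul, ← ht'', ← ht']; group⟩

theorem normT_one : NormT D (1 : 𝟙_ (Over S) ⟶ G) := fun X t =>
  ⟨t, by rw [MonObj.comp_one, inv_one, _root_.mul_one, _root_.one_mul]⟩

theorem Carries.moves {a c c' : D.idx} {k : Γ(S, ⊤)} (h : Carries D a c c' k) :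
    Moves D (wpt D a (𝟙_ (Over S))) c c' k := fun X r => by rw [comp_wpt]; exact h X r

theorem normT_wpt {a : D.idx} (hdual : IsDual D a (D.u (negIdx D a))) :
    NormT D (wpt D a (𝟙_ (Over S))) := fun X t => ⟨_, by rw [comp_wpt]; exact wpt_conj_tpt hdual t⟩

theorem negIdx_reflectionPerm (j i : D.idx) :
    negIdx D (D.P.reflectionPerm j i) = D.P.reflectionPerm j (negIdx D i) :=
  D.P.root.injective (by
    rw [Roots36.root_neg, RootPairing.root_reflectionPerm, RootPairing.root_reflectionPerm,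
      Roots36.root_neg, map_neg])

theorem rootHom_tpt_eq_zero (c : D.idx) {X : Over S} (R : Γ(X.left, ⊤)) (t : X ⟶ Red.DS S D.M)
    (h : gaPt R ≫ D.u c = tpt D t) : R = 0 := by
  obtain ⟨l, hne, hl, hl'⟩ := exists_regular_functional (P := D.P) (D.P.RootForm.flip (D.P.root c)).toAddMonoidHom
  have hlc : 0 < l (D.P.root c) := hl' c (by simpa using rootForm_self_pos (P := D.P) c)
  have C := cellData_of_regular D l hl (Fin.elim0 : Fin 0 → D.idx) ![c] (fun i => i.elim0)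
    (fun i j _ => Subsingleton.elim i j) (fun k => k.elim0) (fun k => by fin_cases k; exact hlc)
  have := C.mono_cell
  have h0 : gaPt (0 : Γ(X.left, ⊤)) ≫ D.u c = 1 := rootHom_gaPt_zero D c
  have e := (cancel_mono (cellS D.i (fun k => D.u ((Fin.elim0 : Fin 0 → D.idx) k)) fun k => D.u (![c] k))).mp
    (show lift (powTuple (Fin.elim0 : Fin 0 → (X ⟶ Red.Ga S))) (lift ((1 : X ⟶ Red.DS S D.M) ≫ D.split.inv.hom.hom) (powTuple ![gaPt R])) ≫ _ =
      lift (powTuple (Fin.elim0 : Fin 0 → (X ⟶ Red.Ga S))) (lift (t ≫ D.split.inv.hom.hom) (powTuple ![gaPt 0])) ≫ _ by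
      rw [cellS_lift, cellS_lift, Category.assoc, Category.assoc]
      simp only [prodMap_pt, powTuple_proj, List.ofFn_succ, List.ofFn_zero, List.prod_cons, List.prod_nil,
        Matrix.cons_val_zero, _root_.mul_one, _root_.one_mul, h0]
      show tpt D 1 * _ = tpt D t
      rw [tpt_one, _root_.one_mul, h])
  have e' := congrArg (fun w => Red.gaFn ((w ≫ snd _ _ ≫ snd _ _) ≫ powProj (Red.Ga S) 1 0)) e
  simpa [powTuple_proj, gaFn_gaPt] using e'

variable {a a' : D.idx} (hA : IsDual D a (D.u (negIdx D a))) (hA' : IsDual D a' (D.u (negIdx D a')))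
include hA hA'

/-- An element of the normalizer moving a pinned root to another one moves the Weyl elements. -/
theorem conj_wpt {p : 𝟙_ (Over S) ⟶ G} (hp : Moves D p a a' 1) {m : Γ(S, ⊤)ˣ}
    (hn : Moves D p (negIdx D a) (negIdx D a') m) (hT : NormT D p) :
    p * wpt D a (𝟙_ (Over S)) * p⁻¹ = wpt D a' (𝟙_ (Over S)) := by
  have hm : (m : Γ(S, ⊤)) = 1 := by
    have hz : (m : Γ(S, ⊤)) * ((m : Γ(S, ⊤)) - 1) = 0 := eq_zero_of_delta _ fun X δ hδ => by
      let z : Γ(X.left, ⊤)ˣ := ⟨1 + δ, 1 - δ, by linear_combination -hδ, by linear_combination -hδ⟩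
      have hmδ : (cst X m * δ) * (cst X m * δ) = 0 := by linear_combination (cst X (m : Γ(S, ⊤))) ^ 2 * hδ
      let z' : Γ(X.left, ⊤)ˣ := ⟨1 + cst X m * δ, 1 - cst X m * δ, by linear_combination -hmδ,
        by linear_combination -hmδ⟩
      have r1 := hA.rel D δ 1 z (by show 1 + δ = _; ring)
      have r2 := hA'.rel D δ (cst X m) z' (by show 1 + cst X m * δ = _; ring)
      have g1 : δ * ((z⁻¹ : Γ(X.left, ⊤)ˣ) : Γ(X.left, ⊤)) = δ := by
        show δ * (1 - δ) = δ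
        linear_combination -hδ
      have g2 : δ * ((z'⁻¹ : Γ(X.left, ⊤)ˣ) : Γ(X.left, ⊤)) = δ := by
        show δ * (1 - cst X m * δ) = δ
        linear_combination -(cst X (m : Γ(S, ⊤))) * hδ
      rw [g1, _root_.one_mul] at r1
      rw [g2] at r2
      obtain ⟨t₁, ht₁⟩ := hT X (gmPt z ≫ Red.DSmap S (D.P.coroot a).toAddMonoidHom)
      rw [← hpt_eq_tpt] at ht₁
      have j1 := hp X δ
      have j2 := hn X 1
      have j3 := hn X ((z⁻¹ : Γ(X.left, ⊤)ˣ) : Γ(X.left, ⊤))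
      rw [cst, map_one, _root_.one_mul] at j1
      rw [_root_.mul_one] at j2
      have e : ((toUnit X ≫ p) * ((gaPt δ ≫ D.u a) * (gaPt 1 ≫ D.u (negIdx D a))) * (toUnit X ≫ p)⁻¹) =
          ((toUnit X ≫ p) * (gaPt δ ≫ D.u a) * (toUnit X ≫ p)⁻¹) *
            ((toUnit X ≫ p) * (gaPt 1 ≫ D.u (negIdx D a)) * (toUnit X ≫ p)⁻¹) := by group
      rw [j1, j2, r2] at e
      have e' : ((toUnit X ≫ p) * ((gaPt δ ≫ D.u a) * (gaPt 1 ≫ D.u (negIdx D a))) * (toUnit X ≫ p)⁻¹) =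
          (gaPt (cst X m * ((z⁻¹ : Γ(X.left, ⊤)ˣ) : Γ(X.left, ⊤))) ≫ D.u (negIdx D a')) * tpt D t₁ *
            (gaPt δ ≫ D.u a') := by
        rw [r1, ← j3, ← ht₁, ← j1]
        group
      rw [e'] at e
      have e2 := mul_right_cancel e
      rw [hpt_eq_tpt] at e2
      have h0 := rootHom_tpt_eq_zero (negIdx D a') (cst X m * ((z⁻¹ : Γ(X.left, ⊤)ˣ) : Γ(X.left, ⊤)) -
          cst X m * ((z'⁻¹ : Γ(X.left, ⊤)ˣ) : Γ(X.left, ⊤)))
        ((gmPt z' ≫ Red.DSmap S (D.P.coroot a').toAddMonoidHom) * t₁⁻¹) (by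
          have hinv : tpt D t₁⁻¹ = (tpt D t₁)⁻¹ := eq_inv_of_mul_eq_one_left (by
            rw [← tpt_mul, inv_mul_cancel, tpt_one])
          rw [tpt_mul, hinv, sub_eq_neg_add, rootHom_gaPt_add, rootHom_gaPt_neg]
          generalize gaPt (cst X m * ((z⁻¹ : Γ(X.left, ⊤)ˣ) : Γ(X.left, ⊤))) ≫ D.u (negIdx D a') = A at e2 ⊢
          generalize gaPt (cst X m * ((z'⁻¹ : Γ(X.left, ⊤)ˣ) : Γ(X.left, ⊤))) ≫ D.u (negIdx D a') = A' at e2 ⊢
          rw [eq_mul_inv_iff_mul_eq, _root_.mul_assoc, e2]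
          group)
      change cst X m * (1 - δ) - cst X m * (1 - cst X m * δ) = 0 at h0
      simp only [cst, map_mul, map_sub, map_one] at h0 ⊢
      linear_combination h0
    exact sub_eq_zero.mp (m.mul_right_eq_zero.mp hz)
  have j1 := hp (𝟙_ (Over S)) 1
  have j2 := hn (𝟙_ (Over S)) 1
  have hu : toUnit (𝟙_ (Over S)) ≫ p = p := by
    rw [show toUnit (𝟙_ (Over S)) = 𝟙 _ from toUnit_unique _ _, Category.id_comp]
  rw [hu] at j1 j2
  rw [cst, map_one, _root_.one_mul] at j1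
  rw [hm, cst, map_one, _root_.one_mul] at j2
  simp only [wpt, npt]
  rw [← j1, ← j2]
  group

omit hA'

/-- The Weyl element moves a coroot by the reflection. -/
theorem wpt_conj_hpt (c : D.idx) {X : Over S} (z : Γ(X.left, ⊤)ˣ) :
    wpt D a X * hpt D c z * (wpt D a X)⁻¹ = hpt D c z * hpt D a (z ^ (-D.P.pairing a c)) := by
  rw [hpt_eq_tpt, hpt_eq_tpt, wpt_conj_tpt hA, ← tpt_mul]
  congr 1
  refine dsFn_injective fun m => ?_
  rw [dsFn_DSmap, dsFn_DSmap, dsFn_mul, dsFn_DSmap, dsFn_DSmap, dsFn_int, dsFn_int, dsFn_int,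
    show gmU (gmPt z) = z from Units.ext (gmFn_gmPt _),
    show gmU (gmPt (z ^ (-D.P.pairing a c))) = z ^ (-D.P.pairing a c) from Units.ext (gmFn_gmPt _),
    ← zpow_mul, ← Units.val_mul, ← zpow_add]
  congr 2
  show D.P.coroot c (D.P.reflection a m) = D.P.coroot c m + -D.P.pairing a c * D.P.coroot a m
  rw [RootPairing.reflection_apply, map_sub, map_smul, pairing_eq_coroot, smul_eq_mul]
  have e := congrArg (fun f => f m (D.P.coroot a)) D.pairing_eq
  simp only [Module.Dual.eval_apply] at e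
  rw [← e]
  simp [RootPairing.coroot']
  ring

end Groth.Agent.RedPts82
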