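import Groth.Agent.RedPts82.PinnedWord

/-!
A word in the Weyl elements carrying a simple root to a simple root does so with a sign.
-/

universe u

open CategoryTheory MonoidalCategory CartesianMonoidalCategory MonObj GrpObj AlgebraicGeometry
open CategoryTheory.Limits

namespace Groth.Agent.RedPts82

/-- One step of the product of two simple reflections, in coordinates. -/
def dihStep (A B : ℤ) (p : ℤ × ℤ) : ℤ × ℤ :=
  (-p.1 - (-p.2 - p.1 * B) * A, -p.2 - p.1 * B)

theorem orderOf_dvd_step {A B : ℤ} {m : ℕ} (hm : 0 < m) (hper : (dihStep A B)^[m] (1, 0) = (1, 0))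
    (hmin : ∀ r < m, (dihStep A B)^[r] (1, 0) = (1, 0) → r = 0) {n : ℕ}
    (hn : (dihStep A B)^[n] (1, 0) = (1, 0)) : m ∣ n := by
  refine Nat.dvd_of_mod_eq_zero (hmin _ (Nat.mod_lt _ hm) ?_)
  rwa [Function.IsPeriodicPt.iterate_mod_apply hper]

variable {S : Scheme.{u}} {G : Over S} [GrpObj G] {D : Red.SplitRed G}

/-- Conjugation by `p` fixes each root group up to sign. -/
def SgnFix (D : Red.SplitRed G) (p : 𝟙_ (Over S) ⟶ G) : Prop :=
  ∀ c, ∃ k : Γ(S, ⊤)ˣ, sgnMk k = 1 ∧ Moves D p c c k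

theorem sgnFix_one : SgnFix D (1 : 𝟙_ (Over S) ⟶ G) := fun c =>
  ⟨1, sgnMk_eq_one (Or.inl Units.val_one), (moves_one c).congr Units.val_one.symm⟩

theorem SgnFix.mul {p q : 𝟙_ (Over S) ⟶ G} (hp : SgnFix D p) (hq : SgnFix D q) : SgnFix D (p * q) := by
  intro c
  obtain ⟨k', e', h'⟩ := hq c
  obtain ⟨k, e, h⟩ := hp c
  refine ⟨k * k', ?_, (h'.mul h).congr (Units.val_mul _ _).symm⟩
  rw [sgnMk, QuotientGroup.mk_mul, show QuotientGroup.mk k = (1 : Sgn S) from e,
    show QuotientGroup.mk k' = (1 : Sgn S) from e']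
  exact _root_.one_mul (M := Sgn S) _

theorem SgnFix.pow {p : 𝟙_ (Over S) ⟶ G} (hp : SgnFix D p) (n : ℕ) : SgnFix D (p ^ n) := by
  induction n with
  | zero => rw [pow_zero]; exact sgnFix_one
  | succ n ih => rw [pow_succ]; exact ih.mul hp

theorem sgnFix_negOnePt (a : D.idx) : SgnFix D (negOnePt D a) := sgn_of_negOnePt a

variable (B : D.P.Base) (hd : ∀ a ∈ B.support, IsDual D a (D.u (negIdx D a)))
  {a b : D.idx} (ha : a ∈ B.support) (hb : b ∈ B.support) (hne : a ≠ b)
include B ha hb hne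

theorem simple_cases :
    (D.P.pairing b a = 0 ∧ D.P.pairing a b = 0) ∨ (D.P.pairing b a = -1 ∧ D.P.pairing a b = -1) ∨
    (D.P.pairing b a = -2 ∧ D.P.pairing a b = -1) ∨ (D.P.pairing b a = -1 ∧ D.P.pairing a b = -2) ∨
    (D.P.pairing b a = -3 ∧ D.P.pairing a b = -1) ∨ (D.P.pairing b a = -1 ∧ D.P.pairing a b = -3) := by
  have h := indep_of_simple B ha hb hne
  obtain ⟨s, t, h1, h2, h3⟩ := h.string
  have hs : s = 0 := by
    by_contra hs
    exact B.sub_notMem_range_root hb ha (by convert (h3 (-1)).mpr ⟨by omega, by omega⟩ using 1; module)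
  have := h.pairing_cases
  simp only [Set.mem_insert_iff, Set.mem_singleton_iff, Prod.mk.injEq] at this
  omega

omit hne in
theorem root_step (n : ℕ) :
    D.P.root ((RootPairing.Equiv.reflection D.P a * RootPairing.Equiv.reflection D.P b) ^ n • a) =
      ((dihStep (D.P.pairing b a) (D.P.pairing a b))^[n] (1, 0)).1 • D.P.root a +
        ((dihStep (D.P.pairing b a) (D.P.pairing a b))^[n] (1, 0)).2 • D.P.root b := by
  induction n with
  | zero => simp
  | succ n ih =>
    rw [pow_succ', mul_smul, mul_smul, Roots36.reflection_smul_index, Roots36.reflection_smul_index,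
      RootPairing.root_reflectionPerm, RootPairing.root_reflectionPerm, ih, Function.iterate_succ_apply']
    simp only [map_add, map_zsmul, RootPairing.reflection_apply_self,
      RootPairing.reflection_apply_root, dihStep, map_sub, map_neg]
    module

theorem orderOf_dvd (m : ℕ) (hm : 0 < m)
    (hper : (dihStep (D.P.pairing b a) (D.P.pairing a b))^[m] (1, 0) = (1, 0))
    (hmin : ∀ r < m, (dihStep (D.P.pairing b a) (D.P.pairing a b))^[r] (1, 0) = (1, 0) → r = 0) :
    m ∣ orderOf (RootPairing.Equiv.reflection D.P a * RootPairing.Equiv.reflection D.P b) := by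
  refine orderOf_dvd_step hm hper hmin ?_
  have h := root_step B ha hb
    (orderOf (RootPairing.Equiv.reflection D.P a * RootPairing.Equiv.reflection D.P b))
  rw [pow_orderOf_eq_one, one_smul] at h
  obtain ⟨h1, h2⟩ := (indep_of_simple B ha hb hne).coeff_eq
    ((show (1 : ℤ) • D.P.root a + (0 : ℤ) • D.P.root b = D.P.root a by
      rw [one_smul, zero_smul, add_zero]).trans h)
  exact Prod.ext h1.symm h2.symm

include hd

theorem sgnFix_pow_orderOf :
    SgnFix D ((wpt D a (𝟙_ (Over S)) * wpt D b (𝟙_ (Over S))) ^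
      orderOf (RootPairing.Equiv.reflection D.P a * RootPairing.Equiv.reflection D.P b)) := by
  have key : ∀ m, m ∣ orderOf (RootPairing.Equiv.reflection D.P a * RootPairing.Equiv.reflection D.P b) →
      SgnFix D ((wpt D a (𝟙_ (Over S)) * wpt D b (𝟙_ (Over S))) ^ m) →
      SgnFix D ((wpt D a (𝟙_ (Over S)) * wpt D b (𝟙_ (Over S))) ^
        orderOf (RootPairing.Equiv.reflection D.P a * RootPairing.Equiv.reflection D.P b)) := by
    rintro m ⟨q, hq⟩ h
    rw [hq, pow_mul]
    exact h.pow q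
  rcases simple_cases B ha hb hne with ⟨p, q⟩ | ⟨p, q⟩ | ⟨p, q⟩ | ⟨p, q⟩ | ⟨p, q⟩ | ⟨p, q⟩
  · refine key 2 (orderOf_dvd B ha hb hne 2 two_pos (by rw [p, q]; decide) (by rw [p, q]; decide)) ?_
    rw [(coxeter_A1 B ha hb hne (hd a ha) (hd b hb) p q).1]
    exact (sgnFix_negOnePt a).mul (sgnFix_negOnePt b)
  · refine key 3 (orderOf_dvd B ha hb hne 3 three_pos (by rw [p, q]; decide) (by rw [p, q]; decide)) ?_
    rw [(coxeter_A2 B ha hb hne (hd a ha) (hd b hb) p q).1]
    exact sgnFix_one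
  · refine key 4 (orderOf_dvd B ha hb hne 4 (by norm_num) (by rw [p, q]; decide) (by rw [p, q]; decide)) ?_
    rw [(coxeter_B2 B ha hb hne (hd a ha) (hd b hb) p q).1]
    exact sgnFix_negOnePt a
  · refine key 4 (orderOf_dvd B ha hb hne 4 (by norm_num) (by rw [p, q]; decide) (by rw [p, q]; decide)) ?_
    rw [(coxeter_B2 B hb ha hne.symm (hd b hb) (hd a ha) q p).2]
    exact sgnFix_negOnePt b
  · refine key 6 (orderOf_dvd B ha hb hne 6 (by norm_num) (by rw [p, q]; decide) (by rw [p, q]; decide)) ?_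
    rw [(coxeter_G2 B ha hb hne (hd a ha) (hd b hb) p q).1]
    exact sgnFix_one
  · refine key 6 (orderOf_dvd B ha hb hne 6 (by norm_num) (by rw [p, q]; decide) (by rw [p, q]; decide)) ?_
    rw [(coxeter_G2 B hb ha hne.symm (hd b hb) (hd a ha) q p).2]
    exact sgnFix_one

/-- A finite set of pairs closed under the two simple edges away from the simple root. -/
def PosPart (a b : D.idx) (L : Set (D.idx × Sgn S)) : Prop :=
  (a, (1 : Sgn S)) ∈ L ∧ (b, (1 : Sgn S)) ∈ L ∧ (∀ e ∈ L, e.1 = a ∨ e.1 = b → e.2 = 1) ∧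
    ∀ e ∈ L, ∀ x, x = a ∨ x = b → e.1 ≠ x → edgePerm B hd x e ∈ L

omit hd in
theorem ne_of_comb {c : D.idx} {p q : ℤ} (hc : D.P.root c = p • D.P.root a + q • D.P.root b)
    (hq : q ≠ 0) (hp : p ≠ 0) : c ≠ a ∧ c ≠ b := by
  have h := indep_of_simple B ha hb hne
  constructor <;> rintro rfl
  · have := h.coeff_eq (p := p) (q := q) (p' := 1) (q' := 0) (by rw [← hc]; simp)
    omega
  · have := h.coeff_eq (p := p) (q := q) (p' := 0) (q' := 1) (by rw [← hc]; simp)
    omega

theorem posPart_A1 (hba : D.P.pairing b a = 0) (hab : D.P.pairing a b = 0) :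
    PosPart B hd a b {(a, 1), (b, 1)} := by
  have h := indep_of_simple B ha hb hne
  have e1 : edge B hd b a = sgnMk 1 := edge_eq B hd hb (c' := a)
    (refl_root (k := 0) (by rw [hab, neg_zero]) (by simp)) (by
      rw [Units.val_one]; exact carries_orth (hd b hb) B h.symm (B.sub_notMem_range_root ha hb) hab)
  have e2 : edge B hd a b = sgnMk 1 := edge_eq B hd ha (c' := b)
    (refl_root (k := 0) (by rw [hba, neg_zero]) (by simp)) (by
      rw [Units.val_one]; exact carries_orth (hd a ha) B h (B.sub_notMem_range_root hb ha) hba)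
  have r1 : D.P.reflectionPerm b a = a := refl_root (k := 0) (by rw [hab, neg_zero]) (by simp)
  have r2 : D.P.reflectionPerm a b = b := refl_root (k := 0) (by rw [hba, neg_zero]) (by simp)
  refine ⟨by simp, by simp, fun e he _ => ?_, fun e he x hx hex => ?_⟩
  · rcases he with rfl | rfl <;> rfl
  · rcases he with rfl | rfl <;> rcases hx with rfl | rfl <;>
      first
      | exact absurd rfl hex
      | (simp [edgePerm_apply, e1, e2, r1, r2, sgn_one_mul, sgn_mul_one])

theorem posPart_A2 (hba : D.P.pairing b a = -1) (hab : D.P.pairing a b = -1) :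
    ∃ L, PosPart B hd a b L := by
  obtain ⟨c, k, ⟨r1, r2⟩, q1, q2, q3, q4, -⟩ := pinned_A2 B ha hb hne (hd a ha) (hd b hb) hba hab
  have hc : D.P.root c = (1 : ℤ) • D.P.root a + (1 : ℤ) • D.P.root b := by
    rw [← r1, RootPairing.root_reflectionPerm, RootPairing.reflection_apply_root, hab]; module
  obtain ⟨n1, n2⟩ := ne_of_comb B ha hb hne hc one_ne_zero one_ne_zero
  have r1' : D.P.reflectionPerm b c = a := by rw [← r1, RootPairing.reflectionPerm_self]
  have r2' : D.P.reflectionPerm a c = b := by rw [← r2, RootPairing.reflectionPerm_self]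
  have e1 := edge_eq B hd hb r1 q1
  have e2 : edge B hd b c = sgnMk k⁻¹ :=
    (edge_eq B hd hb r1' (k := -k⁻¹) (by rw [Units.val_neg]; exact q2)).trans (sgnMk_neg _)
  have e3 : edge B hd a b = sgnMk k :=
    (edge_eq B hd ha r2 (k := -k) (by rw [Units.val_neg]; exact q3)).trans (sgnMk_neg _)
  have e4 := edge_eq B hd ha r2' q4
  refine ⟨{(a, 1), (b, 1), (c, sgnMk k)}, by simp, by simp, fun e he he' => ?_, fun e he x hx hex => ?_⟩
  · rcases he with rfl | rfl | rfl
    · rfl
    · rfl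
    · rcases he' with h' | h' <;> [exact absurd h' n1; exact absurd h' n2]
  · rcases he with rfl | rfl | rfl <;> rcases hx with rfl | rfl <;>
      first
      | exact absurd rfl hex
      | (simp [edgePerm_apply, e1, e2, e3, e4, r1, r2, r1', r2', sgn_one_mul, sgn_mul_one, sgnMk_inv_mul])

theorem posPart_B2 (hba : D.P.pairing b a = -2) (hab : D.P.pairing a b = -1) :
    ∃ L, PosPart B hd a b L := by
  obtain ⟨c₁, c₂, k, k', ⟨r1, r2, r3, r4⟩, q1, q2, q4, q3, q5, q6, -, -⟩ :=
    pinned_B2 B ha hb hne (hd a ha) (hd b hb) hba hab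
  have hc₁ : D.P.root c₁ = (1 : ℤ) • D.P.root a + (1 : ℤ) • D.P.root b := by
    rw [← r1, RootPairing.root_reflectionPerm, RootPairing.reflection_apply_root, hab]; module
  have hc₂ : D.P.root c₂ = (2 : ℤ) • D.P.root a + (1 : ℤ) • D.P.root b := by
    rw [← r3, RootPairing.root_reflectionPerm, RootPairing.reflection_apply_root, hba]; module
  obtain ⟨n1, n2⟩ := ne_of_comb B ha hb hne hc₁ one_ne_zero one_ne_zero
  obtain ⟨n3, n4⟩ := ne_of_comb B ha hb hne hc₂ one_ne_zero two_ne_zero
  have r1' : D.P.reflectionPerm b c₁ = a := by rw [← r1, RootPairing.reflectionPerm_self]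
  have r3' : D.P.reflectionPerm a c₂ = b := by rw [← r3, RootPairing.reflectionPerm_self]
  have e1 := edge_eq B hd hb r1 q1
  have e2 : edge B hd b c₁ = sgnMk k⁻¹ :=
    (edge_eq B hd hb r1' (k := -k⁻¹) (by rw [Units.val_neg]; exact q2)).trans (sgnMk_neg _)
  have e3 := edge_eq B hd ha r3 q3
  have e4 : edge B hd b c₂ = sgnMk 1 := edge_eq B hd hb r4 (by rw [Units.val_one]; exact q4)
  have e5 : edge B hd a c₁ = sgnMk 1 :=
    (edge_eq B hd ha r2 (k := -1) (by rw [Units.val_neg, Units.val_one]; exact q5)).trans (sgnMk_neg _)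
  have e6 := edge_eq B hd ha r3' q6
  refine ⟨{(a, 1), (b, 1), (c₁, sgnMk k), (c₂, sgnMk k')}, by simp, by simp, fun e he he' => ?_,
    fun e he x hx hex => ?_⟩
  · rcases he with rfl | rfl | rfl | rfl
    · rfl
    · rfl
    · rcases he' with h' | h' <;> [exact absurd h' n1; exact absurd h' n2]
    · rcases he' with h' | h' <;> [exact absurd h' n3; exact absurd h' n4]
  · rcases he with rfl | rfl | rfl | rfl <;> rcases hx with rfl | rfl <;>
      first
      | exact absurd rfl hex
      | (simp [edgePerm_apply, e1, e2, e3, e4, e5, e6, r1, r2, r3, r4, r1', r3', sgn_one_mul, sgn_mul_one, sgnMk_inv_mul])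

theorem posPart_G2 (hba : D.P.pairing b a = -3) (hab : D.P.pairing a b = -1) :
    ∃ L, PosPart B hd a b L := by
  obtain ⟨c₁, c₂, c₃, d, k, k', k'', s, ⟨r1, r2, r3, r4, r5, r6⟩, ⟨q1, q2, q3, q4, q5⟩,
    ⟨q6, q7, q8, q9, q10⟩, -⟩ := pinned_G2 B ha hb hne (hd a ha) (hd b hb) hba hab
  have hc₁ : D.P.root c₁ = (1 : ℤ) • D.P.root a + (1 : ℤ) • D.P.root b := by
    rw [← r1, RootPairing.root_reflectionPerm, RootPairing.reflection_apply_root, hab]; module
  have hc₃ : D.P.root c₃ = (3 : ℤ) • D.P.root a + (1 : ℤ) • D.P.root b := by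
    rw [← r4, RootPairing.root_reflectionPerm, RootPairing.reflection_apply_root, hba]; module
  have hc₂ : D.P.root c₂ = (2 : ℤ) • D.P.root a + (1 : ℤ) • D.P.root b := by
    rw [← r2, RootPairing.root_reflectionPerm, RootPairing.reflection_apply_root,
      coroot_pairing_comb hc₁ a, hba, RootPairing.pairing_same, hc₁]; module
  have hdd : D.P.root d = (3 : ℤ) • D.P.root a + (2 : ℤ) • D.P.root b := by
    rw [← r5, RootPairing.root_reflectionPerm, RootPairing.reflection_apply_root,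
      coroot_pairing_comb hc₃ b, hab, RootPairing.pairing_same, hc₃]; module
  obtain ⟨n1, n2⟩ := ne_of_comb B ha hb hne hc₁ one_ne_zero one_ne_zero
  obtain ⟨n3, n4⟩ := ne_of_comb B ha hb hne hc₂ one_ne_zero two_ne_zero
  obtain ⟨n5, n6⟩ := ne_of_comb B ha hb hne hc₃ one_ne_zero three_ne_zero
  obtain ⟨n7, n8⟩ := ne_of_comb B ha hb hne hdd two_ne_zero three_ne_zero
  have r1' : D.P.reflectionPerm b c₁ = a := by rw [← r1, RootPairing.reflectionPerm_self]
  have r2' : D.P.reflectionPerm a c₂ = c₁ := by rw [← r2, RootPairing.reflectionPerm_self]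
  have r4' : D.P.reflectionPerm a c₃ = b := by rw [← r4, RootPairing.reflectionPerm_self]
  have r5' : D.P.reflectionPerm b d = c₃ := by rw [← r5, RootPairing.reflectionPerm_self]
  have e1 := edge_eq B hd hb r1 q1
  have e2 : edge B hd b c₁ = sgnMk k⁻¹ :=
    (edge_eq B hd hb r1' (k := -k⁻¹) (by rw [Units.val_neg]; exact q2)).trans (sgnMk_neg _)
  have e3 : edge B hd b c₂ = sgnMk 1 := edge_eq B hd hb r3 (by rw [Units.val_one]; exact q3)
  have e4 := edge_eq B hd hb r5 q4
  have e5 : edge B hd b d = sgnMk k''⁻¹ :=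
    (edge_eq B hd hb r5' (k := -k''⁻¹) (by rw [Units.val_neg]; exact q5)).trans (sgnMk_neg _)
  have e6 := edge_eq B hd ha r4 q6
  have e7 := edge_eq B hd ha r2 q7
  have e8 : edge B hd a c₂ = sgnMk s⁻¹ :=
    (edge_eq B hd ha r2' (k := -s⁻¹) (by rw [Units.val_neg]; exact q8)).trans (sgnMk_neg _)
  have e9 : edge B hd a c₃ = sgnMk k'⁻¹ :=
    (edge_eq B hd ha r4' (k := -k'⁻¹) (by rw [Units.val_neg]; exact q9)).trans (sgnMk_neg _)
  have e10 : edge B hd a d = sgnMk 1 := edge_eq B hd ha r6 (by rw [Units.val_one]; exact q10)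
  refine ⟨{(a, 1), (b, 1), (c₁, sgnMk k), (c₂, sgnMk (s * k)), (c₃, sgnMk k'), (d, sgnMk (k'' * k'))},
    by simp, by simp, fun e he he' => ?_, fun e he x hx hex => ?_⟩
  · rcases he with rfl | rfl | rfl | rfl | rfl | rfl
    · rfl
    · rfl
    · rcases he' with h' | h' <;> [exact absurd h' n1; exact absurd h' n2]
    · rcases he' with h' | h' <;> [exact absurd h' n3; exact absurd h' n4]
    · rcases he' with h' | h' <;> [exact absurd h' n5; exact absurd h' n6]
    · rcases he' with h' | h' <;> [exact absurd h' n7; exact absurd h' n8]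
  · rcases he with rfl | rfl | rfl | rfl | rfl | rfl <;> rcases hx with rfl | rfl <;>
      first
      | exact absurd rfl hex
      | (simp [edgePerm_apply, e1, e2, e3, e4, e5, e6, e7, e8, e9, e10, r1, r2, r3, r4, r5, r6, r1', r2',
          r4', r5', sgnMk_mul, ← _root_.mul_assoc, sgn_one_mul, sgn_mul_one, sgnMk_inv_mul])

omit ha hb hne in
theorem PosPart.symm {L : Set (D.idx × Sgn S)} (h : PosPart B hd a b L) : PosPart B hd b a L :=
  ⟨h.2.1, h.1, fun e he he' => h.2.2.1 e he he'.symm, fun e he x hx => h.2.2.2 e he x hx.symm⟩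

theorem exists_posPart : ∃ L, PosPart B hd a b L := by
  rcases simple_cases B ha hb hne with ⟨p, q⟩ | ⟨p, q⟩ | ⟨p, q⟩ | ⟨p, q⟩ | ⟨p, q⟩ | ⟨p, q⟩
  · exact ⟨_, posPart_A1 B hd ha hb hne p q⟩
  · exact posPart_A2 B hd ha hb hne p q
  · exact posPart_B2 B hd ha hb hne p q
  · obtain ⟨L, hL⟩ := posPart_B2 B hd hb ha hne.symm q p; exact ⟨L, hL.symm⟩
  · exact posPart_G2 B hd ha hb hne p q
  · obtain ⟨L, hL⟩ := posPart_G2 B hd hb ha hne.symm q p; exact ⟨L, hL.symm⟩

end Groth.Agent.RedPts82
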