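import Groth.Agent.RedPts82.PinnedString
import Groth.Agent.RedPts82.PinnedGen

/-!
Two simple roots of a pinning: the Weyl elements and the commutator relations in the types A₂ and B₂.
-/

universe u

open CategoryTheory MonoidalCategory CartesianMonoidalCategory MonObj GrpObj AlgebraicGeometry
open CategoryTheory.Limits

namespace Groth.Agent.RedPts82

variable {S : Scheme.{u}} {G : Over S} [GrpObj G]

theorem indep_of_simple {idx M N : Type} [AddCommGroup M] [AddCommGroup N] [Fintype idx]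
    {P : RootPairing idx ℤ M N} (b : P.Base) {a c : idx} (ha : a ∈ b.support) (hc : c ∈ b.support)
    (hne : a ≠ c) : Indep P a c :=
  b.linearIndependent_pair_of_ne (i := ⟨a, ha⟩) (j := ⟨c, hc⟩) fun h => hne (congrArg Subtype.val h)

variable {D : Red.SplitRed G}

theorem Carries.pt {a g c : D.idx} {k : Γ(S, ⊤)} (h : Carries D a g c k) {X : Over S}
    (x : X ⟶ Red.Ga S) :
    wpt D a X * (x ≫ D.u g) * (wpt D a X)⁻¹ = gaPt (cst X k * Red.gaFn x) ≫ D.u c := by
  rw [← h, gaPt_gaFn]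

theorem toUnit_wpt (e₁ : 𝟙_ (Over S) ⟶ Red.Ga S) (he₁ : Red.gaFn e₁ = 1) (D : Red.Pinning G)
    (w : D.idx → (𝟙_ (Over S) ⟶ G))
    (hw : ∀ a, w a = (e₁ ≫ D.u a) * (e₁ ≫ D.u (D.P.reflectionPerm a a))⁻¹ * (e₁ ≫ D.u a))
    (a : D.idx) (X : Over S) : toUnit X ≫ w a = wpt D.toSplitRed a X := by
  rw [wpt_of_def D e₁ he₁ w hw a, comp_wpt]

variable (B : D.P.Base) {a b : D.idx} (ha : a ∈ B.support) (hb : b ∈ B.support) (hne : a ≠ b)
  (hA : IsDual D a (D.u (negIdx D a))) (hB : IsDual D b (D.u (negIdx D b)))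
include B ha hb hne hA hB

/-- Type A₂. -/
theorem pinned_A2 (hba : D.P.pairing b a = -1) (hab : D.P.pairing a b = -1) :
    ∃ (c : D.idx) (k : Γ(S, ⊤)ˣ),
      (D.P.reflectionPerm b a = c ∧ D.P.reflectionPerm a b = c) ∧ Carries D b a c k ∧ Carries D b c a (-((k⁻¹ : Γ(S, ⊤)ˣ) : Γ(S, ⊤))) ∧
      Carries D a b c (-k) ∧ Carries D a c b ((k⁻¹ : Γ(S, ⊤)ˣ) : Γ(S, ⊤)) ∧
      ∀ (X : Over S) (x y : Γ(X.left, ⊤)), (gaPt y ≫ D.u b) * (gaPt x ≫ D.u a) =
        (gaPt x ≫ D.u a) * (gaPt y ≫ D.u b) * (gaPt (cst X k * (x * y)) ≫ D.u c) := by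
  have := isReduced_of_base B
  have h := indep_of_simple B ha hb hne
  have hc : D.P.root (D.P.reflectionPerm b a) = D.P.root a + D.P.root b := by
    rw [RootPairing.root_reflectionPerm, RootPairing.reflection_apply_root, hab]; module
  set c := D.P.reflectionPerm b a
  obtain ⟨k, hk1, hk2, hsnd, -⟩ := pinned_one hB B h.symm (B.sub_notMem_range_root ha hb) hab hc
  obtain ⟨k', hk1', hk2', -, hfst⟩ := pinned_one hA B h (B.sub_notMem_range_root hb ha) hba
    (hc.trans (add_comm _ _))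
  obtain ⟨s, t, h1, h2, h3⟩ := h.string
  obtain ⟨s', t', h1', h2', h3'⟩ := h.symm.string
  have hs : s = 0 := by
    by_contra hne
    exact B.sub_notMem_range_root hb ha (by convert (h3 (-1)).mpr ⟨by omega, by omega⟩ using 1; module)
  have hs' : s' = 0 := by
    by_contra hne
    exact B.sub_notMem_range_root ha hb (by convert (h3' (-1)).mpr ⟨by omega, by omega⟩ using 1; module)
  have no2 : D.P.root b + (2 : ℤ) • D.P.root a ∉ Set.range D.P.root := fun hh => by
    have := (h3 2).mp hh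
    omega
  have no2' : D.P.root a + (2 : ℤ) • D.P.root b ∉ Set.range D.P.root := fun hh => by
    have := (h3' 2).mp hh
    omega
  have hroot : ∀ q : Fin 1, D.P.root (![c] q) =
      ((![1] q : ℕ) : ℤ) • D.P.root b + ((![1] q : ℕ) : ℤ) • D.P.root a := fun q => by
    fin_cases q; simp [hc, add_comm]
  obtain ⟨C, F⟩ := exists_formula (S := S) h.symm ![c] ![1] ![1] (fun q q' _ => Subsingleton.elim q q')
    (fun q => ⟨by fin_cases q; simp, by fin_cases q; simp, hroot q⟩) (fun d p q hp hq hd => by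
      obtain ⟨rfl, rfl⟩ := hall_sum h.symm no2' no2 d hp hq hd
      exact range_of_comb hroot hd ⟨0, rfl, rfl⟩)
  have e1 : C 0 = k := hsnd F 0 rfl rfl
  have e2 : (k' : Γ(S, ⊤)) = -(k : Γ(S, ⊤)) := by
    have e := hfst F 0 rfl rfl
    simp [e1] at e
    exact e.symm
  refine ⟨c, k, ⟨rfl, D.P.root.injective (by rw [hc, RootPairing.root_reflectionPerm,
    RootPairing.reflection_apply_root, hba]; module)⟩, hk1, hk2, e2 ▸ hk1', ?_, fun X x y => ?_⟩
  · rwa [show (k'⁻¹ : Γ(S, ⊤)ˣ) = -k⁻¹ by rw [show k' = -k from Units.ext e2, inv_neg], Units.val_neg,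
      neg_neg] at hk2'
  · have hF := F.2.2 X y x
    simp only [List.ofFn_succ, List.ofFn_zero, List.prod_cons, List.prod_nil, _root_.mul_one,
      Matrix.cons_val_zero, pow_one, e1] at hF
    have hcomm := root_comm D c b (fun h0 => by
        have := h.coeff_eq (p := 1) (q := 2) (p' := 0) (q' := 0) (by rw [hc] at h0; rw [zero_smul, zero_smul, add_zero, ← h0]; module)
        omega) (by rw [hc]; convert no2' using 2; module) (gaPt (cst X (k : Γ(S, ⊤)) * (x * y))) (gaPt y)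
    rw [mul_inv_eq_iff_eq_mul, show cst X (k : Γ(S, ⊤)) * y * x = cst X (k : Γ(S, ⊤)) * (x * y) by ring] at hF
    generalize gaPt x ≫ D.u a = A at hF ⊢
    generalize gaPt y ≫ D.u b = Q at hF hcomm ⊢
    generalize gaPt (cst X (k : Γ(S, ⊤)) * (x * y)) ≫ D.u c = R at hF hcomm ⊢
    rw [hF, _root_.mul_assoc, _root_.mul_assoc, hcomm]

/-- Type B₂, with `a` short. -/
theorem pinned_B2 (hba : D.P.pairing b a = -2) (hab : D.P.pairing a b = -1) :
    ∃ (c₁ c₂ : D.idx) (k k' : Γ(S, ⊤)ˣ),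
      (D.P.reflectionPerm b a = c₁ ∧ D.P.reflectionPerm a c₁ = c₁ ∧ D.P.reflectionPerm a b = c₂ ∧
        D.P.reflectionPerm b c₂ = c₂) ∧ Carries D b a c₁ k ∧ Carries D b c₁ a (-((k⁻¹ : Γ(S, ⊤)ˣ) : Γ(S, ⊤))) ∧ Carries D b c₂ c₂ 1 ∧
      Carries D a b c₂ k' ∧ Carries D a c₁ c₁ (-1) ∧ Carries D a c₂ b ((k'⁻¹ : Γ(S, ⊤)ˣ) : Γ(S, ⊤)) ∧
      (∀ (X : Over S) (x y : Γ(X.left, ⊤)), (gaPt y ≫ D.u b) * (gaPt x ≫ D.u a) =
        (gaPt x ≫ D.u a) * (gaPt y ≫ D.u b) * (gaPt (cst X k * (x * y)) ≫ D.u c₁) *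
          (gaPt (cst X k' * (x ^ 2 * y)) ≫ D.u c₂)) ∧
      ∀ (X : Over S) (x y : Γ(X.left, ⊤)), (gaPt (cst X k * y) ≫ D.u c₁) * (gaPt x ≫ D.u a) =
        (gaPt x ≫ D.u a) * (gaPt (cst X k * y) ≫ D.u c₁) *
          (gaPt (cst X k' * (2 * x * y)) ≫ D.u c₂) := by
  have := isReduced_of_base B
  have h := indep_of_simple B ha hb hne
  have hc₁ : D.P.root (D.P.reflectionPerm b a) = D.P.root a + D.P.root b := by
    rw [RootPairing.root_reflectionPerm, RootPairing.reflection_apply_root, hab]; module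
  have hc₂ : D.P.root (D.P.reflectionPerm a b) = (2 : ℤ) • D.P.root a + D.P.root b := by
    rw [RootPairing.root_reflectionPerm, RootPairing.reflection_apply_root, hba]; module
  set c₁ := D.P.reflectionPerm b a
  set c₂ := D.P.reflectionPerm a b
  obtain ⟨k, hk1, hk2, -, hfst⟩ := pinned_one hB B h.symm (B.sub_notMem_range_root ha hb) hab hc₁
  obtain ⟨k', f, Cm, hf0, hf1, hf2, T, hCm, hk1', hk2', hk3', h02, h12⟩ :=
    pinned_two hA B h (B.sub_notMem_range_root hb ha) hba (hc₁.trans (add_comm _ _))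
      (hc₂.trans (add_comm _ _))
  have no22 : (2 : ℤ) • D.P.root a + (2 : ℤ) • D.P.root b ∉ Set.range D.P.root := fun ⟨d, hd⟩ =>
    root_ne_two_smul B c₁ d (by rw [hd, hc₁]; module)
  have hall := fun (d : D.idx) (p q : ℕ) (hp : 1 ≤ p) (hq : 1 ≤ q)
      (hd : D.P.root d = (p : ℤ) • D.P.root a + (q : ℤ) • D.P.root b) =>
    (hall_B2 h hba hab d hp hq hd).imp_right (fun o => o.resolve_right fun e => no22 ⟨d, by rw [hd, e.1, e.2]; norm_num⟩)
  have hroot : ∀ q : Fin 2, D.P.root (![c₁, c₂] q) =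
      ((![1, 2] q : ℕ) : ℤ) • D.P.root a + ((![1, 1] q : ℕ) : ℤ) • D.P.root b := fun q => by
    fin_cases q <;> simp [hc₁, hc₂]
  obtain ⟨C, F⟩ := exists_formula (S := S) h ![c₁, c₂] ![1, 2] ![1, 1]
    (injective_of_comb h _ _ hroot (by decide))
    (fun q => ⟨by fin_cases q <;> simp, by fin_cases q <;> simp, hroot q⟩) (fun d p q hp hq hd => by
      refine range_of_comb hroot hd ?_
      rcases hall d p q hp hq hd with ⟨rfl, rfl⟩ | ⟨rfl, rfl⟩
      exacts [⟨0, rfl, rfl⟩, ⟨1, rfl, rfl⟩])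
  have e0 : (-1) ^ 1 * C 0 = k := hfst F 0 rfl rfl
  have F0 : Formula D a (f 0) ![c₁, c₂] ![1, 2] ![1, 1] C := by rw [hf0]; exact F
  have e0' : C 0 = Cm 0 1 := T.coeff_snd hCm F0 0 rfl hf1.symm
  have e1 : C 1 = k' := (T.coeff_snd hCm F0 1 rfl hf2.symm).trans h02
  have hi : Indep D.P a c₁ := comb_indep h (p := 1) (q := 1) (by rw [hc₁]; module) one_ne_zero
  have hroot' : ∀ q : Fin 1, D.P.root (![c₂] q) =
      ((![1] q : ℕ) : ℤ) • D.P.root a + ((![1] q : ℕ) : ℤ) • D.P.root c₁ := fun q => by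
    fin_cases q; simp [hc₁, hc₂]; module
  obtain ⟨C', F'⟩ := exists_formula (S := S) hi ![c₂] ![1] ![1] (fun q q' _ => Subsingleton.elim q q')
    (fun q => ⟨by fin_cases q; simp, by fin_cases q; simp, hroot' q⟩) (fun d p q hp hq hd => by
      refine range_of_comb hroot' hd ⟨0, ?_⟩
      have := hall d (p + q) q (by omega) hq (by rw [hd, hc₁]; push_cast; module)
      simp
      omega)
  have e2 : C' 0 = Cm 1 2 := T.coeff_snd hCm (by rw [hf1]; exact F') 0 rfl hf2.symm
  have hc2b : Indep D.P b c₂ := comb_indep h.symm (p := 1) (q := 2) (by rw [hc₂]; module) two_ne_zero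
  have hfix : Carries D b c₂ c₂ 1 := carries_orth hB B hc2b
    (by
      rintro ⟨d, hd⟩
      exact root_ne_two_smul B a d (by rw [hd, hc₂]; module))
    (by rw [coroot_pairing_comb (p := 2) (q := 1) (a := a) (b := b) (by rw [hc₂, one_smul]) b, hab,
      RootPairing.pairing_same]; norm_num)
  refine ⟨c₁, c₂, k, k', ⟨rfl, D.P.root.injective (by
    rw [RootPairing.root_reflectionPerm, RootPairing.reflection_apply_root,
      coroot_pairing_comb (p := 1) (q := 1) (a := a) (b := b) (by rw [hc₁, one_smul, one_smul]) a,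
      hba, RootPairing.pairing_same, hc₁]; module), rfl, D.P.root.injective (by
    rw [RootPairing.root_reflectionPerm, RootPairing.reflection_apply_root,
      coroot_pairing_comb (p := 2) (q := 1) (a := a) (b := b) (by rw [hc₂, one_smul]) b, hab,
      RootPairing.pairing_same]; norm_num)⟩, hk1, hk2, hfix, hk1', hk2', hk3', fun X x y => ?_, fun X x y => ?_⟩
  · have hF := F.2.2 X (-x) y
    rw [rootHom_gaPt_neg, _root_.inv_inv] at hF
    have e0'' : C 0 = -(k : Γ(S, ⊤)) := by linear_combination -e0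
    simp only [List.ofFn_succ, List.ofFn_zero, List.prod_cons, List.prod_nil, _root_.mul_one,
      Matrix.cons_val_zero, Matrix.cons_val_succ, pow_one, e0'', e1, show (Fin.succ 0 : Fin 2) = 1 from rfl, Matrix.cons_val_one] at hF
    rw [_root_.mul_assoc, inv_mul_eq_iff_eq_mul] at hF
    rw [hF, cst, map_neg, show (-x) ^ 2 = x ^ 2 by ring]
    simp only [_root_.mul_assoc, neg_mul, mul_neg, neg_neg]
  · have hF := F'.2.2 X (-x) (cst X k * y)
    rw [rootHom_gaPt_neg, _root_.inv_inv] at hF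
    simp only [List.ofFn_succ, List.ofFn_zero, List.prod_cons, List.prod_nil, _root_.mul_one,
      Matrix.cons_val_zero, pow_one, e2] at hF
    rw [_root_.mul_assoc, inv_mul_eq_iff_eq_mul] at hF
    have e3 : -(Cm 1 2) * k = 2 * k' := by linear_combination h12 + Cm 1 2 * e0 + Cm 1 2 * e0'
    have e4 := congrArg (cst X) e3
    simp only [cst, map_mul, map_neg, map_ofNat] at e4
    rw [hF, ← _root_.mul_assoc]
    congr 3
    simp only [cst] at e4 ⊢
    linear_combination (x * y) * e4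

end Groth.Agent.RedPts82
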