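import Groth.Agent.RedPts82.PinnedWeyl

/-!
The structure constants along the strings of a simple root with a dual pair.
-/

universe u

open CategoryTheory MonoidalCategory CartesianMonoidalCategory MonObj GrpObj AlgebraicGeometry
open CategoryTheory.Limits

namespace Groth.Agent.RedPts82

variable {S : Scheme.{u}} {G : Over S} [GrpObj G] {D : Red.SplitRed G}

/-- Conjugation by the Weyl element of `a` carries the root group of `g` to that of `c` with factor `k`. -/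
def Carries (D : Red.SplitRed G) (a g c : D.idx) (k : Γ(S, ⊤)) : Prop :=
  ∀ (X : Over S) (r : Γ(X.left, ⊤)),
    wpt D a X * (gaPt r ≫ D.u g) * (wpt D a X)⁻¹ = gaPt (cst X k * r) ≫ D.u c

/-- The matrix of the conjugation by the root group of `a` on a string. -/
def IsConjMat (D : Red.SplitRed G) (a : D.idx) {n : ℕ} (f : Fin (n + 1) → D.idx)
    (Cm : Fin (n + 1) → Fin (n + 1) → Γ(S, ⊤)) : Prop :=
  ∀ (X : Over S) (δ : Γ(X.left, ⊤)), δ * δ = 0 → ∀ (x : Γ(X.left, ⊤)) (z : Fin (n + 1) → Γ(X.left, ⊤)),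
    (gaPt x ≫ D.u a) * lp D δ f z * (gaPt x ≫ D.u a)⁻¹ =
      lp D δ f fun k => ∑ i, cst X (Cm i k) * x ^ ((k : ℕ) - i) * z i

variable {a : D.idx} (hdual : IsDual D a (D.u (negIdx D a))) (b : D.P.Base)
include hdual b

theorem Str.exists_pinned {n : ℕ} {f : Fin (n + 1) → D.idx} (T : Str D a f) :
    ∃ (s : Fin (n + 1) → Γ(S, ⊤)ˣ) (C Dm : Fin (n + 1) → Fin (n + 1) → Γ(S, ⊤)),
      (∀ i, Carries D a (f i) (f i.rev) (s i)) ∧
      (∀ i, (s i.rev : Γ(S, ⊤)) * s i = (-1) ^ n) ∧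
      (∀ i k, k < i → C i k = 0) ∧ (∀ i, C i i = 1) ∧
      (∀ i k, i < k → Dm i k = 0) ∧ (∀ i, Dm i i = 1) ∧ IsConjMat D a f C ∧
      (∀ j, C 0 j = s 0 * Dm (Fin.last n) j) ∧
      (∀ i j, C i j = s i * ∑ k, C i.rev k * (-1) ^ ((k : ℕ) - i.rev) * Dm k j) ∧
      (∀ i m, ∑ k, stepOne Dm i k * C k m =
        C i m * (((m : ℕ) : ℤ) + ((i : ℕ) : ℤ) - (n : ℤ) : ℤ) + ∑ k, C i k * stepOne Dm k m) := by
  choose s hs using fun i => exists_wpt_conj_unit hdual b (f i)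
  have hcar : ∀ i, Carries D a (f i) (f i.rev) (s i) := fun i X r => by
    rw [hs i X r, T.refl_eq]
  obtain ⟨C, Dm, hC0, hC1, hD0, hD1, hC, hN, hH⟩ := T.exists_coeffs_gen hdual 1
    (fun X r => by rw [cst, map_one, _root_.one_mul]) (fun i => (s i : Γ(S, ⊤))) hcar
  refine ⟨s, C, Dm, hcar, fun i => ?_, hC0, hC1, hD0, hD1, hC, fun j => ?_, hN, hH⟩
  · have h := hpt_conj D a (f i) (-1 : Γ((𝟙_ (Over S)).left, ⊤)ˣ) 1
    rw [← wpt_mul_self hdual, T.pairing_eq] at h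
    have h1 := hcar i.rev (𝟙_ (Over S)) (cst _ (s i : Γ(S, ⊤)))
    rw [← _root_.mul_one (cst _ (s i : Γ(S, ⊤))), ← hcar i (𝟙_ (Over S)) 1, Fin.rev_rev, _root_.mul_one] at h1
    have e := rootHom_gaPt_injective _ (h1.symm.trans (Eq.trans (by group) h))
    rw [cst_one, cst_one, _root_.mul_one, show (2 * ((i : ℕ) : ℤ) - n) = (n : ℤ) + 2 * (((i : ℕ) : ℤ) - n) by ring,
      zpow_add, zpow_mul, show ((-1 : Γ((𝟙_ (Over S)).left, ⊤)ˣ) ^ (2 : ℤ)) = 1 by rw [zpow_two]; simp,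
      one_zpow, _root_.mul_one, zpow_natCast, Units.val_pow_eq_pow_val] at e
    simpa using e
  · rw [hN 0 j, Fin.rev_zero, Finset.sum_eq_single (Fin.last n)]
    · rw [hC1, Nat.sub_self, pow_zero, _root_.one_mul, _root_.one_mul]
    · intro k _ hk
      rw [hC0 _ _ (lt_of_le_of_ne (Fin.le_last k) hk), zero_mul, zero_mul]
    · simp

/-- A root orthogonal to `a` at the bottom of its string is fixed. -/
theorem carries_orth {g : D.idx} (h : Indep D.P a g)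
    (hbot : D.P.root g - D.P.root a ∉ Set.range D.P.root) (hp : D.P.pairing g a = 0) :
    Carries D a g g 1 := by
  obtain ⟨f, hf0, T⟩ := exists_str h 0 hbot (by rw [hp]; simp)
  obtain ⟨s, C, Dm, hcar, -, -, hC1, -, hD1, -, hrow, -, -⟩ := T.exists_pinned hdual b
  have hs : (s 0 : Γ(S, ⊤)) = 1 := by
    have h1 := hrow 0
    rw [show Fin.last 0 = (0 : Fin 1) from rfl, hC1, hD1, _root_.mul_one] at h1
    exact h1.symm
  have h2 := hcar 0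
  rwa [show (0 : Fin 1).rev = 0 from rfl, hf0, hs] at h2

/-- A string of length one. -/
theorem pinned_one {g c : D.idx} (h : Indep D.P a g)
    (hbot : D.P.root g - D.P.root a ∉ Set.range D.P.root) (hp : D.P.pairing g a = -1)
    (hc : D.P.root c = D.P.root g + D.P.root a) :
    ∃ k : Γ(S, ⊤)ˣ, Carries D a g c k ∧ Carries D a c g (-((k⁻¹ : Γ(S, ⊤)ˣ) : Γ(S, ⊤))) ∧
      (∀ {m : ℕ} {e : Fin m → D.idx} {i j : Fin m → ℕ} {C : Fin m → Γ(S, ⊤)},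
        Formula D a g e i j C → ∀ q, j q = 1 → e q = c → C q = k) ∧
      (∀ {m : ℕ} {e : Fin m → D.idx} {i j : Fin m → ℕ} {C : Fin m → Γ(S, ⊤)},
        Formula D g a e i j C → ∀ q, i q = 1 → e q = c → (-1) ^ j q * C q = k) := by
  obtain ⟨f, rfl, T⟩ := exists_str h 1 hbot (by rw [hp]; simp)
  have hf1 : c = f 1 := D.P.root.injective (by rw [T.hf, hc]; simp)
  subst hf1
  obtain ⟨s, C, Dm, hcar, hss, -, hC1, -, hD1, hC, hrow, -, -⟩ := T.exists_pinned hdual b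
  have h01 : C 0 1 = s 0 := by
    have := hrow 1
    rwa [show Fin.last 1 = (1 : Fin 2) from rfl, hD1, _root_.mul_one] at this
  refine ⟨s 0, hcar 0, ?_, fun F q hj he => (T.coeff_snd hC F q hj he).trans h01,
    fun F q hi he => (T.coeff_fst hC F q hi he).trans h01⟩
  have h2 := hcar 1
  have h3 := hss 0
  rw [show (0 : Fin 2).rev = 1 from rfl, pow_one] at h3
  rwa [show (1 : Fin 2).rev = 0 from rfl, show (s 1 : Γ(S, ⊤)) = -((s 0)⁻¹ : Γ(S, ⊤)ˣ) by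
    rw [← neg_one_mul, ← h3, _root_.mul_assoc, Units.mul_inv, _root_.mul_one]] at h2

/-- A string of length two. -/
theorem pinned_two {g c₁ c₂ : D.idx} (h : Indep D.P a g)
    (hbot : D.P.root g - D.P.root a ∉ Set.range D.P.root) (hp : D.P.pairing g a = -2)
    (hc₁ : D.P.root c₁ = D.P.root g + D.P.root a)
    (hc₂ : D.P.root c₂ = D.P.root g + (2 : ℤ) • D.P.root a) :
    ∃ (k : Γ(S, ⊤)ˣ) (f : Fin 3 → D.idx) (C : Fin 3 → Fin 3 → Γ(S, ⊤)),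
      f 0 = g ∧ f 1 = c₁ ∧ f 2 = c₂ ∧ Str D a f ∧ IsConjMat D a f C ∧
      Carries D a g c₂ k ∧ Carries D a c₁ c₁ (-1) ∧ Carries D a c₂ g ((k⁻¹ : Γ(S, ⊤)ˣ) : Γ(S, ⊤)) ∧
      C 0 2 = k ∧ C 0 1 * C 1 2 = 2 * k := by
  obtain ⟨f, hf0, T⟩ := exists_str h 2 hbot (by rw [hp]; simp)
  have hf1 : f 1 = c₁ := D.P.root.injective (by rw [T.hf, hf0, hc₁]; simp)
  have hf2 : f 2 = c₂ := D.P.root.injective (by rw [T.hf, hf0, hc₂]; simp)
  obtain ⟨s, C, Dm, hcar, hss, hC0, hC1, hD0, hD1, hC, hrow, hN, hH⟩ := T.exists_pinned hdual b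
  have h22 := hH 2 2
  simp [Fin.sum_univ_three, stepOne, hC1, hC0 2 0 (by decide), hC0 2 1 (by decide)] at h22
  have h02 : C 0 2 = s 0 := by
    have := hrow 2
    rwa [show Fin.last 2 = (2 : Fin 3) from rfl, hD1, _root_.mul_one] at this
  have r1 := hrow 1
  rw [show Fin.last 2 = (2 : Fin 3) from rfl] at r1
  have n11 := hN 1 1
  simp [Fin.sum_univ_three, hC1, hD1, show (1 : Fin 3).rev = 1 from rfl, hC0 1 0 (by decide)] at n11
  have hs1 : (s 1 : Γ(S, ⊤)) = -1 := by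
    linear_combination n11 - (s 1 : Γ(S, ⊤)) * h22
  have c0 := hcar 0
  have c1 := hcar 1
  have c2 := hcar 2
  have h3 := hss 0
  rw [show (0 : Fin 3).rev = 2 from rfl, neg_one_sq] at h3
  rw [show (0 : Fin 3).rev = 2 from rfl, hf0, hf2] at c0
  rw [show (1 : Fin 3).rev = 1 from rfl, hf1, hs1] at c1
  rw [show (2 : Fin 3).rev = 0 from rfl, hf0, hf2, show (s 2 : Γ(S, ⊤)) = ((s 0)⁻¹ : Γ(S, ⊤)ˣ) by
    rw [← _root_.one_mul (((s 0)⁻¹ : Γ(S, ⊤)ˣ) : Γ(S, ⊤)), ← h3, _root_.mul_assoc, Units.mul_inv, _root_.mul_one]] at c2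
  refine ⟨s 0, f, C, hf0, hf1, hf2, T, hC, c0, c1, c2, h02, ?_⟩
  linear_combination (C 1 2) * r1 + (s 0 : Γ(S, ⊤)) * h22

/-- A string of length three. -/
theorem pinned_three {g c₁ c₂ c₃ : D.idx} (h : Indep D.P a g)
    (hbot : D.P.root g - D.P.root a ∉ Set.range D.P.root) (hp : D.P.pairing g a = -3)
    (hc₁ : D.P.root c₁ = D.P.root g + D.P.root a)
    (hc₂ : D.P.root c₂ = D.P.root g + (2 : ℤ) • D.P.root a)
    (hc₃ : D.P.root c₃ = D.P.root g + (3 : ℤ) • D.P.root a) :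
    ∃ (k s₁ : Γ(S, ⊤)ˣ) (f : Fin 4 → D.idx) (C : Fin 4 → Fin 4 → Γ(S, ⊤)),
      f 0 = g ∧ f 1 = c₁ ∧ f 2 = c₂ ∧ f 3 = c₃ ∧ Str D a f ∧ IsConjMat D a f C ∧
      Carries D a g c₃ k ∧ Carries D a c₁ c₂ s₁ ∧
      Carries D a c₂ c₁ (-((s₁⁻¹ : Γ(S, ⊤)ˣ) : Γ(S, ⊤))) ∧
      Carries D a c₃ g (-((k⁻¹ : Γ(S, ⊤)ˣ) : Γ(S, ⊤))) ∧
      C 0 3 = k ∧ C 0 2 = -(s₁ * C 0 1) ∧ C 1 2 = -2 * s₁ ∧ C 1 3 = -(s₁ * C 2 3) ∧
      C 0 2 * C 2 3 = 3 * k := by
  obtain ⟨f, hf0, T⟩ := exists_str h 3 hbot (by rw [hp]; simp)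
  have hf1 : f 1 = c₁ := D.P.root.injective (by rw [T.hf, hf0, hc₁]; simp)
  have hf2 : f 2 = c₂ := D.P.root.injective (by rw [T.hf, hf0, hc₂]; simp)
  have hf3 : f 3 = c₃ := D.P.root.injective (by rw [T.hf, hf0, hc₃]; simp)
  obtain ⟨s, C, Dm, hcar, hss, hC0, hC1, hD0, hD1, hC, hrow, hN, hH⟩ := T.exists_pinned hdual b
  have h03 : C 0 3 = s 0 := by
    have := hrow 3
    rwa [show Fin.last 3 = (3 : Fin 4) from rfl, hD1, _root_.mul_one] at this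
  have r1 := hrow 1
  have r2 := hrow 2
  rw [show Fin.last 3 = (3 : Fin 4) from rfl] at r1 r2
  have h33 := hH 3 3
  simp [Fin.sum_univ_four, stepOne, hC1, hC0 3 0 (by decide), hC0 3 1 (by decide), hC0 3 2 (by decide)] at h33
  have h01' := hH 0 1
  simp [Fin.sum_univ_four, stepOne] at h01'
  have n11 := hN 1 1
  have n12 := hN 1 2
  have n13 := hN 1 3
  simp [Fin.sum_univ_four, hC1, hD1, show (1 : Fin 4).rev = 2 from rfl, hC0 2 0 (by decide),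
    hC0 2 1 (by decide), hD0 2 3 (by decide)] at n11 n12 n13
  have c0 := hcar 0
  have c1 := hcar 1
  have c2 := hcar 2
  have c3 := hcar 3
  have e0 := hss 0
  have e1 := hss 1
  rw [show (0 : Fin 4).rev = 3 from rfl] at e0 c0
  rw [show (1 : Fin 4).rev = 2 from rfl] at e1 c1
  rw [Odd.neg_one_pow (by decide)] at e0 e1
  rw [hf0, hf3] at c0
  rw [hf1, hf2] at c1
  rw [show (3 : Fin 4).rev = 0 from rfl, hf0, hf3, show (s 3 : Γ(S, ⊤)) = -((s 0)⁻¹ : Γ(S, ⊤)ˣ) by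
    rw [← neg_one_mul, ← e0, _root_.mul_assoc, Units.mul_inv, _root_.mul_one]] at c3
  rw [show (2 : Fin 4).rev = 1 from rfl, hf1, hf2, show (s 2 : Γ(S, ⊤)) = -((s 1)⁻¹ : Γ(S, ⊤)ˣ) by
    rw [← neg_one_mul, ← e1, _root_.mul_assoc, Units.mul_inv, _root_.mul_one]] at c2
  have hC02 : C 0 2 = -((s 1 : Γ(S, ⊤)) * C 0 1) := by
    linear_combination C 0 2 * n11 - (s 1 : Γ(S, ⊤)) * h01' - ((s 1 : Γ(S, ⊤)) * C 2 3 * Dm 3 1) * r2 +
      ((s 1 : Γ(S, ⊤)) * C 2 3 * Dm 3 2) * r1 - ((s 1 : Γ(S, ⊤)) * C 0 1) * h33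
  refine ⟨s 0, s 1, f, C, hf0, hf1, hf2, hf3, T, hC, c0, c1, c2, c3, h03, hC02, ?_, ?_, ?_⟩
  · linear_combination n12 - (s 1 : Γ(S, ⊤)) * h33
  · linear_combination n13
  · linear_combination (C 2 3) * r2 + (s 0 : Γ(S, ⊤)) * h33

end Groth.Agent.RedPts82
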