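import Groth.Agent.RedPts82.ChevPairs
import Groth.Agent.RedPts82.PinnedCoord
import Groth.Agent.RedPts82.RankOne
import Groth.Agent.RedPts82.MonoClosed

/-!
The Weyl elements of the simple roots of a pinning with dual simple root homomorphisms.
-/

universe u

open CategoryTheory MonoidalCategory CartesianMonoidalCategory MonObj GrpObj AlgebraicGeometry
open CategoryTheory.Limits

namespace Groth.Agent.RedPts82

variable {S : Scheme.{u}} {G : Over S} [GrpObj G] {D : Red.SplitRed G}

/-- A point of the torus through the splitting. -/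
noncomputable def tpt (D : Red.SplitRed G) {X : Over S} (t : X ⟶ Red.DS S D.M) : X ⟶ G :=
  t ≫ D.split.inv.hom.hom ≫ D.i

theorem tpt_mul {X : Over S} (t t' : X ⟶ Red.DS S D.M) : tpt D (t * t') = tpt D t * tpt D t' := by
  have := D.maximalTorus.1
  have : IsMonHom D.split.inv.hom.hom := D.split.inv.hom.isMonHom_hom
  simp only [tpt, ← Category.assoc, MonObj.mul_comp]

theorem tpt_one {X : Over S} : tpt D (1 : X ⟶ Red.DS S D.M) = 1 := by
  have := tpt_mul (D := D) (1 : X ⟶ Red.DS S D.M) 1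
  rw [_root_.one_mul (1 : X ⟶ Red.DS S D.M)] at this
  exact left_eq_mul.mp this

theorem hpt_eq_tpt (a : D.idx) {X : Over S} (z : Γ(X.left, ⊤)ˣ) :
    hpt D a z = tpt D (gmPt z ≫ Red.DSmap S (D.P.coroot a).toAddMonoidHom) := by
  simp only [hpt, tpt, Category.assoc]

theorem dsFn_zsmul {M : Type} [AddCommGroup M] {X : Over S} (t : X ⟶ Red.DS S M) (k : ℤ) (m : M) :
    dsFn t (k • m) = (((dsFn_isUnit t m).unit ^ k : Γ(X.left, ⊤)ˣ) : Γ(X.left, ⊤)) := by
  induction k using Int.induction_on with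
  | zero => simp [dsFn_zero]
  | succ n ih => rw [add_smul, one_smul, dsFn_add, ih, zpow_add_one, Units.val_mul]; rfl
  | pred n ih =>
    refine (dsFn_isUnit t m).mul_right_cancel ?_
    rw [← dsFn_add, sub_smul, one_smul, sub_add_cancel, ih, zpow_sub_one, Units.val_mul,
      _root_.mul_assoc, IsUnit.val_inv_mul, _root_.mul_one]

variable {a : D.idx} (hdual : IsDual D a (D.u (negIdx D a)))
include hdual

/-- The rank-one data on points of a simple root. -/
noncomputable def r1 (X : Over S) : R1 (X ⟶ G) Γ(X.left, ⊤) (X ⟶ Red.DS S D.M) where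
  P r := gaPt r ≫ D.u a
  M r := gaPt r ≫ D.u (negIdx D a)
  P_add r s := rootHom_gaPt_add D a r s
  M_add r s := rootHom_gaPt_add D _ r s
  τ :=
    { toFun := tpt D
      map_one' := tpt_one
      map_mul' := tpt_mul }
  a :=
    { toFun := fun t => (dsFn_isUnit t (D.P.root a)).unit
      map_one' := Units.ext (dsFn_one _)
      map_mul' := fun t t' => Units.ext (dsFn_mul _ _ _) }
  av :=
    { toFun := fun z => gmPt z ≫ Red.DSmap S (D.P.coroot a).toAddMonoidHom
      map_one' := dsFn_injective fun m => by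
        rw [dsFn_DSmap, dsFn_int, show gmU (gmPt (1 : Γ(X.left, ⊤)ˣ)) = 1 from Units.ext (gmFn_gmPt _), one_zpow, dsFn_one, Units.val_one]
      map_mul' := fun z z' => dsFn_injective fun m => by
        rw [dsFn_mul, dsFn_DSmap, dsFn_DSmap, dsFn_DSmap, dsFn_int, dsFn_int, dsFn_int,
          show gmU (gmPt (z * z')) = z * z' from Units.ext (gmFn_gmPt _),
          show gmU (gmPt z) = z from Units.ext (gmFn_gmPt _),
          show gmU (gmPt z') = z' from Units.ext (gmFn_gmPt _), mul_zpow, Units.val_mul] }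
  comm t t' := ds_comm t t'
  a_av z := Units.ext (by
    show dsFn (gmPt z ≫ _) _ = _
    rw [dsFn_DSmap, LinearMap.toAddMonoidHom_coe, pairing_eq_coroot, RootPairing.pairing_same, dsFn_int,
      show gmU (gmPt z) = z from Units.ext (gmFn_gmPt _), zpow_two])
  conjP t x := by
    show tpt D t * _ * (tpt D t)⁻¹ = _
    rw [tpt, splitRed_conj, gaFn_gaPt]
    rfl
  conjM t y := by
    show tpt D t * _ * (tpt D t)⁻¹ = _
    rw [tpt, splitRed_conj, gaFn_gaPt]
    congr 3
    rw [show D.P.root (negIdx D a) = -D.P.root a from Roots36.root_neg (P := D.P) a]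
    refine (dsFn_isUnit t (D.P.root a)).mul_right_cancel ?_
    rw [← dsFn_add, neg_add_cancel, dsFn_zero]
    exact (IsUnit.val_inv_mul _).symm
  F x y z hz := by
    have h := hdual.rel D x y z hz
    rw [hpt_eq_tpt] at h
    rw [mul_comm _ y, mul_comm _ x]
    exact h

omit hdual

/-- The Weyl element of a root. -/
noncomputable abbrev wpt (D : Red.SplitRed G) (a : D.idx) (X : Over S) : X ⟶ G :=
  npt D a (D.u (negIdx D a)) X

theorem comp_wpt {X X' : Over S} (k : X' ⟶ X) : k ≫ wpt D a X = wpt D a X' := by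
  simp only [wpt, npt, MonObj.comp_mul, GrpObj.comp_inv, ← Category.assoc, comp_gaPt, map_one]

include hdual

theorem wpt_eq (X : Over S) : wpt D a X = (r1 hdual X).w 1 := by
  show _ * _ * _ = (r1 hdual X).P (1 : Γ(X.left, ⊤)ˣ) * (r1 hdual X).M _ * (r1 hdual X).P _
  rw [inv_one, Units.val_one]
  show _ = _ * (gaPt (-1 : Γ(X.left, ⊤)) ≫ D.u (negIdx D a)) * _
  rw [rootHom_gaPt_neg]
  rfl

theorem wpt_mul_self (X : Over S) : wpt D a X * wpt D a X = hpt D a (-1 : Γ(X.left, ⊤)ˣ) := by
  rw [wpt_eq hdual, (r1 hdual X).w_mul_w 1 1 (-1) (by simp), hpt_eq_tpt]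
  rfl

theorem wpt_conj_tpt {X : Over S} (t : X ⟶ Red.DS S D.M) :
    wpt D a X * tpt D t * (wpt D a X)⁻¹ =
      tpt D (t ≫ Red.DSmap S (D.P.reflection a).toLinearMap.toAddMonoidHom) := by
  have h := (r1 hdual X).w_conj 1 t
  rw [← wpt_eq hdual] at h
  refine h.trans ?_
  show ((r1 hdual X).τ _)⁻¹ * (r1 hdual X).τ t = (r1 hdual X).τ _
  rw [← map_inv, ← map_mul]
  congr 1
  refine dsFn_injective fun m => ?_
  show dsFn ((gmPt ((dsFn_isUnit t (D.P.root a)).unit) ≫ _)⁻¹ * t) m = _
  rw [dsFn_mul, dsFn_inv, dsFn_DSmap, dsFn_int, dsFn_DSmap,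
    show gmU (gmPt ((dsFn_isUnit t (D.P.root a)).unit)) = (dsFn_isUnit t (D.P.root a)).unit from
      Units.ext (gmFn_gmPt _), ← dsFn_zsmul, ← dsFn_add]
  congr 1
  show (D.P.coroot a) (-m) • D.P.root a + m = D.P.reflection a m
  rw [map_neg, RootPairing.reflection_apply]
  have e := congrArg (fun f => f m (D.P.coroot a)) D.pairing_eq
  simp only [Module.Dual.eval_apply] at e
  rw [← e, neg_smul]
  exact neg_add_eq_sub _ _

/-- The Weyl element of a simple root permutes the root groups up to units. -/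
theorem exists_wpt_conj_root (b : D.P.Base) (c : D.idx) :
    ∃ k : Γ(S, ⊤), ∀ (X : Over S) (r : Γ(X.left, ⊤)),
      wpt D a X * (gaPt r ≫ D.u c) * (wpt D a X)⁻¹ =
        gaPt (cst X k * r) ≫ D.u (D.P.reflectionPerm a c) := by
  let v : Red.Ga S ⟶ G := wpt D a _ * D.u c * (wpt D a _)⁻¹
  have hv : ∀ {X : Over S} (x : X ⟶ Red.Ga S), x ≫ v = wpt D a X * (x ≫ D.u c) * (wpt D a X)⁻¹ := by
    intro X x
    simp only [v, MonObj.comp_mul, GrpObj.comp_inv, comp_wpt]
  have := (D.rootHom c).1
  have : IsMonHom v := isMonHom_of_points _ fun Z x y => by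
    rw [hv, hv, hv, MonObj.mul_comp]
    group
  obtain ⟨k, hk⟩ := exists_coord_of_weight b (D.P.reflectionPerm a c) v fun X t r => by
    rw [hv, hv]
    have e := wpt_conj_tpt hdual (t ≫ Red.DSmap S (D.P.reflection a).toLinearMap.toAddMonoidHom)
    have e' : (t ≫ Red.DSmap S (D.P.reflection a).toLinearMap.toAddMonoidHom) ≫
        Red.DSmap S (D.P.reflection a).toLinearMap.toAddMonoidHom = t := dsFn_injective fun m => by
      rw [dsFn_DSmap, dsFn_DSmap]
      congr 1
      exact D.P.reflection_same a m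
    rw [e'] at e
    simp only [tpt] at e
    have h := splitRed_conj D c (t ≫ Red.DSmap S (D.P.reflection a).toLinearMap.toAddMonoidHom) (gaPt r)
    rw [gaFn_gaPt, dsFn_DSmap,
      show (D.P.reflection a).toLinearMap.toAddMonoidHom (D.P.root c) = D.P.root (D.P.reflectionPerm a c) from
        (D.P.root_reflectionPerm a c).symm] at h
    rw [← h, ← e]
    simp only [tpt]
    group
  exact ⟨k, fun X r => by rw [← hv]; exact hk X r⟩

omit hdual

theorem rootHom_gaPt_injective (c : D.idx) {X : Over S} {r s : Γ(X.left, ⊤)}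
    (h : gaPt r ≫ D.u c = gaPt s ≫ D.u c) : r = s := by
  have := (D.rootHom c).2.1
  have : Mono (D.u c) := Over.mono_of_mono_left _
  exact gaPt_injective ((cancel_mono _).mp h)

include hdual

theorem exists_wpt_conj_unit (b : D.P.Base) (c : D.idx) :
    ∃ k : Γ(S, ⊤)ˣ, ∀ (X : Over S) (r : Γ(X.left, ⊤)),
      wpt D a X * (gaPt r ≫ D.u c) * (wpt D a X)⁻¹ =
        gaPt (cst X k * r) ≫ D.u (D.P.reflectionPerm a c) := by
  obtain ⟨k, hk⟩ := exists_wpt_conj_root hdual b c
  obtain ⟨k', hk'⟩ := exists_wpt_conj_root hdual b (D.P.reflectionPerm a c)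
  have hu : IsUnit k := by
    refine isUnit_of_mul_isUnit_right (x := k') ?_
    set O := 𝟙_ (Over S)
    have h1 := hk' O (cst O k)
    rw [← _root_.mul_one (cst O k), ← hk O 1, RootPairing.reflectionPerm_self, _root_.mul_one, ← map_mul] at h1
    have h2 := hpt_conj D a c (-1 : Γ(O.left, ⊤)ˣ) 1
    rw [← wpt_mul_self hdual, _root_.mul_one] at h2
    have e := rootHom_gaPt_injective c (h1.symm.trans (Eq.trans (by group) h2))
    simp only [O] at e
    rw [show ((𝟙_ (Over S)).hom.appTop) (k' * k) = k' * k from cst_one _] at e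
    rw [e]
    exact Units.isUnit _
  exact ⟨hu.unit, hk⟩

end Groth.Agent.RedPts82
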