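import Groth.Agent.RedPts82.PinnedBraid
import Groth.Agent.RedPts82.PinnedComb

/-!
Words in the Weyl elements of a pinning act on the simple root groups through signs.
-/

universe u

open CategoryTheory MonoidalCategory CartesianMonoidalCategory MonObj GrpObj AlgebraicGeometry
open CategoryTheory.Limits

namespace Groth.Agent.RedPts82

/-- Units up to sign. -/
abbrev Sgn (S : Scheme.{u}) := Γ(S, ⊤)ˣ ⧸ Subgroup.zpowers (-1 : Γ(S, ⊤)ˣ)

/-- The class of a unit up to sign. -/
abbrev sgnMk {S : Scheme.{u}} (k : Γ(S, ⊤)ˣ) : Sgn S := QuotientGroup.mk k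

variable {S : Scheme.{u}} {G : Over S} [GrpObj G] {D : Red.SplitRed G}

theorem sgnMk_eq_one {k : Γ(S, ⊤)ˣ} (h : (k : Γ(S, ⊤)) = 1 ∨ (k : Γ(S, ⊤)) = -1) : sgnMk k = 1 := by
  rw [QuotientGroup.eq_one_iff]
  rcases h with h | h
  · rw [show k = 1 from Units.ext h]; exact one_mem _
  · rw [show k = -1 from Units.ext (by rw [h, Units.val_neg, Units.val_one])]
    exact Subgroup.mem_zpowers _

theorem sgnMk_neg (k : Γ(S, ⊤)ˣ) : sgnMk (-k) = sgnMk k := by
  rw [← neg_one_mul, sgnMk, QuotientGroup.mk_mul,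
    show QuotientGroup.mk (-1 : Γ(S, ⊤)ˣ) = (1 : Sgn S) from sgnMk_eq_one (Or.inr (by simp))]
  exact _root_.one_mul (M := Sgn S) _

theorem Moves.unique {p : 𝟙_ (Over S) ⟶ G} {c c' : D.idx} {k k' : Γ(S, ⊤)} (h : Moves D p c c' k)
    (h' : Moves D p c c' k') : k = k' := by
  have e := rootHom_gaPt_injective _ ((h (𝟙_ (Over S)) 1).symm.trans (h' (𝟙_ (Over S)) 1))
  simpa [cst_one] using e

theorem moves_negOnePt (a c : D.idx) :
    Moves D (negOnePt D a) c c (((-1 : Γ(S, ⊤)ˣ) ^ D.P.pairing c a : Γ(S, ⊤)ˣ) : Γ(S, ⊤)) := by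
  intro X r
  have e : toUnit X ≫ negOnePt D a = hpt D a (-1 : Γ(X.left, ⊤)ˣ) := by
    rw [negOnePt, hpt, hpt, ← Category.assoc]
    congr 1
    refine gmFn_injective ?_
    rw [gmFn_comp, gmFn_gmPt, gmFn_gmPt, Units.val_neg, Units.val_one, map_neg, map_one, Units.val_neg,
      Units.val_one]
  rw [e, hpt_conj]
  congr 3
  rcases Int.even_or_odd (D.P.pairing c a) with hh | hh
  · rw [hh.neg_one_zpow, hh.neg_one_zpow, Units.val_one, Units.val_one, cst, map_one]
  · rw [hh.neg_one_zpow, hh.neg_one_zpow, Units.val_neg, Units.val_one, Units.val_neg, Units.val_one,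
      cst, map_neg, map_one]

theorem sgn_one_mul (u : Sgn S) : (1 : Sgn S) * u = u := _root_.one_mul (M := Sgn S) u

theorem sgn_mul_one (u : Sgn S) : u * (1 : Sgn S) = u := _root_.mul_one (M := Sgn S) u

theorem sgnMk_mul (k k' : Γ(S, ⊤)ˣ) : sgnMk (k * k') = sgnMk k * sgnMk k' := QuotientGroup.mk_mul _ _ _

theorem sgnMk_inv_mul (k : Γ(S, ⊤)ˣ) : sgnMk k⁻¹ * sgnMk k = 1 := by
  rw [← sgnMk_mul, inv_mul_cancel]; rfl

variable (B : D.P.Base) (hd : ∀ a ∈ B.support, IsDual D a (D.u (negIdx D a)))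

open Classical in
/-- The sign class of the factor by which the Weyl element of `x` carries the root group of `c`. -/
noncomputable def edge (x c : D.idx) : Sgn S :=
  if hx : x ∈ B.support then sgnMk (exists_wpt_conj_unit (hd x hx) B c).choose else 1

theorem edge_spec {x : D.idx} (hx : x ∈ B.support) (c : D.idx) :
    ∃ k : Γ(S, ⊤)ˣ, Moves D (wpt D x (𝟙_ (Over S))) c (D.P.reflectionPerm x c) k ∧
      edge B hd x c = sgnMk k := by
  refine ⟨(exists_wpt_conj_unit (hd x hx) B c).choose, fun X r => ?_, dif_pos hx⟩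
  rw [comp_wpt]
  exact (exists_wpt_conj_unit (hd x hx) B c).choose_spec X r

theorem edge_eq {x : D.idx} (hx : x ∈ B.support) {c c' : D.idx} (hc : D.P.reflectionPerm x c = c')
    {k : Γ(S, ⊤)ˣ} (h : Carries D x c c' k) : edge B hd x c = sgnMk k := by
  obtain ⟨k', h1, h2⟩ := edge_spec B hd hx c
  rw [hc] at h1
  rw [h2, show k' = k from Units.ext (h1.unique h.moves)]

theorem edge_refl (x c : D.idx) : edge B hd x (D.P.reflectionPerm x c) * edge B hd x c = 1 := by
  by_cases hx : x ∈ B.support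
  · obtain ⟨k, h1, h2⟩ := edge_spec B hd hx c
    obtain ⟨k', h1', h2'⟩ := edge_spec B hd hx (D.P.reflectionPerm x c)
    rw [RootPairing.reflectionPerm_self] at h1'
    have e := h1.mul h1'
    rw [wpt_mul_self (hd x hx)] at e
    have e2 := (moves_negOnePt x c).unique e
    rw [← Units.val_mul] at e2
    rw [h2, h2', ← QuotientGroup.mk_mul]
    refine sgnMk_eq_one ?_
    rw [← e2]
    rcases Int.even_or_odd (D.P.pairing c x) with hh | hh
    · left; rw [hh.neg_one_zpow, Units.val_one]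
    · right; rw [hh.neg_one_zpow, Units.val_neg, Units.val_one]
  · rw [edge, edge, dif_neg hx, dif_neg hx]
    exact _root_.one_mul (M := Sgn S) _

/-- The signed action of the Weyl element of `x` on the pairs of a root and a class of units. -/
noncomputable def edgePerm (x : D.idx) : Equiv.Perm (D.idx × Sgn S) :=
  Function.Involutive.toPerm (fun e => (D.P.reflectionPerm x e.1, edge B hd x e.1 * e.2)) fun e => by
    simp only [RootPairing.reflectionPerm_self, ← _root_.mul_assoc, edge_refl]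
    exact Prod.ext rfl (_root_.one_mul e.2)

theorem edgePerm_apply (x c : D.idx) (u : Sgn S) :
    edgePerm B hd x (c, u) = (D.P.reflectionPerm x c, edge B hd x c * u) := rfl

/-- The lift of a simple reflection. -/
noncomputable def sgnLift (x : D.idx) : D.P.Aut × Equiv.Perm (D.idx × Sgn S) :=
  (RootPairing.Equiv.reflection D.P x, edgePerm B hd x)

/-- The element `g` describes the conjugation by `p` up to sign. -/
def Describes (D : Red.SplitRed G) (g : D.P.Aut × Equiv.Perm (D.idx × Sgn S)) (p : 𝟙_ (Over S) ⟶ G) :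
    Prop :=
  ∀ c u, ∃ k : Γ(S, ⊤)ˣ, Moves D p c (g.1 • c) k ∧ g.2 (c, u) = (g.1 • c, sgnMk k * u)

theorem describes_one : Describes D 1 (1 : 𝟙_ (Over S) ⟶ G) := fun c u =>
  ⟨1, by rw [Prod.fst_one, one_smul]; exact (moves_one c).congr Units.val_one.symm,
    by simp only [Prod.fst_one, one_smul, Prod.snd_one, Equiv.Perm.one_apply, sgnMk]
       exact Prod.ext rfl (_root_.one_mul u).symm⟩

theorem Describes.mul {g g' : D.P.Aut × Equiv.Perm (D.idx × Sgn S)} {p p' : 𝟙_ (Over S) ⟶ G}
    (h : Describes D g p) (h' : Describes D g' p') : Describes D (g * g') (p * p') := by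
  intro c u
  obtain ⟨k', h1', h2'⟩ := h' c u
  obtain ⟨k, h1, h2⟩ := h (g'.1 • c) (sgnMk k' * u)
  refine ⟨k * k', ?_, ?_⟩
  · rw [Prod.fst_mul, mul_smul]
    exact (h1'.mul h1).congr (Units.val_mul _ _).symm
  · rw [Prod.snd_mul, Equiv.Perm.mul_apply, h2', h2, Prod.fst_mul, mul_smul, sgnMk, sgnMk, sgnMk,
      QuotientGroup.mk_mul, _root_.mul_assoc]

theorem Describes.pow {g : D.P.Aut × Equiv.Perm (D.idx × Sgn S)} {p : 𝟙_ (Over S) ⟶ G}
    (h : Describes D g p) (n : ℕ) : Describes D (g ^ n) (p ^ n) := by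
  induction n with
  | zero => rw [pow_zero, pow_zero]; exact describes_one
  | succ n ih => rw [pow_succ, pow_succ]; exact ih.mul h

theorem describes_sgnLift {x : D.idx} (hx : x ∈ B.support) :
    Describes D (sgnLift B hd x) (wpt D x (𝟙_ (Over S))) := by
  intro c u
  obtain ⟨k, h1, h2⟩ := edge_spec B hd hx c
  refine ⟨k, ?_, ?_⟩
  · rw [sgnLift, Roots36.reflection_smul_index]; exact h1
  · rw [sgnLift, Roots36.reflection_smul_index, edgePerm_apply, h2]

theorem describes_word {l : List D.idx} (hl : ∀ c ∈ l, c ∈ B.support) :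
    Describes D (l.map (sgnLift B hd)).prod (l.map fun c => wpt D c (𝟙_ (Over S))).prod := by
  induction l with
  | nil => exact describes_one
  | cons x l ih =>
    rw [List.map_cons, List.map_cons, List.prod_cons, List.prod_cons]
    exact (describes_sgnLift B hd (hl x (by simp))).mul (ih fun c hc => hl c (by simp [hc]))

theorem eq_one_of_describes {g : D.P.Aut × Equiv.Perm (D.idx × Sgn S)} {p : 𝟙_ (Over S) ⟶ G}
    (h : Describes D g p) (h1 : g.1 = 1)
    (hp : ∀ c, ∃ k : Γ(S, ⊤)ˣ, sgnMk k = 1 ∧ Moves D p c c k) : g = 1 := by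
  refine Prod.ext h1 (Equiv.ext fun e => ?_)
  obtain ⟨k, hk1, hk2⟩ := h e.1 e.2
  obtain ⟨k', hk', hk''⟩ := hp e.1
  rw [h1, one_smul] at hk1 hk2
  rw [Prod.snd_one, Equiv.Perm.one_apply, hk2, show k = k' from Units.ext (hk1.unique hk''), hk']
  exact Prod.ext rfl (_root_.one_mul e.2)

/-- An element which a power of two Weyl elements reduces to acts through signs. -/
theorem sgn_of_negOnePt (a c : D.idx) :
    ∃ k : Γ(S, ⊤)ˣ, sgnMk k = 1 ∧ Moves D (negOnePt D a) c c k := by
  refine ⟨_, sgnMk_eq_one ?_, moves_negOnePt a c⟩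
  rcases Int.even_or_odd (D.P.pairing c a) with hh | hh
  · left; rw [hh.neg_one_zpow, Units.val_one]
  · right; rw [hh.neg_one_zpow, Units.val_neg, Units.val_one]

end Groth.Agent.RedPts82
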