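import Groth.Agent.RedPts82.RankOne
import Mathlib.Algebra.Group.Subgroup.Basic

/-!
Rank-one data from generators and relations.
-/

namespace Groth.Agent.RedPts82

universe u v w

/-- Generators and relations of a rank-one group, on points. -/
structure P1 (G : Type u) (R : Type v) (T : Type w) [Group G] [CommRing R] [Group T] where
  P : R → G
  P_add : ∀ a b, P (a + b) = P a * P b
  τ : T →* G
  a : T →* Rˣ
  av : Rˣ →* T
  comm : ∀ t t' : T, t * t' = t' * t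
  a_av : ∀ z, a (av z) = z * z
  conjP : ∀ t x, τ t * P x * (τ t)⁻¹ = P ((a t : R) * x)
  n : G
  n_τ : ∀ t, n * τ t * n⁻¹ = τ (t * (av (a t))⁻¹)
  n_sq : n * n = τ (av (-1))
  cube : (n * P 1) ^ 3 = 1

namespace P1

variable {G : Type u} {R : Type v} {T : Type w} [Group G] [CommRing R] [Group T] (D : P1 G R T)

/-- The opposite subgroup. -/
def M (y : R) : G := D.n * D.P (-y) * D.n⁻¹

/-- The image of the coroot. -/
def h (z : Rˣ) : G := D.τ (D.av z)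

theorem h_mul (z z' : Rˣ) : D.h (z * z') = D.h z * D.h z' := by simp [h]

theorem P_zero : D.P 0 = 1 := by simpa using D.P_add 0 0

theorem P_inv (x : R) : (D.P x)⁻¹ = D.P (-x) :=
  inv_eq_of_mul_eq_one_right (by rw [← D.P_add, add_neg_cancel, P_zero])

theorem M_add (a b : R) : D.M (a + b) = D.M a * D.M b := by
  rw [M, M, M, neg_add, D.P_add]; group

theorem M_inv (x : R) : (D.M x)⁻¹ = D.M (-x) := by
  rw [M, M, mul_inv_rev, mul_inv_rev, inv_inv, D.P_inv, mul_assoc]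

theorem h_P (z : Rˣ) (x : R) : D.P x * D.h z = D.h z * D.P ((z⁻¹ : Rˣ) * (z⁻¹ : Rˣ) * x) := by
  have : D.h z * D.P ((z⁻¹ : Rˣ) * (z⁻¹ : Rˣ) * x) * (D.h z)⁻¹ = D.P x := by
    rw [h, D.conjP, D.a_av]
    congr 1
    rw [Units.val_mul]
    linear_combination (x * ((z : R) * (z⁻¹ : Rˣ) + 1)) * z.mul_inv
  conv_lhs => rw [← this]
  group

theorem n_h (z : Rˣ) : D.n * D.h z = D.h z⁻¹ * D.n := by
  have : D.n * D.h z * D.n⁻¹ = D.h z⁻¹ := by
    rw [h, h, D.n_τ, D.a_av, map_mul D.av, mul_inv_rev, mul_inv_cancel_left, map_inv D.av]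
  rw [← this]; group

theorem n_sq' : D.n * D.n = D.h (-1) := D.n_sq

theorem sq_P (x : R) : D.n * D.n * D.P x = D.P x * (D.n * D.n) := by
  rw [n_sq', h_P]
  simp

theorem n_M (r : R) : D.n * D.M r = D.P (-r) * D.n := by
  rw [M, ← mul_assoc, ← mul_assoc, D.sq_P]
  group

theorem w_one : D.P 1 * D.M (-1) * D.P 1 = D.n := by
  have h4 : D.n * D.n * (D.n * D.n) = 1 := by
    rw [n_sq', ← h_mul, neg_mul_neg, _root_.one_mul, h, map_one, map_one]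
  have hc : D.n * D.P 1 * D.n * D.P 1 * D.n * D.P 1 = 1 := by
    rw [← D.cube]; simp [pow_succ, mul_assoc]
  calc D.P 1 * D.M (-1) * D.P 1 = D.n⁻¹ * (D.n * D.P 1 * D.n * D.P 1 * D.n * D.P 1) *
        ((D.P 1)⁻¹ * (D.n * D.n)⁻¹ * D.P 1) := by rw [M, neg_neg]; group
    _ = D.n⁻¹ * ((D.n * D.n)⁻¹ * ((D.n * D.n) * (D.P 1)⁻¹ * (D.n * D.n)⁻¹ * D.P 1)) := by
        rw [hc]; group
    _ = D.n := by
        rw [D.P_inv, D.sq_P]
        rw [mul_inv_cancel_right, ← D.P_add, neg_add_cancel, P_zero, _root_.mul_one]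
        calc D.n⁻¹ * (D.n * D.n)⁻¹ = D.n⁻¹ * (D.n * D.n)⁻¹ * (D.n * D.n * (D.n * D.n)) := by
              rw [h4, _root_.mul_one]
          _ = D.n := by group

/-- The Weyl element identity for a unit. -/
def W (v : Rˣ) : Prop := D.P v * D.M (-((v⁻¹ : Rˣ) : R)) * D.P v = D.h v * D.n

theorem conjM (t : T) (y : R) : D.τ t * D.M y * (D.τ t)⁻¹ = D.M (((D.a t)⁻¹ : Rˣ) * y) := by
  have hs : D.a (t * (D.av (D.a t))⁻¹) = (D.a t)⁻¹ := by
    rw [map_mul, map_inv, D.a_av, mul_inv_rev, mul_inv_cancel_left]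
  have hss : t * (D.av (D.a t))⁻¹ * (D.av (D.a (t * (D.av (D.a t))⁻¹)))⁻¹ = t := by
    rw [hs, map_inv, inv_inv, inv_mul_cancel_right]
  have h1 : D.n * D.τ (t * (D.av (D.a t))⁻¹) = D.τ t * D.n := by
    have := D.n_τ (t * (D.av (D.a t))⁻¹)
    rw [hss] at this
    rw [← this]; group
  rw [M, M, show ((((D.a t)⁻¹ : Rˣ) : R) * y) = ((D.a (t * (D.av (D.a t))⁻¹) : Rˣ) : R) * y by
      rw [hs], ← mul_neg, ← D.conjP, ← mul_assoc, ← mul_assoc, ← mul_assoc, ← h1]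
  have h2 : D.n⁻¹ * (D.τ t)⁻¹ = (D.τ (t * (D.av (D.a t))⁻¹))⁻¹ * D.n⁻¹ := by
    rw [← mul_inv_rev, ← mul_inv_rev, h1]
  calc _ = D.n * D.τ (t * (D.av (D.a t))⁻¹) * D.P (-y) * (D.n⁻¹ * (D.τ t)⁻¹) := by group
    _ = _ := by rw [h2]; group

theorem W_of_root (v : Rˣ) (t : T) (ht : D.a t = v) : D.W v := by
  have e := congrArg (fun g => D.τ t * g * (D.τ t)⁻¹) D.w_one
  have h1 : D.τ t * D.n * (D.τ t)⁻¹ = D.h v * D.n := by
    have h2 : D.n * D.τ t⁻¹ * D.n⁻¹ = D.τ (t⁻¹ * D.av v) := by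
      rw [D.n_τ, map_inv D.a, map_inv D.av, inv_inv, ht]
    calc D.τ t * D.n * (D.τ t)⁻¹ = D.τ t * (D.n * D.τ t⁻¹ * D.n⁻¹) * D.n := by
          rw [map_inv]; group
      _ = _ := by rw [h2, ← map_mul, mul_inv_cancel_left]; rfl
  calc D.P v * D.M (-((v⁻¹ : Rˣ) : R)) * D.P v
      = (D.τ t * D.P 1 * (D.τ t)⁻¹) * (D.τ t * D.M (-1) * (D.τ t)⁻¹) *
          (D.τ t * D.P 1 * (D.τ t)⁻¹) := by
        rw [D.conjP, D.conjM, ht, _root_.mul_one, mul_neg, _root_.mul_one]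
    _ = D.τ t * (D.P 1 * D.M (-1) * D.P 1) * (D.τ t)⁻¹ := by group
    _ = _ := by rw [e, h1]

theorem F_unit (hW : ∀ v, D.W v) (x : R) (y u : Rˣ) (hu : (u : R) = 1 + x * y) :
    D.P x * D.M y = D.M (((u⁻¹ : Rˣ) : R) * y) * D.h u * D.P (((u⁻¹ : Rˣ) : R) * x) := by
  set v : Rˣ := -y⁻¹ with hv
  have hw1 : D.M (y : R) = D.P (-(v : R)) * (D.h v * D.n) * D.P (-(v : R)) := by
    rw [← hW v, ← D.P_inv, show -((v⁻¹ : Rˣ) : R) = (y : R) by simp [hv]]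
    group
  set a : Rˣ := u * y⁻¹ with ha
  have hw2 : D.M (-((a⁻¹ : Rˣ) : R)) * D.P a * D.M (-((a⁻¹ : Rˣ) : R)) = D.h a * D.n := by
    have e := congrArg (fun g => D.n * g * D.n⁻¹) (hW a⁻¹)
    simp only [inv_inv] at e
    have e' : D.n * (D.P ((a⁻¹ : Rˣ) : R) * D.M (-(a : R)) * D.P ((a⁻¹ : Rˣ) : R)) * D.n⁻¹ =
        D.M (-((a⁻¹ : Rˣ) : R)) * (D.n * D.M (-(a : R))) * D.n⁻¹ *
          D.M (-((a⁻¹ : Rˣ) : R)) := by
      simp only [M, neg_neg]; group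
    rw [e', D.n_M, neg_neg] at e
    rw [← mul_assoc, mul_inv_cancel_right] at e
    rw [e, ← mul_assoc, D.n_h, inv_inv]
    group
  have hP : D.P (x - (v : R)) =
      D.M ((a⁻¹ : Rˣ) : R) * (D.h a * D.n) * D.M ((a⁻¹ : Rˣ) : R) := by
    rw [← hw2, show ∀ g, D.M g = (D.M (-g))⁻¹ from fun g => by rw [D.M_inv, neg_neg],
      show x - (v : R) = (a : R) by
        simp only [hv, ha, Units.val_mul, Units.val_neg, hu]
        linear_combination -x * y.mul_inv]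
    group
  rw [hw1, ← mul_assoc, ← mul_assoc, ← mul_assoc, ← D.P_add, ← sub_eq_add_neg, hP]
  have hr : ((a⁻¹ : Rˣ) : R) = ((u⁻¹ : Rˣ) : R) * y := by
    simp [ha, mul_comm]
  rw [hr]
  set r := ((u⁻¹ : Rˣ) : R) * (y : R)
  have e1 : D.M r * (D.h a * D.n) * D.M r * D.h v * D.n =
      D.M r * D.h a * (D.P (-r) * D.h (v⁻¹ * -1)) := by
    calc _ = D.M r * D.h a * (D.n * D.M r) * D.h v * D.n := by group
      _ = D.M r * D.h a * D.P (-r) * (D.n * D.h v) * D.n := by rw [D.n_M]; group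
      _ = D.M r * D.h a * D.P (-r) * D.h v⁻¹ * (D.n * D.n) := by rw [D.n_h]; group
      _ = _ := by rw [n_sq', mul_assoc _ (D.h v⁻¹), ← h_mul]; group
  rw [e1, show v⁻¹ * -1 = y by simp [hv], h_P, ← mul_assoc, mul_assoc (D.M r) (D.h a), ← h_mul,
    show a * y = u by simp [ha], mul_assoc, ← D.P_add]
  congr 2
  simp only [r, hv, Units.val_neg]
  linear_combination (-((u⁻¹ : Rˣ) : R) * ((y⁻¹ : Rˣ) : R)) * y.inv_mul -
    ((y⁻¹ : Rˣ) : R) * u.inv_mul + ((y⁻¹ : Rˣ) : R) * ((u⁻¹ : Rˣ) : R) * hu +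
    x * ((u⁻¹ : Rˣ) : R) * y.mul_inv

theorem F_split (hW : ∀ v, D.W v) (x y : R) (u u₁ s r : Rˣ) (hu : (u : R) = 1 + x * y)
    (hr : (r : R) = y - s) (hu₁ : (u₁ : R) = 1 + x * r) :
    D.P x * D.M y = D.M (((u⁻¹ : Rˣ) : R) * y) * D.h u * D.P (((u⁻¹ : Rˣ) : R) * x) := by
  rw [show y = (r : R) + s by rw [hr, sub_add_cancel], D.M_add, ← mul_assoc,
    D.F_unit hW x r u₁ hu₁, mul_assoc, D.F_unit hW _ s (u * u₁⁻¹) ?_]
  · set z := ((u * u₁⁻¹ : Rˣ)⁻¹ : Rˣ)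
    have e : D.h u₁ * D.M ((z : R) * s) =
        D.M (((u₁⁻¹ : Rˣ) : R) * ((u₁⁻¹ : Rˣ) : R) * ((z : R) * s)) * D.h u₁ := by
      have := D.conjM (D.av u₁) ((z : R) * s)
      rw [D.a_av, mul_inv_rev, Units.val_mul] at this
      rw [← this]
      show D.h u₁ * _ = D.h u₁ * _ * (D.h u₁)⁻¹ * D.h u₁
      group
    calc D.M (((u₁⁻¹ : Rˣ) : R) * r) * D.h u₁ *
          (D.M ((z : R) * s) * D.h (u * u₁⁻¹) * D.P ((z : R) * (((u₁⁻¹ : Rˣ) : R) * x)))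
        = D.M (((u₁⁻¹ : Rˣ) : R) * r) * (D.h u₁ * D.M ((z : R) * s)) * D.h (u * u₁⁻¹) *
            D.P ((z : R) * (((u₁⁻¹ : Rˣ) : R) * x)) := by group
      _ = _ := by
        rw [e, ← mul_assoc, ← D.M_add, mul_assoc _ (D.h u₁), ← h_mul,
          mul_comm u₁, inv_mul_cancel_right]
        congr 1
        · congr 2
          simp only [z, mul_inv_rev, inv_inv, Units.val_mul]
          linear_combination
            (((u₁⁻¹ : Rˣ) : R) * ((u⁻¹ : Rˣ) : R) * (s : R) +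
              ((u⁻¹ : Rˣ) : R) * ((r : R) + s)) * u₁.inv_mul -
            ((u₁⁻¹ : Rˣ) : R) * r * u.inv_mul +
            ((u₁⁻¹ : Rˣ) : R) * ((u⁻¹ : Rˣ) : R) * (r : R) * hu +
            ((u₁⁻¹ : Rˣ) : R) * ((u⁻¹ : Rˣ) : R) * x * (r : R) * (-hr) -
            ((u₁⁻¹ : Rˣ) : R) * ((u⁻¹ : Rˣ) : R) * ((r : R) + s) * hu₁
        · congr 1
          simp only [z, mul_inv_rev, inv_inv, Units.val_mul]
          linear_combination ((u⁻¹ : Rˣ) : R) * x * u₁.mul_inv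
  · rw [Units.val_mul]
    linear_combination ((u₁⁻¹ : Rˣ) : R) * hu - x * ((u₁⁻¹ : Rˣ) : R) * hr +
      u₁.inv_mul - ((u₁⁻¹ : Rˣ) : R) * hu₁

/-- The rank-one data, given the commutation formula. -/
def toR1 (hF : ∀ (x y : R) (u : Rˣ), (u : R) = 1 + x * y →
    D.P x * D.M y = D.M (((u⁻¹ : Rˣ) : R) * y) * D.h u * D.P (((u⁻¹ : Rˣ) : R) * x)) : R1 G R T where
  P := D.P
  M := D.M
  P_add := D.P_add
  M_add := D.M_add
  τ := D.τ
  a := D.a
  av := D.av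
  comm := D.comm
  a_av := D.a_av
  conjP := D.conjP
  conjM := D.conjM
  F := hF

end P1

namespace R1

variable {G : Type u} {R : Type v} {T : Type w} [Group G] [CommRing R] [Group T] (D : R1 G R T)

/-- The product of two points of the cell. -/
theorem cell_mul (y x y' x' : R) (t t' : T) (u : Rˣ) (hu : (u : R) = 1 + x * y') :
    (D.M y * D.τ t * D.P x) * (D.M y' * D.τ t' * D.P x') =
      D.M (y + ((D.a t)⁻¹ : Rˣ) * (((u⁻¹ : Rˣ) : R) * y')) * D.τ (t * D.av u * t') *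
        D.P (((D.a t')⁻¹ : Rˣ) * (((u⁻¹ : Rˣ) : R) * x) + x') := by
  calc (D.M y * D.τ t * D.P x) * (D.M y' * D.τ t' * D.P x')
      = D.M y * D.τ t * (D.P x * D.M y') * D.τ t' * D.P x' := by group
    _ = D.M y * (D.τ t * D.M (((u⁻¹ : Rˣ) : R) * y')) * D.τ (D.av u) *
        (D.P (((u⁻¹ : Rˣ) : R) * x) * D.τ t') * D.P x' := by rw [D.F x y' u hu]; group
    _ = _ := by
        rw [D.τ_M, D.P_τ, map_mul, map_mul, D.M_add, D.P_add]; group

end R1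

end Groth.Agent.RedPts82
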