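import Groth.Agent.RedPts82.SplitSub
import Groth.Agent.RedPts82.Quot

/-!
Quotients of diagonalisable groups by subgroups of multiplicative type.
-/

universe u

open CategoryTheory MonoidalCategory CartesianMonoidalCategory MonObj GrpObj AlgebraicGeometry
open CategoryTheory.Limits

namespace Groth.Agent.RedPts82

variable {S : Scheme.{u}}

/-- A subgroup of multiplicative type of a diagonalisable group is, on open and closed pieces, an
annihilator. -/
theorem exists_annihilator {M : Type} [AddCommGroup M] (hM : AddGroup.FG M) {H : Over S} [GrpObj H]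
    (hH : SGA3x.IsMultTypeFT H) (i : H ⟶ Red.DS S M) [IsMonHom i] [Mono i] (s : S) :
    ∃ U : S.Opens, s ∈ U ∧ IsClosed (U : Set S) ∧ ∃ Λ : AddSubgroup M,
      ∀ (Z : Over S) (_ : Z ⟶ Over.mk U.ι),
        (∀ h : Z ⟶ H, ∀ m ∈ Λ, dsFn (h ≫ i) m = 1) ∧
        ∀ t : Z ⟶ Red.DS S M, (∀ m ∈ Λ, dsFn t m = 1) → ∃ h : Z ⟶ H, h ≫ i = t := by
  classical
  have hH' := hH
  obtain ⟨S', f, hf, hs, hqc, hloc⟩ := hH'
  obtain ⟨s', rfl⟩ := f.surjective s
  obtain ⟨U₀, hU₀, N, hN, hNfg, ⟨e⟩⟩ := hloc s'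
  obtain ⟨W, hW, hsW, hWU⟩ := exists_isAffineOpen_mem_and_subset hU₀
  haveI : IsAffine (W : Scheme.{u}) := hW
  let W' : Scheme.{u} := W
  let φ : W' ⟶ S := W.ι ≫ f
  let x : W' := ⟨s', hsW⟩
  obtain ⟨aN, haN, hmN, hsN⟩ := exists_ds_cover_mono (S'.homOfLE hWU) (U₀.ι ≫ f) φ (by simp [φ]) e
  obtain ⟨aM, haM, hiM, hfnM⟩ := exists_ds_bc φ M
  let q : Red.DS W' N ⟶ Red.DS W' M := aN ≫ (Over.pullback φ).map i ≫ CategoryTheory.inv aM
  haveI : IsMonHom (CategoryTheory.inv aM) := isMonHom_of_points _ fun Z a b => by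
    rw [← cancel_mono aM, MonObj.mul_comp _ _ aM]
    simp only [Category.assoc, IsIso.inv_hom_id, Category.comp_id]
  haveI := haN
  haveI := hmN
  haveI : IsMonHom q := inferInstance
  haveI : Mono q := inferInstance
  obtain ⟨D, ψ, hxD, hD⟩ := exists_ds_hom_loc hM q x
  have hagree : ∀ (Z : Over W') (_ : Z ⟶ Over.mk (W'.fromSpecResidueField x)) (t : Z ⟶ Red.DS W' N)
      (m : M), dsFn (t ≫ q) m = dsFn t (ψ m) := by
    intro Z p t m
    rw [hD Z (fun z => ?_) t, dsFn_DSmap]
    have : Z.hom z = x := by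
      rw [← Over.w p]
      exact Scheme.fromSpecResidueField_apply x (p.left z)
    rw [this]
    exact hxD
  have hψ : Function.Surjective ψ := by
    obtain ⟨Z, p, τ, t, ht⟩ := exists_char_pt x (QuotientAddGroup.mk' ψ.range)
    have h1 : t = 1 := by
      rw [← cancel_mono q, MonObj.one_comp q]
      exact dsFn_injective fun m => by
        rw [hagree Z p t m, dsFn_one, ht, QuotientAddGroup.mk'_apply,
          (QuotientAddGroup.eq_zero_iff _).mpr (⟨m, rfl⟩ : ψ m ∈ ψ.range), ofAdd_zero,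
          ← MonoidAlgebra.one_def, map_one]
    intro n
    have h2 := ht n
    rw [h1, dsFn_one, ← map_one τ, MonoidAlgebra.one_def] at h2
    rcases MonoidAlgebra.single_inj.mp (τ.injective h2) with ⟨h3, -⟩ | ⟨h3, -⟩
    · exact (QuotientAddGroup.eq_zero_iff n).mp (Multiplicative.ofAdd.injective h3.symm)
    · exact absurd h3 one_ne_zero
  let Λ : AddSubgroup M := ψ.ker
  let K := Red.DS S (M ⧸ Λ)
  let k : K ⟶ Red.DS S M := Red.DSmap S (QuotientAddGroup.mk' Λ)
  haveI : IsMonHom k := isMonHom_DSmap _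
  haveI : Mono k := ⟨fun {Z} a b e => dsFn_injective fun c => by
    obtain ⟨m, rfl⟩ := QuotientAddGroup.mk'_surjective Λ c
    have h := congrArg (dsFn · m) e
    simpa only [k, dsFn_DSmap] using h⟩
  have hKpt : ∀ {Z : Over S} (t : Z ⟶ Red.DS S M), (∀ m ∈ Λ, dsFn t m = 1) →
      ∃ w : Z ⟶ K, w ≫ k = t := by
    intro Z t ht
    let lft : M ⧸ Λ → Γ(Z.left, ⊤) := fun c => Quotient.liftOn' c (fun m => dsFn t m) fun a b hab => by
      rw [QuotientAddGroup.leftRel_apply] at hab
      rw [show b = a + (-a + b) by abel, dsFn_add, ht _ hab, _root_.mul_one]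
    obtain ⟨w, hw⟩ := dsFn_surjective (S := S) (M := M ⧸ Λ) (X := Z)
      { toFun := fun c => lft (Multiplicative.toAdd c)
        map_one' := dsFn_zero t
        map_mul' := fun a b => by
          induction a using Multiplicative.rec with | ofAdd a =>
          induction b using Multiplicative.rec with | ofAdd b =>
          induction a using QuotientAddGroup.induction_on with | H a =>
          induction b using QuotientAddGroup.induction_on with | H b =>
          exact dsFn_add t a b }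
    exact ⟨w, dsFn_injective fun m => by rw [dsFn_DSmap, hw]; rfl⟩
  have heq : EqPts (W'.fromSpecResidueField x ≫ φ) i k := by
    intro Z p
    obtain ⟨α, -⟩ := exists_over_iso φ (p.left ≫ W'.fromSpecResidueField x) (by
      rw [Category.assoc]; exact Over.w p)
    let Z' : Over W' := Over.mk (p.left ≫ W'.fromSpecResidueField x)
    let p' : Z' ⟶ Over.mk (W'.fromSpecResidueField x) := Over.homMk p.left rfl
    haveI : IsIso α.hom.left := inferInstanceAs (IsIso ((Over.forget S).map α.hom))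
    haveI : IsIso α.hom.left.appTop := inferInstanceAs (IsIso (Scheme.Γ.map α.hom.left.op))
    have hinj : Function.Injective α.hom.left.appTop :=
      (ConcreteCategory.bijective_of_isIso α.hom.left.appTop).1
    constructor
    · intro a
      suffices ∀ m ∈ Λ, dsFn (a ≫ i) m = 1 from (hKpt _ this).imp fun _ h => h.symm
      intro m hm
      obtain ⟨t, ht⟩ := hsN Z' (ofBase φ (α.hom ≫ a))
      apply hinj
      have h1 : (t ≫ aN) ≫ (Over.pullback φ).map i = (t ≫ q) ≫ aM := by
        simp only [q, Category.assoc, IsIso.inv_hom_id, Category.comp_id]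
      have he : toBase φ ((t ≫ q) ≫ aM) = α.hom ≫ a ≫ i := by
        rw [← h1, ht, toBase_comp_map, toBase_ofBase, Category.assoc]
      rw [map_one, ← dsFn_comp, ← he, hfnM, hagree Z' p' t m, show ψ m = 0 from hm, dsFn_zero]
    · intro b
      obtain ⟨tM, htM⟩ := exists_pt_map φ Z' (α.hom ≫ b ≫ k)
      let lftN : N → Γ(Z'.left, ⊤) := fun n => dsFn tM (hψ n).choose
      have hker : ∀ m m', ψ m = ψ m' → dsFn tM m = dsFn tM m' := by
        intro m m' h
        have h0 : dsFn tM (m - m') = 1 := by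
          rw [htM, dsFn_comp, dsFn_DSmap, QuotientAddGroup.mk'_apply,
            (QuotientAddGroup.eq_zero_iff _).mpr (show m - m' ∈ Λ by
              show ψ (m - m') = 0
              rw [map_sub, h, sub_self]), dsFn_zero, map_one]
        rw [← sub_add_cancel m m', dsFn_add, h0, _root_.one_mul]
      obtain ⟨tN, htN⟩ := dsFn_surjective (S := W') (M := N) (X := Z')
        { toFun := fun n => lftN (Multiplicative.toAdd n)
          map_one' := by
            show dsFn tM _ = 1
            rw [← dsFn_zero tM]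
            exact hker _ _ (by rw [(hψ _).choose_spec, map_zero]; rfl)
          map_mul' := fun n n' => by
            show dsFn tM _ = dsFn tM _ * dsFn tM _
            rw [← dsFn_add]
            exact hker _ _ (by rw [map_add, (hψ _).choose_spec, (hψ _).choose_spec, (hψ _).choose_spec]; rfl) }
      refine ⟨α.inv ≫ toBase φ (tN ≫ aN), ?_⟩
      rw [← cancel_epi α.hom, Category.assoc, Iso.hom_inv_id_assoc, ← toBase_comp_map]
      have h1 : (tN ≫ aN) ≫ (Over.pullback φ).map i = (tN ≫ q) ≫ aM := by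
        simp only [q, Category.assoc, IsIso.inv_hom_id, Category.comp_id]
      rw [h1]
      refine dsFn_injective fun m => ?_
      rw [hfnM, hagree Z' p' tN m, htN, ← htM]
      exact hker _ _ (hψ (ψ m)).choose_spec
  have hpb : IsPullback (pullback.fst i k) (pullback.snd i k) i k := IsPullback.of_hasPullback i k
  let P := MorphismProperty.isomorphisms Scheme.{u}
  haveI : P.DescendsAlong Unr55.fpqc.{u} := by unfold Unr55.fpqc; infer_instance
  obtain ⟨h₁, h₂⟩ := (isIso_pullback_iff_eqPts _ hpb).mpr heq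
  haveI : IsAffineHom (Red.DS S M).hom := isAffineHom_DS S M
  haveI : LocallyOfFinitePresentation (Red.DS S M).hom := lfp_DS_of_fg S M hM
  obtain ⟨U, hUc, hU, hUiso⟩ := exists_eq_locus (.inr inferInstance) hH
    (isMultTypeFT_DS S (M ⧸ Λ) (AddGroup.fg_of_surjective (f := QuotientAddGroup.mk' Λ)
      (QuotientAddGroup.mk'_surjective Λ))) i k fun X g h => ds_comm g _
  refine ⟨U, (hU _).mpr ((exists_iso_iff _ hpb).mpr ?_), hUc, Λ, ?_⟩
  · have e : f s' = φ x := rfl
    rw [e]
    exact ⟨(prop_residue_iff P φ x _).mpr h₁, (prop_residue_iff P φ x _).mpr h₂⟩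
  intro Z p
  have hE := (isIso_pullback_iff_eqPts U.ι hpb).mp ((exists_iso_iff U.ι hpb).mp hUiso) Z p
  refine ⟨fun h m hm => ?_, fun t ht => ?_⟩
  · obtain ⟨b, hb⟩ := hE.1 h
    rw [hb, dsFn_DSmap, QuotientAddGroup.mk'_apply, (QuotientAddGroup.eq_zero_iff _).mpr hm, dsFn_zero]
  · obtain ⟨w, hw⟩ := hKpt t ht
    obtain ⟨a, ha⟩ := hE.2 w
    exact ⟨a, ha.trans hw⟩

/-- A quotient of a split torus is, on open and closed pieces, split. -/
theorem exists_quotient_split {T H Q : Over S} [GrpObj T] [GrpObj H] [GrpObj Q] {r : ℕ}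
    (hT : Red.IsSplitTorusWith (Fin r → ℤ) T) (i : H ⟶ T) [IsMonHom i] [Mono i]
    (hH : SGA3x.IsMultTypeFT H) (q : T ⟶ Q) [IsMonHom q] (hq : RedSub.IsQuotient i q) (s : S) :
    ∃ U : S.Opens, s ∈ U ∧ IsClosed (U : Set S) ∧ ∃ r' : ℕ, r' ≤ r ∧
      Red.IsSplitTorusWith (Fin r' → ℤ) (Red.bc U.ι Q) := by
  obtain ⟨eT⟩ := hT
  let a : T ⟶ Red.DS S (Fin r → ℤ) := eT.hom.hom.hom
  haveI : IsMonHom a := eT.hom.hom.isMonHom_hom
  haveI : IsIso a := ((Grp.forget _).mapIso eT).isIso_hom
  have hMfg : AddGroup.FG (Fin r → ℤ) := inferInstance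
  obtain ⟨U, hsU, hUc, Λ, hΛ⟩ := exists_annihilator hMfg hH (i ≫ a) s
  let V : Scheme.{u} := U
  obtain ⟨aD, haD, hiD, hfnD⟩ := exists_ds_bc U.ι (Fin r → ℤ)
  let a' : Red.bc U.ι T ⟶ Red.DS V (Fin r → ℤ) := (Over.pullback U.ι).map a ≫ CategoryTheory.inv aD
  haveI : IsMonHom (CategoryTheory.inv aD) := isMonHom_of_points _ fun Z x y => by
    rw [← cancel_mono aD, MonObj.mul_comp _ _ aD]
    simp only [Category.assoc, IsIso.inv_hom_id, Category.comp_id]
  have ha' : ∀ (Z : Over V) (x : Z ⟶ Red.bc U.ι T) (m : Fin r → ℤ),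
      dsFn (x ≫ a') m = dsFn (toBase U.ι x ≫ a) m := fun Z x m => by
    rw [← hfnD]
    simp only [a', Category.assoc, IsIso.inv_hom_id, Category.comp_id, toBase_comp_map]
  let p : Red.bc U.ι T ⟶ Red.DS V Λ := a' ≫ Red.DSmap V Λ.subtype
  haveI : IsMonHom (Red.DSmap V Λ.subtype) := isMonHom_DSmap _
  haveI : IsMonHom a' := inferInstance
  haveI : IsMonHom p := inferInstance
  have hpker : ∀ (Z : Over V) (x y : Z ⟶ Red.bc U.ι T), x ≫ p = y ≫ p ↔
      x ≫ (Over.pullback U.ι).map q = y ≫ (Over.pullback U.ι).map q := by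
    intro Z x y
    let pz : (Over.map U.ι).obj Z ⟶ Over.mk U.ι := Over.homMk Z.hom rfl
    have hqh : (toBase U.ι x ≫ q = toBase U.ι y ≫ q) ↔
        x ≫ (Over.pullback U.ι).map q = y ≫ (Over.pullback U.ι).map q :=
      ⟨fun e => toBase_injective U.ι (by rw [toBase_comp_map, toBase_comp_map, e]),
        fun e => by rw [← toBase_comp_map, e, toBase_comp_map]⟩
    rw [← hqh]
    have hdiv : x ≫ p = y ≫ p ↔ ∀ m ∈ Λ, 
        dsFn (((toBase U.ι x)⁻¹ * toBase U.ι y) ≫ a) m = 1 := by
      refine ⟨fun e m hm => ?_, fun h => dsFn_injective fun m => ?_⟩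
      · have e' := congrArg (dsFn · (⟨m, hm⟩ : Λ)) e
        simp only [p, ← Category.assoc, dsFn_DSmap, ha', AddSubgroup.subtype_apply] at e'
        rw [MonObj.mul_comp _ _ a, GrpObj.inv_comp _ a, dsFn_mul, ← e', ← dsFn_mul, inv_mul_cancel, dsFn_one]
      · simp only [p, ← Category.assoc, dsFn_DSmap, ha']
        have h1 := h m m.2
        rw [MonObj.mul_comp _ _ a, GrpObj.inv_comp _ a, dsFn_mul] at h1
        have h2 : dsFn (toBase U.ι x ≫ a) (m : Fin r → ℤ) * dsFn (toBase U.ι x ≫ a)⁻¹ (m : Fin r → ℤ) = 1 := by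
          rw [← dsFn_mul, mul_inv_cancel, dsFn_one]
        calc dsFn (toBase U.ι x ≫ a) (m : Fin r → ℤ)
              = dsFn (toBase U.ι x ≫ a) (m : Fin r → ℤ) * (dsFn (toBase U.ι x ≫ a)⁻¹ (m : Fin r → ℤ) *
                  dsFn (toBase U.ι y ≫ a) (m : Fin r → ℤ)) := by rw [h1, _root_.mul_one]
            _ = _ := by rw [← _root_.mul_assoc, h2, _root_.one_mul]; rfl
    constructor
    · intro e
      obtain ⟨h, hh⟩ := (hΛ _ pz).2 (((toBase U.ι x)⁻¹ * toBase U.ι y) ≫ a) fun m hm => by
        exact (hdiv.mp e) m hm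
      rw [← Category.assoc, cancel_mono] at hh
      rw [show toBase U.ι y = toBase U.ι x * (h ≫ i) by rw [hh, mul_inv_cancel_left],
        comp_mul_right hq]
    · intro e
      obtain ⟨h, hh⟩ := exists_eq_mul_of_comp_eq hq e
      refine hdiv.mpr fun m hm => ?_
      rw [hh, inv_mul_cancel_left, Category.assoc]
      exact (hΛ _ pz).1 h m hm
  have hqcov : Cov ((Over.pullback U.ι).map q) :=
    ⟨MorphismProperty.of_isPullback (P := @Surjective) (isPullback_bc_map q U.ι) hq.1,
      MorphismProperty.of_isPullback (P := @Flat) (isPullback_bc_map q U.ι) hq.2.1,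
      MorphismProperty.of_isPullback (P := @LocallyOfFinitePresentation) (isPullback_bc_map q U.ι) hq.2.2.1⟩
  have hΛfg : AddGroup.FG Λ := by
    haveI : Module.Finite ℤ (AddSubgroup.toIntSubmodule Λ) := inferInstance
    exact Module.Finite.iff_addGroup_fg.mp (inferInstanceAs (Module.Finite ℤ (AddSubgroup.toIntSubmodule Λ)))
  have hpcov : Cov p := by
    obtain ⟨h1, h2⟩ := DSmap_flat_surjective (S := V) Λ.subtype Subtype.val_injective
    haveI : IsAffineHom (Red.DS V Λ).hom := isAffineHom_DS V Λ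
    haveI : LocallyOfFinitePresentation (Red.DS V Λ).hom := lfp_DS_of_fg V Λ hΛfg
    haveI : LocallyOfFinitePresentation (Red.DS V (Fin r → ℤ)).hom := lfp_DS_of_fg V _ hMfg
    haveI : LocallyOfFinitePresentation (Red.DSmap V Λ.subtype).left := by
      haveI : LocallyOfFinitePresentation ((Red.DSmap V Λ.subtype).left ≫ (Red.DS V Λ).hom) := by
        rw [Over.w]; infer_instance
      exact Groth.Agent.LimDesc62.lfp_of_comp (Red.DSmap V Λ.subtype).left (Red.DS V Λ).hom
    haveI : IsIso a'.left := inferInstanceAs (IsIso ((Over.forget V).map a'))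
    exact ⟨(MorphismProperty.cancel_left_of_respectsIso (P := @Surjective) _ _).mpr h2,
      (MorphismProperty.cancel_left_of_respectsIso (P := @Flat) _ _).mpr h1,
      (MorphismProperty.cancel_left_of_respectsIso (P := @LocallyOfFinitePresentation) _ _).mpr ‹_›⟩
  obtain ⟨e, he, -⟩ := hqcov.desc p fun Z x y h => (hpker Z x y).mpr h
  obtain ⟨e', he', -⟩ := hpcov.desc ((Over.pullback U.ι).map q) fun Z x y h => (hpker Z x y).mp h
  haveI := hqcov.epi
  haveI := hpcov.epi
  haveI : IsIso e := ⟨e', by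
    rw [← cancel_epi ((Over.pullback U.ι).map q), reassoc_of% he, he', Category.comp_id], by
    rw [← cancel_epi p, reassoc_of% he', he, Category.comp_id]⟩
  have hp1 : η ≫ p = η := IsMonHom.one_hom p
  have hp2 : μ ≫ p = (p ⊗ₘ p) ≫ μ := IsMonHom.mul_hom p
  haveI : IsMonHom e :=
    { one_hom := by
        rw [← IsMonHom.one_hom ((Over.pullback U.ι).map q), Category.assoc, he, hp1]
      mul_hom := by
        haveI := (hqcov.tensor hqcov).epi
        rw [← cancel_epi ((Over.pullback U.ι).map q ⊗ₘ (Over.pullback U.ι).map q),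
          ← IsMonHom.mul_hom_assoc ((Over.pullback U.ι).map q), he, hp2,
          MonoidalCategory.tensorHom_comp_tensorHom_assoc, he] }
  haveI : Module.Finite ℤ Λ := Module.Finite.iff_addGroup_fg.mpr hΛfg
  haveI : IsAddTorsionFree Λ := ⟨fun n hn x y hxy => Subtype.ext
    (nsmul_right_injective hn (congrArg Subtype.val hxy))⟩
  haveI : Module.Free ℤ Λ := Module.free_of_finite_type_torsion_free'
  obtain ⟨b⟩ := grpIso_DS_of_addEquiv (W := V) (Module.finBasis ℤ Λ).equivFun.toAddEquiv
  refine ⟨U, hsU, hUc, Module.finrank ℤ Λ, ?_, ⟨Grp.mkIso' (asIso e) ≪≫ b⟩⟩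
  have := Submodule.finrank_le (AddSubgroup.toIntSubmodule Λ)
  rw [Module.finrank_pi, Fintype.card_fin] at this
  exact this

end Groth.Agent.RedPts82
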