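import Mathlib.FieldTheory.IsAlgClosed.Basic
import Mathlib.LinearAlgebra.Matrix.DotProduct
import Mathlib.Algebra.Polynomial.Roots
import Mathlib.GroupTheory.Subgroup.Centralizer
import Mathlib.Tactic

/-!
A rank-one representation-theoretic lemma: if the roots of a group are `±a, ±2a` then some nontrivial
element of the negative unipotent part acts trivially on every representation spanned by the orbit of a
line with closed cone.
-/

set_option autoImplicit false
set_option linter.unusedSectionVars false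

universe u v

open Matrix Polynomial

namespace Groth.Agent.RedPts82.RankRed

variable {k : Type u} [Field k] [IsAlgClosed k]

theorem eq_of_zpow_eq {a b : ℤ} (h : ∀ s : kˣ, s ^ a = s ^ b) : a = b := by
  by_contra hne
  have hfin : {x : k | x ^ (a - b).natAbs = 1}.Finite := by
    have hp : (X ^ (a - b).natAbs - C (1 : k)) ≠ 0 := (monic_X_pow_sub_C 1 (by omega)).ne_zero
    exact (finite_setOfPred_isRoot hp).subset fun x hx => by simpa [IsRoot, sub_eq_zero] using hx
  obtain ⟨x, hx⟩ := (hfin.union (Set.finite_singleton (0 : k))).infinite_compl.nonempty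
  simp only [Set.mem_compl_iff, Set.mem_union, Set.mem_singleton_iff, not_or] at hx
  have h1 : Units.mk0 x hx.2 ^ (a - b) = 1 := by rw [zpow_sub, h, mul_inv_cancel]
  have h2 : Units.mk0 x hx.2 ^ ((a - b).natAbs : ℤ) = 1 := by
    rcases Int.natAbs_eq (a - b) with h' | h'
    · exact (congrArg (fun m : ℤ => Units.mk0 x hx.2 ^ m) h').symm.trans h1
    · have h'' := (congrArg (fun m : ℤ => Units.mk0 x hx.2 ^ m) h').symm.trans h1
      simp only [zpow_neg, inv_eq_one] at h''
      exact h''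
  rw [zpow_natCast] at h2
  exact hx.1 (by simpa using congrArg Units.val h2)

/-- An equivariant polynomial has monomials of the matching weight only. -/
theorem coeff_weight {p : k[X]} {c σ : k} (h : ∀ x, c * p.eval x = p.eval (σ * x)) {q : ℕ}
    (hq : p.coeff q ≠ 0) : c = σ ^ q := by
  have e : C c * p = p.comp (C σ * X) := Polynomial.funext fun x => by simp [h]
  have e' := congrArg (fun f => f.coeff q) e
  simp only [coeff_C_mul, comp_C_mul_X_coeff] at e'
  exact mul_right_cancel₀ hq (e'.trans (_root_.mul_comm _ _))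

variable {Γ : Type v} [Group Γ] {n : ℕ}

/-- The data: a representation with a torus, four one-parameter subgroups of weights `±1, ±2`, and a
line whose orbit has a closed cone. -/
structure Sys (R : Γ →* Matrix (Fin n) (Fin n) k) (T : Subgroup Γ) (χ : Γ → kˣ) (lp : kˣ → Γ)
    (e : Fin n → ℤ) (U : Bool → Bool → k → Γ) (v : Fin n → k) : Prop where
  lp_mem : ∀ s, lp s ∈ T
  lp_mat : ∀ s, R (lp s) = diagonal fun i => ((s ^ e i : kˣ) : k)
  χ_lp : ∀ s, χ (lp s) = s * s
  conj : ∀ t ∈ T, ∀ ε j x, t * U ε j x * t⁻¹ =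
    U ε j (((χ t ^ ((if ε then (1 : ℤ) else -1) * (if j then 2 else 1)) : kˣ) : k) * x)
  zero : ∀ ε j, U ε j 0 = 1
  poly : ∀ ε j, ∃ P : Fin n → Fin n → k[X], ∀ x i l, R (U ε j x) i l = (P i l).eval x
  comm : ∀ x y, U false false x * U false true y = U false true y * U false false x
  comm_self : ∀ ε j x y, U ε j x * U ε j y = U ε j y * U ε j x
  span : ∀ f : Fin n → k, (∀ g, f ⬝ᵥ (R g *ᵥ v) = 0) → f = 0
  ne : v ≠ 0
  dense : ∀ (ε : Bool) (f : Matrix (Fin n) (Fin n) k →ₗ[k] k),
    (∀ (y₁ y₂ x₁ x₂ : k) (t : Γ), t ∈ T →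
      f (R (U (!ε) false y₁ * U (!ε) true y₂ * t * (U ε false x₁ * U ε true x₂))) = 0) → ∀ g, f (R g) = 0
  limit : ∀ (g : Γ) (ν : Fin n → ℤ) (μ : ℤ), (ν = e ∨ ν = fun i => -e i) →
    (∀ i, (R g *ᵥ v) i ≠ 0 → μ ≤ ν i) → ∀ i, (R g *ᵥ v) i ≠ 0 → ν i = μ →
      ∃ (g' : Γ) (a : k), (fun l => if ν l = μ then (R g *ᵥ v) l else 0) = a • (R g' *ᵥ v)
  fixed : ∀ (g : Γ) (p : ℤ), (∀ i, (R g *ᵥ v) i ≠ 0 → e i = p) →
    ∃ h : Γ, (∀ t, t ∈ T ↔ h * t * h⁻¹ ∈ T) ∧ (∀ i, (R h *ᵥ v) i ≠ 0 → e i = p) ∧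
      ∀ t ∈ T, ∃ a : k, R t *ᵥ (R h *ᵥ v) = a • (R h *ᵥ v)

variable {R : Γ →* Matrix (Fin n) (Fin n) k} {T : Subgroup Γ} {χ : Γ → kˣ} {lp : kˣ → Γ}
  {e : Fin n → ℤ} {U : Bool → Bool → k → Γ} {v : Fin n → k}

/-- The weight of a root group on the one-parameter subgroup. -/
def wt (ε j : Bool) : ℤ := (if ε then (1 : ℤ) else -1) * (if j then 2 else 1)

theorem R_inv_mul (g : Γ) (w : Fin n → k) : R g⁻¹ *ᵥ (R g *ᵥ w) = w := by
  rw [mulVec_mulVec, ← map_mul, inv_mul_cancel, map_one, one_mulVec]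

theorem R_mul_vec (g h : Γ) (w : Fin n → k) : R (g * h) *ᵥ w = R g *ᵥ (R h *ᵥ w) := by
  rw [map_mul, mulVec_mulVec]

theorem vec_ne_zero (g : Γ) {w : Fin n → k} (hw : w ≠ 0) : R g *ᵥ w ≠ 0 := fun h => hw (by
  rw [← R_inv_mul (R := R) g w, h, mulVec_zero])

/-- The matrix functional giving a coordinate of a vector. -/
def coordFn (w : Fin n → k) (i : Fin n) : Matrix (Fin n) (Fin n) k →ₗ[k] k where
  toFun M := (M *ᵥ w) i
  map_add' M N := by rw [add_mulVec, Pi.add_apply]
  map_smul' a M := by rw [smul_mulVec, Pi.smul_apply, RingHom.id_apply]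

variable (H : Sys R T χ lp e U v)
include H

/-- Root groups shift the weights by multiples of their weight. -/
theorem Sys.shift (ε j : Bool) (w : Fin n → k) (x : k) (i : Fin n)
    (hi : (R (U ε j x) *ᵥ w) i ≠ w i) :
    ∃ l, w l ≠ 0 ∧ ∃ q : ℕ, 0 < q ∧ e i - e l = 2 * wt ε j * q := by
  obtain ⟨P, hP⟩ := H.poly ε j
  by_contra hcon
  push Not at hcon
  refine hi ?_
  have hPl : ∀ l, w l ≠ 0 → (P i l).eval x = (P i l).eval 0 := by
    intro l hl
    have hc : ∀ q, 0 < q → (P i l).coeff q = 0 := by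
      intro q hq
      by_contra hne
      refine hcon l hl q hq (eq_of_zpow_eq (k := k) fun s => ?_)
      have key : ∀ y, ((s ^ (e i - e l) : kˣ) : k) * (P i l).eval y =
          (P i l).eval (((s * s) ^ wt ε j : kˣ) * y) := by
        intro y
        have h1 := H.conj (lp s) (H.lp_mem s) ε j y
        rw [H.χ_lp, mul_inv_eq_iff_eq_mul] at h1
        have h2 := congrArg (fun g => R g i l) h1
        simp only [map_mul, H.lp_mat, mul_diagonal, diagonal_mul, hP] at h2
        rw [zpow_sub, Units.val_mul]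
        show _ = (P i l).eval ((((s * s) ^ ((if ε then (1 : ℤ) else -1) * (if j then 2 else 1)) : kˣ) : k) * y)
        rw [_root_.mul_right_comm, h2, _root_.mul_assoc, ← Units.val_mul, mul_inv_cancel, Units.val_one,
          _root_.mul_one]
      have h2 := coeff_weight key hne
      rw [← Units.val_pow_eq_pow_val, Units.val_inj, ← zpow_natCast, ← zpow_mul] at h2
      rw [h2, ← zpow_two, ← zpow_mul]
      congr 1
      ring
    have e1 : P i l = C ((P i l).coeff 0) := eq_C_of_degree_le_zero <| by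
      refine degree_le_iff_coeff_zero _ _ |>.mpr fun q hq => hc q ?_
      exact Nat.cast_pos.mp (by exact_mod_cast hq)
    rw [e1, eval_C, eval_C]
  have h0 : R (U ε j 0) = 1 := by rw [H.zero, map_one]
  calc (R (U ε j x) *ᵥ w) i = (R (U ε j 0) *ᵥ w) i := by
        simp only [mulVec, dotProduct, hP]
        refine Finset.sum_congr rfl fun l _ => ?_
        rcases eq_or_ne (w l) 0 with hl | hl
        · simp [hl]
        · rw [hPl l hl]
    _ = w i := by rw [h0, one_mulVec]

theorem Sys.wt_sign (ε j : Bool) : if ε then 0 < wt ε j else wt ε j < 0 := by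
  cases ε <;> cases j <;> simp [wt]

/-- A root group does not move weights against its sign. -/
theorem Sys.bound (ε j : Bool) (σ : ℤ) (hσ : σ * wt ε j ≤ 0) {w : Fin n → k} {p : ℤ}
    (hw : ∀ i, w i ≠ 0 → σ * e i ≤ σ * p) (x : k) (i : Fin n) (hi : (R (U ε j x) *ᵥ w) i ≠ 0) :
    σ * e i ≤ σ * p := by
  by_cases h : (R (U ε j x) *ᵥ w) i = w i
  · exact hw i (h ▸ hi)
  · obtain ⟨l, hl, q, -, hq⟩ := H.shift ε j w x i h
    have := hw l hl
    have h2 : σ * e i = σ * e l + 2 * (σ * wt ε j) * q := by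
      rw [show e i = e l + 2 * wt ε j * q by omega]; ring
    nlinarith [Int.natCast_nonneg q]

/-- There is an extremal line fixed by the root groups of each sign. -/
theorem Sys.exists_extremal (ε : Bool) :
    ∃ (h : Γ) (m : ℤ), (∀ t, t ∈ T ↔ h * t * h⁻¹ ∈ T) ∧
      (∀ i, (R h *ᵥ v) i ≠ 0 → e i = m) ∧ (∀ t ∈ T, ∃ a : k, R t *ᵥ (R h *ᵥ v) = a • (R h *ᵥ v)) ∧
      (∀ i, (if ε then (1 : ℤ) else -1) * e i ≤ (if ε then (1 : ℤ) else -1) * m) ∧
      (∀ j x, R (U ε j x) *ᵥ (R h *ᵥ v) = R h *ᵥ v) ∧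
      ∃ i₀, ∀ i, e i = m ↔ i = i₀ := by
  set σ : ℤ := if ε then (1 : ℤ) else -1 with hσdef
  have hσσ : σ * σ = 1 := by cases ε <;> simp [hσdef]
  have hn : Nonempty (Fin n) := by
    by_contra h
    exact H.ne (funext fun i => absurd ⟨i⟩ h)
  obtain ⟨i₁, -, hmax⟩ := Finset.univ.exists_max_image (fun i : Fin n => σ * e i) Finset.univ_nonempty
  obtain ⟨g, hg⟩ : ∃ g, (R g *ᵥ v) i₁ ≠ 0 := by
    by_contra hcon
    push Not at hcon
    have := H.span (Pi.single i₁ 1) fun g => by rw [single_one_dotProduct]; exact hcon g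
    simpa using congrFun this i₁
  have hν : ((fun i => -σ * e i) = e ∨ (fun i => -σ * e i) = fun i => -e i) := by
    cases ε <;> simp [hσdef]
  obtain ⟨g', a, hga⟩ := H.limit g (fun i => -σ * e i) (-σ * e i₁) hν
    (fun i _ => by have := hmax i (Finset.mem_univ i); simp only [neg_mul]; omega) i₁ hg rfl
  have ha : a ≠ 0 := by
    rintro rfl
    have := congrFun hga i₁
    simp at this
    exact hg this
  have hsupp : ∀ i, (R g' *ᵥ v) i ≠ 0 → e i = e i₁ := by
    intro i hi
    by_contra hne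
    have := congrFun hga i
    rw [Pi.smul_apply, if_neg, smul_eq_mul, eq_comm, mul_eq_zero] at this
    · exact hi (this.resolve_left ha)
    · intro h
      apply hne
      have := congrArg (-σ * ·) h
      simp only [← _root_.mul_assoc, neg_mul_neg, hσσ, _root_.one_mul] at this
      exact this
  obtain ⟨h, hh, hh₁, hh₂⟩ := H.fixed g' (e i₁) hsupp
  have hfix : ∀ j x, R (U ε j x) *ᵥ (R h *ᵥ v) = R h *ᵥ v := by
    intro j x
    funext i
    by_contra hi
    obtain ⟨l, hl, q, hq, hil⟩ := H.shift ε j _ x i hi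
    have := hmax i (Finset.mem_univ i)
    have hw := H.wt_sign ε j
    rw [hh₁ l hl] at hil
    have hq' : (0 : ℤ) < q := by exact_mod_cast hq
    cases ε <;> simp [hσdef] at hw this <;> nlinarith
  obtain ⟨i₀, hi₀⟩ := Function.ne_iff.1 (vec_ne_zero (R := R) h H.ne)
  refine ⟨h, e i₁, hh, hh₁, hh₂, fun i => hmax i (Finset.mem_univ i), hfix, i₀, fun i =>
    ⟨fun hei => ?_, fun hii => hii ▸ hh₁ i₀ hi₀⟩⟩
  -- all translates have proportional extremal components
  set w := R h *ᵥ v
  by_contra hne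
  have hcell : ∀ g, (R g *ᵥ w) i * w i₀ = (R g *ᵥ w) i₀ * w i := by
    intro g
    have := H.dense ε (w i₀ • coordFn w i - w i • coordFn w i₀) (fun y₁ y₂ x₁ x₂ t ht => ?_) g
    · simp only [LinearMap.sub_apply, LinearMap.smul_apply, smul_eq_mul, sub_eq_zero] at this
      simp only [coordFn, LinearMap.coe_mk, AddHom.coe_mk] at this
      linear_combination this
    obtain ⟨b, hb⟩ := hh₂ t ht
    simp only [LinearMap.sub_apply, LinearMap.smul_apply, smul_eq_mul, coordFn, LinearMap.coe_mk,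
      AddHom.coe_mk, R_mul_vec, hfix, hb]
    have hpres : ∀ (i : Fin n), e i = e i₁ → ∀ (j : Bool) (x : k) (z : Fin n → k),
        (∀ l, z l ≠ 0 → σ * e l ≤ σ * e i₁) → (R (U (!ε) j x) *ᵥ z) i = z i := by
      intro i hi j x z hz
      by_contra hc
      obtain ⟨l, hl, q, hq, hil⟩ := H.shift (!ε) j z x i hc
      have := hz l hl
      have hw := H.wt_sign (!ε) j
      have hq' : (0 : ℤ) < q := by exact_mod_cast hq
      cases ε <;> simp [hσdef] at hw this hil <;> nlinarith
    have hzb : ∀ l, (b • w) l ≠ 0 → σ * e l ≤ σ * e i₁ := fun l _ => hmax l (Finset.mem_univ l)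
    have hall : ∀ (z : Fin n → k) l, z l ≠ 0 → σ * e l ≤ σ * e i₁ := fun z l _ => hmax l (Finset.mem_univ l)
    rw [hpres i hei _ _ _ (hall _), hpres i hei _ _ _ (hall _), hpres i₀ (hh₁ i₀ hi₀) _ _ _ (hall _),
      hpres i₀ (hh₁ i₀ hi₀) _ _ _ (hall _), Pi.smul_apply, Pi.smul_apply, smul_eq_mul, smul_eq_mul]
    ring
  have := H.span (w i₀ • Pi.single i 1 - w i • Pi.single i₀ 1) fun g => by
    have hc := hcell (g * h⁻¹)
    simp only [R_mul_vec, R_inv_mul, w] at hc
    rw [sub_dotProduct, smul_dotProduct, smul_dotProduct, single_one_dotProduct, single_one_dotProduct,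
      smul_eq_mul, smul_eq_mul, sub_eq_zero]
    linear_combination hc
  have := congrFun this i
  simp [hne] at this
  exact hi₀ this

theorem Sys.inv_mem_normalizer {h : Γ} (hh : ∀ t, t ∈ T ↔ h * t * h⁻¹ ∈ T) {t : Γ} (ht : t ∈ T) :
    h⁻¹ * t * h ∈ T := by
  rw [hh]
  simpa [_root_.mul_assoc] using ht

theorem Sys.conj_normalizer {g h : Γ} (hg : ∀ t, t ∈ T ↔ g * t * g⁻¹ ∈ T)
    (hh : ∀ t, t ∈ T ↔ h * t * h⁻¹ ∈ T) {t : Γ} (ht : t ∈ T) : (g * h⁻¹)⁻¹ * t * (g * h⁻¹) ∈ T := by
  have h1 := (hh _).1 (H.inv_mem_normalizer hg ht)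
  simpa [_root_.mul_assoc] using h1

/-- The translate of a root group either fixes the extremal line or has a constrained character. -/
theorem Sys.conj_fix {hp : Γ} {m : ℤ} {i₀ : Fin n} (hhp : ∀ t, t ∈ T ↔ hp * t * hp⁻¹ ∈ T)
    (hw : ∀ i, (R hp *ᵥ v) i ≠ 0 → e i = m)
    (hmax : ∀ i, e i ≤ m) (huniq : ∀ i, e i = m ↔ i = i₀) {h : Γ} (hh : ∀ t, t ∈ T ↔ h * t * h⁻¹ ∈ T)
    (ε j : Bool) :
    (∀ x, R (U ε j x) *ᵥ (R h *ᵥ v) = R h *ᵥ v) ∨
      ∃ (q : ℕ) (r : ℤ), 0 < q ∧ 0 < r ∧
        ∀ s, χ ((hp * h⁻¹)⁻¹ * lp s * (hp * h⁻¹)) ^ (wt ε j * q) = s ^ (-r) := by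
  classical
  set g := hp * h⁻¹
  set w := R hp *ᵥ v
  set z := R h *ᵥ v
  have hgz : R g *ᵥ z = w := by simp only [g, z, w, R_mul_vec, R_inv_mul]
  have hgT : ∀ t ∈ T, g⁻¹ * t * g ∈ T := fun t ht => H.conj_normalizer hhp hh ht
  have hz : z ≠ 0 := vec_ne_zero h H.ne
  clear_value g z w
  obtain ⟨P, hP⟩ := H.poly ε j
  let Q : Fin n → k[X] := fun i => ∑ l, C ((R g) i l) * ∑ q, P l q * C (z q)
  have hQ : ∀ x, R g *ᵥ (R (U ε j x) *ᵥ z) = fun i => (Q i).eval x := by
    intro x
    funext i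
    simp only [Q, mulVec, dotProduct, eval_finsetSum, eval_mul, eval_C, hP]
  have hQ0 : ∀ i, (Q i).eval 0 = w i := fun i => by
    have := congrFun (hQ 0) i
    rw [H.zero, map_one, one_mulVec, hgz] at this
    exact this.symm
  have hequiv : ∀ s x i, ((s ^ (e i - m) : kˣ) : k) * (Q i).eval x =
      (Q i).eval (((χ (g⁻¹ * lp s * g) ^ wt ε j : kˣ) : k) * x) := by
    intro s x i
    have htT : g⁻¹ * lp s * g ∈ T := hgT _ (H.lp_mem s)
    have h1 := H.conj _ htT ε j x
    rw [mul_inv_eq_iff_eq_mul] at h1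
    change g⁻¹ * lp s * g * U ε j x =
      U ε j (((χ (g⁻¹ * lp s * g) ^ wt ε j : kˣ) : k) * x) * (g⁻¹ * lp s * g) at h1
    have hsw : R (lp s) *ᵥ w = ((s ^ m : kˣ) : k) • w := by
      funext l
      rw [H.lp_mat, mulVec_diagonal, Pi.smul_apply, smul_eq_mul]
      rcases eq_or_ne (w l) 0 with h0 | h0
      · simp [h0]
      · rw [hw l h0]
    have htz : R (g⁻¹ * lp s * g) *ᵥ z = ((s ^ m : kˣ) : k) • z := by
      rw [R_mul_vec, hgz, R_mul_vec, hsw, mulVec_smul, ← hgz, R_inv_mul]
    have h2 : R (lp s) *ᵥ (R g *ᵥ (R (U ε j x) *ᵥ z)) = ((s ^ m : kˣ) : k) •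
        (R g *ᵥ (R (U ε j (((χ (g⁻¹ * lp s * g) ^ wt ε j : kˣ) : k) * x)) *ᵥ z)) := by
      rw [← R_mul_vec, ← R_mul_vec, show lp s * g * U ε j x = g * (g⁻¹ * lp s * g * U ε j x) by group, h1,
        R_mul_vec, R_mul_vec, htz, mulVec_smul, mulVec_smul]
    rw [hQ, hQ] at h2
    have h3 := congrFun h2 i
    rw [H.lp_mat, mulVec_diagonal, Pi.smul_apply, smul_eq_mul] at h3
    rw [zpow_sub, Units.val_mul, _root_.mul_right_comm, h3, _root_.mul_right_comm, ← Units.val_mul,
      mul_inv_cancel, Units.val_one, _root_.one_mul]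
  by_cases hmove : ∃ i, i ≠ i₀ ∧ ∃ q : ℕ, 0 < q ∧ (Q i).coeff q ≠ 0
  · obtain ⟨i, hi, q, hq, hc⟩ := hmove
    refine Or.inr ⟨q, m - e i, hq, ?_, fun s => ?_⟩
    · have := hmax i
      have : e i ≠ m := fun h => hi ((huniq i).1 h)
      omega
    · have h4 := coeff_weight (hequiv s · i) hc
      rw [← Units.val_pow_eq_pow_val, Units.val_inj, ← zpow_natCast, ← zpow_mul] at h4
      rw [← h4, neg_sub]
  push Not at hmove
  left
  intro x
  have hwi : ∀ i, i ≠ i₀ → ∀ y, (Q i).eval y = w i := fun i hi y => by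
    have e1 : Q i = C ((Q i).coeff 0) := eq_C_of_degree_le_zero <| by
      refine degree_le_iff_coeff_zero _ _ |>.mpr fun q hq => hmove i hi q ?_
      exact Nat.cast_pos.mp (by exact_mod_cast hq)
    rw [← hQ0 i]
    conv_lhs => rw [e1, eval_C]
    conv_rhs => rw [e1, eval_C]
  have hw0 : ∀ i, i ≠ i₀ → w i = 0 := fun i hi => by
    by_contra h0
    exact hi ((huniq i).1 (hw i h0))
  have hnz : ∀ y, (Q i₀).eval y ≠ 0 := fun y h0 => by
    refine vec_ne_zero (R := R) g (vec_ne_zero (R := R) (U ε j y) hz) ?_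
    rw [hQ]
    funext i
    rcases eq_or_ne i i₀ with rfl | hi
    · exact h0
    · rw [hwi i hi, hw0 i hi, Pi.zero_apply]
  have e0 : Q i₀ = C ((Q i₀).coeff 0) := eq_C_of_degree_le_zero <| by
    by_contra hdeg
    obtain ⟨y, hy⟩ := IsAlgClosed.exists_root (Q i₀) fun h => hdeg h.le
    exact hnz y hy
  have e2 : R g *ᵥ (R (U ε j x) *ᵥ z) = R g *ᵥ z := by
    rw [hQ, hgz]
    funext i
    rcases eq_or_ne i i₀ with rfl | hi
    · rw [← hQ0 i]
      conv_lhs => rw [e0, eval_C]
      conv_rhs => rw [e0, eval_C]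
    · exact hwi i hi x
  rw [← R_inv_mul (R := R) g (R (U ε j x) *ᵥ z), e2, R_inv_mul]

/-- The opposite signs of the weights. -/
theorem Sys.exists_fixing {hp : Γ} {m : ℤ} {i₀ : Fin n} (hhp : ∀ t, t ∈ T ↔ hp * t * hp⁻¹ ∈ T)
    (hw : ∀ i, (R hp *ᵥ v) i ≠ 0 → e i = m) (hmax : ∀ i, e i ≤ m) (huniq : ∀ i, e i = m ↔ i = i₀)
    {h : Γ} (hh : ∀ t, t ∈ T ↔ h * t * h⁻¹ ∈ T) :
    ∃ ε, ∀ j x, R (U ε j x) *ᵥ (R h *ᵥ v) = R h *ᵥ v := by
  by_contra hcon
  push Not at hcon
  obtain ⟨j, x, hj⟩ := hcon true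
  obtain ⟨j', x', hj'⟩ := hcon false
  obtain ⟨q, r, hq, hr, hs⟩ := (H.conj_fix hhp hw hmax huniq hh true j).resolve_left fun h => hj (h x)
  obtain ⟨q', r', hq', hr', hs'⟩ := (H.conj_fix hhp hw hmax huniq hh false j').resolve_left fun h => hj' (h x')
  have key : (-r) * (wt false j' * q') = (-r') * (wt true j * q) := eq_of_zpow_eq (k := k) fun s => by
    rw [zpow_mul s (-r), ← hs, zpow_mul s (-r'), ← hs', ← zpow_mul, ← zpow_mul, _root_.mul_comm]
  have hp1 : 0 < wt true j * (q : ℤ) := Int.mul_pos (by cases j <;> simp [wt]) (by exact_mod_cast hq)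
  have hp2 : wt false j' * (q' : ℤ) < 0 :=
    Int.mul_neg_of_neg_of_pos (by cases j' <;> simp [wt]) (by exact_mod_cast hq')
  nlinarith

/-- A translate fixed by the root groups of one sign has the extremal weight of that sign. -/
theorem Sys.weight_of_fixed {ε : Bool} {he : Γ} {m : ℤ} {h : Γ} {p : ℤ}
    (hw : ∀ i, (R he *ᵥ v) i ≠ 0 → e i = m)
    (hmax : ∀ i, (if ε then (1 : ℤ) else -1) * e i ≤ (if ε then (1 : ℤ) else -1) * m)
    (hp : ∀ i, (R h *ᵥ v) i ≠ 0 → e i = p) (hT : ∀ t ∈ T, ∃ a : k, R t *ᵥ (R h *ᵥ v) = a • (R h *ᵥ v))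
    (hfix : ∀ j x, R (U ε j x) *ᵥ (R h *ᵥ v) = R h *ᵥ v) : p = m := by
  set σ : ℤ := if ε then (1 : ℤ) else -1 with hσdef
  obtain ⟨i, hi⟩ := Function.ne_iff.1 (vec_ne_zero (R := R) he H.ne)
  obtain ⟨l, hl⟩ := Function.ne_iff.1 (vec_ne_zero (R := R) h H.ne)
  have h1 : σ * p ≤ σ * m := hp l hl ▸ hmax l
  have h2 : σ * m ≤ σ * p := by
    by_contra hcon
    have hzero : ∀ g, (R g *ᵥ (R h *ᵥ v)) i = 0 := fun g =>
      H.dense ε (coordFn (R h *ᵥ v) i) (fun y₁ y₂ x₁ x₂ t ht => by
        obtain ⟨b, hb⟩ := hT t ht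
        show (R (U (!ε) false y₁ * U (!ε) true y₂ * t * (U ε false x₁ * U ε true x₂)) *ᵥ (R h *ᵥ v)) i = 0
        simp only [R_mul_vec, hfix, hb]
        by_contra hne
        have hs : ∀ j, σ * wt (!ε) j ≤ 0 := fun j => by cases ε <;> cases j <;> simp [hσdef, wt]
        have := H.bound (!ε) false σ (hs _) (fun l hl => H.bound (!ε) true σ (hs _) (w := b • (R h *ᵥ v)) (p := p)
          (fun q hq => by
            rw [hp q fun h0 => hq (by rw [Pi.smul_apply, h0, smul_zero])]) y₂ l hl) y₁ i hne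
        rw [hw i hi] at this
        exact hcon this) g
    apply hi
    have := hzero (he * h⁻¹)
    rwa [R_mul_vec, R_inv_mul] at this
  cases ε <;> simp [hσdef] at h1 h2 <;> omega

/-- Some nontrivial element of the negative unipotent part acts trivially. -/
theorem Sys.exists_kernel : ∃ y z : k, (y ≠ 0 ∨ z ≠ 0) ∧ R (U false false y * U false true z) = 1 := by
  classical
  obtain ⟨hp, m, hhp, hw, hTp, hmax, hfix, i₀, huniq⟩ := H.exists_extremal true
  obtain ⟨hm, m', hhm, hw', hTm, hmin, hfix', i₁, huniq'⟩ := H.exists_extremal false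
  simp only [↓reduceIte, _root_.one_mul, Bool.false_eq_true] at hmax hmin
  set w := R hp *ᵥ v
  let φ : k → k → Fin n → k := fun y z => R (U false false y) *ᵥ (R (U false true z) *ᵥ w)
  have hs : ∀ j, (1 : ℤ) * wt false j ≤ 0 := fun j => by cases j <;> simp [wt]
  have htop : ∀ y z, φ y z i₀ = w i₀ := by
    intro y z
    have he0 : e i₀ = m := (huniq i₀).2 rfl
    have aux : ∀ (j : Bool) (x : k) (u : Fin n → k), (R (U false j x) *ᵥ u) i₀ = u i₀ := fun j x u => by
      by_contra hc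
      obtain ⟨l, -, q, hq, hil⟩ := H.shift false j u x i₀ hc
      have h1 := hmax l
      have h2 : wt false j < 0 := by cases j <;> simp [wt]
      have h3 : (0 : ℤ) < q := by exact_mod_cast hq
      nlinarith
    simp only [φ, aux]
  by_contra hcon
  push Not at hcon
  -- if a translate of the extremal line is fixed, it gives an element of the kernel
  have hne : ∀ y z, (y ≠ 0 ∨ z ≠ 0) → φ y z ≠ w := by
    intro y z hyz hφ
    refine hcon y z hyz ?_
    set u := U false false y * U false true z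
    have huw : R u *ᵥ w = w := by rw [R_mul_vec]; exact hφ
    have hall : ∀ g i, (R u *ᵥ (R g *ᵥ w)) i = (R g *ᵥ w) i := by
      intro g i
      have := H.dense true ((coordFn w i).comp (LinearMap.mulLeft k (R u)) - coordFn w i)
        (fun y₁ y₂ x₁ x₂ t ht => ?_) g
      · simp only [LinearMap.sub_apply, LinearMap.comp_apply, LinearMap.mulLeft_apply, coordFn,
          LinearMap.coe_mk, AddHom.coe_mk, sub_eq_zero, ← mulVec_mulVec] at this
        exact this
      obtain ⟨b, hb⟩ := hTp t⁻¹ (T.inv_mem ht)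
      have hfixu : R (t⁻¹ * u * t) *ᵥ w = w := by
        have h1 : R t *ᵥ w ≠ 0 := vec_ne_zero t (vec_ne_zero hp H.ne)
        obtain ⟨c, hc⟩ := hTp t ht
        rw [R_mul_vec, hc, mulVec_smul, R_mul_vec, huw, ← mulVec_smul, ← hc, R_inv_mul]
      have key : R (U false false y₁ * U false true y₂ * t * (U true false x₁ * U true true x₂)) *ᵥ w =
          R (U false false y₁ * U false true y₂ * t) *ᵥ w := by
        rw [R_mul_vec, R_mul_vec (U true false x₁), hfix, hfix]
      have hcomm : u * (U false false y₁ * U false true y₂) = U false false y₁ * U false true y₂ * u := by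
        have hadd : ∀ j (p q : k), U false j p * U false j q = U false j q * U false j p := H.comm_self false
        simp only [u]
        calc U false false y * U false true z * (U false false y₁ * U false true y₂)
            = U false false y * (U false true z * U false false y₁) * U false true y₂ := by group
          _ = U false false y * (U false false y₁ * U false true z) * U false true y₂ := by rw [H.comm]
          _ = (U false false y * U false false y₁) * (U false true z * U false true y₂) := by group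
          _ = (U false false y₁ * U false false y) * (U false true y₂ * U false true z) := by
              rw [hadd false y, hadd true z]
          _ = U false false y₁ * (U false false y * U false true y₂) * U false true z := by group
          _ = U false false y₁ * (U false true y₂ * U false false y) * U false true z := by rw [H.comm]
          _ = _ := by group
      simp only [Bool.not_true, LinearMap.sub_apply, LinearMap.comp_apply, LinearMap.mulLeft_apply, coordFn,
        LinearMap.coe_mk, AddHom.coe_mk, sub_eq_zero, ← mulVec_mulVec, key]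
      rw [← R_mul_vec, ← _root_.mul_assoc, hcomm, show U false false y₁ * U false true y₂ * u * t =
        U false false y₁ * U false true y₂ * t * (t⁻¹ * u * t) by group, R_mul_vec, hfixu]
    have hR : R u = 1 := by
      ext i l
      have := H.span (fun q => R u i q - (1 : Matrix (Fin n) (Fin n) k) i q) fun g => by
        have h1 := hall (g * hp⁻¹) i
        simp only [w, R_mul_vec, R_inv_mul] at h1
        rw [show (fun q => R u i q - (1 : Matrix (Fin n) (Fin n) k) i q) ⬝ᵥ (R g *ᵥ v) =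
          (R u *ᵥ (R g *ᵥ v)) i - ((1 : Matrix (Fin n) (Fin n) k) *ᵥ (R g *ᵥ v)) i from by
            simp only [mulVec, dotProduct, sub_mul, Finset.sum_sub_distrib], one_mulVec, h1, sub_self]
      exact sub_eq_zero.1 (congrFun this l)
    exact hR
  -- hence the lowest coordinate has no zero away from the origin
  have hlow : ∀ y z, (y ≠ 0 ∨ z ≠ 0) → φ y z i₁ ≠ 0 ∧ m' ≠ m := by
    intro y z hyz
    set g := U false false y * U false true z * hp with hgdef
    have hg : R g *ᵥ v = φ y z := by simp only [g, φ, w, R_mul_vec]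
    obtain ⟨l, hl, hlmin⟩ := (Finset.univ.filter fun i => φ y z i ≠ 0).exists_min_image e
      ⟨i₀, by
        rw [Finset.mem_filter, htop]
        obtain ⟨i, hi⟩ := Function.ne_iff.1 (vec_ne_zero (R := R) hp H.ne)
        exact ⟨Finset.mem_univ _, (huniq i).1 (hw i hi) ▸ hi⟩⟩
    rw [Finset.mem_filter] at hl
    obtain ⟨g', a, hga⟩ := H.limit g e (e l) (Or.inl rfl)
      (fun i hi => hlmin i (by rw [Finset.mem_filter]; exact ⟨Finset.mem_univ i, hg ▸ hi⟩))
      l (hg ▸ hl.2) rfl
    rw [hg] at hga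
    have ha : a ≠ 0 := by
      rintro rfl
      have := congrFun hga l
      rw [if_pos rfl, zero_smul] at this
      exact hl.2 this
    have hsupp : ∀ i, (R g' *ᵥ v) i ≠ 0 → e i = e l := fun i hi => by
      by_contra h
      have := congrFun hga i
      rw [if_neg h, Pi.smul_apply, smul_eq_mul, eq_comm, mul_eq_zero] at this
      exact hi (this.resolve_left ha)
    obtain ⟨h, hh, hh₁, hhT⟩ := H.fixed g' (e l) hsupp
    obtain ⟨ε, hε⟩ := H.exists_fixing hhp hw hmax huniq hh
    cases ε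
    · have hel : e l = m' := H.weight_of_fixed hw' (by simpa using hmin) hh₁ hhT hε
      refine ⟨(huniq' l).1 hel ▸ hl.2, fun hmm => hne y z hyz (funext fun i => ?_)⟩
      by_contra hi
      have h1 : e i ≠ m := fun h => hi (by rw [(huniq i).1 h, htop])
      have h2 := hmax i
      have h3 := hmin i
      omega
    · have hel : e l = m := H.weight_of_fixed hw (by simpa using hmax) hh₁ hhT hε
      refine absurd (funext fun i => ?_) (hne y z hyz)
      rcases eq_or_ne i i₀ with rfl | hi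
      · exact htop y z
      · have hwi : w i = 0 := by
          by_contra h0
          exact hi ((huniq i).1 (hw i h0))
        rw [hwi]
        by_contra h0
        have h1 := hlmin i (by rw [Finset.mem_filter]; exact ⟨Finset.mem_univ i, h0⟩)
        have h2 := hmax i
        exact hi ((huniq i).1 (by omega))
  -- weighted homogeneity
  have hscale : ∀ (s : kˣ) y z, φ (((s * s : kˣ)⁻¹ : kˣ) * y) ((((s * s) * (s * s) : kˣ)⁻¹ : kˣ) * z) i₁ =
      ((s ^ (m' - m) : kˣ) : k) * φ y z i₁ := by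
    intro s y z
    have h1 := H.conj (lp s) (H.lp_mem s) false false y
    have h2 := H.conj (lp s) (H.lp_mem s) false true z
    rw [H.χ_lp] at h1 h2
    simp only [Bool.false_eq_true, ↓reduceIte, neg_mul, _root_.one_mul, zpow_neg, zpow_one, zpow_two,
      mul_inv_eq_iff_eq_mul] at h1 h2
    have hsw : R (lp s) *ᵥ w = ((s ^ m : kˣ) : k) • w := by
      funext l
      rw [H.lp_mat, mulVec_diagonal, Pi.smul_apply, smul_eq_mul]
      rcases eq_or_ne (w l) 0 with h0 | h0
      · simp [h0]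
      · rw [hw l h0]
    have h3 := congrArg (fun g => (R g *ᵥ w) i₁)
      (show lp s * (U false false y * U false true z) = _ * lp s from by
        rw [← _root_.mul_assoc, h1, _root_.mul_assoc, h2, ← _root_.mul_assoc])
    simp only [R_mul_vec, hsw] at h3
    simp only [mulVec_smul, Pi.smul_apply, smul_eq_mul, H.lp_mat, mulVec_diagonal, (huniq' i₁).2 rfl] at h3
    simp only [φ]
    apply mul_left_cancel₀ (Units.ne_zero (s ^ m))
    rw [← h3, ← _root_.mul_assoc, ← Units.val_mul, ← zpow_add, add_sub_cancel]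
  obtain ⟨P, hP⟩ := H.poly false false
  obtain ⟨P', hP'⟩ := H.poly false true
  -- the coordinate is constant on the line `y = 1`
  let Fz : k[X] := ∑ l, C (R (U false false 1) i₁ l) * ∑ q, P' l q * C (w q)
  let Fy : k → k[X] := fun z => ∑ l, P i₁ l * C ((R (U false true z) *ᵥ w) l)
  have hFz : ∀ z, Fz.eval z = φ 1 z i₁ := fun z => by
    simp only [Fz, φ, mulVec, dotProduct, eval_finsetSum, eval_mul, eval_C, hP']
  have hFy : ∀ z y, (Fy z).eval y = φ y z i₁ := fun z y => by
    simp only [Fy, φ, mulVec, dotProduct, eval_finsetSum, eval_mul, eval_C, hP]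
  have hconst : ∀ z, φ 1 z i₁ = φ 1 0 i₁ := fun z => by
    have e0 : Fz = C (Fz.coeff 0) := eq_C_of_degree_le_zero <| by
      by_contra hdeg
      obtain ⟨z, hz⟩ := IsAlgClosed.exists_root Fz fun h => hdeg h.le
      exact (hlow 1 z (Or.inl one_ne_zero)).1 (by rw [← hFz]; exact hz)
    rw [← hFz, ← hFz]
    conv_lhs => rw [e0, eval_C]
    conv_rhs => rw [e0, eval_C]
  have hline : ∀ y, y ≠ 0 → φ y 1 i₁ = φ y 0 i₁ := fun y hy => by
    obtain ⟨r, hr⟩ := IsAlgClosed.exists_pow_nat_eq y⁻¹ two_pos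
    have hr0 : r ≠ 0 := fun h => inv_ne_zero hy (by rw [← hr, h, zero_pow two_ne_zero])
    let s : kˣ := Units.mk0 r hr0
    have hs : ((s * s : kˣ)⁻¹ : kˣ) = Units.mk0 y hy := by
      rw [inv_eq_iff_eq_inv]
      ext
      simp [s, ← hr, sq]
    have key : ∀ z, φ y z i₁ = ((s ^ (m' - m) : kˣ) : k) * φ 1 0 i₁ := fun z => by
      have := hscale s 1 ((((s * s) * (s * s) : kˣ) : k) * z)
      rw [← _root_.mul_assoc, ← Units.val_mul, inv_mul_cancel, Units.val_one, _root_.one_mul, _root_.mul_one,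
        hs, Units.val_mk0, hconst] at this
      exact this
    rw [key, key]
  have hFeq : Fy 1 = Fy 0 := by
    apply sub_eq_zero.1
    refine eq_zero_of_infinite_isRoot _ (Set.Infinite.mono ?_ (Set.finite_singleton (0 : k)).infinite_compl)
    intro y hy
    show (Fy 1 - Fy 0).eval y = 0
    rw [eval_sub, hFy, hFy, hline y hy, sub_self]
  have h01 : φ 0 1 i₁ = φ 0 0 i₁ := by rw [← hFy, ← hFy, hFeq]
  obtain ⟨h1, hmm⟩ := hlow 0 1 (Or.inr one_ne_zero)
  apply h1
  rw [h01]
  simp only [φ, H.zero, map_one, one_mulVec]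
  by_contra h0
  exact hmm (((huniq' i₁).2 rfl).symm.trans (hw i₁ h0))

end Groth.Agent.RedPts82.RankRed
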