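import Groth.Agent.AlgGrp79.CentTorus
import Groth.Agent.RedPts82.GaCoord
import Groth.Agent.RedPts82.DSCoord
import Groth.Agent.RedPts82.ChevDual
import Groth.Agent.RedPts82.RankRedAlg
import Mathlib.LinearAlgebra.LinearIndependent.Lemmas
import Groth.Agent.Comod33.Connected

/-!
Rational points in coordinates: polynomial curves and density of open sets.
-/

set_option autoImplicit false
set_option linter.unusedSectionVars false
set_option backward.isDefEq.respectTransparency.types false

universe u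

open CategoryTheory MonoidalCategory CartesianMonoidalCategory MonObj GrpObj AlgebraicGeometry
open WithConv Groth.Agent.GMod80 Groth.Agent.AlgGrp79

namespace Groth.Agent.RedPts82.RankRed

variable {k : Type u} [Field k]

local notation "pk" => 𝟙_ (Over (Spec (CommRingCat.of k)))

/-- The functions on the base point. -/
noncomputable def sc (k : Type u) [Field k] :
    k ≃+* Γ((𝟙_ (Over (Spec (CommRingCat.of k)))).left, ⊤) :=
  (Scheme.ΓSpecIso (CommRingCat.of k)).symm.commRingCatIsoToRingEquiv

variable {A : Type u} [CommRing A] [HopfAlgebra k A] {C : Over (Spec (CommRingCat.of k))} [GrpObj C]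
  (ψ : sp k A ≅ C) [IsMonHom ψ.hom] [IsAlgClosed k]

theorem ev_appTop (f : Comod33.Conn.Pt k A) (a : A) :
    (ToriConj.ev ψ f).left.appTop.hom (fn ψ a) = sc k (f.ofConv a) := by
  show (ToriConj.pt0 ≫ e ψ k f).left.appTop.hom (fn ψ a) = _
  rw [Over.comp_left, Scheme.Hom.comp_appTop, CommRingCat.comp_apply, appTop_fn]
  have h : (ToriConj.pt0 (k := k)).left = 𝟙 _ := rfl
  simp only [h, Scheme.Hom.id_appTop]
  rfl

/-- A curve in the group is polynomial in coordinates. -/
theorem exists_poly_pts (h : Red.Ga (Spec (CommRingCat.of k)) ⟶ C) (a : A) :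
    ∃ P : Polynomial k, ∀ (x : k) (f : Comod33.Conn.Pt k A),
      ToriConj.ev ψ f = gaPt (sc k x) ≫ h → f.ofConv a = P.eval x := by
  have : IsAffine (pk).left := inferInstanceAs (IsAffine (Spec (CommRingCat.of k)))
  obtain ⟨P, hP⟩ := (gaCoordHom_bijective pk).2 ((gaTu pk ≫ h).left.appTop.hom (fn ψ a))
  refine ⟨P.map (sc k).symm.toRingHom, fun x f hf => ?_⟩
  obtain ⟨w, -, hw₂, hw₃⟩ := exists_gaLift (𝟙 pk) (gaPt (sc k x))
  apply (sc k).injective
  rw [← ev_appTop ψ, hf, ← hw₂, Category.assoc, Over.comp_left, Scheme.Hom.comp_appTop,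
    CommRingCat.comp_apply, ← hP, hw₃, Polynomial.eval_map]
  show Polynomial.eval₂ (CommRingCat.Hom.hom (𝟙 pk : pk ⟶ pk).left.appTop) _ P = _
  rw [gaFn_gaPt, Over.id_left, Scheme.Hom.id_appTop, CommRingCat.hom_id]
  refine Eq.symm ((Polynomial.hom_eval₂ P _ (sc k).toRingHom x).trans ?_)
  congr 1
  exact RingHom.ext fun r => (sc k).apply_symm_apply r

/-- A function vanishing on the rational points of a nonempty open set vanishes. -/
theorem eq_zero_of_open [IsAffine C.left] [IsDomain A] [Algebra.FiniteType k A] (V : C.left.Opens)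
    (hV : (V : Set C.left).Nonempty) (a : A)
    (h : ∀ f : Comod33.Conn.Pt k A, Set.range (ToriConj.ev ψ f).left ⊆ V → f.ofConv a = 0) : a = 0 := by
  have : _root_.IsReduced A := inferInstance
  obtain ⟨x, hx⟩ := hV
  obtain ⟨r, hr, hxr⟩ := (isAffineOpen_top C.left).exists_basicOpen_le ⟨x, hx⟩ trivial
  obtain ⟨b, rfl⟩ := (fn ψ).surjective r
  have hb : b ≠ 0 := by
    rintro rfl
    rw [map_zero, Scheme.basicOpen_zero] at hxr
    exact hxr
  have hab : a * b = 0 := Comod33.Conn.eq_zero_of_forall_point (k := k) fun f => by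
    by_cases hfb : f.ofConv b = 0
    · rw [map_mul, hfb, mul_zero]
    rw [map_mul, h f ?_, zero_mul]
    have hu : IsUnit ((ToriConj.ev ψ f).left.appTop.hom (fn ψ b)) := by
      rw [ev_appTop]; exact (Ne.isUnit hfb).map _
    have htop : (ToriConj.ev ψ f).left ⁻¹ᵁ C.left.basicOpen (fn ψ b) = ⊤ := by
      rw [Scheme.preimage_basicOpen_top]
      exact Scheme.basicOpen_of_isUnit _ hu
    rintro _ ⟨q, rfl⟩
    have hq : q ∈ (ToriConj.ev ψ f).left ⁻¹ᵁ C.left.basicOpen (fn ψ b) := by rw [htop]; trivial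
    exact hr hq
  exact (mul_eq_zero.1 hab).resolve_right hb

/-- A multiplicative function on the units which is a Laurent polynomial is a power. -/
theorem exists_exponent (φ : kˣ →* k)
    (h : (φ : kˣ → k) ∈ Submodule.span k (Set.range fun m : ℤ => fun s : kˣ => ((s ^ m : kˣ) : k))) :
    ∃ m : ℤ, ∀ s, φ s = ((s ^ m : kˣ) : k) := by
  classical
  let χ : ℤ → (kˣ →* k) := fun m => (Units.coeHom k).comp (zpowGroupHom m)
  by_contra hcon
  push Not at hcon
  refine (linearIndependent_iff_notMem_span.1 (linearIndependent_monoidHom kˣ k)) φ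
    (Submodule.span_mono ?_ h)
  rintro _ ⟨m, rfl⟩
  refine ⟨χ m, ⟨Set.mem_univ _, fun e => ?_⟩, rfl⟩
  obtain ⟨s, hs⟩ := hcon m
  exact hs (DFunLike.congr_fun e s).symm

/-- A multiplicative coordinate of a curve on the multiplicative group is a power. -/
theorem exists_weight (h : Red.Gm (Spec (CommRingCat.of k)) ⟶ C) (a : A) (φ : kˣ →* k)
    (hφ : ∀ s : kˣ, ∃ f : Comod33.Conn.Pt k A,
      ToriConj.ev ψ f = gmPt (Units.map (sc k).toMonoidHom s) ≫ h ∧ φ s = f.ofConv a) :
    ∃ m : ℤ, ∀ s, φ s = ((s ^ m : kˣ) : k) := by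
  classical
  have : IsAffine (pk).left := inferInstanceAs (IsAffine (Spec (CommRingCat.of k)))
  obtain ⟨P, hP⟩ := (polyCoord_bijective pk ℤ).2 ((polyTu pk ℤ ≫ h).left.appTop.hom (fn ψ a))
  refine exists_exponent φ ?_
  have key : ∀ (c : DSRing pk ℤ), (fun s : kˣ => (sc k).symm
      (evalDS (𝟙 pk) (gmPt (Units.map (sc k).toMonoidHom s)) c)) ∈
      Submodule.span k (Set.range fun m : ℤ => fun s : kˣ => ((s ^ m : kˣ) : k)) := by
    intro c
    induction c using MonoidAlgebra.induction_linear with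
    | zero => simp only [map_zero]; exact Submodule.zero_mem _
    | add f g hf hg => simp only [map_add]; exact Submodule.add_mem _ hf hg
    | single g r =>
      have hsub := Submodule.smul_mem (Submodule.span k (Set.range fun m : ℤ => fun s : kˣ => ((s ^ m : kˣ) : k)))
        ((sc k).symm r) (Submodule.subset_span ⟨g.toAdd, rfl⟩)
      convert hsub using 1
      funext s
      rw [show MonoidAlgebra.single g r = MonoidAlgebra.single (Multiplicative.ofAdd g.toAdd) r from rfl,
        evalDS_single, dsFn_int, show gmU (gmPt (Units.map (sc k).toMonoidHom s)) =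
        Units.map (sc k).toMonoidHom s from Units.ext (gmFn_gmPt _), Over.id_left, Scheme.Hom.id_appTop,
        map_mul, ← map_zpow]
      show (sc k).symm r * (sc k).symm (sc k ((s ^ g.toAdd : kˣ) : k)) = (sc k).symm r * ((s ^ g.toAdd : kˣ) : k)
      rw [RingEquiv.symm_apply_apply]
  convert key P using 1
  funext s
  obtain ⟨f, hf, hφf⟩ := hφ s
  obtain ⟨w, -, hw₂, hw₃⟩ := exists_polyLift (𝟙 pk) (gmPt (Units.map (sc k).toMonoidHom s))
  apply (sc k).injective
  rw [RingEquiv.apply_symm_apply, hφf, ← ev_appTop ψ, hf, ← hw₂, Category.assoc, Over.comp_left,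
    Scheme.Hom.comp_appTop, CommRingCat.comp_apply, ← hP, hw₃, hw₂]

end Groth.Agent.RedPts82.RankRed
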