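import Groth.Agent.RedPts82.CommVanish
import Groth.Agent.RedPts82.RankRedPts
import Groth.Agent.RedPts82.BruhatUnip
import Groth.Agent.RedPts82.RankOneGeom
import Groth.Agent.RedPts82.DSImage
import Groth.Agent.AlgGrp79.ReductiveCent

/-!
The centralizer of the connected kernel of a root `a` such that `2a` is also a root.
-/

set_option autoImplicit false
set_option linter.unusedSectionVars false
set_option backward.isDefEq.respectTransparency.types false

universe u

open CategoryTheory MonoidalCategory CartesianMonoidalCategory MonObj GrpObj AlgebraicGeometry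
open CategoryTheory.Limits

namespace Groth.Agent.RedPts82.RankRed

section Lattice

variable {S : Scheme.{u}} {G : Over S} [GrpObj G] (D : Red.SplitRed G) (a : D.idx)

/-- Twice the projection killing the root along its coroot. -/
noncomputable def proj : D.M →ₗ[ℤ] D.M :=
  (2 : ℤ) • LinearMap.id - LinearMap.smulRight (D.P.coroot a) (D.P.root a)

/-- Its image. -/
abbrev Lat : Type := ↥(LinearMap.range (proj D a))

/-- The projection onto its image. -/
noncomputable def projR : D.M →+ Lat D a := (proj D a).rangeRestrict.toAddMonoidHom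

theorem projR_root_self : projR D a (D.P.root a) = 0 := by
  refine Subtype.ext ?_
  show (2 : ℤ) • D.P.root a - D.P.coroot a (D.P.root a) • D.P.root a = 0
  rw [show D.P.coroot a (D.P.root a) = D.P.pairing a a from pairing_eq_coroot (D := D) a a,
    RootPairing.pairing_same, sub_self]

theorem projR_surjective : Function.Surjective (projR D a) := (proj D a).surjective_rangeRestrict

theorem projR_eq_zero_iff (m : D.M) :
    projR D a m = 0 ↔ (2 : ℤ) • m = D.P.coroot a m • D.P.root a := by
  refine ⟨fun h => sub_eq_zero.1 (congrArg Subtype.val h), fun h => Subtype.ext (sub_eq_zero.2 h)⟩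

/-- The inclusion of the connected kernel of the root. -/
noncomputable def kerTorus : Red.DS S (Lat D a) ⟶ G :=
  Red.DSmap S (projR D a) ≫ D.split.inv.hom.hom ≫ D.i

theorem kerTorus_pt {X : Over S} (s : X ⟶ Red.DS S (Lat D a)) :
    s ≫ kerTorus D a = tpt D (s ≫ Red.DSmap S (projR D a)) := by
  simp only [kerTorus, tpt, Category.assoc]

theorem isMonHom_kerTorus : IsMonHom (kerTorus D a) := by
  have := D.maximalTorus.1
  have : IsMonHom D.split.inv.hom.hom := D.split.inv.hom.isMonHom_hom
  unfold kerTorus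
  infer_instance

theorem mono_kerTorus : Mono (kerTorus D a) := by
  refine ⟨fun {X} s s' h => dsFn_injective fun x => ?_⟩
  obtain ⟨m, rfl⟩ := projR_surjective D a x
  rw [← dsFn_DSmap, ← dsFn_DSmap]
  exact congrArg (dsFn · m) (tpt_injective (by rwa [← kerTorus_pt, ← kerTorus_pt]))

theorem kerTorus_comm_rp {d : D.idx} (hd : projR D a (D.P.root d) = 0) {X : Over S}
    (s : X ⟶ Red.DS S (Lat D a)) (r : Γ(X.left, ⊤)) :
    rp D d r * (s ≫ kerTorus D a) = (s ≫ kerTorus D a) * rp D d r := by
  rw [kerTorus_pt, eq_comm, ← mul_inv_eq_iff_eq_mul, tpt_conj_rp, dsFn_DSmap, hd, dsFn_zero, _root_.one_mul]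

variable {c : D.idx} (hc : D.P.root c = (2 : ℤ) • D.P.root a)
include hc

theorem projR_root_c : projR D a (D.P.root c) = 0 := by
  rw [hc, map_zsmul, projR_root_self, zsmul_zero]

theorem root_smul_injective {p q : ℤ} (h : p • D.P.root a = q • D.P.root a) : p = q := by
  have := congrArg (D.P.coroot a) h
  rw [map_zsmul, map_zsmul, show D.P.coroot a (D.P.root a) = D.P.pairing a a from pairing_eq_coroot (D := D) a a,
    RootPairing.pairing_same, smul_eq_mul, smul_eq_mul] at this
  omega

theorem exists_factor {d : D.idx} (hd : projR D a (D.P.root d) = 0) :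
    ∃ p : ℤ, D.P.root d = p • D.P.root a ∧ (p = 1 ∨ p = 2 ∨ p = -1 ∨ p = -2) := by
  have := Roots36.isAddTorsionFree_M D.P
  rw [projR_eq_zero_iff] at hd
  set n := D.P.coroot a (D.P.root d)
  have h1 : (2 : ℤ) * D.P.pairing d c = n * D.P.pairing a c := by
    have := congrArg (D.P.coroot c) hd
    rw [map_zsmul, map_zsmul, pairing_eq_coroot, pairing_eq_coroot, smul_eq_mul, smul_eq_mul] at this
    exact this
  have h2 : D.P.pairing a c = 1 := by
    have := congrArg (D.P.coroot c) hc
    rw [map_zsmul, pairing_eq_coroot, pairing_eq_coroot, RootPairing.pairing_same, smul_eq_mul] at this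
    omega
  rw [h2, _root_.mul_one] at h1
  refine ⟨D.P.pairing d c, ?_, ?_⟩
  · rw [← h1, mul_zsmul] at hd
    exact (zsmul_right_injective (by norm_num : (2 : ℤ) ≠ 0)) hd
  have hd' : D.P.root d = D.P.pairing d c • D.P.root a := by
    rw [← h1, mul_zsmul] at hd
    exact (zsmul_right_injective (by norm_num : (2 : ℤ) ≠ 0)) hd
  have h3 : (2 : ℤ) = D.P.pairing d c * D.P.pairing a d := by
    have := congrArg (D.P.coroot d) hd'
    rw [map_zsmul, pairing_eq_coroot, pairing_eq_coroot, RootPairing.pairing_same, smul_eq_mul] at this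
    exact this
  have hdvd : D.P.pairing d c ∣ 2 := ⟨_, h3⟩
  have hle := Int.le_of_dvd two_pos hdvd
  have hge := Int.le_of_dvd two_pos (Int.neg_dvd.2 hdvd)
  have hne : D.P.pairing d c ≠ 0 := fun h => by rw [h, zero_mul] at h3; exact absurd h3 two_ne_zero
  omega

/-- The four roots proportional to `a`. -/
noncomputable def rid (_hc : D.P.root c = (2 : ℤ) • D.P.root a) (ε j : Bool) : D.idx :=
  if ε then (if j then c else a) else negIdx D (if j then c else a)

theorem root_rid (ε j : Bool) : D.P.root (rid D a hc ε j) =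
    ((if ε then (1 : ℤ) else -1) * (if j then 2 else 1)) • D.P.root a := by
  cases ε <;> cases j <;>
    simp only [rid, ↓reduceIte, Bool.false_eq_true, root_negIdx, hc, _root_.one_mul, neg_mul, neg_zsmul, one_zsmul]

theorem projR_rid (ε j : Bool) : projR D a (D.P.root (rid D a hc ε j)) = 0 := by
  rw [root_rid, map_zsmul, projR_root_self, zsmul_zero]

theorem exists_rid {d : D.idx} (hd : projR D a (D.P.root d) = 0) : ∃ ε j, d = rid D a hc ε j := by
  obtain ⟨p, hp, h⟩ := exists_factor D a hc hd
  have key : ∀ ε j, p = (if ε then (1 : ℤ) else -1) * (if j then 2 else 1) → d = rid D a hc ε j :=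
    fun ε j e => D.P.root.injective (by rw [hp, root_rid, e])
  rcases h with h | h | h | h
  · exact ⟨true, false, key _ _ (by simpa using h)⟩
  · exact ⟨true, true, key _ _ (by simpa using h)⟩
  · exact ⟨false, false, key _ _ (by simpa using h)⟩
  · exact ⟨false, true, key _ _ (by simpa using h)⟩

theorem rid_comm (ε j j' : Bool) {X : Over S} (r s : Γ(X.left, ⊤)) :
    rp D (rid D a hc ε j) r * rp D (rid D a hc ε j') s =
      rp D (rid D a hc ε j') s * rp D (rid D a hc ε j) r := by
  rcases eq_or_ne j j' with rfl | hne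
  · rw [← rp_add, ← rp_add, add_comm]
  set σ : ℤ := if ε then 1 else -1 with hσ
  have hsum : D.P.root (rid D a hc ε j) + D.P.root (rid D a hc ε j') = (3 * σ) • D.P.root a := by
    rw [root_rid, root_rid, ← add_zsmul]
    congr 1
    cases ε <;> cases j <;> cases j' <;> simp_all
  refine root_comm D _ _ (fun h0 => ?_) (fun ⟨d, hd⟩ => ?_) _ _
  · rw [hsum, ← zero_zsmul (D.P.root a)] at h0
    have := root_smul_injective D a hc h0
    cases ε <;> simp [hσ] at this
  · rw [hsum] at hd
    obtain ⟨p, hp, h⟩ := exists_factor D a hc (d := d)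
      (by rw [hd, map_zsmul, projR_root_self, zsmul_zero])
    have := root_smul_injective D a hc (hp.symm.trans hd)
    cases ε <;> simp [hσ] at this <;> omega

theorem exists_chamber : ∃ l : D.M →+ ℤ, Chamber D l ∧ 0 < l (D.P.root a) := by
  have hsum : D.P.root c + D.P.root c = (4 : ℤ) • D.P.root a := by
    rw [hc, ← add_zsmul]; norm_num
  have h0 : D.P.root c + D.P.root c ≠ 0 := fun h => by
    rw [hsum, ← zero_zsmul (D.P.root a)] at h
    exact absurd (root_smul_injective D a hc h) (by norm_num)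
  have hab : D.P.root c + D.P.root c ∉ Set.range D.P.root := fun ⟨d, hd⟩ => by
    rw [hsum] at hd
    obtain ⟨p, hp, h⟩ := exists_factor D a hc (d := d)
      (by rw [hd, map_zsmul, projR_root_self, zsmul_zero])
    have := root_smul_injective D a hc (hp.symm.trans hd)
    omega
  obtain ⟨l, hne, hinj, hpos, -⟩ := exists_functional_pair h0 hab
  refine ⟨l, ⟨hinj, hne⟩, ?_⟩
  rw [hc, map_zsmul, smul_eq_mul] at hpos
  omega

end Lattice

section Cell

variable {k : Type u} [Field k] [IsAlgClosed k] {G : Over (Spec (CommRingCat.of k))} [GrpObj G]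
  (D : Red.SplitRed G) (a : D.idx) {c : D.idx} (hc : D.P.root c = (2 : ℤ) • D.P.root a)

local notation "pk" => 𝟙_ (Over (Spec (CommRingCat.of k)))

/-- The products of the two root elements of one sign. -/
noncomputable def pairs (ε : Bool) : Submonoid (pk ⟶ G) where
  carrier := {g | ∃ x y : Γ((pk).left, ⊤),
    g = rp D (rid D a hc ε false) x * rp D (rid D a hc ε true) y}
  one_mem' := ⟨0, 0, by rw [rp_zero, rp_zero, _root_.one_mul]⟩
  mul_mem' := by
    rintro _ _ ⟨x, y, rfl⟩ ⟨x', y', rfl⟩
    refine ⟨x + x', y + y', ?_⟩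
    rw [rp_add, rp_add, _root_.mul_assoc, ← _root_.mul_assoc (rp D (rid D a hc ε true) y),
      rid_comm D a hc ε true false]
    group

theorem list_prod_mem_pairs (ε : Bool) {m : ℕ} (e : Fin m → D.idx) (x : Fin m → Γ((pk).left, ⊤))
    (h : ∀ q, x q ≠ 0 → ∃ j, e q = rid D a hc ε j) :
    (List.ofFn fun q => rp D (e q) (x q)).prod ∈ pairs D a hc ε := by
  refine list_prod_mem fun g hg => ?_
  obtain ⟨q, rfl⟩ := (List.mem_ofFn' _ _).mp hg
  by_cases hx : x q = 0
  · exact ⟨0, 0, by simp only [hx, rp_zero, _root_.one_mul]⟩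
  obtain ⟨j, hj⟩ := h q hx
  cases j
  · exact ⟨x q, 0, by simp only [rp_zero, _root_.mul_one, hj]⟩
  · exact ⟨0, x q, by simp only [rp_zero, _root_.one_mul, hj]⟩

theorem exists_separating_point {n : Lat D a} (hn : n ≠ 0) :
    ∃ s : pk ⟶ Red.DS (Spec (CommRingCat.of k)) (Lat D a), dsFn s n ≠ 1 := by
  obtain ⟨φ, hφ⟩ : ∃ φ : Module.Dual ℤ (Lat D a), φ n ≠ 0 := by
    by_contra h
    push Not at h
    exact hn ((Module.forall_dual_apply_eq_zero_iff ℤ n).1 h)
  obtain ⟨z, hz⟩ := exists_unit_pow_ne_one (X := pk) (sc k) hφ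
  refine ⟨gmPt z ≫ Red.DSmap _ φ.toAddMonoidHom, ?_⟩
  rw [dsFn_DSmap, dsFn_int, show gmU (gmPt z) = z from Units.ext (gmFn_gmPt _)]
  exact fun h => hz (Units.ext h)

/-- Near the unit, the rational points commuting with the kernel of the root lie in its cell. -/
theorem exists_open_cell (ε : Bool) : ∃ V : G.left.Opens,
    (∀ p : 𝟙_ (Over (Spec (CommRingCat.of k))) ⟶ G, p = 1 → Set.range p.left ⊆ V) ∧
    ∀ p : pk ⟶ G, Set.range p.left ⊆ V →
      (∀ s : pk ⟶ Red.DS (Spec (CommRingCat.of k)) (Lat D a),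
        p * (s ≫ kerTorus D a) = (s ≫ kerTorus D a) * p) →
      ∃ y ∈ pairs D a hc (!ε), ∃ (t : pk ⟶ Red.DS _ D.M), ∃ x ∈ pairs D a hc ε, p = y * tpt D t * x := by
  classical
  obtain ⟨l₀, hl₀, hla₀⟩ := exists_chamber D a hc
  obtain ⟨l, hl, hla⟩ : ∃ l : D.M →+ ℤ, Chamber D l ∧
      0 < (if ε then (1 : ℤ) else -1) * l (D.P.root a) := by
    cases ε
    · exact ⟨-l₀, hl₀.neg, by simpa using hla₀⟩
    · exact ⟨l₀, hl₀, by simpa using hla₀⟩
  have hsign : ∀ d, projR D a (D.P.root d) = 0 →
      (0 < l (D.P.root d) → ∃ j, d = rid D a hc ε j) ∧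
      (l (D.P.root d) < 0 → ∃ j, d = rid D a hc (!ε) j) := by
    intro d hd
    obtain ⟨ε', j, rfl⟩ := exists_rid D a hc hd
    rw [root_rid, map_zsmul, smul_eq_mul]
    constructor <;> intro h
    · rcases eq_or_ne ε' ε with rfl | hne
      · exact ⟨j, rfl⟩
      · exfalso; cases ε <;> cases ε' <;> cases j <;> simp_all <;> omega
    · rcases eq_or_ne ε' (!ε) with rfl | hne
      · exact ⟨j, rfl⟩
      · exfalso; cases ε <;> cases ε' <;> cases j <;> simp_all <;> omega
  let ep := posEnum D l
  let en := posEnum D (-l)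
  have hen : ∀ q, l (D.P.root (en q)) < 0 := fun q => by
    have := posEnum_pos (D := D) (l := -l) q
    simp only [AddMonoidHom.neg_apply] at this
    show l (D.P.root (posEnum D (-l) q)) < 0
    omega
  have C := cellData_of_regular D l hl.inj en ep posEnum_injective posEnum_injective hen posEnum_pos
  have : Mono (RedSub.cellMap D en ep) := C.mono_cell
  have hcard : Fintype.card {d // 0 < (-l) (D.P.root d)} + Fintype.card {d // 0 < l (D.P.root d)} =
      Fintype.card D.idx := by
    rw [Fintype.card_congr (Equiv.subtypeEquivRight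
      (p := fun d => 0 < (-l) (D.P.root d)) (q := fun d => ¬ 0 < l (D.P.root d))
      fun d => by have := hl.ne d; simp only [AddMonoidHom.neg_apply]; omega),
      Fintype.card_subtype_compl, Nat.sub_add_cancel (Fintype.card_subtype_le _)]
  have hopen : IsOpenImmersion (cellS D.i (fun q => D.u (en q)) fun q => D.u (ep q)).left :=
    cellMap_open_of_mono D en ep hcard
  refine ⟨(cellS D.i (fun q => D.u (en q)) fun q => D.u (ep q)).left.opensRange, ?_, ?_⟩
  · rintro p rfl
    have := D.maximalTorus.1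
    exact one_range_cell (T := D.T) (fun q => rootHom_gaPt_zero D _) (fun q => rootHom_gaPt_zero D _) this
  intro p hp hcomm
  obtain ⟨w, hw⟩ := exists_factor_of_range (cellS D.i (fun q => D.u (en q)) fun q => D.u (ep q)) p hp
  let yv : Fin _ → Γ((pk).left, ⊤) := fun q => Red.gaFn ((w ≫ fst _ _) ≫ powProj (Red.Ga _) _ q)
  let xv : Fin _ → Γ((pk).left, ⊤) := fun q => Red.gaFn ((w ≫ snd _ _ ≫ snd _ _) ≫ powProj (Red.Ga _) _ q)
  let τ := (w ≫ snd _ _ ≫ fst _ _) ≫ D.split.hom.hom.hom
  let y := (List.ofFn fun q => rp D (en q) (yv q)).prod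
  let x := (List.ofFn fun q => rp D (ep q) (xv q)).prod
  have hdec : p = y * tpt D τ * x := by
    rw [← hw, cellS_pt, prodMap_pt, prodMap_pt, i_eq_tpt, _root_.mul_assoc]
    simp only [y, x, τ, rp, yv, xv, gaPt_gaFn]
  have hzero : ∀ s : pk ⟶ Red.DS (Spec (CommRingCat.of k)) (Lat D a),
      (∀ q, dsFn s (projR D a (D.P.root (en q))) * yv q = yv q) ∧
        ∀ q, dsFn s (projR D a (D.P.root (ep q))) * xv q = xv q := by
    intro s
    set σ := s ≫ Red.DSmap _ (projR D a) with hσ
    let w' : pk ⟶ RedSub.pow (Red.Ga _) _ ⊗ (D.T ⊗ RedSub.pow (Red.Ga _) _) :=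
      lift (powTuple fun q => gaPt (dsFn s (projR D a (D.P.root (en q))) * yv q))
        (lift (w ≫ snd _ _ ≫ fst _ _) (powTuple fun q => gaPt (dsFn s (projR D a (D.P.root (ep q))) * xv q)))
    have hw' : w' ≫ cellS D.i (fun q => D.u (en q)) (fun q => D.u (ep q)) = p := by
      have hsw := hcomm s
      rw [kerTorus_pt, ← hσ] at hsw
      have h1 : p = tpt D σ * p * (tpt D σ)⁻¹ := by rw [← hsw]; group
      have hy : tpt D σ * y * (tpt D σ)⁻¹ =
          (List.ofFn fun q => rp D (en q) (dsFn σ (D.P.root (en q)) * yv q)).prod := by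
        simp only [y, conj_list_prod, tpt_conj_rp]
      have hx : tpt D σ * x * (tpt D σ)⁻¹ =
          (List.ofFn fun q => rp D (ep q) (dsFn σ (D.P.root (ep q)) * xv q)).prod := by
        simp only [x, conj_list_prod, tpt_conj_rp]
      rw [h1, hdec, show tpt D σ * (y * tpt D τ * x) * (tpt D σ)⁻¹ = (tpt D σ * y * (tpt D σ)⁻¹) *
        (tpt D σ * tpt D τ * (tpt D σ)⁻¹) * (tpt D σ * x * (tpt D σ)⁻¹) by group, hy, hx,
        tpt_comm σ τ, mul_inv_cancel_right, cellS_lift, prodMap_pt, prodMap_pt, i_eq_tpt, _root_.mul_assoc]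
      simp only [powTuple_proj, rp, σ, dsFn_DSmap, τ]
    have e : w' = w := (cancel_mono (RedSub.cellMap D en ep)).1 (hw'.trans hw.symm)
    constructor <;> intro q
    · have := congrArg (fun v => Red.gaFn ((v ≫ fst _ _) ≫ powProj (Red.Ga _) _ q)) e
      simp only [w', lift_fst, powTuple_proj, gaFn_gaPt] at this
      exact this
    · have := congrArg (fun v => Red.gaFn ((v ≫ snd _ _ ≫ snd _ _) ≫ powProj (Red.Ga _) _ q)) e
      simp only [w', lift_snd_assoc, lift_snd, powTuple_proj, gaFn_gaPt] at this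
      exact this
  have hkill : ∀ (d : D.idx) (r : Γ((pk).left, ⊤)),
      (∀ s : pk ⟶ Red.DS (Spec (CommRingCat.of k)) (Lat D a), dsFn s (projR D a (D.P.root d)) * r = r) →
      r ≠ 0 → projR D a (D.P.root d) = 0 := by
    intro d r h hr
    by_contra hn
    obtain ⟨s, hs⟩ := exists_separating_point D a hn
    obtain ⟨u, hu⟩ := (isUnit_or_eq_zero (sc k) r).resolve_right hr
    exact hs (by
      have := h s
      rw [← hu] at this
      exact u.isUnit.mul_eq_right.1 this)
  refine ⟨y, list_prod_mem_pairs D a hc (!ε) en yv fun q hq => ?_, τ, x,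
    list_prod_mem_pairs D a hc ε ep xv fun q hq => ?_, hdec⟩
  · exact (hsign _ (hkill _ _ (fun s => (hzero s).1 q) hq)).2 (hen q)
  · exact (hsign _ (hkill _ _ (fun s => (hzero s).2 q) hq)).1 (posEnum_pos q)

end Cell

end Groth.Agent.RedPts82.RankRed
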