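import Groth.Agent.RedPts82.RankRedLevi
import Groth.Agent.RedPts82.RankRedAlg
import Groth.Agent.RedPts82.SplitSub
import Groth.Agent.RedPts82.SplitNormal
import Groth.Agent.RedPts82.GaNoTorus
import Groth.Agent.AGF80.Luna.Invariant
import Groth.Agent.AGF80.Luna.Perfect

/-!
No root of a split reductive group over an algebraically closed field has a double which is a root: the
algebraic lemma gives a unipotent curve in all Borel subgroups of the centralizer of the connected kernel
of the root.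
-/

set_option autoImplicit false
set_option linter.unusedSectionVars false
set_option linter.style.haveILetI false
set_option backward.isDefEq.respectTransparency.types false
set_option synthInstance.maxHeartbeats 200000

universe u

open CategoryTheory MonoidalCategory CartesianMonoidalCategory MonObj GrpObj AlgebraicGeometry
open CategoryTheory.Limits
open WithConv Matrix Groth.Agent.GMod80

namespace Groth.Agent.RedPts82.RankRed

open AGF80 AlgGrp79 Comod33

section

variable {k : Type u} [Field k] [IsAlgClosed k] {G : Over (Spec (CommRingCat.of k))} [GrpObj G]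
  (D : Red.SplitRed G) (a : D.idx) {c : D.idx} (hc : D.P.root c = (2 : ℤ) • D.P.root a)

local notation "pk" => 𝟙_ (Over (Spec (CommRingCat.of k)))
local notation "Sk" => Spec (CommRingCat.of k)

theorem isTorus_lat : Red.IsTorus (Red.DS Sk (Lat D a)) := by
  obtain ⟨e⟩ := grpIso_DS_of_addEquiv (W := Sk) (Module.finBasis ℤ (Lat D a)).equivFun.toAddEquiv.symm
  let e' : Red.DS Sk (Fin (Module.finrank ℤ (Lat D a)) → ℤ) ≅ Red.DS Sk (Lat D a) := (Grp.forget _).mapIso e
  haveI : IsMonHom e'.hom := e.hom.hom.isMonHom_hom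
  exact UnipRad.isTorus_of_grpIso e' (isTorus_DS_free Sk _)

include hc in
/-- The two coordinates of a product of negative root elements are unique. -/
theorem pair_injective {X : Over Sk} {p q p' q' : Γ(X.left, ⊤)}
    (h : rp D (rid D a hc false false) p * rp D (rid D a hc false true) q =
      rp D (rid D a hc false false) p' * rp D (rid D a hc false true) q') : p = p' ∧ q = q' := by
  obtain ⟨l₀, hl₀, hla⟩ := exists_chamber D a hc
  let l := -l₀
  let w : Fin 2 → ℕ := ![(l (D.P.root (rid D a hc false false))).toNat,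
    (l (D.P.root (rid D a hc false true))).toNat]
  have hval : ∀ j, l (D.P.root (rid D a hc false j)) = (if j then 2 else 1) * l₀ (D.P.root a) := fun j => by
    rw [root_rid, map_zsmul, smul_eq_mul, AddMonoidHom.neg_apply]
    cases j <;> simp
  let e : Fin 2 → D.idx := ![rid D a hc false false, rid D a hc false true]
  have hw : ∀ i, w i = (l (D.P.root (e i))).toNat := fun i => by fin_cases i <;> rfl
  have H := splitRed_weighted D l e (cochar D l) w (fun i i' h => by
      have h1 := hval false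
      have h2 := hval true
      fin_cases i <;> fin_cases i' <;> simp [w] at h h1 h2 ⊢ <;> omega)
    (fun i => by
      have h1 := hval false
      have h2 := hval true
      fin_cases i <;> simp [w] at h1 h2 ⊢ <;> omega)
    (fun i X t x => by
      have hpos : 0 ≤ l (D.P.root (e i)) := by
        have h1 := hval false
        have h2 := hval true
        fin_cases i <;> simp [e] at h1 h2 ⊢ <;> omega
      rw [cochar_conj, hw]
      congr 3
      rw [← dsFn_gm_zpow, Int.toNat_of_nonneg hpos])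
  haveI : IsClosedImmersion (RedSub.prodMap (Red.Ga Sk) 2 fun i => D.u (e i)).left :=
    H.isClosedImmersion D.reductive.1
  haveI : Mono (RedSub.prodMap (Red.Ga Sk) 2 fun i => D.u (e i)) := Over.mono_of_mono_left _
  have hval' : ∀ r s : Γ(X.left, ⊤), (powTuple ![gaPt r, gaPt s] : X ⟶ RedSub.pow (Red.Ga Sk) 2) ≫
      RedSub.prodMap (Red.Ga Sk) 2 (fun i => D.u (e i)) =
      rp D (rid D a hc false false) r * rp D (rid D a hc false true) s := fun r s => by
    rw [prodMap_pt]
    simp only [List.ofFn_succ, List.ofFn_zero, List.prod_cons, List.prod_nil, powTuple_proj, e, rp,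
      Fin.succ_zero_eq_one, Matrix.cons_val_zero, Matrix.cons_val_one, _root_.mul_one]
  have e1 := (cancel_mono _).1 ((hval' p q).trans (h.trans (hval' p' q').symm))
  have h0 := congrArg (fun v => Red.gaFn (v ≫ powProj (Red.Ga Sk) 2 0)) e1
  have h1 := congrArg (fun v => Red.gaFn (v ≫ powProj (Red.Ga Sk) 2 1)) e1
  simp only [powTuple_proj, Matrix.cons_val_zero, Matrix.cons_val_one, gaFn_gaPt] at h0 h1
  exact ⟨h0, h1⟩

/-- A unipotent curve cannot lie in all Borel subgroups of a reductive group. -/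
theorem false_of_curve {C T : Over Sk} [GrpObj C] [GrpObj T] (hC : Red.IsReductiveOver k C) {iT : T ⟶ C}
    (hT : AGF.IsMaxTorus iT) (h : Red.Ga Sk ⟶ C) [IsMonHom h] [Mono h]
    (hpts : ∀ (B : Over Sk) [GrpObj B] (iB : B ⟶ C), Red.IsBorelOver k iB →
      ∀ x : pk ⟶ Red.Ga Sk, ∃ b : pk ⟶ B, b ≫ iB = x ≫ h) : False := by
  obtain ⟨hCa, hCs, hCc, -⟩ := id hC
  haveI := hCa
  haveI := hCs
  obtain ⟨hGs, hGc⟩ := polyGa_base_facts k (Red.Ga Sk) (Iso.refl _)
  haveI := hGs
  haveI := hGc
  haveI : IsReduced (Red.Ga Sk).left := isReduced_of_smooth (Red.Ga Sk).hom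
  haveI : IsAffineHom (Red.Ga Sk).hom := affineHom_ga
  haveI : QuasiCompact (Red.Ga Sk).hom := inferInstance
  haveI : IsClosedImmersion h.left := QuotSub.isClosedImmersion_of_mono h
  have hno : Red.HasNoSubtorus k (Red.Ga Sk) := fun T' _ j _ _ hT' => by
    have h1 : j = 1 := torus_hom_Ga_eq_one hT' j
    have hid : 𝟙 T' = 1 := by rw [← cancel_mono j, MonObj.one_comp j, Category.id_comp, h1]
    refine ⟨η[T'].left, ?_, Over.w η[T']⟩
    have := congrArg CommaMorphism.left hid
    rw [Hom.one_def] at this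
    exact this.symm
  have htriv : Red.IsTrivialGrp (Red.Ga Sk) := ReductiveCent.unip_trivial hC hT h hno fun B _ iB t hB _ => by
    haveI := hB.2.1
    exact BorelCor.exists_factor_of_pts h iB fun p => hpts B iB hB p
  haveI : IsIso (Red.Ga Sk).hom := htriv
  have h01 : gaPt (X := pk) 0 = gaPt 1 := Over.OverMorphism.ext (by
    rw [← cancel_mono (Red.Ga Sk).hom, Over.w, Over.w])
  have h2 := congrArg Red.gaFn h01
  rw [gaFn_gaPt, gaFn_gaPt, ← map_zero (sc k), ← map_one (sc k)] at h2
  exact zero_ne_one ((sc k).injective h2)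

set_option maxHeartbeats 1000000 in
include hc in
/-- No root has a double which is a root. -/
theorem false_of_double_root : False := by
  classical
  haveI := isMonHom_kerTorus D a
  haveI := mono_kerTorus D a
  have hG := Luna.isReductiveOver_of D.reductive
  obtain ⟨hGa, hGs, hGc, -⟩ := id hG
  haveI := hGa
  haveI := hGs
  haveI := hGc
  haveI : IsClosedImmersion (kerTorus D a).left :=
    BorelCor.isClosedImmersion_torus G (isTorus_lat D a) (kerTorus D a)
  obtain ⟨C, _, cC, hcent, hcl, hCs⟩ :=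
    (Groth.Agent.S3006.result _ G _ (kerTorus D a) inferInstance (isTorus_lat D a)).1
  obtain ⟨hcm, hcmono, hciff⟩ := id hcent
  haveI := hcm
  haveI := hcmono
  haveI := hcl
  haveI := hCs
  haveI : IsAffine C.left := isAffine_of_isAffineHom cC.left
  have hCred := ReductiveCent.isReductiveOver_centralizer hG (kerTorus D a) (isTorus_lat D a) hcent
  haveI : ConnectedSpace C.left := hCred.2.2.1
  -- root groups and torus of the centralizer
  have hu : ∀ ε j, ∃ h : Red.Ga Sk ⟶ C, IsMonHom h ∧ h ≫ cC = D.u (rid D a hc ε j) := fun ε j => by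
    obtain ⟨h, hh⟩ := (hciff _ (D.u (rid D a hc ε j))).2 fun X x s => by
      rw [← gaPt_gaFn x]
      exact kerTorus_comm_rp D a (projR_rid D a hc ε j) s _
    haveI := (D.rootHom (rid D a hc ε j)).1
    exact ⟨h, BorelCor.isMonHom_factor h cC _ hh, hh⟩
  choose uC huCm huC using hu
  haveI := D.maximalTorus.1
  obtain ⟨jT, hjT⟩ := (hciff _ D.i).2 fun X t s => by
    rw [kerTorus_pt, i_eq_tpt, tpt_comm]
  have hTmax : AGF.IsMaxTorus jT :=
    BorelCor.isMaxTorus_of_factor (Luna.isMaxTorus_of D.maximalTorus) cC jT hjT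
  obtain ⟨hTm, hTmono, hTt, -⟩ := id hTmax
  haveI := hTm
  haveI := hTmono
  obtain ⟨hTs, _, hTa, hTc, hTcm⟩ := AlgGrp33.IsogSub.torus_props hTt
  haveI := hTs
  haveI := hTa
  haveI : IsClosedImmersion jT.left := BorelCor.isClosedImmersion_torus C hTt jT
  obtain ⟨B, _, iB, tB, hB, htB⟩ := BorelCor.exists_borel_ge C jT (BorelCor.isSolvableGrp_torus hTt)
  obtain ⟨_, _, _, _, hsB, -⟩ := id hB
  haveI : IsAffine B.left := isAffine_of_isAffineHom iB.left
  haveI : Mono iB := Over.mono_of_mono_left iB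
  obtain ⟨A, _, _, ψ, _⟩ := GMod80.exists_coord C
  obtain ⟨A', _, _, ψB, _⟩ := GMod80.exists_coord B
  obtain ⟨DT, _, _, ψT, _⟩ := GMod80.exists_coord D.T
  haveI : Algebra.FiniteType k A := GMod80.finiteType ψ
  haveI : Algebra.FiniteType k DT := GMod80.finiteType ψT
  haveI : IsDomain DT := by
    haveI := Hopf35.TorDom.isDomain_tensor ψT hTt k
    exact (Algebra.TensorProduct.lid k DT).symm.toMulEquiv.isDomain _
  have hD : HopfRep.IsDiagonalizable k DT := by
    obtain ⟨hco, hprim⟩ := (Groth.Agent.S7979.result k DT).1 (AlgGrp33.isDiagonalizable_of_isTorus ψT hTt)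
    haveI := hco
    exact Comod33.Diag.isDiagonalizable_of_no_prim fun x hx => hprim x hx
  haveI : IsReduced C.left := isReduced_of_smooth C.hom
  haveI : IrreducibleSpace C.left := by
    have hirr := (Grp57.connectedComponent_unit C).1
    rw [PreconnectedSpace.connectedComponent_eq_univ] at hirr
    exact { isPreirreducible_univ := hirr.2, toNonempty := inferInstance }
  haveI : IsIntegral C.left := isIntegral_of_irreducibleSpace_of_isReduced _
  haveI : IsDomain A := (fn ψ).toMulEquiv.isDomain _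
  obtain ⟨N, cm, v, ℓ, hcm', hv, hspan, hdiag, hstab⟩ :=
    Luna.exists_rep hD (pullBialg ψ ψB iB) (GMod80.pull_surjective ψ ψB iB) (pullBialg ψ ψT jT)
  have hstab' : ∀ g : Conn.Pt k A,
      (∃ b : pk ⟶ B, b ≫ iB = ToriConj.ev ψ g) ↔ ∃ r : k, Luna.mat cm g *ᵥ v = r • v := fun g => by
    refine Iff.trans ⟨?_, ?_⟩ (hstab g)
    · rintro ⟨b, hb⟩
      obtain ⟨h, rfl⟩ := ToriConj.ev_surjective ψB b
      exact ⟨h, ToriConj.ev_injective ψ ((CentTorus.ev_comp ψ ψB iB h).symm.trans hb)⟩
    · rintro ⟨h, rfl⟩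
      exact ⟨_, CentTorus.ev_comp ψ ψB iB h⟩
  have hcone : Luna.ConeClosed cm v := Luna.coneClosed ψ iB hB hcm' hv fun g hg => (hstab' g).1 hg
  let toG : Conn.Pt k A →* (pk ⟶ G) :=
    (MonoidHom.mk' (fun g : pk ⟶ C => g ≫ cC) fun g h => MonObj.mul_comp g h cC).comp (ToriConj.ev ψ)
  have toG_apply : ∀ g, toG g = ToriConj.ev ψ g ≫ cC := fun g => rfl
  have toG_inj : Function.Injective toG := fun g h e =>
    ToriConj.ev_injective ψ ((cancel_mono cC).1 e)
  let R : Conn.Pt k A →* Matrix (Fin (N + 1)) (Fin (N + 1)) k :=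
    { toFun := Luna.mat cm
      map_one' := Luna.mat_one hcm'
      map_mul' := Luna.mat_mul hcm' }
  let T : Subgroup (Conn.Pt k A) :=
    { carrier := {g | ∃ t : pk ⟶ Red.DS Sk D.M, tpt D t = toG g}
      one_mem' := ⟨1, by rw [tpt_one, map_one]⟩
      mul_mem' := fun {g g'} hg hg' => by
        obtain ⟨t, ht⟩ := hg
        obtain ⟨t', ht'⟩ := hg'
        exact ⟨t * t', by rw [tpt_mul, ht, ht', map_mul]⟩
      inv_mem' := fun {g} hg => by
        obtain ⟨t, ht⟩ := hg
        exact ⟨t⁻¹, by rw [tpt_inv, ht, map_inv]⟩ }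
  have memT : ∀ g, g ∈ T ↔ ∃ t, tpt D t = toG g := fun g => Iff.rfl
  have memT' : ∀ g, g ∈ T ↔ ∃ p : pk ⟶ D.T, p ≫ jT = ToriConj.ev ψ g := fun g => by
    rw [memT]
    constructor
    · rintro ⟨t, ht⟩
      refine ⟨t ≫ D.split.inv.hom.hom, (cancel_mono cC).1 ?_⟩
      rw [Category.assoc, Category.assoc, hjT, ← toG_apply, ← ht]
      rfl
    · rintro ⟨p, hp⟩
      exact ⟨p ≫ D.split.hom.hom.hom, by rw [← i_eq_tpt, toG_apply, ← hp, Category.assoc, hjT]⟩
  have hTS : ∀ g, g ∈ T ↔ g ∈ Set.range (HopfFlat.restrPts (pullBialg ψ ψT jT)) := fun g => by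
    rw [memT']
    constructor
    · rintro ⟨p, hp⟩
      obtain ⟨h, rfl⟩ := ToriConj.ev_surjective ψT p
      exact ⟨h, ToriConj.ev_injective ψ ((CentTorus.ev_comp ψ ψT jT h).symm.trans hp)⟩
    · rintro ⟨h, rfl⟩
      exact ⟨_, CentTorus.ev_comp ψ ψT jT h⟩
  have liftT : ∀ t : pk ⟶ Red.DS Sk D.M, ∃ g, toG g = tpt D t := fun t => by
    obtain ⟨g, hg⟩ := ToriConj.ev_surjective ψ ((t ≫ D.split.inv.hom.hom) ≫ jT)
    exact ⟨g, by rw [toG_apply, hg, Category.assoc, Category.assoc, hjT]; rfl⟩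
  choose lft hlft using liftT
  let χ : Conn.Pt k A → kˣ := fun g =>
    if h : ∃ t, tpt D t = toG g then
      Units.map (sc k).symm.toMonoidHom (dsFn_isUnit h.choose (D.P.root a)).unit
    else 1
  have hχ : ∀ g t, tpt D t = toG g → sc k (χ g : k) = dsFn t (D.P.root a) := fun g t ht => by
    have h : ∃ t, tpt D t = toG g := ⟨t, ht⟩
    simp only [χ, dif_pos h]
    rw [show h.choose = t from tpt_injective (h.choose_spec.trans ht.symm)]
    exact (sc k).apply_symm_apply _
  -- the one-parameter subgroup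
  let lam : Red.Gm Sk ⟶ Red.DS Sk D.M := Red.DSmap Sk (D.P.coroot a).toAddMonoidHom
  let su : kˣ →* Γ((pk).left, ⊤)ˣ := Units.map (sc k).toMonoidHom
  have hlam : ∀ (s : kˣ) m, dsFn (gmPt (su s) ≫ lam) m = sc k ((s ^ D.P.coroot a m : kˣ) : k) := fun s m => by
    rw [dsFn_DSmap, dsFn_int, show gmU (gmPt (su s)) = su s from Units.ext (gmFn_gmPt _), ← map_zpow]
    rfl
  let lp : kˣ → Conn.Pt k A := fun s => lft (gmPt (su s) ≫ lam)
  have hlpT : ∀ s, lp s ∈ T := fun s => (memT _).2 ⟨_, (hlft _).symm⟩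
  let lph : kˣ →* Conn.Pt k A := MonoidHom.mk' lp fun s s' => toG_inj (by
    rw [map_mul, hlft, hlft, hlft, ← tpt_mul]
    refine congrArg (tpt D) (dsFn_injective fun m => ?_)
    rw [dsFn_mul, hlam, hlam, hlam, ← map_mul, mul_zpow, Units.val_mul])
  have hdiagT : ∀ t ∈ T, ∀ i l, i ≠ l → Luna.mat cm t i l = 0 := fun t ht i l hil => by
    obtain ⟨d, hd, -⟩ := hdiag.diag t ((hTS t).1 ht)
    rw [hd, Matrix.diagonal_apply_ne _ hil]
  have hwt : ∀ i, ∃ e : ℤ, ∀ s, R (lp s) i i = ((s ^ e : kˣ) : k) := by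
    intro i
    let φ : kˣ →* k :=
      { toFun := fun s => R (lp s) i i
        map_one' := by
          show R (lph 1) i i = 1
          rw [map_one, map_one, Matrix.one_apply_eq]
        map_mul' := fun s s' => by
          show R (lph (s * s')) i i = R (lph s) i i * R (lph s') i i
          rw [map_mul, map_mul, Matrix.mul_apply, Finset.sum_eq_single i
            (fun l _ hl => by rw [show R (lph s) i l = 0 from hdiagT _ (hlpT s) i l (Ne.symm hl), zero_mul])
            fun h => absurd (Finset.mem_univ i) h] }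
    exact exists_weight ψ (lam ≫ D.split.inv.hom.hom ≫ jT) (cm i i) φ fun s => ⟨lp s, by
      refine (cancel_mono cC).1 ((hlft _).trans ?_)
      simp only [tpt, Category.assoc, hjT]; rfl, rfl⟩
  choose e he using hwt
  -- root curves
  let U : Bool → Bool → k → Conn.Pt k A := fun ε j x =>
    (ToriConj.ev_surjective ψ (gaPt (sc k x) ≫ uC ε j)).choose
  have hevU : ∀ ε j x, ToriConj.ev ψ (U ε j x) = gaPt (sc k x) ≫ uC ε j := fun ε j x =>
    (ToriConj.ev_surjective ψ (gaPt (sc k x) ≫ uC ε j)).choose_spec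
  have hU : ∀ ε j x, toG (U ε j x) = rp D (rid D a hc ε j) (sc k x) := fun ε j x => by
    simp only [toG_apply, hevU, Category.assoc, huC, rp]
  have hlimit : ∀ (g : Conn.Pt k A) (ν : Fin (N + 1) → ℤ) (m₀ : ℤ),
      (∀ s : k, s ≠ 0 → ∃ t : Conn.Pt k A, Luna.mat cm t = diagonal fun i => s ^ ν i) →
      (∀ i, (R g *ᵥ v) i ≠ 0 → m₀ ≤ ν i) →
      ∃ (g' : Conn.Pt k A) (r : k), (fun l => if ν l = m₀ then (R g *ᵥ v) l else 0) = r • (R g' *ᵥ v) :=
    fun g ν m₀ hcur hm₀ => Luna.limit_mem hcm' hcone ν hcur ⟨g, 1, (one_smul k _).symm⟩ m₀ hm₀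
  have hlpmat : ∀ s, R (lp s) = diagonal fun i => ((s ^ e i : kˣ) : k) := fun s => by
    ext i l
    rcases eq_or_ne i l with rfl | hil
    · rw [Matrix.diagonal_apply_eq, he]
    · rw [Matrix.diagonal_apply_ne _ hil]; exact hdiagT _ (hlpT s) i l hil
  have hcur : ∀ ν : Fin (N + 1) → ℤ, (ν = e ∨ ν = fun i => -e i) →
      ∀ s : k, s ≠ 0 → ∃ t : Conn.Pt k A, Luna.mat cm t = diagonal fun i => s ^ ν i := by
    rintro ν (rfl | rfl) s hs
    · exact ⟨lp (Units.mk0 s hs), (hlpmat _).trans (by simp)⟩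
    · exact ⟨lp (Units.mk0 s hs)⁻¹, (hlpmat _).trans (by simp)⟩
  have hfixed : ∀ (g : Conn.Pt k A) (p : ℤ), (∀ i, (R g *ᵥ v) i ≠ 0 → e i = p) →
      ∃ h, (∀ t, t ∈ T ↔ h * t * h⁻¹ ∈ T) ∧ (∀ i, (R h *ᵥ v) i ≠ 0 → e i = p) ∧
        ∀ t ∈ T, ∃ r : k, R t *ᵥ (R h *ᵥ v) = r • (R h *ᵥ v) := by
    intro g p hg
    obtain ⟨i₁, hi₁⟩ := Function.ne_iff.1 (vec_ne_zero (R := R) g hv)
    obtain ⟨i₂, hi₂, hmin⟩ := (Finset.univ.filter fun i => (R g *ᵥ v) i ≠ 0).exists_min_image ℓ
      ⟨i₁, by simpa using hi₁⟩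
    have hi₂' : (R g *ᵥ v) i₂ ≠ 0 := (Finset.mem_filter.1 hi₂).2
    obtain ⟨g', r, hgr⟩ := hlimit g ℓ (ℓ i₂) (fun s hs => let ⟨t, _, ht⟩ := hdiag.curve s hs; ⟨t, ht⟩)
      fun i hi => hmin i (by simp [hi])
    have hr : r ≠ 0 := by
      rintro rfl
      exact hi₂' (by simpa using congrFun hgr i₂)
    have hsupp : ∀ i, (R g' *ᵥ v) i ≠ 0 → ℓ i = ℓ i₂ ∧ e i = p := fun i hi => by
      have h1 := congrFun hgr i
      rw [Pi.smul_apply, smul_eq_mul] at h1
      split_ifs at h1 with h2
      · exact ⟨h2, hg i fun h0 => hi ((mul_eq_zero.1 (h1.symm.trans h0)).resolve_left hr)⟩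
      · exact absurd ((mul_eq_zero.1 h1.symm).resolve_left hr) hi
    have heig : ∀ t ∈ T, ∃ q : k, R t *ᵥ (R g' *ᵥ v) = q • (R g' *ᵥ v) := fun t ht =>
      hdiag.eigen (ℓ i₂) (fun i hi => (hsupp i hi).1) t ((hTS t).1 ht)
    obtain ⟨Idx, _, n, hn, hrep⟩ := Luna.exists_normalizer_reps C hTmax hB tB htB
    obtain ⟨i, b, hb⟩ := hrep (ToriConj.ev ψ g') fun s => by
      obtain ⟨t, ht⟩ := ToriConj.ev_surjective ψ (s ≫ jT)
      obtain ⟨q, hq⟩ := heig t ((memT' t).2 ⟨s, ht.symm⟩)
      obtain ⟨b, hb⟩ := (hstab' (g'⁻¹ * t * g')).2 ⟨q, by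
        show R (g'⁻¹ * t * g') *ᵥ v = _
        rw [R_mul_vec, R_mul_vec, hq, mulVec_smul, R_inv_mul]⟩
      exact ⟨b, by rw [hb, map_mul, map_mul, map_inv, ht]⟩
    obtain ⟨nn, hnn⟩ := ToriConj.ev_surjective ψ (n i)
    obtain ⟨bb, hbb⟩ := ToriConj.ev_surjective ψ (b ≫ iB)
    obtain ⟨q, hq⟩ := (hstab' bb).1 ⟨b, hbb.symm⟩
    have hgb : g' = nn * bb := ToriConj.ev_injective ψ (by rw [map_mul, hnn, hbb, hb])
    have hgv : R g' *ᵥ v = q • (R nn *ᵥ v) := by
      rw [hgb, R_mul_vec, show R bb *ᵥ v = q • v from hq, mulVec_smul]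
    have hq0 : q ≠ 0 := fun h0 => vec_ne_zero (R := R) g' hv (by rw [hgv, h0, zero_smul])
    obtain ⟨σ, hσ⟩ := hn i
    refine ⟨nn, fun t => ?_, fun i hi => (hsupp i (by rw [hgv]; exact smul_ne_zero hq0 hi)).2, fun t ht => ?_⟩
    · rw [memT', memT', map_mul, map_mul, map_inv, hnn]
      constructor
      · rintro ⟨p, hp⟩
        exact ⟨p ≫ σ.hom, by rw [Category.assoc, hσ, BorelTori.pt_comp_conjBy, hp]⟩
      · rintro ⟨p, hp⟩
        have h1 : (p ≫ σ.inv) ≫ σ.hom ≫ jT = n i * ((p ≫ σ.inv) ≫ jT) * (n i)⁻¹ := by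
          rw [hσ, BorelTori.pt_comp_conjBy]
        rw [Category.assoc, Iso.inv_hom_id_assoc, hp] at h1
        exact ⟨p ≫ σ.inv, mul_left_cancel (mul_right_cancel h1.symm)⟩
    · obtain ⟨r', hr'⟩ := heig t ht
      rw [hgv, mulVec_smul, smul_comm] at hr'
      exact ⟨r', smul_right_injective _ hq0 hr'⟩
  have hpairs : ∀ (ε : Bool) (g : pk ⟶ G), g ∈ pairs D a hc ε →
      ∃ x₁ x₂ : k, g = toG (U ε false x₁ * U ε true x₂) := by
    rintro ε g ⟨x, y, rfl⟩
    exact ⟨(sc k).symm x, (sc k).symm y, by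
      rw [map_mul, hU, hU, RingEquiv.apply_symm_apply, RingEquiv.apply_symm_apply]⟩
  have H : Sys R T χ lp e U v :=
    { lp_mem := hlpT
      lp_mat := hlpmat
      χ_lp := fun s => Units.ext ((sc k).injective (by
        rw [hχ _ _ (hlft _).symm, hlam, pairing_eq_coroot, RootPairing.pairing_same, zpow_two]))
      conj := fun t ht ε j x => toG_inj (by
        obtain ⟨t', ht'⟩ := (memT t).1 ht
        rw [map_mul, map_mul, map_inv, hU, hU, ← ht', tpt_conj_rp, root_rid, dsFn_zsmul, map_mul]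
        congr 2
        have h1 : (dsFn_isUnit t' (D.P.root a)).unit = su (χ t) := Units.ext (hχ t t' ht').symm
        rw [h1, ← map_zpow]
        rfl)
      zero := fun ε j => toG_inj (by rw [hU, map_zero, rp_zero, map_one])
      poly := fun ε j => by
        choose P hP using fun i l => exists_poly_pts ψ (uC ε j) (cm i l)
        exact ⟨P, fun x i l => hP i l x _ (hevU ε j x)⟩
      comm := fun x y => toG_inj (by simp only [map_mul, hU]; exact rid_comm D a hc false false true _ _)
      comm_self := fun ε j x y => toG_inj (by simp only [map_mul, hU]; exact rid_comm D a hc ε j j _ _)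
      span := hspan
      ne := hv
      dense := fun ε f hf g => by
        let a₀ : A := ∑ i, ∑ l, f (Matrix.single i l 1) • cm i l
        have ha₀ : ∀ g : Conn.Pt k A, f (R g) = g.ofConv a₀ := fun g => by
          conv_lhs => rw [Matrix.matrix_eq_sum_single (R g)]
          simp only [map_sum, a₀, map_smul, smul_eq_mul]
          refine Finset.sum_congr rfl fun i _ => Finset.sum_congr rfl fun l _ => ?_
          rw [show Matrix.single i l (R g i l) = R g i l • Matrix.single i l (1 : k) by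
            rw [Matrix.smul_single, smul_eq_mul, _root_.mul_one], map_smul, smul_eq_mul, _root_.mul_comm]
          rfl
        obtain ⟨V, hV1, hV⟩ := exists_open_cell D a hc ε
        have hzero : a₀ = 0 := eq_zero_of_open ψ (cC.left ⁻¹ᵁ V)
          ⟨(1 : pk ⟶ C).left (IsLocalRing.closedPoint k), hV1 ((1 : pk ⟶ C) ≫ cC) (MonObj.one_comp cC)
            ⟨IsLocalRing.closedPoint k, rfl⟩⟩ a₀ fun q hq => by
          have hrange : Set.range (toG q).left ⊆ V := by
            rintro _ ⟨z, rfl⟩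
            exact hq ⟨z, rfl⟩
          obtain ⟨y, hy, t, x, hx, hyx⟩ := hV (toG q) hrange fun s => by
            have := (hciff _ (toG q)).1 ⟨ToriConj.ev ψ q, rfl⟩ _ (𝟙 _) s
            rwa [Category.id_comp] at this
          obtain ⟨y₁, y₂, rfl⟩ := hpairs _ y hy
          obtain ⟨x₁, x₂, rfl⟩ := hpairs _ x hx
          rw [← hlft, ← map_mul, ← map_mul] at hyx
          rw [← ha₀, toG_inj hyx]
          exact hf y₁ y₂ x₁ x₂ (lft t) ((memT _).2 ⟨t, (hlft t).symm⟩)
        rw [ha₀, hzero, map_zero]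
      limit := fun g ν m₀ hν hm₀ i hi him₀ => hlimit g ν m₀ (hcur ν hν) hm₀
      fixed := hfixed }
  obtain ⟨y, z, hyz, hker⟩ := H.exists_kernel
  let K : k → k → Prop := fun y z => R (U false false y * U false true z) = 1
  have hpair : ∀ y z y' z', U false false (y + y') * U false true (z + z') =
      (U false false y * U false true z) * (U false false y' * U false true z') := fun y z y' z' => toG_inj (by
    simp only [map_mul, hU, map_add, rp_add]
    rw [_root_.mul_assoc (rp D _ (sc k y)) (rp D _ (sc k z)), ← _root_.mul_assoc (rp D _ (sc k z)),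
      rid_comm D a hc false true false]
    group)
  have hzero : ∀ j, U false j 0 = 1 := fun j => H.zero false j
  have hK0 : K 0 0 := by simp only [K, hzero, _root_.mul_one, map_one]
  have hadd : ∀ y z y' z', K y z → K y' z' → K (y + y') (z + z') := fun y z y' z' h h' => by
    simp only [K] at h h' ⊢
    rw [hpair, map_mul, h, h', _root_.one_mul]
  have hneg : ∀ y z, K y z → K (-y) (-z) := fun y z h => by
    simp only [K] at h ⊢
    have h1 := hpair y z (-y) (-z)
    rw [add_neg_cancel, add_neg_cancel, hzero, hzero, _root_.one_mul] at h1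
    have h2 := congrArg R h1
    rw [map_one, map_mul R (U false false y * U false true z), h, _root_.one_mul] at h2
    exact h2.symm
  have hscale : ∀ (σ : k), σ ≠ 0 → ∀ y z, K y z → K (σ * y) (σ * σ * z) := fun σ hσ y z h => by
    obtain ⟨r, hr⟩ := IsAlgClosed.exists_pow_nat_eq σ⁻¹ two_pos
    have hr0 : r ≠ 0 := fun h0 => inv_ne_zero hσ (by rw [← hr, h0, zero_pow two_ne_zero])
    let s : kˣ := Units.mk0 r hr0
    have e1 := H.conj (lp s) (hlpT s) false false y
    have e2 := H.conj (lp s) (hlpT s) false true z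
    have hs : (s * s) ^ (-1 : ℤ) = Units.mk0 σ hσ := Units.ext (by
      simp [s, ← sq, hr])
    have hs2 : (s * s) ^ (-2 : ℤ) = Units.mk0 σ hσ * Units.mk0 σ hσ := by
      rw [← hs, ← _root_.zpow_add]; rfl
    simp only [H.χ_lp, Bool.false_eq_true, ↓reduceIte, _root_.mul_one, neg_mul, _root_.one_mul] at e1 e2
    rw [hs] at e1
    rw [hs2, Units.val_mul] at e2
    simp only [K] at h ⊢
    rw [← show (Units.mk0 σ hσ : k) = σ from rfl, ← e1, ← e2,
      show lp s * U false false y * (lp s)⁻¹ * (lp s * U false true z * (lp s)⁻¹) =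
        lp s * (U false false y * U false true z) * (lp s)⁻¹ by group, map_mul, map_mul, h, _root_.mul_one,
      ← map_mul, mul_inv_cancel, map_one]
  -- points acting trivially lie in every Borel subgroup
  have hborel : ∀ (B' : Over Sk) [GrpObj B'] (iB' : B' ⟶ C), Red.IsBorelOver k iB' →
      ∀ y z, K y z → ∃ b : pk ⟶ B', b ≫ iB' = ToriConj.ev ψ (U false false y * U false true z) := by
    intro B' _ iB' hB' y z hyz
    obtain ⟨m, f, hf⟩ := BorelConj.borel_conj C B B' iB iB' hB hB'
    obtain ⟨g, rfl⟩ := ToriConj.ev_surjective ψ m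
    simp only [K] at hyz
    obtain ⟨b, hb⟩ := (hstab' (g⁻¹ * (U false false y * U false true z) * g)).2 ⟨1, by
      show R (g⁻¹ * (U false false y * U false true z) * g) *ᵥ v = _
      rw [map_mul, map_mul, hyz, _root_.mul_one, ← map_mul, inv_mul_cancel, map_one, one_mulVec, one_smul]⟩
    refine ⟨b ≫ f.hom, ?_⟩
    rw [Category.assoc, hf, BorelTori.pt_comp_conjBy, hb]
    simp only [map_mul, map_inv]
    group
  have hax : ∀ w : k, w ≠ 0 → K 0 w → False := fun w hw hKw => by
    haveI := huCm false true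
    haveI : IsClosedImmersion (D.u (rid D a hc false true)).left := (D.rootHom _).2.1
    haveI : Mono (D.u (rid D a hc false true)) := Over.mono_of_mono_left _
    haveI : Mono (uC false true ≫ cC) := by rw [huC]; infer_instance
    haveI : Mono (uC false true) := mono_of_mono _ cC
    refine false_of_curve hCred hTmax (uC false true) fun B' _ iB' hB' x => ?_
    have hKx : K 0 ((sc k).symm (Red.gaFn x)) := by
      rcases eq_or_ne ((sc k).symm (Red.gaFn x)) 0 with h0 | h0
      · rw [h0]; exact hK0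
      obtain ⟨σ, hσ⟩ := IsAlgClosed.exists_pow_nat_eq ((sc k).symm (Red.gaFn x) / w) two_pos
      have hσ0 : σ ≠ 0 := fun h1 => div_ne_zero h0 hw (by rw [← hσ, h1, zero_pow two_ne_zero])
      have := hscale σ hσ0 0 w hKw
      rwa [mul_zero, ← sq, hσ, div_mul_cancel₀ _ hw] at this
    obtain ⟨b, hb⟩ := hborel B' iB' hB' _ _ hKx
    refine ⟨b, hb.trans ?_⟩
    rw [hzero, _root_.one_mul, hevU, RingEquiv.apply_symm_apply, gaPt_gaFn]
  by_cases hy : y = 0
  · exact hax z (hyz.resolve_left fun h => h hy) (hy ▸ hker)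
  have h2z : (2 : k) * z = 0 := by
    by_contra h2z
    have h2 : (2 : k) ≠ 0 := left_ne_zero_of_mul h2z
    have h := hadd _ _ _ _ (hadd _ _ _ _ hker hker) (hneg _ _ (hscale 2 h2 y z hker))
    rw [show y + y + -(2 * y) = 0 by ring, show z + z + -(2 * 2 * z) = -(2 * z) by ring] at h
    exact hax _ (neg_ne_zero.2 h2z) h
  -- the curve `x ↦ (x y, x² z)` is a homomorphism
  haveI := huCm false false
  haveI := huCm false true
  let cs : k → ∀ X : Over Sk, Γ(X.left, ⊤) := fun r X => (toUnit X).left.appTop.hom (sc k r)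
  let h : Red.Ga Sk ⟶ C := (gaPt (cs y _ * Red.gaFn (𝟙 (Red.Ga Sk))) ≫ uC false false) *
    (gaPt (cs z _ * Red.gaFn (𝟙 (Red.Ga Sk)) ^ 2) ≫ uC false true)
  have hcs : ∀ (r : k) {X Y : Over Sk} (p : X ⟶ Y), p.left.appTop.hom (cs r Y) = cs r X := fun r X Y p => by
    simp only [cs]
    rw [← CommRingCat.comp_apply, ← Scheme.Hom.comp_appTop, ← Over.comp_left, toUnit_unique (p ≫ toUnit Y) (toUnit X)]
  have hh : ∀ (X : Over Sk) (x : X ⟶ Red.Ga Sk), (x ≫ h) ≫ cC =
      rp D (rid D a hc false false) (cs y X * Red.gaFn x) *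
        rp D (rid D a hc false true) (cs z X * Red.gaFn x ^ 2) := fun X x => by
    simp only [h, MonObj.comp_mul, MonObj.mul_comp, Category.assoc, huC]
    rw [← Category.assoc x, ← Category.assoc x, comp_gaPt, comp_gaPt, map_mul, map_mul, map_pow, hcs, hcs,
      ← gaFn_comp, Category.comp_id]
  have h2X : ∀ X : Over Sk, (2 : Γ(X.left, ⊤)) * cs z X = 0 := fun X => by
    simp only [cs]
    rw [← map_ofNat ((toUnit X).left.appTop.hom.comp (sc k).toRingHom) 2]
    show (toUnit X).left.appTop.hom (sc k 2) * (toUnit X).left.appTop.hom (sc k z) = 0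
    rw [← map_mul, ← map_mul, h2z, map_zero, map_zero]
  haveI : IsMonHom h := AlgGrp79.isMonHom_of_forall _ fun X x x' => by
    rw [← cancel_mono cC, MonObj.mul_comp _ _ cC, hh, hh, hh]
    rw [show Red.gaFn (x * x') = Red.gaFn x + Red.gaFn x' from gaFn_mul x x',
      show cs z X * (Red.gaFn x + Red.gaFn x') ^ 2 = cs z X * Red.gaFn x ^ 2 + cs z X * Red.gaFn x' ^ 2 by
        linear_combination Red.gaFn x * Red.gaFn x' * h2X X,
      mul_add, rp_add, rp_add, _root_.mul_assoc (rp D _ (cs y X * Red.gaFn x)) (rp D _ (cs z X * Red.gaFn x ^ 2)),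
      ← _root_.mul_assoc (rp D _ (cs z X * Red.gaFn x ^ 2)), rid_comm D a hc false true false]
    group
  haveI : Mono h := ⟨fun {X} x x' e => by
    have e' := congrArg (· ≫ cC) e
    simp only [hh] at e'
    have h1 := (pair_injective D a hc e').1
    have hu : IsUnit (cs y X) := ((Ne.isUnit hy).map (sc k)).map _
    exact gaFn_injective (hu.mul_left_cancel h1)⟩
  refine false_of_curve hCred hTmax h fun B' _ iB' hB' x => ?_
  obtain ⟨r, rfl⟩ : ∃ r : k, gaPt (sc k r) = x := ⟨(sc k).symm (Red.gaFn x), by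
    rw [RingEquiv.apply_symm_apply, gaPt_gaFn]⟩
  have hKr : K (r * y) (r * r * z) := by
    rcases eq_or_ne r 0 with rfl | hr
    · simpa using hK0
    · exact hscale r hr y z hker
  obtain ⟨b, hb⟩ := hborel B' iB' hB' _ _ hKr
  refine ⟨b, hb.trans ((cancel_mono cC).1 ?_)⟩
  rw [hh, ← toG_apply, map_mul, hU, hU, gaFn_gaPt]
  have hcs0 : ∀ r' : k, cs r' pk = sc k r' := fun r' => by
    simp only [cs, toUnit_unique (toUnit pk) (𝟙 _), Over.id_left, Scheme.Hom.id_appTop]
    rfl
  rw [hcs0, hcs0]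
  congr 2 <;> simp only [map_mul] <;> ring

end

end Groth.Agent.RedPts82.RankRed
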