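import Groth.Agent.RedPts82.RootComb

/-!
The number of inverted positive roots is the length.
-/

open Set Function RootPairing

namespace Groth.Agent.RedPts82

variable {idx M N : Type} [AddCommGroup M] [AddCommGroup N] {P : RootPairing idx ℤ M N}

/-- Positive roots inverted by a permutation. -/
def invSet (b : P.Base) (w : Equiv.Perm idx) : Set idx := {a | b.IsPos a ∧ ¬ b.IsPos (w a)}

theorem wordPerm_singleton (a : idx) : RedSub.wordPerm P [a] = P.reflectionPerm a := by
  simp [RedSub.wordPerm]

variable [Finite idx] [P.IsReduced] (b : P.Base)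

theorem invSet_mul_le (w : Equiv.Perm idx) {a : idx} (ha : a ∈ b.support) :
    (invSet b (w * P.reflectionPerm a)).ncard ≤ (invSet b w).ncard + 1 := by
  have hsub : invSet b (w * P.reflectionPerm a) ⊆
      insert a (P.reflectionPerm a '' invSet b w) := fun x hx => by
    by_cases hxa : x = a
    · exact Or.inl hxa
    · refine Or.inr ⟨P.reflectionPerm a x, ⟨hx.1.reflectionPerm ha hxa, ?_⟩, P.reflectionPerm_self a x⟩
      exact hx.2
  refine ((Set.ncard_le_ncard hsub (Set.toFinite _)).trans (Set.ncard_insert_le _ _)).trans ?_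
  rw [Set.ncard_image_of_injective _ (Equiv.injective _)]

theorem invSet_mul_eq (w : Equiv.Perm idx) (hw : ∀ x, w (P.reflectionPerm x x) = P.reflectionPerm (w x) (w x))
    {a : idx} (ha : a ∈ b.support) (hpos : b.IsPos (w a)) :
    (invSet b w).ncard + 1 ≤ (invSet b (w * P.reflectionPerm a)).ncard := by
  let := P.indexNeg
  have hsub : insert a (P.reflectionPerm a '' invSet b w) ⊆ invSet b (w * P.reflectionPerm a) := by
    rintro x (rfl | ⟨y, hy, rfl⟩)
    · refine ⟨Base.isPos_of_mem_support ha, ?_⟩
      rw [Equiv.Perm.mul_apply, hw]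
      exact fun h => (Base.IsPos.neg_iff_not b _).mp h hpos
    · have hya : y ≠ a := fun h => hy.2 (h ▸ hpos)
      refine ⟨hy.1.reflectionPerm ha hya, ?_⟩
      rw [Equiv.Perm.mul_apply, P.reflectionPerm_self]
      exact hy.2
  have hna : a ∉ P.reflectionPerm a '' invSet b w := by
    rintro ⟨y, hy, he⟩
    have : y = -a := by
      rw [← P.reflectionPerm_self a y, he]; rfl
    rw [this] at hy
    exact (Base.IsPos.neg_iff_not b a).mp hy.1 (Base.isPos_of_mem_support ha)
  have := Set.ncard_le_ncard hsub (Set.toFinite _)
  rwa [Set.ncard_insert_of_notMem hna, Set.ncard_image_of_injective _ (Equiv.injective _)] at this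

theorem invSet_word_le (l : List idx) (hl : ∀ a ∈ l, a ∈ b.support) :
    (invSet b (RedSub.wordPerm P l)).ncard ≤ l.length := by
  induction l using List.reverseRecOn with
  | nil => simp [invSet, RedSub.wordPerm]
  | append_singleton t a ih =>
    rw [wordPerm_append, wordPerm_singleton, List.length_append]
    exact (invSet_mul_le b _ (hl a (by simp))).trans
      (Nat.add_le_add_right (ih fun x hx => hl x (by simp [hx])) 1)

theorem invSet_word_eq (l : List idx) (hl : ∀ a ∈ l, a ∈ b.support)
    (hmin : ∀ l' : List idx, (∀ a ∈ l', a ∈ b.support) → Roots36.wprod P l' = Roots36.wprod P l →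
      l.length ≤ l'.length) :
    l.length ≤ (invSet b (RedSub.wordPerm P l)).ncard := by
  have : Fintype idx := Fintype.ofFinite idx
  induction l using List.reverseRecOn with
  | nil => simp
  | append_singleton t a ih =>
    have ht : ∀ x ∈ t, x ∈ b.support := fun x hx => hl x (by simp [hx])
    have ha : a ∈ b.support := hl a (by simp)
    rw [wordPerm_append, wordPerm_singleton, List.length_append]
    refine le_trans (Nat.add_le_add_right (ih ht fun l' hl' he => ?_) 1) (invSet_mul_eq b _ ?_ ha ?_)
    · have h := hmin (l' ++ [a]) (by simpa [or_imp, forall_and, ha] using hl')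
        (by rw [Roots36.wprod_append, Roots36.wprod_append, he])
      simp at h
      omega
    · intro x
      rw [wordPerm_apply_eq, wordPerm_apply_eq]
      exact Roots36.smul_neg_index _ x
    · by_contra hneg
      rw [wordPerm_apply_eq, Roots36.isPos_iff_posOf] at hneg
      obtain ⟨m, hm, he⟩ := Roots36.exchange (Roots36.base_isSimpleSys b) ht ha hneg
      have h := hmin (t.eraseIdx m) (fun x hx => ht x (List.mem_of_mem_eraseIdx hx))
        (by rw [← he, Roots36.wprod_append, Roots36.wprod_cons, Roots36.wprod_nil, mul_one])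
      rw [List.length_eraseIdx, if_pos hm] at h
      simp at h
      omega

theorem exists_simple_word (l : List idx) :
    ∃ l' : List idx, (∀ a ∈ l', a ∈ b.support) ∧ RedSub.wordPerm P l' = RedSub.wordPerm P l ∧
      l'.length ≤ (invSet b (RedSub.wordPerm P l)).ncard := by
  have : Fintype idx := Fintype.ofFinite idx
  have hmem : Roots36.wprod P l ∈ P.weylGroup := by
    induction l with
    | nil => simp [Roots36.wprod]
    | cons a t ih => rw [Roots36.wprod_cons]; exact mul_mem (P.reflection_mem_weylGroup a) ih
  obtain ⟨l', h1, h2, h3⟩ := Roots36.exists_min_word (Roots36.base_isSimpleSys b) hmem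
  have hperm : RedSub.wordPerm P l' = RedSub.wordPerm P l :=
    Equiv.ext fun x => by rw [wordPerm_apply_eq, wordPerm_apply_eq, h2]
  refine ⟨l', h1, hperm, ?_⟩
  rw [← hperm]
  exact invSet_word_eq b l' h1 fun m hm he => h3 m hm (he.trans h2)

theorem invSet_lt (l : List idx) (c : idx) (hc : b.IsPos c)
    (hneg : ¬ b.IsPos ((RedSub.wordPerm P l)⁻¹ c)) :
    (invSet b (P.reflectionPerm c * RedSub.wordPerm P l)).ncard <
      (invSet b (RedSub.wordPerm P l)).ncard := by
  obtain ⟨l', h1, h2, h3⟩ := exists_simple_word b l
  rw [← h2] at hneg h3 ⊢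
  obtain ⟨i, hi, he⟩ := exists_delete b l' h1 c hc hneg
  have e : P.reflectionPerm c * RedSub.wordPerm P l' =
      RedSub.wordPerm P (l'.take i ++ l'.drop (i + 1)) := by
    rw [wordPerm_append, ← he, mul_assoc, ← wordPerm_append, List.take_append_drop]
  rw [e]
  refine lt_of_le_of_lt (invSet_word_le b _ fun x hx => h1 x ?_) (lt_of_lt_of_le ?_ h3)
  · rcases List.mem_append.mp hx with h | h
    · exact List.mem_of_mem_take h
    · exact List.mem_of_mem_drop h
  · simp
    omega

end Groth.Agent.RedPts82
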