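import Groth.Agent.RedPts82.ClosedProd

/-!
The cell attached to a cocharacter and two systems of contracted one-parameter subgroups.
-/

universe u

open CategoryTheory MonoidalCategory CartesianMonoidalCategory MonObj GrpObj AlgebraicGeometry
open CategoryTheory.Limits

namespace Groth.Agent.RedPts82

variable {S : Scheme.{u}} {G T : Over S} [GrpObj G] [GrpObj T] {i : T ⟶ G} {ν : Red.Gm S ⟶ G}
  {n m : ℕ} {dn : Fin n → ℕ} {un : Fin n → (Red.Ga S ⟶ G)} {dp : Fin m → ℕ}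
  {up : Fin m → (Red.Ga S ⟶ G)}

/-- The cell of a pair of systems of root groups. -/
noncomputable def cellS (i : T ⟶ G) (un : Fin n → (Red.Ga S ⟶ G)) (up : Fin m → (Red.Ga S ⟶ G)) :
    RedSub.pow (Red.Ga S) n ⊗ (T ⊗ RedSub.pow (Red.Ga S) m) ⟶ G :=
  (fst _ _ ≫ RedSub.prodMap (Red.Ga S) n un) *
    ((snd _ _ ≫ fst _ _ ≫ i) * (snd _ _ ≫ snd _ _ ≫ RedSub.prodMap (Red.Ga S) m up))

omit [GrpObj T] in
theorem cellS_pt (i : T ⟶ G) (un : Fin n → (Red.Ga S ⟶ G)) (up : Fin m → (Red.Ga S ⟶ G))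
    {X : Over S} (w : X ⟶ RedSub.pow (Red.Ga S) n ⊗ (T ⊗ RedSub.pow (Red.Ga S) m)) :
    w ≫ cellS i un up = ((w ≫ fst _ _) ≫ RedSub.prodMap (Red.Ga S) n un) *
      (((w ≫ snd _ _ ≫ fst _ _) ≫ i) *
        ((w ≫ snd _ _ ≫ snd _ _) ≫ RedSub.prodMap (Red.Ga S) m up)) := by
  simp only [cellS, MonObj.comp_mul, Category.assoc]

omit [GrpObj T] in
theorem cellS_lift (i : T ⟶ G) (un : Fin n → (Red.Ga S ⟶ G)) (up : Fin m → (Red.Ga S ⟶ G))
    {X : Over S} (y : X ⟶ RedSub.pow (Red.Ga S) n) (t : X ⟶ T) (x : X ⟶ RedSub.pow (Red.Ga S) m) :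
    lift y (lift t x) ≫ cellS i un up = (y ≫ RedSub.prodMap (Red.Ga S) n un) *
      ((t ≫ i) * (x ≫ RedSub.prodMap (Red.Ga S) m up)) := by
  rw [cellS_pt]
  simp

/-- The data of a cell attached to a cocharacter. -/
structure CellData (i : T ⟶ G) (ν : Red.Gm S ⟶ G) (dn : Fin n → ℕ) (un : Fin n → (Red.Ga S ⟶ G))
    (dp : Fin m → ℕ) (up : Fin m → (Red.Ga S ⟶ G)) : Prop where
  hG : IsAffineHom G.hom
  hT : IsAffineHom T.hom
  hi : IsMonHom i
  mono : Mono i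
  comm : ∀ (Z : Over S) (t : Z ⟶ Red.Gm S) (s : Z ⟶ T), (t ≫ ν) * (s ≫ i) = (s ≫ i) * (t ≫ ν)
  neg : Weighted (negCochar ν) dn un
  pos : Weighted ν dp up
  normPos : ∀ k (Z : Over S) (s : Z ⟶ T) (x : Z ⟶ Red.Ga S),
    ∃ y : Z ⟶ Red.Ga S, y ≫ up k = (s ≫ i) * (x ≫ up k) * (s ≫ i)⁻¹
  normNeg : ∀ k (Z : Over S) (s : Z ⟶ T) (x : Z ⟶ Red.Ga S),
    ∃ y : Z ⟶ Red.Ga S, y ≫ un k = (s ≫ i) * (x ≫ un k) * (s ≫ i)⁻¹

theorem Weighted.contr_u {d : Fin m → ℕ} {u : Fin m → (Red.Ga S ⟶ G)} (H : Weighted ν d u)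
    (k : Fin m) {X : Over S} (x : X ⟶ Red.Ga S) : Contr ν (x ≫ u k) 1 := by
  refine ⟨gaPt (Red.gaFn (snd X (Red.Ga S)) ^ d k * Red.gaFn (fst X (Red.Ga S) ≫ x)) ≫ u k,
    fun Z z t => ?_, fun Z z => ?_⟩
  · rw [← Category.assoc z x (u k), H.conj, ← Category.assoc, comp_gaPt]
    congr 2
    rw [map_mul, map_pow, ← gaFn_comp, ← gaFn_comp, lift_snd, lift_fst_assoc, gaFn_gaPt]
  · rw [← Category.assoc, comp_gaPt, map_mul, map_pow, ← gaFn_comp, lift_snd, gaFn_gaPt,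
      zero_pow (H.hpos k).ne', zero_mul, H.zero, MonObj.comp_one]

theorem Weighted.contr_prod {d : Fin m → ℕ} {u : Fin m → (Red.Ga S ⟶ G)} (H : Weighted ν d u)
    {X : Over S} (w : X ⟶ RedSub.pow (Red.Ga S) m) :
    Contr ν (w ≫ RedSub.prodMap (Red.Ga S) m u) 1 := by
  rw [prodMap_pt]
  have : ∀ (L : List (X ⟶ G)), (∀ g ∈ L, Contr ν g 1) → Contr ν L.prod 1 := by
    intro L hL
    induction L with
    | nil => exact Contr.one
    | cons a L ih =>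
      rw [List.prod_cons]
      have := (hL a List.mem_cons_self).mul (ih fun g hg => hL g (List.mem_cons_of_mem _ hg))
      rwa [_root_.one_mul] at this
  refine this _ fun g hg => ?_
  obtain ⟨k, rfl⟩ := (List.mem_ofFn' _ _).mp hg
  exact H.contr_u k _

variable (C : CellData i ν dn un dp up)
include C

theorem CellData.contr_torus {X : Over S} (s : X ⟶ T) : Contr ν (s ≫ i) (s ≫ i) :=
  Contr.of_comm fun Z z t => by rw [← Category.assoc z s i]; exact C.comm Z t (z ≫ s)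

theorem CellData.mono_cell : Mono (cellS i un up) := by
  refine ⟨fun {Z} p p' h => ?_⟩
  have := C.hi
  have := C.mono
  have hp : ∀ q : Z ⟶ RedSub.pow (Red.Ga S) n ⊗ (T ⊗ RedSub.pow (Red.Ga S) m),
      q = lift (q ≫ fst _ _) (lift (q ≫ snd _ _ ≫ fst _ _) (q ≫ snd _ _ ≫ snd _ _)) := fun q => by
    ext <;> simp
  rw [hp p, hp p'] at h ⊢
  rw [cellS_lift, cellS_lift] at h
  generalize p ≫ fst _ _ = y at h ⊢
  generalize p' ≫ fst _ _ = y' at h ⊢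
  generalize p ≫ snd _ _ ≫ fst _ _ = t at h ⊢
  generalize p' ≫ snd _ _ ≫ fst _ _ = t' at h ⊢
  generalize p ≫ snd _ _ ≫ snd _ _ = x at h ⊢
  generalize p' ≫ snd _ _ ≫ snd _ _ = x' at h ⊢
  set πn := RedSub.prodMap (Red.Ga S) n un
  set πp := RedSub.prodMap (Red.Ga S) m up
  have hn : Contr (negCochar ν) ((y' ≫ πn)⁻¹ * (y ≫ πn)) 1 := by
    have := (C.neg.contr_prod y').inv.mul (C.neg.contr_prod y)
    rwa [inv_one, _root_.one_mul] at this
  have e1 : (y' ≫ πn)⁻¹ * (y ≫ πn) = (t' ≫ i) * (x' ≫ πp) * (x ≫ πp)⁻¹ * (t ≫ i)⁻¹ := by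
    have : y ≫ πn = (y' ≫ πn) * ((t' ≫ i) * (x' ≫ πp)) * (x ≫ πp)⁻¹ * (t ≫ i)⁻¹ := by
      rw [← h]; group
    rw [this]; group
  have hpp : Contr ν ((t' ≫ i) * (x' ≫ πp) * (x ≫ πp)⁻¹ * (t ≫ i)⁻¹) ((t' ≫ i) * (t ≫ i)⁻¹) := by
    have := (((C.contr_torus t').mul (C.pos.contr_prod x')).mul (C.pos.contr_prod x).inv).mul
      (C.contr_torus t).inv
    rwa [inv_one, _root_.mul_one, _root_.mul_one] at this
  rw [← e1] at hpp
  have hy0 := hpp.eq_one_of_neg C.hG hn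
  rw [inv_mul_eq_one] at hy0
  have : IsClosedImmersion πn.left := C.neg.isClosedImmersion C.hG
  have : IsClosedImmersion πp.left := C.pos.isClosedImmersion C.hG
  have : Mono πn := Over.mono_of_mono_left _
  have : Mono πp := Over.mono_of_mono_left _
  have hy : y = y' := ((cancel_mono πn).mp hy0).symm
  subst hy
  have e2 : (x' ≫ πp) * (x ≫ πp)⁻¹ = (t' ≫ i)⁻¹ * (t ≫ i) := by
    have h' := mul_left_cancel h
    have : x ≫ πp = (t ≫ i)⁻¹ * ((t' ≫ i) * (x' ≫ πp)) := by rw [← h']; group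
    rw [this]; group
  have h1 : Contr ν ((x' ≫ πp) * (x ≫ πp)⁻¹) 1 := by
    have := (C.pos.contr_prod x').mul (C.pos.contr_prod x).inv
    rwa [inv_one, _root_.mul_one] at this
  rw [e2] at h1
  have h2 := ((C.contr_torus t').inv.mul (C.contr_torus t)).limit_unique C.hG h1
  rw [inv_mul_eq_one] at h2
  have ht : t = t' := ((cancel_mono i).mp h2).symm
  subst ht
  rw [inv_mul_cancel, mul_inv_eq_one] at e2
  rw [(cancel_mono πp).mp e2]

end Groth.Agent.RedPts82
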