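import Groth.Agent.RedPts82.DescHom
import Groth.Agent.RedPts82.SubGrp
import Groth.Agent.RedPts82.MultBc
import Groth.Agent.Desc59.DDFamEff
import Groth.Agent.Desc59.DDAffine
import Groth.Agent.Desc59.DescImm

/-!
Central subgroups of multiplicative type descend along flat covers with geometrically connected
fibres.
-/

universe u

open CategoryTheory MonoidalCategory CartesianMonoidalCategory MonObj GrpObj AlgebraicGeometry
open CategoryTheory.Limits

namespace Groth.Agent.RedPts82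

variable {S S' : Scheme.{u}}

/-- A point of a subgroup over the new base, seen in the group over the old one. -/
noncomputable def gpt (π : S' ⟶ S) {G : Over S} {H' : Over S'} (j' : H' ⟶ Red.bc π G) {Z : Over S}
    (a : Z.left ⟶ S') (ha : a ≫ π = Z.hom) (h : Over.mk a ⟶ H') : Z ⟶ G :=
  (Over.homMk (𝟙 Z.left) (by simp [ha]) : Z ⟶ (Over.map π).obj (Over.mk a)) ≫ toBase π (h ≫ j')

section

variable {π : S' ⟶ S} {G : Over S} {H' : Over S'} {j' : H' ⟶ Red.bc π G}

theorem gpt_left {Z : Over S} (a : Z.left ⟶ S') (ha : a ≫ π = Z.hom) (h : Over.mk a ⟶ H') :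
    (gpt π j' a ha h).left = h.left ≫ j'.left ≫ pullback.fst G.hom π := by
  show 𝟙 _ ≫ (toBase π (h ≫ j')).left = _
  rw [Category.id_comp, toBase_left, Over.comp_left, Category.assoc]

theorem gpt_injective [Mono j'] {Z : Over S} {a : Z.left ⟶ S'} {ha : a ≫ π = Z.hom}
    {h h' : Over.mk a ⟶ H'} (e : gpt π j' a ha h = gpt π j' a ha h') : h = h' := by
  rw [← cancel_mono j']
  apply toBase_injective π
  apply Over.OverMorphism.ext
  have := congrArg Over.Hom.left e
  rw [gpt_left, gpt_left] at this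
  rw [toBase_left, toBase_left, Over.comp_left, Over.comp_left, Category.assoc, Category.assoc]
  exact this

variable [GrpObj G] [GrpObj H'] [IsMonHom j']

theorem gpt_mul {Z : Over S} (a : Z.left ⟶ S') (ha : a ≫ π = Z.hom) (h h' : Over.mk a ⟶ H') :
    gpt π j' a ha (h * h') = gpt π j' a ha h * gpt π j' a ha h' := by
  simp only [gpt]
  rw [MonObj.mul_comp _ _ j', toBase_mul, MonObj.comp_mul]

theorem gpt_one {Z : Over S} (a : Z.left ⟶ S') (ha : a ≫ π = Z.hom) :
    gpt π j' a ha (1 : Over.mk a ⟶ H') = 1 := by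
  have h := gpt_mul (j' := j') a ha (1 : Over.mk a ⟶ H') 1
  rw [_root_.one_mul (1 : Over.mk a ⟶ H')] at h
  exact left_eq_mul.mp h

theorem gpt_inv {Z : Over S} (a : Z.left ⟶ S') (ha : a ≫ π = Z.hom) (h : Over.mk a ⟶ H') :
    gpt π j' a ha h⁻¹ = (gpt π j' a ha h)⁻¹ :=
  eq_inv_of_mul_eq_one_left (by rw [← gpt_mul, inv_mul_cancel, gpt_one])

omit [GrpObj H'] [IsMonHom j'] in
theorem gpt_central
    (hc : ∀ (X : Over S') (g : X ⟶ Red.bc π G) (h : X ⟶ H'), g * (h ≫ j') = (h ≫ j') * g)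
    {Z : Over S} (a : Z.left ⟶ S') (ha : a ≫ π = Z.hom) (h : Over.mk a ⟶ H') (g : Z ⟶ G) :
    g * gpt π j' a ha h = gpt π j' a ha h * g := by
  let i : Z ⟶ (Over.map π).obj (Over.mk a) := Over.homMk (𝟙 Z.left) (by simp [ha])
  let k : (Over.map π).obj (Over.mk a) ⟶ Z := Over.homMk (𝟙 Z.left) (by simp [ha])
  have hik : i ≫ k = 𝟙 Z := Over.OverMorphism.ext (Category.comp_id _)
  have e := congrArg (toBase π) (hc _ (ofBase π (k ≫ g)) h)
  rw [toBase_mul, toBase_mul, toBase_ofBase] at e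
  have e' := congrArg (i ≫ ·) e
  simp only [MonObj.comp_mul, ← Category.assoc, hik, Category.id_comp] at e'
  exact e'

end

section Grp

variable {G H : Over S}

/-- A diagonalisation of an iterated base change gives one of the composite base change. -/
theorem exists_grpIso_bc_comp [GrpObj H] {W T : Scheme.{u}} (g : T ⟶ S) (ψ : W ⟶ T) {M : Type}
    [AddCommGroup M] (a : Red.DS W M ⟶ Red.bc ψ (Red.bc g H)) [IsMonHom a] [IsIso a] :
    Nonempty (Grp.mk (Red.bc (ψ ≫ g) H) ≅ Grp.mk (Red.DS W M)) := by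
  let c : ∀ X : Over W, (Over.map g).obj ((Over.map ψ).obj X) ⟶ (Over.map (ψ ≫ g)).obj X := fun X =>
    Over.homMk (𝟙 X.left) (by simp)
  let c' : ∀ X : Over W, (Over.map (ψ ≫ g)).obj X ⟶ (Over.map g).obj ((Over.map ψ).obj X) := fun X =>
    Over.homMk (𝟙 X.left) (by simp)
  have hcc : ∀ X, c' X ≫ c X = 𝟙 _ := fun X => Over.OverMorphism.ext (Category.comp_id _)
  have hcc' : ∀ X, c X ≫ c' X = 𝟙 _ := fun X => Over.OverMorphism.ext (Category.comp_id _)
  let b : Red.DS W M ⟶ Red.bc (ψ ≫ g) H :=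
    ofBase (ψ ≫ g) (c' _ ≫ toBase g (toBase ψ a))
  have hb : ∀ (X : Over W) (x : X ⟶ Red.DS W M),
      toBase (ψ ≫ g) (x ≫ b) = c' X ≫ toBase g (toBase ψ (x ≫ a)) := by
    intro X x
    rw [toBase_comp, toBase_ofBase, toBase_comp ψ, toBase_comp g, ← Category.assoc, ← Category.assoc]
    exact congrArg (· ≫ _) (Over.OverMorphism.ext ((Category.comp_id _).trans (Category.id_comp _).symm))
  haveI : IsMonHom b := isMonHom_of_points _ fun X x y => toBase_injective (ψ ≫ g) (by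
    rw [toBase_mul, hb, hb, hb, MonObj.mul_comp _ _ a, toBase_mul, toBase_mul, MonObj.comp_mul])
  let r : Red.bc (ψ ≫ g) H ⟶ Red.DS W M :=
    ofBase ψ (ofBase g (c _ ≫ toBase (ψ ≫ g) (𝟙 _))) ≫ inv a
  have h1 : r ≫ b = 𝟙 _ := toBase_injective (ψ ≫ g) (by
    rw [hb]
    simp only [r, Category.assoc, IsIso.inv_hom_id, Category.comp_id, toBase_ofBase]
    rw [← Category.assoc, hcc, Category.id_comp])
  have h2 : b ≫ r = 𝟙 _ := by
    rw [← cancel_mono a, Category.id_comp]
    simp only [r, Category.assoc, IsIso.inv_hom_id, Category.comp_id]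
    apply toBase_injective ψ
    apply toBase_injective g
    rw [toBase_comp ψ, toBase_comp g, toBase_ofBase, toBase_ofBase, ← Category.assoc,
      show (Over.map g).map ((Over.map ψ).map b) ≫ c _ = c _ ≫ (Over.map (ψ ≫ g)).map b from
        Over.OverMorphism.ext ((Category.comp_id _).trans (Category.id_comp _).symm),
      Category.assoc, ← toBase_comp, Category.comp_id, toBase_ofBase, ← Category.assoc, hcc',
      Category.id_comp]
  haveI : IsIso b := ⟨r, h2, h1⟩
  exact ⟨(Grp.mkIso' (asIso b)).symm⟩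

end Grp

variable (π : S' ⟶ S) {G : Over S} [GrpObj G] {H' : Over S'} [GrpObj H'] (j' : H' ⟶ Red.bc π G)
  [IsMonHom j'] [Mono j']

/-- A central subgroup of multiplicative type is invariant: points over two lifts correspond. -/
theorem exists_swap [IsSeparated G.hom] [LocallyOfFiniteType G.hom]
    (hgc : GeometricallyConnected π) (hH' : SGA3x.IsMultTypeFT H')
    (hc : ∀ (X : Over S') (g : X ⟶ Red.bc π G) (h : X ⟶ H'), g * (h ≫ j') = (h ≫ j') * g)
    {Z : Over S} (a b : Z.left ⟶ S') (ha : a ≫ π = Z.hom) (hb : b ≫ π = Z.hom)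
    (h : Over.mk a ⟶ H') : ∃ h' : Over.mk b ⟶ H', gpt π j' b hb h' = gpt π j' a ha h := by
  let p₁ := pullback.fst π π
  let p₂ := pullback.snd π π
  let ρ := p₁ ≫ π
  have hρ : p₂ ≫ π = ρ := pullback.condition.symm
  -- the two pullbacks of the subgroup
  have hmk : ∀ (p : pullback π π ⟶ S') (hp : p ≫ π = ρ), ∃ i : Red.bc p H' ⟶ Red.bc ρ G,
      IsMonHom i ∧ Mono i ∧
      (∀ (X : Over (pullback π π)) (g : X ⟶ Red.bc ρ G) (x : X ⟶ Red.bc p H'),
        g * (x ≫ i) = (x ≫ i) * g) ∧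
      ∀ (X : Over (pullback π π)) (x : X ⟶ Red.bc p H'),
        toBase ρ (x ≫ i) = gpt π j' (Z := (Over.map ρ).obj X) (X.hom ≫ p)
          ((Category.assoc _ _ _).trans (congrArg _ hp)) (toBase p x) := by
    intro p hp
    let Z₀ := Red.bc p H'
    let i : Red.bc p H' ⟶ Red.bc ρ G := ofBase ρ (gpt π j' (Z := (Over.map ρ).obj Z₀) (Z₀.hom ≫ p)
      ((Category.assoc _ _ _).trans (congrArg _ hp)) (toBase p (𝟙 _)))
    have hi : ∀ (X : Over (pullback π π)) (x : X ⟶ Red.bc p H'),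
        toBase ρ (x ≫ i) = gpt π j' (Z := (Over.map ρ).obj X) (X.hom ≫ p)
          ((Category.assoc _ _ _).trans (congrArg _ hp)) (toBase p x) := fun X x => by
      apply Over.OverMorphism.ext
      rw [toBase_comp, toBase_ofBase, Over.comp_left, gpt_left, gpt_left, toBase_left, toBase_left]
      show x.left ≫ (𝟙 _ ≫ _) ≫ _ = _
      rw [Category.id_comp, Category.assoc]
    refine ⟨i, isMonHom_of_points _ fun X x y => toBase_injective ρ ?_,
      ⟨fun {X} x y e => toBase_injective p (gpt_injective (j' := j') (by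
        exact (hi _ x).symm.trans ((congrArg (toBase ρ) e).trans (hi _ y))))⟩, fun X g x => toBase_injective ρ ?_, hi⟩
    · rw [toBase_mul, hi, hi, hi, toBase_mul]
      exact gpt_mul _ _ _ _
    · rw [toBase_mul, toBase_mul, hi]
      exact gpt_central hc _ _ _ _
  obtain ⟨i₁, hi₁m, hi₁mono, hi₁c, hi₁⟩ := hmk p₁ rfl
  obtain ⟨i₂, hi₂m, hi₂mono, hi₂c, hi₂⟩ := hmk p₂ hρ
  haveI := hi₁m; haveI := hi₁mono; haveI := hi₂m; haveI := hi₂mono
  haveI : IsSeparated (Red.bc ρ G).hom := inferInstanceAs (IsSeparated (pullback.snd G.hom ρ))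
  obtain ⟨U, hUc, hU, hUψ⟩ := exists_eq_locus
    (.inr (MorphismProperty.pullback_snd (P := @LocallyOfFiniteType) _ _ ‹_›))
    (isMultTypeFT_bc p₁ hH') (isMultTypeFT_bc p₂ hH') i₁ i₂ hi₁c
  have hpb : IsPullback (pullback.fst i₁ i₂) (pullback.snd i₁ i₂) i₁ i₂ :=
    IsPullback.of_hasPullback i₁ i₂
  -- translation between the two descriptions
  have hsame : ∀ {T : Scheme.{u}} (ψ : T ⟶ pullback π π), ψ ≫ p₁ = ψ ≫ p₂ → EqPts ψ i₁ i₂ := by
    intro T ψ hψ X q
    have e : X.hom ≫ p₁ = X.hom ≫ p₂ := by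
      rw [← Over.w q]
      simp only [Over.mk_hom, Category.assoc, hψ]
    let k : (Over.map p₂).obj X ⟶ (Over.map p₁).obj X := Over.homMk (𝟙 X.left)
      ((Category.id_comp _).trans e)
    let k' : (Over.map p₁).obj X ⟶ (Over.map p₂).obj X := Over.homMk (𝟙 X.left)
      ((Category.id_comp _).trans e.symm)
    constructor
    · intro x
      refine ⟨ofBase p₂ (k ≫ toBase p₁ x), toBase_injective ρ (Over.OverMorphism.ext ?_)⟩
      rw [hi₁, hi₂, gpt_left, gpt_left, toBase_ofBase, Over.comp_left]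
      show _ = (𝟙 _ ≫ _) ≫ _
      rw [Category.id_comp]
    · intro y
      refine ⟨ofBase p₁ (k' ≫ toBase p₂ y), toBase_injective ρ (Over.OverMorphism.ext ?_)⟩
      rw [hi₁, hi₂, gpt_left, gpt_left, toBase_ofBase, Over.comp_left]
      show (𝟙 _ ≫ _) ≫ _ = _
      rw [Category.id_comp]
  let Δ : S' ⟶ pullback π π := pullback.lift (𝟙 S') (𝟙 S') rfl
  have hΔ : ∀ y : S', Δ y ∈ U := by
    intro y
    refine (hU _).mpr ((exists_iso_iff _ hpb).mpr ((isIso_pullback_iff_eqPts _ hpb).mpr (hsame _ ?_)))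
    obtain ⟨h1, h2⟩ := specMap_field_flat_surjective (L := S'.residueField y)
      (Field.toIsField ((pullback π π).residueField (Δ y))) (Δ.residueFieldMap y)
    haveI := Flat.epi_of_flat_of_surjective (Spec.map (Δ.residueFieldMap y))
    rw [← cancel_epi (Spec.map (Δ.residueFieldMap y)),
      Scheme.Hom.SpecMap_residueFieldMap_fromSpecResidueField_assoc,
      Scheme.Hom.SpecMap_residueFieldMap_fromSpecResidueField_assoc]
    simp only [Δ, p₁, p₂, pullback.lift_fst, pullback.lift_snd]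
  have hall : ∀ z : ↥(pullback π π), z ∈ U := by
    intro z
    haveI := hgc
    haveI : GeometricallyConnected p₁ := inferInstance
    have hsec : p₁ (Δ (p₁ z)) = p₁ z := by
      rw [← Scheme.Hom.comp_apply, pullback.lift_fst]; rfl
    exact (p₁.isConnected_preimage_singleton (p₁ z)).isPreconnected.subset_isClopen ⟨hUc, U.2⟩
      ⟨Δ (p₁ z), hsec, hΔ _⟩ (rfl : p₁ z = p₁ z)
  have hEq : EqPts U.ι i₁ i₂ :=
    (isIso_pullback_iff_eqPts _ hpb).mp ((exists_iso_iff _ hpb).mp hUψ)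
  -- the pair
  let c : Z.left ⟶ pullback π π := pullback.lift a b (ha.trans hb.symm)
  have hr : Set.range c.base ⊆ Set.range U.ι.base := by
    rw [Scheme.Opens.range_ι]
    exact fun z _ => hall z
  let X : Over (pullback π π) := Over.mk c
  let ka : (Over.map p₁).obj X ⟶ Over.mk a := Over.homMk (𝟙 _)
    ((Category.id_comp _).trans (pullback.lift_fst _ _ _).symm)
  obtain ⟨x₂, hx₂⟩ := (hEq X (Over.homMk (IsOpenImmersion.lift U.ι c hr)
    (IsOpenImmersion.lift_fac _ _ _))).1 (ofBase p₁ (ka ≫ h))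
  let kb : Over.mk b ⟶ (Over.map p₂).obj X := Over.homMk (𝟙 _)
    ((Category.id_comp _).trans (pullback.lift_snd _ _ _))
  refine ⟨kb ≫ toBase p₂ x₂, Over.OverMorphism.ext ?_⟩
  have e := congrArg Over.Hom.left (congrArg (toBase ρ) hx₂)
  rw [hi₁, hi₂, gpt_left, gpt_left, toBase_ofBase, Over.comp_left] at e
  rw [gpt_left, gpt_left, Over.comp_left]
  show (𝟙 _ ≫ _) ≫ _ = _
  rw [Category.id_comp]
  refine e.symm.trans ?_
  show (𝟙 _ ≫ _) ≫ _ = _
  rw [Category.id_comp]

set_option maxHeartbeats 1000000 in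
/-- A central subgroup of multiplicative type descends along a flat cover with geometrically
connected fibres. -/
theorem exists_descend_subgroup [IsSeparated G.hom] [LocallyOfFiniteType G.hom]
    [IsImmersion j'.left] [Flat π] [Surjective π] (hqc : IsQcCover π)
    (hgc : GeometricallyConnected π) (hH' : SGA3x.IsMultTypeFT H')
    (hc : ∀ (X : Over S') (g : X ⟶ Red.bc π G) (h : X ⟶ H'), g * (h ≫ j') = (h ≫ j') * g) :
    ∃ (H : Over S) (_ : GrpObj H) (j : H ⟶ G), IsMonHom j ∧ IsImmersion j.left ∧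
      SGA3x.IsMultTypeFT H ∧ ∃ φ : Red.bc π H ≅ H', φ.hom ≫ j' = (Over.pullback π).map j := by
  classical
  haveI := isFpqcMor_of_qcCover π hqc
  let jg : H'.left ⟶ G.left := j'.left ≫ pullback.fst G.hom π
  have hjg : jg ≫ G.hom = H'.hom ≫ π := by
    simp only [jg, Category.assoc, pullback.condition]
    exact (Category.assoc _ _ _).symm.trans (congrArg (· ≫ π) (Over.w j'))
  have huniq : ∀ {T : Scheme.{u}} {x : T ⟶ S'} (v w : Desc.Lifts H' x), v.1 ≫ jg = w.1 ≫ jg → v = w := by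
    intro T x v w e
    refine Subtype.ext ?_
    have h1 : (Over.homMk v.1 v.2 : Over.mk x ⟶ H') = Over.homMk w.1 w.2 :=
      gpt_injective (j' := j') (Z := Over.mk (x ≫ π)) (a := x) (ha := rfl)
        (Over.OverMorphism.ext (by rw [gpt_left, gpt_left]; exact e))
    exact congrArg Over.Hom.left h1
  have hex : ∀ ⦃T : Scheme.{u}⦄ (x₀ x₁ : T ⟶ S'), x₀ ≫ π = x₁ ≫ π → ∀ v : Desc.Lifts H' x₀,
      ∃ w : Desc.Lifts H' x₁, w.1 ≫ jg = v.1 ≫ jg := by
    intro T x₀ x₁ e v
    obtain ⟨h', hh'⟩ := exists_swap π j' hgc hH' hc (Z := Over.mk (x₀ ≫ π)) x₀ x₁ rfl e.symm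
      (Over.homMk v.1 v.2)
    refine ⟨⟨h'.left, Over.w h'⟩, ?_⟩
    have := congrArg Over.Hom.left hh'
    rwa [gpt_left, gpt_left] at this
  choose sw hsw using hex
  let D : Desc.SchDD π :=
    { obj := H'
      φ := fun T x₀ x₁ h =>
        { toFun := sw x₀ x₁ h
          invFun := sw x₁ x₀ h.symm
          left_inv := fun v => huniq _ _ (by rw [hsw, hsw])
          right_inv := fun v => huniq _ _ (by rw [hsw, hsw]) }
      φ_natural := fun T T' g x₀ x₁ h h' v v' hv' => by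
        let w : Desc.Lifts H' (g ≫ x₁) := ⟨g ≫ (sw x₀ x₁ h v).1, by
          rw [Category.assoc, (sw x₀ x₁ h v).2]⟩
        show (sw (g ≫ x₀) (g ≫ x₁) h' v').1 = w.1
        refine congrArg Subtype.val (huniq _ w ?_)
        rw [hsw, hv']
        simp only [w, Category.assoc, hsw]
      φ_self := fun T x v => huniq _ _ (hsw x x rfl v)
      φ_comp := fun T x₀ x₁ x₂ h h' v => huniq _ _ (by
        show (sw x₁ x₂ h' (sw x₀ x₁ h v)).1 ≫ jg = (sw x₀ x₂ _ v).1 ≫ jg
        rw [hsw, hsw, hsw]) }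
  haveI hHaff : IsAffineHom H'.hom := isMultTypeFT_isAffineHom hH'
  haveI : IsAffineHom D.obj.hom := hHaff
  haveI := isAffineHom_isStableUnderBaseChange.{u}
  obtain ⟨U, π₀, hq⟩ := Desc59.exists_isQuot_iff.mpr
    (Desc59.effective_of_subcovers @IsAffineHom (fun X S p _ _ _ _ D hD => by
      have : IsAffineHom D.obj.hom := hD
      have : IsAffine D.obj.left := isAffine_of_isAffineHom D.obj.hom
      exact Desc59.exists_isQuot_iff.mp (Desc59.exists_isQuot_of_isAffine D))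
      π D fun W hW => by
        obtain ⟨X', g, h₁, h₂, h₃⟩ := Desc59.IsFpqcMor.exists_affine_subcover π hW
        exact ⟨X', g, h₁, h₂, h₃, MorphismProperty.pullback_snd _ _ hHaff⟩)
  have hpb : IsPullback π₀ H'.hom U.hom π := hq.isPullback
  haveI : Flat π₀ := MorphismProperty.of_isPullback (P := @Flat) hpb.flip inferInstance
  haveI : Surjective π₀ := MorphismProperty.of_isPullback (P := @Surjective) hpb.flip inferInstance
  haveI : Desc59.IsFpqcMor π₀ := Desc59.IsFpqcMor.of_isPullback hpb.flip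
  haveI : EffectiveEpi π₀ := Desc59.IsFpqcMor.effectiveEpi _
  have hcoeq : ∀ {T : Scheme.{u}} (v w : T ⟶ H'.left), v ≫ π₀ = w ≫ π₀ → v ≫ jg = w ≫ jg := by
    intro T v w e
    have e1 := hq.lift_θ_eq v w e
    have hcond : (v ≫ H'.hom) ≫ π = (w ≫ H'.hom) ≫ π := by
      rw [Category.assoc, Category.assoc, ← hpb.w, reassoc_of% e]
    have e2 := Desc59.φ_eq D (v ≫ H'.hom) (w ≫ H'.hom) hcond ⟨v, rfl⟩
    have e3 := hsw (v ≫ H'.hom) (w ≫ H'.hom) hcond ⟨v, rfl⟩
    have e4 : (sw (v ≫ H'.hom) (w ≫ H'.hom) hcond ⟨v, rfl⟩).1 = w := e2.trans e1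
    rw [e4] at e3
    exact e3.symm
  let d : U.left ⟶ G.left := EffectiveEpi.desc π₀ jg hcoeq
  have hd : π₀ ≫ d = jg := EffectiveEpi.fac _ _ _
  haveI : Epi π₀ := inferInstance
  let j : U ⟶ G := Over.homMk d (by
    rw [← cancel_epi π₀, ← Category.assoc, hd, hjg, hpb.w])
  -- points of the descended subgroup over a lift to the new base
  have hlift : ∀ {Z : Over S} (a : Z.left ⟶ S') (ha : a ≫ π = Z.hom) (x : Z ⟶ U),
      ∃ h : Over.mk a ⟶ H', gpt π j' a ha h = x ≫ j ∧ h.left ≫ π₀ = x.left := by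
    intro Z a ha x
    have hh : x.left ≫ U.hom = a ≫ π := (Over.w x).trans ha.symm
    refine ⟨Over.homMk (hpb.lift x.left a hh) (hpb.lift_snd _ _ _), Over.OverMorphism.ext ?_,
      hpb.lift_fst _ _ _⟩
    rw [gpt_left, Over.comp_left]
    show _ ≫ jg = x.left ≫ d
    rw [← hd]; exact (Category.assoc _ _ _).symm.trans (congrArg (· ≫ d) (hpb.lift_fst _ _ hh))
  have hto : ∀ {Z : Over S} (a : Z.left ⟶ S') (ha : a ≫ π = Z.hom) (h : Over.mk a ⟶ H'),
      ∃ x : Z ⟶ U, x ≫ j = gpt π j' a ha h := by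
    intro Z a ha h
    refine ⟨Over.homMk (h.left ≫ π₀) ?_, Over.OverMorphism.ext ?_⟩
    · rw [Category.assoc, hpb.w, ← Category.assoc]
      exact (congrArg (· ≫ π) (Over.w h)).trans ha
    · rw [gpt_left, Over.comp_left]
      show (h.left ≫ π₀) ≫ d = _
      rw [Category.assoc, hd]
  let Zc : Over S → Over S := fun Z => Over.mk (pullback.fst Z.hom π ≫ Z.hom)
  let qc : ∀ Z, Zc Z ⟶ Z := fun Z => Over.homMk (pullback.fst Z.hom π) rfl
  have hepi : ∀ Z, Epi (qc Z) := fun Z => by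
    haveI : Epi (qc Z).left := Flat.epi_of_flat_of_surjective (pullback.fst Z.hom π)
    exact (Over.forget S).epi_of_epi_map (f := qc Z) ‹_›
  have hZc : ∀ Z : Over S, pullback.snd Z.hom π ≫ π = (Zc Z).hom := fun Z => pullback.condition.symm
  haveI : Mono j := ⟨fun {Z} x y e => by
    haveI := hepi Z
    rw [← cancel_epi (qc Z)]
    obtain ⟨h₁, e₁, e₁'⟩ := hlift _ (hZc Z) (qc Z ≫ x)
    obtain ⟨h₂, e₂, e₂'⟩ := hlift _ (hZc Z) (qc Z ≫ y)
    have : h₁ = h₂ := gpt_injective (j' := j') (by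
      rw [e₁, e₂, Category.assoc, Category.assoc, e])
    apply Over.OverMorphism.ext
    rw [← e₁', ← e₂', this]⟩
  -- factorisations through `j` are local for the cover
  have hloc : ∀ (Z : Over S) (g : Z ⟶ G), (∃ x : Zc Z ⟶ U, x ≫ j = qc Z ≫ g) →
      ∃ x : Z ⟶ U, x ≫ j = g := by
    rintro Z g ⟨x, hx⟩
    haveI : EffectiveEpi (pullback.fst Z.hom π) := Desc59.IsFpqcMor.effectiveEpi _
    haveI : Epi (pullback.fst Z.hom π) := inferInstance
    have hco : ∀ {T : Scheme.{u}} (t₁ t₂ : T ⟶ pullback Z.hom π),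
        t₁ ≫ pullback.fst Z.hom π = t₂ ≫ pullback.fst Z.hom π → t₁ ≫ x.left = t₂ ≫ x.left := by
      intro T t₁ t₂ e
      let TT : Over S := Over.mk (t₁ ≫ (Zc Z).hom)
      let u₁ : TT ⟶ Zc Z := Over.homMk t₁ rfl
      let u₂ : TT ⟶ Zc Z := Over.homMk t₂ (by
        show t₂ ≫ pullback.fst Z.hom π ≫ Z.hom = t₁ ≫ pullback.fst Z.hom π ≫ Z.hom
        rw [reassoc_of% e])
      have e' : u₁ ≫ x = u₂ ≫ x := by
        rw [← cancel_mono j, Category.assoc, Category.assoc, hx]
        apply Over.OverMorphism.ext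
        show t₁ ≫ pullback.fst Z.hom π ≫ g.left = t₂ ≫ pullback.fst Z.hom π ≫ g.left
        rw [reassoc_of% e]
      exact congrArg Over.Hom.left e'
    let y := EffectiveEpi.desc (pullback.fst Z.hom π) x.left hco
    have hy : pullback.fst Z.hom π ≫ y = x.left := EffectiveEpi.fac _ _ _
    refine ⟨Over.homMk y ?_, Over.OverMorphism.ext ?_⟩
    · rw [← cancel_epi (pullback.fst Z.hom π), reassoc_of% hy]
      exact Over.w x
    · rw [← cancel_epi (pullback.fst Z.hom π), Over.comp_left]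
      show _ ≫ y ≫ d = _
      rw [reassoc_of% hy]
      exact congrArg Over.Hom.left hx
  obtain ⟨hGrp, hjm⟩ := exists_grpObj_mono j
    (fun T => by
      refine hloc T 1 ?_
      obtain ⟨x, hx⟩ := hto (Z := Zc T) (pullback.snd T.hom π) (hZc T) 1
      exact ⟨x, by rw [hx, gpt_one, MonObj.comp_one]⟩)
    (fun T a b => by
      refine hloc T _ ?_
      obtain ⟨ha₁, ea, -⟩ := hlift _ (hZc T) (qc T ≫ a)
      obtain ⟨hb₁, eb, -⟩ := hlift _ (hZc T) (qc T ≫ b)
      obtain ⟨x, hx⟩ := hto _ (hZc T) (ha₁ * hb₁)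
      exact ⟨x, by rw [hx, gpt_mul, ea, eb, MonObj.comp_mul, Category.assoc, Category.assoc]⟩)
    (fun T a => by
      refine hloc T _ ?_
      obtain ⟨ha₁, ea, -⟩ := hlift _ (hZc T) (qc T ≫ a)
      obtain ⟨x, hx⟩ := hto _ (hZc T) ha₁⁻¹
      exact ⟨x, by rw [hx, gpt_inv, ea, GrpObj.comp_inv, Category.assoc]⟩)
  letI := hGrp
  haveI := hjm
  -- the base change
  let e : Red.bc π U ≅ H' := Over.isoMk hpb.isoPullback.symm (hpb.isoPullback_inv_snd)
  have he : e.hom ≫ j' = (Over.pullback π).map j := by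
    apply toBase_injective π
    apply Over.OverMorphism.ext
    rw [toBase_left, toBase_left, Over.comp_left, Category.assoc]
    show hpb.isoPullback.inv ≫ jg = _
    rw [← hd, hpb.isoPullback_inv_fst_assoc]
    exact (pullback.lift_fst _ _ _).symm
  haveI : IsMonHom e.hom := isMonHom_of_points _ fun X x y => by
    rw [← cancel_mono j', MonObj.mul_comp _ _ j', Category.assoc, Category.assoc, Category.assoc, he]
    exact MonObj.mul_comp _ _ _
  refine ⟨U, hGrp, j, hjm, ?_, ?_, e, he⟩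
  · have h1 := Desc59.descendsAlong_quasiCompact_immersion.{u}
    haveI : MorphismProperty.DescendsAlong (@IsImmersion ⊓ @QuasiCompact : MorphismProperty Scheme.{u})
        Unr55.fpqc.{u} := by unfold Unr55.fpqc; exact h1
    haveI : QuasiCompact j'.left := by
      haveI : IsSeparated (Red.bc π G).hom := inferInstanceAs (IsSeparated (pullback.snd G.hom π))
      haveI : QuasiCompact (j'.left ≫ (Red.bc π G).hom) := by rw [Over.w j']; infer_instance
      exact QuasiCompact.of_comp j'.left (Red.bc π G).hom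
    have h0 : (@IsImmersion ⊓ @QuasiCompact : MorphismProperty Scheme.{u})
        ((Over.pullback π).map j).left := by
      rw [← he, Over.comp_left]
      haveI : IsIso e.hom.left := inferInstanceAs (IsIso ((Over.forget S').map e.hom))
      exact (MorphismProperty.cancel_left_of_respectsIso
        (P := (@IsImmersion ⊓ @QuasiCompact : MorphismProperty Scheme.{u})) _ _).mpr
          ⟨‹IsImmersion j'.left›, ‹QuasiCompact j'.left›⟩
    exact (map_prop_of_fpqc_cover (@IsImmersion ⊓ @QuasiCompact : MorphismProperty Scheme.{u}) j π hqc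
      fun s' => ⟨⊤, trivial, MorphismProperty.of_isPullback
        (isPullback_bcTrans_map j π (⊤ : S'.Opens).ι _ rfl) h0⟩).1
  · obtain ⟨S'', f, hf, hs, hqc', hl⟩ := hH'
    refine ⟨S'', f ≫ π, inferInstance, inferInstance, IsQcCover.comp hqc' hqc, fun s'' => ?_⟩
    obtain ⟨W, hW, M, hM, hFG, ⟨ε⟩⟩ := hl s''
    refine ⟨W, hW, M, hM, hFG, ?_⟩
    haveI : IsMonHom ε.inv.hom.hom := ε.inv.hom.isMonHom_hom
    haveI : IsMonHom e.inv := inferInstance
    haveI : IsIso ε.inv.hom.hom := ((Grp.forget _).mapIso ε).isIso_inv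
    obtain ⟨iso'⟩ := exists_grpIso_bc_comp (H := U) π (W.ι ≫ f)
      (ε.inv.hom.hom ≫ (Over.pullback (W.ι ≫ f)).map e.inv)
    exact ⟨by rw [← Category.assoc]; exact iso'⟩

/-- A subgroup is determined by its base change along a cover. -/
theorem descend_subgroup_unique {G : Over S} [Flat π] [Surjective π] (hqc : IsQcCover π)
    {H' : Over S'} (j' : H' ⟶ Red.bc π G) {H₁ H₂ : Over S} (j₁ : H₁ ⟶ G) (j₂ : H₂ ⟶ G) [Mono j₁]
    [Mono j₂] (φ₁ : Red.bc π H₁ ≅ H') (h₁ : φ₁.hom ≫ j' = (Over.pullback π).map j₁)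
    (φ₂ : Red.bc π H₂ ≅ H') (h₂ : φ₂.hom ≫ j' = (Over.pullback π).map j₂) :
    ∃ ψ : H₁ ≅ H₂, ψ.hom ≫ j₂ = j₁ := by
  let P := MorphismProperty.isomorphisms Scheme.{u}
  haveI : P.DescendsAlong Unr55.fpqc.{u} := by unfold Unr55.fpqc; infer_instance
  let p₁ := pullback.fst j₁ j₂
  let p₂ := pullback.snd j₁ j₂
  have hpb : IsPullback p₁ p₂ j₁ j₂ := IsPullback.of_hasPullback j₁ j₂
  have h : IsIso ((Over.pullback π).map p₁).left ∧ IsIso ((Over.pullback π).map p₂).left :=
    (exists_iso_iff π hpb).mp ⟨φ₁ ≪≫ φ₂.symm, by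
      rw [Iso.trans_hom, Iso.symm_hom, Category.assoc, ← h₂, Iso.inv_hom_id_assoc, h₁]⟩
  have hp₁ : IsIso p₁.left := map_prop_of_fpqc_cover P p₁ π hqc fun s' => ⟨⊤, trivial,
    MorphismProperty.of_isPullback (isPullback_bcTrans_map p₁ π (⊤ : S'.Opens).ι _ rfl) h.1⟩
  have hp₂ : IsIso p₂.left := map_prop_of_fpqc_cover P p₂ π hqc fun s' => ⟨⊤, trivial,
    MorphismProperty.of_isPullback (isPullback_bcTrans_map p₂ π (⊤ : S'.Opens).ι _ rfl) h.2⟩
  haveI : IsIso p₁ := (isIso_iff_of_reflects_iso p₁ (Over.forget S)).mp hp₁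
  haveI : IsIso p₂ := (isIso_iff_of_reflects_iso p₂ (Over.forget S)).mp hp₂
  refine ⟨(asIso p₁).symm ≪≫ asIso p₂, ?_⟩
  rw [Iso.trans_hom, Iso.symm_hom, asIso_hom, asIso_inv, Category.assoc, IsIso.inv_comp_eq, hpb.w]

end Groth.Agent.RedPts82
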