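import Groth.Agent.RedPts82.OpenClosed

/-!
Actions of diagonalisable groups which are trivial modulo a nilpotent ideal of the base, or on all
fibres, are trivial.
-/

universe u

open CategoryTheory MonoidalCategory CartesianMonoidalCategory MonObj GrpObj AlgebraicGeometry
open CategoryTheory.Limits

namespace Groth.Agent.RedPts82

variable {S : Scheme.{u}} {V : Over S} [IsAffine V.left] {M : Type} [AddCommGroup M]
  (c : polyDS V M ⟶ V)

/-- The homogeneous components of a coaction. -/
noncomputable def comp' (g : Multiplicative M) : Gam V →+ Gam V where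
  toFun a := ((polyCoordEquiv V M).symm (c.left.appTop a)).coeff g
  map_zero' := by simp
  map_add' a b := by simp

theorem polyCoord_comp' (a : Gam V) :
    polyCoord V M ((polyCoordEquiv V M).symm (c.left.appTop a)) = c.left.appTop a := by
  rw [← polyCoordEquiv_apply, RingEquiv.apply_symm_apply]

theorem sum_comp' (hc1 : ∀ e : V ⟶ polyDS V M, e ≫ polyProj V M = 𝟙 V → e ≫ polyTu V M = 1 →
    e ≫ c = 𝟙 V) (a : Gam V) :
    (((polyCoordEquiv V M).symm (c.left.appTop a)).coeff.sum fun _ b => b) = a := by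
  obtain ⟨e, he1, he2, he3⟩ := exists_polyLift (M := M) (𝟙 V) (1 : V ⟶ Red.DS S M)
  have h := congrArg (fun k => k.left.appTop a) (hc1 e he1 he2)
  simp only [Over.comp_left, Scheme.Hom.comp_appTop, Over.id_left, Scheme.Hom.id_appTop] at h
  refine Eq.trans ?_ h
  show _ = e.left.appTop (c.left.appTop a)
  rw [← polyCoord_comp' c a, he3, evalDS_eq_sum, polyCoord_comp' c a]
  refine Finsupp.sum_congr fun g _ => ?_
  rw [dsFn_one, _root_.mul_one]
  rfl

variable (hassoc : ∀ (mm qq : polyDS (polyDS V M) M ⟶ polyDS V M) (L : polyDS (polyDS V M) M ⟶ polyDS V M),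
  mm ≫ polyProj V M = polyProj (polyDS V M) M ≫ polyProj V M →
  mm ≫ polyTu V M = polyTu (polyDS V M) M * (polyProj (polyDS V M) M ≫ polyTu V M) →
  L ≫ polyProj V M = polyProj (polyDS V M) M ≫ c → L ≫ polyTu V M = polyTu (polyDS V M) M →
  L ≫ c = mm ≫ c)

include hassoc in
theorem comp'_homogeneous (a : Gam V) (g : Multiplicative M) :
    c.left.appTop (comp' c g a) = polyCoord V M (MonoidAlgebra.single g (comp' c g a)) := by
  classical
  let P := polyDS V M
  obtain ⟨u, hu⟩ : ∃ u, (polyCoordEquiv V M).symm (c.left.appTop a) = u := ⟨_, rfl⟩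
  have hu' : polyCoord V M u = c.left.appTop a := hu ▸ polyCoord_comp' c a
  obtain ⟨L, hL1, hL2, hL3⟩ := exists_polyLift (polyProj P M ≫ c) (polyTu P M)
  obtain ⟨σ, hσ1, hσ2, hσ3⟩ := exists_polyLift (polyProj P M ≫ polyProj V M)
    (polyTu P M * (polyProj P M ≫ polyTu V M))
  have e0 := congrArg (fun k => k.left.appTop a) (hassoc σ σ L hσ1 hσ2 hL1 hL2)
  change L.left.appTop (c.left.appTop a) = σ.left.appTop (c.left.appTop a) at e0
  rw [← hu', hL3, hσ3] at e0
  have hl : evalDS (polyProj P M ≫ c) (polyTu P M) u =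
      polyCoord P M (MonoidAlgebra.mapRingHom (Multiplicative M) c.left.appTop.hom u) := by
    rw [evalDS_comp_map, evalDS_polyTu]
  have hr : ∀ q : DSRing V M, ∃ r, evalDS (polyProj P M ≫ polyProj V M)
      (polyTu P M * (polyProj P M ≫ polyTu V M)) q = polyCoord P M r ∧
      ∀ g, r.coeff g = polyCoord V M (MonoidAlgebra.single g (q.coeff g)) := by
    intro q
    induction q using MonoidAlgebra.induction_linear with
    | zero => exact ⟨0, by simp, fun g => by simp⟩
    | add x y hx hy =>
      obtain ⟨r, hr, hrc⟩ := hx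
      obtain ⟨r', hr', hrc'⟩ := hy
      refine ⟨r + r', by simp [hr, hr'], fun g => ?_⟩
      simp only [MonoidAlgebra.coeff_add, Finsupp.add_apply, hrc, hrc', MonoidAlgebra.single_add, map_add]
    | single g₀ b =>
      refine ⟨MonoidAlgebra.single g₀ (polyCoord V M (MonoidAlgebra.single g₀ b)), ?_, fun g => ?_⟩
      · obtain ⟨m, rfl⟩ := Multiplicative.ofAdd.surjective g₀
        rw [evalDS_single, dsFn_mul, dsFn_polyTu, dsFn_comp, dsFn_polyTu, polyProj_appTop,
          Over.comp_left, Scheme.Hom.comp_appTop]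
        show (polyProj P M).left.appTop ((polyProj V M).left.appTop b) * _ = _
        rw [polyProj_appTop, polyProj_appTop, ← map_mul, ← map_mul, MonoidAlgebra.single_mul_single,
          MonoidAlgebra.single_mul_single, _root_.one_mul, _root_.mul_one, _root_.one_mul, ← map_mul,
          MonoidAlgebra.single_mul_single, _root_.one_mul, _root_.mul_one]
      · rw [MonoidAlgebra.coeff_single, MonoidAlgebra.coeff_single]
        by_cases hg : g = g₀
        · subst hg; rw [Finsupp.single_eq_same, Finsupp.single_eq_same]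
        · rw [Finsupp.single_eq_of_ne hg, Finsupp.single_eq_of_ne hg,
            MonoidAlgebra.single_zero, map_zero]
  obtain ⟨r, hr1, hr2⟩ := hr u
  rw [hl, hr1] at e0
  have e1 := congrArg (fun r => r.coeff g) ((polyCoord_bijective P M).1 e0)
  simp only [MonoidAlgebra.coeff_mapRingHom, hr2] at e1
  have hg : comp' c g a = u.coeff g := by rw [← hu]; rfl
  rw [hg]
  exact e1

include hassoc in
theorem comp'_comp' (a : Gam V) (g : Multiplicative M) : comp' c g (comp' c g a) = comp' c g a := by
  show MonoidAlgebra.coeff ((polyCoordEquiv V M).symm (c.left.appTop (comp' c g a))) g = _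
  rw [comp'_homogeneous c hassoc, ← polyCoordEquiv_apply, RingEquiv.symm_apply_apply,
    MonoidAlgebra.coeff_single, Finsupp.single_eq_same]

theorem comp'_base_mul (r : Γ(S, ⊤)) (a : Gam V) (g : Multiplicative M) :
    comp' c g (V.hom.appTop r * a) = V.hom.appTop r * comp' c g a := by
  have e : c.left.appTop (V.hom.appTop r) = polyCoord V M (MonoidAlgebra.single 1 (V.hom.appTop r)) := by
    rw [← polyProj_appTop]
    have h1 := congrArg (fun k => k.appTop r) ((Over.w c).trans (Over.w (polyProj V M)).symm)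
    simpa only [Scheme.Hom.comp_appTop, CommRingCat.comp_apply] using h1
  show MonoidAlgebra.coeff ((polyCoordEquiv V M).symm (c.left.appTop (_ * a))) g = _
  rw [map_mul, map_mul, e, ← polyCoordEquiv_apply, RingEquiv.symm_apply_apply,
    MonoidAlgebra.single_one_mul_apply]
  rfl

/-- The ideal of the components of non-zero degree. -/
noncomputable def ctIdeal : Ideal (Gam V) :=
  Ideal.span {b | ∃ a g, g ≠ 1 ∧ comp' c g a = b}

include hassoc in
theorem comp'_mem_map_mul (𝔞 : Ideal Γ(S, ⊤)) {a : Gam V} {g : Multiplicative M} (hg : g ≠ 1)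
    (ha : a ∈ 𝔞.map V.hom.appTop.hom) : comp' c g a ∈ 𝔞.map V.hom.appTop.hom * ctIdeal c := by
  refine Submodule.span_induction (p := fun x _ => ∀ b, comp' c g (x * b) ∈ 𝔞.map V.hom.appTop.hom * ctIdeal c)
    ?_ ?_ ?_ ?_ ha 1 |> fun h => by rwa [_root_.mul_one] at h
  · rintro _ ⟨r, hr, rfl⟩ b
    rw [comp'_base_mul]
    exact Ideal.mul_mem_mul (Ideal.mem_map_of_mem _ hr) (Ideal.subset_span ⟨b, g, hg, rfl⟩)
  · intro b; simp
  · intro x y _ _ hx hy b
    rw [add_mul, map_add]
    exact Ideal.add_mem _ (hx b) (hy b)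
  · intro s x _ hx b
    rw [smul_eq_mul, _root_.mul_comm s x, _root_.mul_assoc]
    exact hx _

theorem eq_proj_of_ctIdeal (hc1 : ∀ e : V ⟶ polyDS V M, e ≫ polyProj V M = 𝟙 V → e ≫ polyTu V M = 1 →
    e ≫ c = 𝟙 V) (h : ctIdeal c = ⊥) : c = polyProj V M := by
  refine hom_eq_of_appTop (CommRingCat.hom_ext (RingHom.ext fun a => ?_))
  have hz : ∀ g, g ≠ 1 → comp' c g a = 0 := fun g hg => by
    have : comp' c g a ∈ ctIdeal c := Ideal.subset_span ⟨a, g, hg, rfl⟩
    rwa [h, Submodule.mem_bot] at this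
  have h1 : (polyCoordEquiv V M).symm (c.left.appTop a) = MonoidAlgebra.single 1 a := by
    refine MonoidAlgebra.ext (Finsupp.ext fun g => ?_)
    rw [MonoidAlgebra.coeff_single]
    by_cases hg : g = 1
    · subst hg
      rw [Finsupp.single_eq_same]
      conv_rhs => rw [← sum_comp' c hc1 a]
      classical
      rw [Finsupp.sum, Finset.sum_eq_single (1 : Multiplicative M)]
      · intro b _ hb; exact hz b hb
      · intro hn; exact Finsupp.notMem_support_iff.mp hn
    · rw [Finsupp.single_eq_of_ne hg]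
      exact hz g hg
  have h2 := polyCoord_comp' c a
  rw [h1] at h2
  rw [polyProj_appTop]
  exact h2.symm

/-- Values of the components at the points fixed by the group. -/
theorem map_comp'_eq_zero {Z : Over S} [IsAffine Z.left] (z : Z ⟶ V)
    (hfix : ∀ (Y : Over S) (w : Y ⟶ polyDS V M) (y : Y ⟶ Z), w ≫ polyProj V M = y ≫ z → w ≫ c = y ≫ z)
    (a : Gam V) {g : Multiplicative M} (hg : g ≠ 1) : z.left.appTop (comp' c g a) = 0 := by
  obtain ⟨w, hw1, hw2, hw3⟩ := exists_polyLift (M := M) (polyProj Z M ≫ z) (polyTu Z M)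
  have h := congrArg (fun k => k.left.appTop a) (hfix _ w (polyProj Z M) hw1)
  change w.left.appTop (c.left.appTop a) = (polyProj Z M).left.appTop (z.left.appTop a) at h
  rw [← polyCoord_comp' c a, hw3, evalDS_comp_map, evalDS_polyTu, polyProj_appTop] at h
  have h1 := congrArg (fun r => r.coeff g) ((polyCoord_bijective Z M).1 h)
  simp only [MonoidAlgebra.coeff_mapRingHom, MonoidAlgebra.coeff_single, Finsupp.single_eq_of_ne hg] at h1
  exact h1

section Action

omit [IsAffine V.left] in
theorem map_ideal_hom_eq_bot {Z V : Over S} (z : Z ⟶ V) {𝔞 : Ideal Γ(S, ⊤)}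
    (h : (𝔞.map V.hom.appTop.hom).map z.left.appTop.hom = ⊥) : 𝔞.map Z.hom.appTop.hom = ⊥ := by
  rw [← Over.w z, Scheme.Hom.comp_appTop]
  show 𝔞.map (z.left.appTop.hom.comp V.hom.appTop.hom) = ⊥
  rw [← Ideal.map_map]
  exact h

variable {X : Over S} (act : Red.DS S M ⊗ X ⟶ X)
  (hact : ∀ (Z : Over S) (h h' : Z ⟶ Red.DS S M) (p : Z ⟶ X),
    CartesianMonoidalCategory.lift (h * h') p ≫ act =
      CartesianMonoidalCategory.lift h (CartesianMonoidalCategory.lift h' p ≫ act) ≫ act)
  (hone : ∀ (Z : Over S) (p : Z ⟶ X), CartesianMonoidalCategory.lift 1 p ≫ act = p)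

omit [IsAffine V.left] in
/-- The group acts trivially on the points of `X` over `Z`. -/
def FixedOn (Z : Over S) : Prop :=
  ∀ (Y : Over S) (_ : Y ⟶ Z) (h : Y ⟶ Red.DS S M) (x : Y ⟶ X),
    CartesianMonoidalCategory.lift h x ≫ act = x

include hact hone in
set_option maxHeartbeats 1000000 in
/-- Over an affine open the action is a coaction, trivial if it has no components of non-zero degree. -/
theorem exists_coaction (hfield : ∀ (Z : Over S), IsAffine Z.left → IsField Γ(Z.left, ⊤) → FixedOn act Z)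
    (j : V ⟶ X) [IsOpenImmersion j.left] :
    ∃ c : polyDS V M ⟶ V,
      c ≫ j = CartesianMonoidalCategory.lift (polyTu V M) (polyProj V M ≫ j) ≫ act ∧
      (∀ e : V ⟶ polyDS V M, e ≫ polyProj V M = 𝟙 V → e ≫ polyTu V M = 1 → e ≫ c = 𝟙 V) ∧
      (∀ (mm qq : polyDS (polyDS V M) M ⟶ polyDS V M) (L : polyDS (polyDS V M) M ⟶ polyDS V M),
        mm ≫ polyProj V M = polyProj (polyDS V M) M ≫ polyProj V M →
        mm ≫ polyTu V M = polyTu (polyDS V M) M * (polyProj (polyDS V M) M ≫ polyTu V M) →
        L ≫ polyProj V M = polyProj (polyDS V M) M ≫ c → L ≫ polyTu V M = polyTu (polyDS V M) M →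
        L ≫ c = mm ≫ c) := by
  let F : polyDS V M ⟶ X := CartesianMonoidalCategory.lift (polyTu V M) (polyProj V M ≫ j) ≫ act
  have hr : Set.range F.left.base ⊆ Set.range j.left.base := by
    rintro _ ⟨y, rfl⟩
    let R : Over S := Over.mk ((polyDS V M).left.fromSpecResidueField y ≫ (polyDS V M).hom)
    let e : R ⟶ polyDS V M := Over.homMk ((polyDS V M).left.fromSpecResidueField y) rfl
    haveI : IsAffine R.left := inferInstanceAs (IsAffine (Spec _))
    have hK : IsField Γ(R.left, ⊤) :=
      MulEquiv.isField (Field.toIsField ((polyDS V M).left.residueField y))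
        (Scheme.ΓSpecIso _).commRingCatIsoToRingEquiv.toMulEquiv
    have h := hfield R inferInstance hK R (𝟙 R) (e ≫ polyTu V M) (e ≫ polyProj V M ≫ j)
    rw [← comp_lift_assoc] at h
    have h1 := congrArg (fun k : R ⟶ X => k.left (IsLocalRing.closedPoint _)) h
    have he : e.left (IsLocalRing.closedPoint _) = y := Scheme.fromSpecResidueField_apply y _
    refine ⟨(polyProj V M).left y, ?_⟩
    calc j.left ((polyProj V M).left y)
        = j.left ((polyProj V M).left (e.left (IsLocalRing.closedPoint _))) := by rw [he]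
      _ = F.left (e.left (IsLocalRing.closedPoint _)) := h1.symm
      _ = F.left y := by rw [he]
  haveI : Mono j := Over.mono_of_mono_left j
  let c : polyDS V M ⟶ V := Over.homMk (IsOpenImmersion.lift j.left F.left hr) (by
    rw [← Over.w j, IsOpenImmersion.lift_fac_assoc, Over.w F])
  have hc : c ≫ j = F := Over.OverMorphism.ext (IsOpenImmersion.lift_fac _ _ hr)
  refine ⟨c, hc, fun e h1 h2 => ?_, fun mm qq L h1 h2 h3 h4 => ?_⟩
  · rw [← cancel_mono j, Category.assoc, hc]
    simp only [F, comp_lift_assoc, h2, reassoc_of% h1, hone, Category.id_comp]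
  · rw [← cancel_mono j, Category.assoc, Category.assoc, hc]
    simp only [F, comp_lift_assoc, h4, reassoc_of% h3, hc, h2, reassoc_of% h1]
    rw [hact]

omit [IsAffine V.left] in
/-- Triviality of an action can be checked on affine opens. -/
theorem fixed_of_opens
    (h : ∀ (V : Over S) [IsAffine V.left] (j : V ⟶ X) [IsOpenImmersion j.left],
      CartesianMonoidalCategory.lift (polyTu V M) (polyProj V M ≫ j) ≫ act = polyProj V M ≫ j)
    (Y : Over S) (t : Y ⟶ Red.DS S M) (x : Y ⟶ X) : CartesianMonoidalCategory.lift t x ≫ act = x := by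
  refine hom_ext_of_nhds _ _ fun y => ?_
  obtain ⟨U, hU, hxU, -⟩ := exists_isAffineOpen_mem_and_subset (x := x.left y)
    (U := (⊤ : X.left.Opens)) trivial
  refine ⟨x.left ⁻¹ᵁ U, hxU, ?_⟩
  let Y' : Over S := Over.mk ((x.left ⁻¹ᵁ U).ι ≫ Y.hom)
  let i : Y' ⟶ Y := Over.homMk (x.left ⁻¹ᵁ U).ι rfl
  let V' : Over S := Over.mk (U.ι ≫ X.hom)
  let j : V' ⟶ X := Over.homMk U.ι rfl
  haveI : IsAffine V'.left := hU
  haveI : IsOpenImmersion j.left := inferInstanceAs (IsOpenImmersion U.ι)
  let x' : Y' ⟶ V' := Over.homMk (x.left ∣_ U) (by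
    show (x.left ∣_ U) ≫ U.ι ≫ X.hom = (x.left ⁻¹ᵁ U).ι ≫ Y.hom
    rw [morphismRestrict_ι_assoc, Over.w x])
  have hx' : x' ≫ j = i ≫ x := Over.OverMorphism.ext (morphismRestrict_ι _ _)
  obtain ⟨w, hw1, hw2, -⟩ := exists_polyLift (M := M) x' (i ≫ t)
  have h1 := congrArg (fun k => w ≫ k) (h V' j)
  simp only [comp_lift_assoc, hw2, reassoc_of% hw1, hx'] at h1
  rw [← comp_lift_assoc] at h1
  exact congrArg CommaMorphism.left h1

omit [IsAffine V.left] in
theorem fix_of_fixedOn {V : Over S} [IsAffine V.left] (j : V ⟶ X) [Mono j] (c : polyDS V M ⟶ V)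
    (hc : c ≫ j = CartesianMonoidalCategory.lift (polyTu V M) (polyProj V M ≫ j) ≫ act)
    {Z : Over S} (hZ : FixedOn act Z) (z : Z ⟶ V)
    (Y : Over S) (w : Y ⟶ polyDS V M) (y : Y ⟶ Z) (hw : w ≫ polyProj V M = y ≫ z) :
    w ≫ c = y ≫ z := by
  rw [← cancel_mono j, Category.assoc, hc, comp_lift_assoc, reassoc_of% hw, Category.assoc]
  exact hZ Y y _ _

include hact hone in
/-- An action trivial modulo a nilpotent ideal of the base is trivial. -/
theorem fixed_of_nilpotent {J : Ideal Γ(S, ⊤)} (hJ : IsNilpotent J)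
    (h : ∀ (Z : Over S), IsAffine Z.left → J.map Z.hom.appTop.hom = ⊥ → FixedOn act Z)
    (Y : Over S) (t : Y ⟶ Red.DS S M) (x : Y ⟶ X) : CartesianMonoidalCategory.lift t x ≫ act = x := by
  obtain ⟨n, hn⟩ := hJ
  have hfield : ∀ (Z : Over S), IsAffine Z.left → IsField Γ(Z.left, ⊤) → FixedOn act Z := by
    intro Z hZ hK
    refine h Z hZ ((Ideal.map_eq_bot_iff_le_ker _).mpr fun r hr => ?_)
    letI := hK.toField
    have h0 : r ^ n = 0 := (Submodule.mem_bot _).mp (hn ▸ Ideal.pow_mem_pow hr n)
    rw [RingHom.mem_ker]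
    exact eq_zero_of_pow_eq_zero (n := n) (by rw [← map_pow, h0, map_zero])
  refine fixed_of_opens act (fun V _ j _ => ?_) Y t x
  haveI : Mono j := Over.mono_of_mono_left j
  obtain ⟨c, hc, hc1, hassoc⟩ := exists_coaction act hact hone hfield j
  let 𝔟 := J.map V.hom.appTop.hom
  have hb : ∀ {a}, a ∈ 𝔟 → (redMap V 𝔟).left.appTop a = 0 := fun {a} ha =>
    ((redMap_appTop_eq_iff V 𝔟 a 0).mpr (by rwa [sub_zero])).trans (map_zero _)
  haveI : IsAffine (redObj V 𝔟).left := inferInstanceAs (IsAffine (Spec _))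
  have hZ : FixedOn act (redObj V 𝔟) := h _ inferInstance (map_ideal_hom_eq_bot (redMap V 𝔟)
    ((Ideal.map_eq_bot_iff_le_ker _).mpr fun a ha => hb ha))
  have hle : ctIdeal c ≤ 𝔟 * ctIdeal c := by
    rw [ctIdeal, Ideal.span_le]
    rintro _ ⟨a, g, hg, rfl⟩
    show comp' c g a ∈ 𝔟 * ctIdeal c
    rw [← comp'_comp' c hassoc]
    refine comp'_mem_map_mul c hassoc J hg ?_
    have h1 := map_comp'_eq_zero c (redMap V 𝔟) (fix_of_fixedOn act j c hc hZ (redMap V 𝔟)) a hg
    have := (redMap_appTop_eq_iff V 𝔟 _ 0).mp (h1.trans (map_zero _).symm)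
    rwa [sub_zero] at this
  have hpow : ∀ k, ctIdeal c ≤ 𝔟 ^ k * ctIdeal c := by
    intro k
    induction k with
    | zero => simp
    | succ k ih =>
      refine ih.trans (le_of_le_of_eq (Ideal.mul_mono_right hle) ?_)
      rw [pow_succ, _root_.mul_assoc]
  have h0 : ctIdeal c = ⊥ := le_bot_iff.mp ((hpow n).trans (by
    rw [← Ideal.map_pow, hn]
    simp))
  rw [← hc, eq_proj_of_ctIdeal c hc1 h0]

include hact hone in
set_option maxHeartbeats 1000000 in
/-- An action trivial on the fibres is trivial, for schemes locally of finite type. -/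
theorem fixed_of_fibres [IsAffine S] [LocallyOfFiniteType X.hom]
    (h : ∀ (p : Ideal Γ(S, ⊤)), p.IsPrime → ∀ (Z : Over S), IsAffine Z.left →
      p.map Z.hom.appTop.hom = ⊥ → (∀ r, r ∉ p → IsUnit (Z.hom.appTop r)) → FixedOn act Z)
    (Y : Over S) (t : Y ⟶ Red.DS S M) (x : Y ⟶ X) : CartesianMonoidalCategory.lift t x ≫ act = x := by
  classical
  have hfield : ∀ (Z : Over S), IsAffine Z.left → IsField Γ(Z.left, ⊤) → FixedOn act Z := by
    intro Z hZ hK
    letI := hK.toField
    refine h (RingHom.ker Z.hom.appTop.hom) (RingHom.ker_isPrime _) Z hZ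
      ((Ideal.map_eq_bot_iff_le_ker _).mpr le_rfl) fun r hr => ?_
    exact IsUnit.mk0 _ fun h0 => hr h0
  refine fixed_of_opens act (fun V _ j _ => ?_) Y t x
  haveI : Mono j := Over.mono_of_mono_left j
  obtain ⟨c, hc, hc1, hassoc⟩ := exists_coaction act hact hone hfield j
  haveI : LocallyOfFiniteType V.hom := by rw [← Over.w j]; infer_instance
  letI algA : Algebra Γ(S, ⊤) (Gam V) := V.hom.appTop.hom.toAlgebra
  obtain ⟨T, hT⟩ : (⊤ : Subalgebra Γ(S, ⊤) (Gam V)).FG :=
    ((HasRingHomProperty.iff_of_isAffine (P := @LocallyOfFiniteType)).mp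
      ‹LocallyOfFiniteType V.hom› : Algebra.FiniteType Γ(S, ⊤) (Gam V)).out
  -- finitely many generators of the ideal of components
  let u : Gam V →+* DSRing V M :=
    (polyCoordEquiv V M).symm.toRingHom.comp c.left.appTop.hom
  let F : Finset (Gam V) :=
    T.biUnion fun a => ((u a).coeff.support.erase 1).image fun g => comp' c g a
  have hFG : (ctIdeal c).FG := by
    refine ⟨F, le_antisymm (Ideal.span_mono ?_) ?_⟩
    · intro b hb
      simp only [F, Finset.coe_biUnion, Set.mem_iUnion, Finset.coe_image, Set.mem_image] at hb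
      obtain ⟨a, -, g, hg, rfl⟩ := hb
      exact ⟨a, g, (Finset.mem_erase.mp hg).1, rfl⟩
    · rw [ctIdeal, Ideal.span_le]
      rintro _ ⟨a, g, hg, rfl⟩
      let I' : Ideal (Gam V) := Ideal.span F
      let q := MonoidAlgebra.mapRingHom (Multiplicative M) (Ideal.Quotient.mk I')
      let φ : Gam V →+* MonoidAlgebra (Gam V ⧸ I') (Multiplicative M) := q.comp u
      let ψ : Gam V →+* MonoidAlgebra (Gam V ⧸ I') (Multiplicative M) :=
        q.comp MonoidAlgebra.singleOneRingHom
      have hgen : ∀ b ∈ T, φ b = ψ b := by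
        intro b hb
        have hz : ∀ g' : Multiplicative M, g' ≠ 1 → comp' c g' b ∈ I' := fun g' hg' => by
          by_cases hs : g' ∈ (u b).coeff.support
          · exact Ideal.subset_span (Finset.mem_biUnion.mpr ⟨b, hb,
              Finset.mem_image.mpr ⟨g', Finset.mem_erase.mpr ⟨hg', hs⟩, rfl⟩⟩)
          · rw [show comp' c g' b = 0 from Finsupp.notMem_support_iff.mp hs]
            exact I'.zero_mem
        refine MonoidAlgebra.ext (Finsupp.ext fun g' => ?_)
        show (q (u b)).coeff g' = (q (MonoidAlgebra.single 1 b)).coeff g'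
        simp only [q, MonoidAlgebra.coeff_mapRingHom, MonoidAlgebra.coeff_single]
        by_cases hg' : g' = 1
        · subst hg'
          rw [Finsupp.single_eq_same]
          conv_rhs => rw [← sum_comp' c hc1 b]
          rw [map_finsuppSum, Finsupp.sum, Finset.sum_eq_single (1 : Multiplicative M)]
          · rfl
          · intro g'' _ hg''
            exact Ideal.Quotient.eq_zero_iff_mem.mpr (hz g'' hg'')
          · intro hn
            rw [Finsupp.notMem_support_iff.mp hn, map_zero]
        · rw [Finsupp.single_eq_of_ne hg', map_zero]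
          exact Ideal.Quotient.eq_zero_iff_mem.mpr (hz g' hg')
      have hall : φ a = ψ a := by
        have ha : a ∈ Algebra.adjoin Γ(S, ⊤) (T : Set (Gam V)) := by rw [hT]; trivial
        induction ha using Algebra.adjoin_induction with
        | mem b hb => exact hgen b hb
        | algebraMap r =>
          show q (u (V.hom.appTop r)) = q (MonoidAlgebra.singleOneRingHom (V.hom.appTop r))
          congr 1
          show (polyCoordEquiv V M).symm (c.left.appTop (V.hom.appTop r)) = MonoidAlgebra.single 1 _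
          rw [RingEquiv.symm_apply_eq, polyCoordEquiv_apply, ← polyProj_appTop]
          have h1 := congrArg (fun k => k.appTop r) ((Over.w c).trans (Over.w (polyProj V M)).symm)
          simpa only [Scheme.Hom.comp_appTop, CommRingCat.comp_apply] using h1
        | add b b' _ _ h1 h2 => rw [map_add, map_add, h1, h2]
        | mul b b' _ _ h1 h2 => rw [map_mul, map_mul, h1, h2]
      have h2 : (q (u a)).coeff g = (q (MonoidAlgebra.single 1 a)).coeff g :=
        congrArg (fun v => v.coeff g) hall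
      simp only [q, MonoidAlgebra.coeff_mapRingHom, MonoidAlgebra.coeff_single,
        Finsupp.single_eq_of_ne hg, map_zero] at h2
      exact Ideal.Quotient.eq_zero_iff_mem.mp h2
  -- Nakayama at every maximal ideal
  have hloc : ∀ q : Ideal (Gam V), q.IsMaximal → ctIdeal c ≤ q • ctIdeal c := by
    intro q hq
    let p : Ideal Γ(S, ⊤) := q.comap V.hom.appTop.hom
    haveI : p.IsPrime := Ideal.IsPrime.comap _
    let pA : Ideal (Gam V) := p.map V.hom.appTop.hom
    let mB : Submonoid (Gam V ⧸ pA) :=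
      p.primeCompl.map ((Ideal.Quotient.mk pA).comp V.hom.appTop.hom : Γ(S, ⊤) →* (Gam V ⧸ pA))
    let B : Type u := Localization mB
    let θ : Gam V →+* B := (algebraMap (Gam V ⧸ pA) B).comp (Ideal.Quotient.mk pA)
    let Z : Over S := Over.mk ((Spec.map (CommRingCat.ofHom θ) ≫ V.left.isoSpec.inv) ≫ V.hom)
    let z : Z ⟶ V := Over.homMk (Spec.map (CommRingCat.ofHom θ) ≫ V.left.isoSpec.inv) rfl
    haveI : IsAffine Z.left := inferInstanceAs (IsAffine (Spec (CommRingCat.of B)))
    let σB := (Scheme.ΓSpecIso (CommRingCat.of B)).commRingCatIsoToRingEquiv.symm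
    have hz : ∀ a, z.left.appTop a = σB (θ a) := fun a => by
      show (Spec.map (CommRingCat.ofHom θ) ≫ V.left.isoSpec.inv).appTop a = _
      simp only [Scheme.Hom.comp_appTop, isoSpec_inv_appTop, CommRingCat.comp_apply]
      exact (congr($(Scheme.ΓSpecIso_inv_naturality (CommRingCat.ofHom θ)) a)).symm
    have hZhom : ∀ r, Z.hom.appTop r = σB (θ (V.hom.appTop r)) := fun r => by
      rw [← hz, ← Over.w z, Scheme.Hom.comp_appTop]
      rfl
    have hZ : FixedOn act Z := h p inferInstance Z inferInstance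
      (map_ideal_hom_eq_bot z ((Ideal.map_eq_bot_iff_le_ker _).mpr fun a ha => by
        rw [RingHom.mem_ker]
        refine (hz a).trans ?_
        have : θ a = 0 := by
          show algebraMap _ B (Ideal.Quotient.mk pA a) = 0
          rw [Ideal.Quotient.eq_zero_iff_mem.mpr ha, map_zero]
        rw [this, map_zero]))
      fun r hr => by
        rw [hZhom]
        exact (IsLocalization.map_units B (⟨_, r, hr, rfl⟩ : mB)).map σB
    rw [ctIdeal, Ideal.span_le]
    rintro _ ⟨a, g, hg, rfl⟩
    let b := comp' c g a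
    show b ∈ q • ctIdeal c
    have h1 := map_comp'_eq_zero c z (fix_of_fixedOn act j c hc hZ z) a hg
    rw [hz, map_eq_zero_iff σB σB.injective] at h1
    obtain ⟨⟨_, r, hr, rfl⟩, hm⟩ := (IsLocalization.map_eq_zero_iff mB B _).mp h1
    have hmem : V.hom.appTop r * b ∈ pA := Ideal.Quotient.eq_zero_iff_mem.mp (by
      rw [map_mul]; exact hm)
    have h2 : V.hom.appTop r * b ∈ pA * ctIdeal c := by
      have := comp'_mem_map_mul c hassoc p hg hmem
      rwa [comp'_base_mul, comp'_comp' c hassoc] at this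
    have hrq : V.hom.appTop r ∉ q := hr
    obtain ⟨v, y, hy, hv⟩ := hq.exists_inv hrq
    have hb : b = v * (V.hom.appTop r * b) + y * b := by
      rw [← _root_.mul_assoc, ← add_mul, hv, _root_.one_mul]
    rw [hb, smul_eq_mul]
    refine Ideal.add_mem _ (Ideal.mul_mem_left _ v (Ideal.mul_mono_left Ideal.map_comap_le h2))
      (Ideal.mul_mem_mul hy (Ideal.subset_span ⟨a, g, hg, rfl⟩))
  have h0 : ctIdeal c = ⊥ := by
    by_contra hne
    have hann : (ctIdeal c).annihilator ≠ ⊤ := fun h1 => hne (Submodule.annihilator_eq_top_iff.mp h1)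
    obtain ⟨q, hq, hle⟩ := Ideal.exists_le_maximal _ hann
    obtain ⟨r, hr1, hr0⟩ :=
      Submodule.exists_sub_one_mem_and_smul_eq_zero_of_fg_of_le_smul q _ hFG (hloc q hq)
    have hrq : r ∈ q := hle (Submodule.mem_annihilator.mpr hr0)
    exact hq.ne_top ((Ideal.eq_top_iff_one _).mpr (by
      have := Ideal.sub_mem _ hrq hr1
      simpa using this))
  rw [← hc, eq_proj_of_ctIdeal c hc1 h0]

end Action

end Groth.Agent.RedPts82
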