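import Groth.Agent.RootDat34.Main
import Groth.Agent.AlgGrp79.ToriSep
import Groth.Agent.SGA3a.NonAff.Bridge

/-!
Over an algebraically closed field the root datum of a split reductive group is unique.
-/

set_option autoImplicit false
set_option linter.unusedSectionVars false

universe u

open CategoryTheory MonoidalCategory CartesianMonoidalCategory MonObj GrpObj AlgebraicGeometry

namespace Groth.Agent.RedPts82

theorem nonempty_equiv_algClosed {K : Type u} [Field K] [IsAlgClosed K] {G : Over (Spec (CommRingCat.of K))} [GrpObj G]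
    (D D' : Red.SplitRed G) : Nonempty (RootPairing.Equiv D.P D'.P) := by
  have := D.reductive.2.1
  have := D.reductive.1
  have : IsAffine G.left := isAffine_of_isAffineHom G.hom
  have key : ∀ E E' : Red.SplitRed G, ∃ g : 𝟙_ (Over (Spec (CommRingCat.of K))) ⟶ G,
      ∀ (X : Over (Spec (CommRingCat.of K))) (t : X ⟶ E.T), ∃ t' : X ⟶ E'.T,
        (toUnit X ≫ g) * (t ≫ E.i) * (toUnit X ≫ g)⁻¹ = t' ≫ E'.i := by
    intro E E'
    obtain ⟨g, f, hf⟩ := AlgGrp79.ToriSep.maxTorus_conj_all G
      (SGA3a.NonAff.isMaxTorus_of_isMaximalTorus E.maximalTorus)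
      (SGA3a.NonAff.isMaxTorus_of_isMaximalTorus E'.maximalTorus)
    refine ⟨g, fun X t => ⟨t ≫ f.hom, ?_⟩⟩
    rw [Category.assoc, hf]
    simp only [AGF.conjBy, MonObj.comp_mul, GrpObj.comp_inv, ← Category.assoc]
    rw [toUnit_unique (t ≫ toUnit _) (toUnit X)]
  obtain ⟨g, hg⟩ := key D D'
  obtain ⟨g', hg'⟩ := key D' D
  exact RootDat34.nonempty_equiv hg hg'

end Groth.Agent.RedPts82
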