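import Groth.Agent.WeilRes57.Affine
import Groth.Agent.WeilRes57.UnivHomeo
import Groth.Agent.SchBasics.FPCancel

/-!
The Weil restriction of an affine scheme along a finite locally free morphism is affine, with finiteness
conditions.
-/

set_option autoImplicit false
set_option backward.isDefEq.respectTransparency.types false
set_option linter.style.haveILetI false
universe u

open CategoryTheory CategoryTheory.Limits AlgebraicGeometry Opposite
open scoped TensorProduct

noncomputable section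

namespace Groth.Agent.RedPts82.WeilAff

open Groth.Agent.Alg80.WeilAlg Groth.Agent.WeilRes57

section Algebra

variable {B B' : Type u} [CommRing B] [CommRing B'] [Algebra B B']

/-- The representing algebra of the Weil restriction, with finiteness conditions. -/
theorem exists_weilAlg_props [Module.Finite B B'] [Module.Projective B B'] (C : Type u) [CommRing C]
    [Algebra B' C] :
    ∃ (W : Type u) (_ : CommRing W) (_ : Algebra B W) (u : C →ₐ[B'] B' ⊗[B] W),
      (Algebra.FiniteType B' C → Algebra.FiniteType B W) ∧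
      (Algebra.FinitePresentation B' C → Algebra.FinitePresentation B W) ∧
      ∀ (A : Type u) [CommRing A] [Algebra B A] (ψ : C →ₐ[B'] B' ⊗[B] A),
        ∃! φ : W →ₐ[B] A, (mapId φ).comp u = ψ := by
  classical
  obtain ⟨W, _, _, u, hu⟩ := WeilRes57.exists_weilAlg (B := B) (B' := B') C
  refine ⟨W, inferInstance, inferInstance, u, fun h => ?_, fun h => ?_, hu⟩
  · obtain ⟨t, ht⟩ := h.out
    obtain ⟨n, b, σ, hbσ⟩ := exists_dual_basis (B := B) (B' := B')
    let g : Finset W := (t ×ˢ (Finset.univ : Finset (Fin n))).image fun cl => coef (σ cl.2) (u cl.1)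
    let W₀ : Subalgebra B W := Algebra.adjoin B (g : Set W)
    have hinj : Function.Injective (mapId (B' := B') W₀.val) :=
      Module.Flat.lTensor_preserves_injective_linearMap (M := B') W₀.val.toLinearMap Subtype.val_injective
    have hrange : ∀ c, u c ∈ (mapId (B' := B') W₀.val).range := by
      have : Algebra.adjoin B' (t : Set C) ≤ ((mapId (B' := B') W₀.val).range).comap u := by
        refine Algebra.adjoin_le fun c hc => ?_
        show u c ∈ (mapId (B' := B') W₀.val).range
        rw [← sum_coef b σ hbσ (u c)]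
        refine Subalgebra.sum_mem _ fun l _ => ⟨b l ⊗ₜ[B] (⟨coef (σ l) (u c), Algebra.subset_adjoin
          (Finset.mem_image.2 ⟨(c, l), Finset.mem_product.2 ⟨hc, Finset.mem_univ l⟩, rfl⟩)⟩ : W₀), ?_⟩
        simp
      exact fun c => this (ht ▸ Algebra.mem_top)
    let u₀ : C →ₐ[B'] B' ⊗[B] W₀ :=
      ((AlgEquiv.ofInjective (mapId (B' := B') W₀.val) hinj).symm.toAlgHom).comp (u.codRestrict _ hrange)
    have hu₀ : (mapId W₀.val).comp u₀ = u := by
      refine AlgHom.ext fun c => ?_
      exact congrArg Subtype.val ((AlgEquiv.ofInjective (mapId (B' := B') W₀.val) hinj).apply_symm_apply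
        (u.codRestrict _ hrange c))
    obtain ⟨φ, hφ, -⟩ := hu W₀ u₀
    have hid : W₀.val.comp φ = AlgHom.id B W := by
      refine (hu W u).unique ?_ ?_
      · rw [mapId_comp, AlgHom.comp_assoc, hφ, hu₀]
      · refine AlgHom.ext fun c => ?_
        show mapId (AlgHom.id B W) (u c) = u c
        rw [show mapId (B' := B') (AlgHom.id B W) = AlgHom.id B' _ from Algebra.TensorProduct.map_id]
        rfl
    refine ⟨⟨g, eq_top_iff.2 fun w _ => ?_⟩⟩
    have h' : ((φ w : W₀) : W) = w := congr($hid w)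
    rw [← h']
    exact (φ w).2
  · obtain ⟨W', _, _, u', hfp, hu'⟩ := Alg80.WeilAlg.exists_weilAlg (B := B) (B' := B') C
    obtain ⟨φ, hφ, -⟩ := hu W' u'
    obtain ⟨φ', hφ', -⟩ := hu' W u
    have h1 : φ'.comp φ = AlgHom.id B W := by
      refine (hu W u).unique ?_ ?_
      · rw [mapId_comp, AlgHom.comp_assoc, hφ, hφ']
      · rw [show mapId (B' := B') (AlgHom.id B W) = AlgHom.id B' _ from Algebra.TensorProduct.map_id, AlgHom.id_comp]
    have h2 : φ.comp φ' = AlgHom.id B W' := by
      refine (hu' W' u').unique ?_ ?_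
      · rw [mapId_comp, AlgHom.comp_assoc, hφ', hφ]
      · rw [show mapId (B' := B') (AlgHom.id B W') = AlgHom.id B' _ from Algebra.TensorProduct.map_id, AlgHom.id_comp]
    exact hfp.equiv (AlgEquiv.ofAlgHom φ' φ h1 h2)

end Algebra

variable {S S' : Scheme.{u}} (f : S' ⟶ S) [IsFinite f] [Flat f] [LocallyOfFinitePresentation f]

/-- The chart of the Weil restriction. -/
theorem exists_chart_props (X' : Over S') {V : S.Opens} (hV : IsAffineOpen V) {U : X'.left.Opens} (hU : IsAffineOpen U)
    (hUV : U ≤ (X'.hom ≫ f) ⁻¹ᵁ V) :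
    ∃ (R : Over S) (q : Red.bc f R ⟶ X'), IsAffine R.left ∧
      (LocallyOfFiniteType X'.hom → LocallyOfFiniteType R.hom) ∧
      (LocallyOfFinitePresentation X'.hom → LocallyOfFinitePresentation R.hom) ∧
      Set.range R.hom ⊆ (V : Set S) ∧ Set.range q.left ⊆ (U : Set X'.left) ∧
      ∀ (T : Over S) (φ : Red.bc f T ⟶ X'), Set.range T.hom ⊆ (V : Set S) → Set.range φ.left ⊆ (U : Set X'.left) →
        ∃! g : T ⟶ R, WeilRes.restr f q T g = φ := by
  have : IsAffine (V : Scheme.{u}) := hV
  have : IsAffine (U : Scheme.{u}) := hU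
  have : IsAffine (f ⁻¹ᵁ V : Scheme.{u}) := hV.preimage f
  let B : Type u := Γ((V : Scheme.{u}), ⊤)
  let B' : Type u := Γ((f ⁻¹ᵁ V : Scheme.{u}), ⊤)
  let C : Type u := Γ((U : Scheme.{u}), ⊤)
  let hU' : (U : Scheme.{u}) ⟶ (f ⁻¹ᵁ V : Scheme.{u}) := IsOpenImmersion.lift (f ⁻¹ᵁ V).ι (U.ι ≫ X'.hom) (by
    rw [Scheme.Opens.range_ι]
    rintro _ ⟨z, rfl⟩
    exact hUV z.2)
  have hU'ι : hU' ≫ (f ⁻¹ᵁ V).ι = U.ι ≫ X'.hom := IsOpenImmersion.lift_fac _ _ _
  letI algB : Algebra B B' := (f ∣_ V).appTop.hom.toAlgebra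
  have hB : algebraMap B B' = (f ∣_ V).appTop.hom := rfl
  letI algC : Algebra B' C := hU'.appTop.hom.toAlgebra
  have hfin : Module.Finite B B' := Scheme.Hom.finite_appTop (f ∣_ V)
  have hflat : Module.Flat B B' := (HasRingHomProperty.iff_of_isAffine (P := @Flat)).1
    (inferInstance : Flat (f ∣_ V))
  have hfp : Algebra.FinitePresentation B B' := (HasRingHomProperty.iff_of_isAffine (P := @LocallyOfFinitePresentation)).1
    (inferInstance : LocallyOfFinitePresentation (f ∣_ V))
  have : Module.FinitePresentation B B' := Module.FinitePresentation.of_finite_of_finitePresentation B B'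
  have : Module.Projective B B' := Module.Flat.projective_of_finitePresentation
  obtain ⟨W, _, _, u, hWft, hWfp, hu⟩ := exists_weilAlg_props (B := B) (B' := B') C
  let RV : Spec (CommRingCat.of W) ⟶ (V : Scheme.{u}) :=
    Spec.map (CommRingCat.ofHom (algebraMap B W)) ≫ (V : Scheme.{u}).isoSpec.inv
  let R : Over S := Over.mk (RV ≫ V.ι)
  have hRV : Set.range R.hom ⊆ (V : Set S) := by
    rintro _ ⟨z, rfl⟩
    exact (RV z).2
  have htoV : toV V R hRV = RV := by rw [← cancel_mono V.ι, toV_ι]; rfl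
  have : IsAffine R.left := inferInstanceAs (IsAffine (Spec (CommRingCat.of W)))
  letI algR : Algebra B Γ(R.left, ⊤) := (toV V R hRV).appTop.hom.toAlgebra
  have hR : algebraMap B Γ(R.left, ⊤) = (toV V R hRV).appTop.hom := rfl
  have hRW : (toV V R hRV).appTop = CommRingCat.ofHom (algebraMap B W) ≫ (Scheme.ΓSpecIso (CommRingCat.of W)).inv := by
    rw [htoV]
    have h : (V : Scheme.{u}).isoSpec.inv.appTop = (Scheme.ΓSpecIso Γ((V : Scheme.{u}), ⊤)).inv := by
      rw [← Iso.comp_hom_eq_id (Scheme.ΓSpecIso Γ((V : Scheme.{u}), ⊤)), ← Scheme.toSpecΓ_appTop,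
        ← Scheme.Hom.comp_appTop]
      show ((V : Scheme.{u}).isoSpec.hom ≫ (V : Scheme.{u}).isoSpec.inv).appTop = _
      rw [Iso.hom_inv_id]; rfl
    rw [Scheme.Hom.comp_appTop, h, Scheme.ΓSpecIso_inv_naturality]
    rfl
  let e : W ≃ₐ[B] Γ(R.left, ⊤) :=
    AlgEquiv.ofRingEquiv (f := (Scheme.ΓSpecIso (CommRingCat.of W)).symm.commRingCatIsoToRingEquiv)
      (fun b => (congr($hRW b)).symm)
  let u' : C →ₐ[B'] B' ⊗[B] Γ(R.left, ⊤) := (mapId e.toAlgHom).comp u
  have hu' : ∀ (A : Type u) [CommRing A] [Algebra B A] (ψ : C →ₐ[B'] B' ⊗[B] A),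
      ∃! φ : Γ(R.left, ⊤) →ₐ[B] A, (mapId φ).comp u' = ψ := by
    intro A _ _ ψ
    obtain ⟨φ, hφ, huniq⟩ := hu A ψ
    refine ⟨φ.comp e.symm.toAlgHom, ?_, fun φ' hφ' => ?_⟩
    · show (mapId _).comp ((mapId e.toAlgHom).comp u) = ψ
      rw [← AlgHom.comp_assoc, ← mapId_comp, AlgHom.comp_assoc,
        show e.symm.toAlgHom.comp e.toAlgHom = AlgHom.id B W from AlgHom.ext fun x => e.symm_apply_apply x,
        AlgHom.comp_id]
      exact hφ
    · have : φ'.comp e.toAlgHom = φ := huniq _ (by
        show (mapId (φ'.comp e.toAlgHom)).comp u = ψ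
        rw [mapId_comp, AlgHom.comp_assoc]
        exact hφ')
      rw [← this, AlgHom.comp_assoc,
        show e.toAlgHom.comp e.symm.toAlgHom = AlgHom.id B _ from AlgHom.ext fun x => e.apply_symm_apply x,
        AlgHom.comp_id]
  let θR := θ f V hB R hRV hR
  obtain ⟨qU, hqU⟩ := exists_hom_appTop (X := pullback R.hom f) (Y := (U : Scheme.{u}))
    (CommRingCat.ofHom u'.toRingHom ≫ θR)
  have hqU' : qU ≫ hU' = toV' f V R hRV := by
    apply ext_of_isAffine
    rw [Scheme.Hom.comp_appTop, hqU]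
    refine CommRingCat.hom_ext (RingHom.ext fun b => ?_)
    show θR (u' (algebraMap B' C b)) = _
    rw [AlgHom.commutes]
    exact θ_left f V hB R hRV hR b
  let q : Red.bc f R ⟶ X' := Over.homMk (qU ≫ U.ι) (by
    show (qU ≫ U.ι) ≫ X'.hom = pullback.snd R.hom f
    rw [Category.assoc, ← hU'ι, ← Category.assoc, hqU', toV'_ι])
  -- affine test objects
  have haff : ∀ (T : Over S) [IsAffine T.left] (φ : Red.bc f T ⟶ X'), Set.range T.hom ⊆ (V : Set S) →
      Set.range φ.left ⊆ (U : Set X'.left) → ∃! g : T ⟶ R, WeilRes.restr f q T g = φ := by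
    intro T _ φ hT hφ
    letI algT : Algebra B Γ(T.left, ⊤) := (toV V T hT).appTop.hom.toAlgebra
    have hTa : algebraMap B Γ(T.left, ⊤) = (toV V T hT).appTop.hom := rfl
    let φU : pullback T.hom f ⟶ (U : Scheme.{u}) := IsOpenImmersion.lift U.ι φ.left (by
      rw [Scheme.Opens.range_ι]; exact hφ)
    have hφU : φU ≫ U.ι = φ.left := IsOpenImmersion.lift_fac _ _ _
    have hφU' : φU ≫ hU' = toV' f V T hT := by
      rw [← cancel_mono (f ⁻¹ᵁ V).ι, Category.assoc, hU'ι, ← Category.assoc, hφU, toV'_ι]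
      exact Over.w φ
    have := isIso_θ f V hB T hT hTa hV
    let θinv := inv (θ f V hB T hT hTa)
    have hθinv : ∀ z, θ f V hB T hT hTa (θinv z) = z := fun z =>
      congr($(IsIso.inv_hom_id (θ f V hB T hT hTa)) z)
    have hθinj : Function.Injective (θ f V hB T hT hTa).hom :=
      (ConcreteCategory.bijective_of_isIso (θ f V hB T hT hTa)).1
    let ψ : C →ₐ[B'] B' ⊗[B] Γ(T.left, ⊤) :=
      { toRingHom := (φU.appTop ≫ θinv).hom
        commutes' := fun b => by
          apply hθinj
          show θ f V hB T hT hTa (θinv (φU.appTop (hU'.appTop b))) = θ f V hB T hT hTa (b ⊗ₜ 1)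
          rw [hθinv, θ_left]
          exact congr($((Scheme.Hom.comp_appTop _ _).symm.trans (congrArg Scheme.Hom.appTop hφU')) b) }
    have hkey : ∀ (g : T ⟶ R) (ψg : Γ(R.left, ⊤) →ₐ[B] Γ(T.left, ⊤)), (∀ a, ψg a = g.left.appTop a) →
        (WeilRes.restr f q T g = φ ↔ (mapId ψg).comp u' = ψ) := by
      intro g ψg hg
      have h1 : (((Over.pullback f).map g).left ≫ qU).appTop =
          CommRingCat.ofHom ((mapId ψg).comp u').toRingHom ≫ θ f V hB T hT hTa := by
        rw [Scheme.Hom.comp_appTop, hqU]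
        exact CommRingCat.hom_ext (RingHom.ext fun c => θ_natural f V hB R hRV hR g hT hTa ψg hg (u' c))
      constructor
      · intro h
        have h2 : ((Over.pullback f).map g).left ≫ qU = φU := by
          rw [← cancel_mono U.ι, hφU, ← h, Category.assoc]; rfl
        refine AlgHom.ext fun c => hθinj ?_
        show _ = θ f V hB T hT hTa (θinv (φU.appTop c))
        rw [hθinv, ← h2]
        exact congr($h1.symm c)
      · intro h
        have h2 : ((Over.pullback f).map g).left ≫ qU = φU := by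
          apply ext_of_isAffine
          rw [h1, h]
          exact CommRingCat.hom_ext (RingHom.ext fun c => hθinv _)
        ext1
        rw [← hφU, ← h2, Category.assoc]; rfl
    have hlin : ∀ (g : T ⟶ R), ∃ ψg : Γ(R.left, ⊤) →ₐ[B] Γ(T.left, ⊤), ∀ a, ψg a = g.left.appTop a := fun g =>
      ⟨{ toRingHom := g.left.appTop.hom
         commutes' := fun b => congr($((Scheme.Hom.comp_appTop _ _).symm.trans
          (congrArg Scheme.Hom.appTop (comp_toV V g hRV hT))) b) }, fun a => rfl⟩
    obtain ⟨φ₀, hφ₀, huniq⟩ := hu' _ ψ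
    obtain ⟨g₀, hg₀⟩ := exists_hom_appTop (X := T.left) (Y := R.left) (CommRingCat.ofHom φ₀.toRingHom)
    have hg₀' : g₀ ≫ toV V R hRV = toV V T hT := by
      apply ext_of_isAffine
      rw [Scheme.Hom.comp_appTop, hg₀]
      exact CommRingCat.hom_ext (RingHom.ext fun b => φ₀.commutes b)
    let g : T ⟶ R := Over.homMk g₀ (by rw [← toV_ι V R hRV, ← Category.assoc, hg₀', toV_ι])
    refine ⟨g, (hkey g φ₀ fun a => (congr($hg₀ a)).symm).2 hφ₀, fun g' hg' => ?_⟩
    obtain ⟨ψg, hψg⟩ := hlin g'
    have := huniq ψg ((hkey g' ψg hψg).1 hg')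
    ext1
    refine ext_of_isAffine (CommRingCat.hom_ext (RingHom.ext fun a => ?_))
    show g'.left.appTop a = g₀.appTop a
    rw [← hψg, this, hg₀]
    rfl
  have hqU'' : Set.range q.left ⊆ (U : Set X'.left) := fun z ⟨a, ha⟩ => ha ▸ (qU a).2
  refine ⟨R, q, inferInstance, ?_, ?_, hRV, hqU'', extend_chart f R q hRV hqU'' haff⟩
  · intro hX'
    have : LocallyOfFiniteType hU' := by
      have : LocallyOfFiniteType (hU' ≫ (f ⁻¹ᵁ V).ι) := by rw [hU'ι]; infer_instance
      exact locallyOfFiniteType_of_comp hU' (f ⁻¹ᵁ V).ι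
    have : LocallyOfFiniteType (Spec.map (CommRingCat.ofHom (algebraMap B W))) :=
      (HasRingHomProperty.Spec_iff (P := @LocallyOfFiniteType)).2 (RingHom.finiteType_algebraMap.2
        (hWft ((HasRingHomProperty.iff_of_isAffine (P := @LocallyOfFiniteType)).1 (inferInstance : LocallyOfFiniteType hU'))))
    exact inferInstanceAs (LocallyOfFiniteType ((Spec.map _ ≫ _) ≫ V.ι))
  · intro hX'
    have : LocallyOfFinitePresentation hU' := by
      have : LocallyOfFinitePresentation (hU' ≫ (f ⁻¹ᵁ V).ι) := by rw [hU'ι]; infer_instance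
      exact SchBasics.locallyOfFinitePresentation_of_comp hU' (f ⁻¹ᵁ V).ι
    have : LocallyOfFinitePresentation (Spec.map (CommRingCat.ofHom (algebraMap B W))) :=
      (HasRingHomProperty.Spec_iff (P := @LocallyOfFinitePresentation)).2 (RingHom.finitePresentation_algebraMap.2
        (hWfp ((HasRingHomProperty.iff_of_isAffine (P := @LocallyOfFinitePresentation)).1
          (inferInstance : LocallyOfFinitePresentation hU'))))
    exact inferInstanceAs (LocallyOfFinitePresentation ((Spec.map _ ≫ _) ≫ V.ι))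

end Groth.Agent.RedPts82.WeilAff
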