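import Groth.Agent.RedPts82.WeilAffine

/-!
The Weil restriction of a scheme affine over a finite locally free cover exists and is affine over the base.
-/

set_option autoImplicit false
set_option backward.isDefEq.respectTransparency.types false
set_option linter.style.haveILetI false
universe u

open CategoryTheory CategoryTheory.Limits AlgebraicGeometry Opposite

noncomputable section

namespace Groth.Agent.RedPts82.WeilAff

open Groth.Agent.WeilRes57

variable {S S' : Scheme.{u}} (f : S' ⟶ S) [IsFinite f] [Flat f] [LocallyOfFinitePresentation f]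

/-- The Weil restriction along a finite locally free morphism of a scheme affine over the source is affine over
the base, and inherits finiteness conditions. -/
theorem exists_weilRes_affine (X' : Over S') [IsAffineHom X'.hom] :
    ∃ (R : Over S) (q : Red.bc f R ⟶ X'), WeilRes.IsWeilRes f X' R q ∧ IsAffineHom R.hom ∧
      (LocallyOfFiniteType X'.hom → LocallyOfFiniteType R.hom) ∧
      (LocallyOfFinitePresentation X'.hom → LocallyOfFinitePresentation R.hom) := by
  have hU : ∀ V : S.affineOpens, IsAffineOpen ((X'.hom ≫ f) ⁻¹ᵁ V.1) := fun V => V.2.preimage (X'.hom ≫ f)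
  choose R q haff hlft hlfp hR hq hbij using fun V : S.affineOpens => exists_chart_props f X' V.2 (hU V) le_rfl
  have hqU : ∀ (V : S.affineOpens) (T : Over S) (φ : Red.bc f T ⟶ X'), Set.range T.hom ⊆ (V.1 : Set S) →
      Set.range φ.left ⊆ ((X'.hom ≫ f) ⁻¹ᵁ V.1 : Set X'.left) := by
    rintro V T φ hT _ ⟨w, rfl⟩
    show (X'.hom ≫ f) (φ.left w) ∈ V.1
    rw [← Scheme.Hom.comp_apply, ← Category.assoc, Over.w φ]
    show (pullback.snd T.hom f ≫ f) w ∈ V.1
    rw [← pullback.condition, Scheme.Hom.comp_apply]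
    exact hT ⟨_, rfl⟩
  have hrange : ∀ (V : S.affineOpens) {T : Over S} (g : T ⟶ R V), Set.range T.hom ⊆ (V.1 : Set S) := by
    rintro V T g _ ⟨z, rfl⟩
    rw [← Over.w g, Scheme.Hom.comp_apply]
    exact hR V ⟨_, rfl⟩
  obtain ⟨Z, ⟨e⟩⟩ := Mag88.OverRep.exists_representableBy (WeilRes.functor f X') (isSheaf_functor f X') R
    (fun j => yonedaEquiv.symm (q j))
    (fun j T g g' h => by
      have h' : WeilRes.restr f (q j) T g = WeilRes.restr f (q j) T g' := h
      exact (hbij j T (WeilRes.restr f (q j) T g') (hrange j g) (range_restr f (q j) (hq j) T g')).unique h' rfl)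
    (fun T _ j => T.hom ⁻¹ᵁ j.1)
    (fun T T' x t j => by
      constructor
      · rintro ⟨g, -⟩ _ ⟨z, rfl⟩
        show T.hom (t.left z) ∈ j.1
        rw [← Scheme.Hom.comp_apply, Over.w t]
        exact hrange j g ⟨_, rfl⟩
      · intro h
        have hT' : Set.range T'.hom ⊆ (j.1 : Set S) := by
          rintro _ ⟨z, rfl⟩
          rw [← Over.w t, Scheme.Hom.comp_apply]
          exact h ⟨z, rfl⟩
        obtain ⟨g, hg, -⟩ := hbij j T' ((Over.pullback f).map t ≫ x) hT' (hqU j T' _ hT')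
        exact ⟨g, hg⟩)
    (fun T x p => by
      obtain ⟨_, ⟨V, hV, rfl⟩, hpV, -⟩ :=
        S.isBasis_affineOpens.exists_subset_of_mem_open (Set.mem_univ (T.hom p)) isOpen_univ
      exact ⟨⟨V, hV⟩, hpV⟩)
  let qZ : Red.bc f Z ⟶ X' := e.homEquiv (𝟙 Z)
  have hZ : WeilRes.IsWeilRes f X' Z qZ := WeilRes.IsWeilRes.of_representableBy e
  -- the piece over an affine open is the chart
  have hpiece : ∀ V : S.affineOpens, ∃ i : (Z.hom ⁻¹ᵁ V.1 : Scheme.{u}) ≅ (R V).left,
      i.hom ≫ (R V).hom = (Z.hom ⁻¹ᵁ V.1).ι ≫ Z.hom := by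
    intro V
    let ZV : Over S := Over.mk ((Z.hom ⁻¹ᵁ V.1).ι ≫ Z.hom)
    let jV : ZV ⟶ Z := Over.homMk (Z.hom ⁻¹ᵁ V.1).ι rfl
    have hZV : Set.range ZV.hom ⊆ (V.1 : Set S) := by
      rintro _ ⟨z, rfl⟩
      exact z.2
    obtain ⟨a, ha, -⟩ := hbij V ZV (WeilRes.restr f qZ ZV jV) hZV (hqU V _ _ hZV)
    obtain ⟨b, hb⟩ := (hZ (R V)).2 (q V)
    let b' : R V ⟶ ZV := Over.homMk (IsOpenImmersion.lift (Z.hom ⁻¹ᵁ V.1).ι b.left (by
        rw [Scheme.Opens.range_ι]
        rintro _ ⟨z, rfl⟩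
        show Z.hom (b.left z) ∈ V.1
        rw [← Scheme.Hom.comp_apply, Over.w b]
        exact hR V ⟨z, rfl⟩)) (by
      show _ ≫ (Z.hom ⁻¹ᵁ V.1).ι ≫ Z.hom = _
      rw [IsOpenImmersion.lift_fac_assoc, Over.w b])
    have hb' : b' ≫ jV = b := by ext1; exact IsOpenImmersion.lift_fac _ _ _
    have h1 : a ≫ b = jV := (hZ ZV).1 (by rw [WeilRes.restr_comp, hb, ← ha]; rfl)
    have h2 : a ≫ b' = 𝟙 ZV := by
      ext1
      rw [← cancel_mono (Z.hom ⁻¹ᵁ V.1).ι]
      have := congrArg Over.Hom.left ((Category.assoc a b' jV).trans ((congrArg (a ≫ ·) hb').trans h1))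
      exact this.trans (Category.id_comp _).symm
    have h3 : b' ≫ a = 𝟙 (R V) := (hbij V (R V) (q V) (hR V) (hq V)).unique
      (by rw [WeilRes.restr_comp, ha, ← WeilRes.restr_comp, hb', hb]) (WeilRes.restr_id f (q V))
    exact ⟨⟨a.left, b'.left, congrArg Over.Hom.left h2, congrArg Over.Hom.left h3⟩, Over.w a⟩
  have hres : ∀ (P : MorphismProperty Scheme.{u}) [P.RespectsIso] [IsZariskiLocalAtTarget P],
      (∀ V : S.affineOpens, ∀ k : (R V).left ⟶ (V.1 : Scheme.{u}), k ≫ V.1.ι = (R V).hom → P k) → P Z.hom := by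
    intro P _ _ hP
    refine (IsZariskiLocalAtTarget.iff_of_iSup_eq_top (fun V : S.affineOpens => V.1)
      (iSup_affineOpens_eq_top S)).2 fun V => ?_
    obtain ⟨i, hi⟩ := hpiece V
    have hk := hP V (i.inv ≫ Z.hom ∣_ V.1) (by
      rw [Category.assoc, morphismRestrict_ι, ← hi, Iso.inv_hom_id_assoc])
    have := (P.cancel_left_of_respectsIso i.inv (Z.hom ∣_ V.1)).1 hk
    exact this
  refine ⟨Z, qZ, hZ, ?_, fun h => ?_, fun h => ?_⟩
  · refine hres @IsAffineHom fun V k hk => ?_
    have : IsAffine (R V).left := haff V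
    have : IsAffine (V.1 : Scheme.{u}) := V.2
    infer_instance
  · refine hres @LocallyOfFiniteType fun V k hk => ?_
    have : LocallyOfFiniteType (k ≫ V.1.ι) := by rw [hk]; exact hlft V h
    exact locallyOfFiniteType_of_comp k V.1.ι
  · refine hres @LocallyOfFinitePresentation fun V k hk => ?_
    have : LocallyOfFinitePresentation (k ≫ V.1.ι) := by rw [hk]; exact hlfp V h
    exact SchBasics.locallyOfFinitePresentation_of_comp k V.1.ι

end Groth.Agent.RedPts82.WeilAff
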